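import Cfsg.Agent.KFacts.LargeO2

/-!
# Automorphisms fixing `z` and acting trivially on `C_K(z)/Q`

`exists_conj_on_Q`: an automorphism that is trivial on `Q/⟨z⟩` is on `Q` the conjugation by an element of `Q`.
`exists_conj`: **(hC)**, automorphism form: `α z = z`, `[α, C_K(z)] ≤ Q`, `C_K(z)` perfect, (T1'), and a set with a
one-dimensional fixed space on `Q/⟨z⟩`; then `α` is the conjugation by an element of `Q`.
-/

set_option autoImplicit false

namespace Cfsg.Agent.KFacts.LargeAut

open Cfsg.Agent.Co2Type.Quad Cfsg.Agent.Co2Type.Quad.Large Cfsg.Agent.KFacts.LargeO2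

variable {K : Type*} [Group K] {Q : Subgroup K} {z : K}

theorem exists_conj_on_Q [Finite K] (h : Large Q z) (α : MulAut K) (hz : α z = z)
    (ht : ∀ x ∈ Q, α x = x ∨ α x = x * z) : ∃ y ∈ Q, ∀ x ∈ Q, α x = y * x * y⁻¹ := by
  classical
  have hval : ∀ x : Q, α (x : K) * (x : K)⁻¹ = 1 ∨ α (x : K) * (x : K)⁻¹ = z := by
    intro x
    rcases ht x x.2 with h2 | h2
    · left; rw [h2]; group
    · right; rw [h2, (h.commz x.2).eq]; group
  let F : h.V → ZMod 2 := fun v =>
    val (α ((Function.surjInv h.pr_surjective v : Q) : K) *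
      ((Function.surjInv h.pr_surjective v : Q) : K)⁻¹)
  have hF : ∀ x : Q, F (h.pr x) = val (α (x : K) * (x : K)⁻¹) := by
    intro x
    show val _ = _
    have h2 : h.pr (Function.surjInv h.pr_surjective (h.pr x)) = h.pr x :=
      Function.surjInv_eq h.pr_surjective (h.pr x)
    rcases h.pr_eq_pr.1 h2 with h3 | h3
    · rw [h3]
    · rw [h3]
      congr 1
      rw [map_mul, hz]; group
  have hadd : ∀ v w, F (v + w) = F v + F w := by
    intro v w
    obtain ⟨x, rfl⟩ := h.pr_surjective v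
    obtain ⟨y, rfl⟩ := h.pr_surjective w
    rw [← h.pr_mul, hF, hF, hF]
    have e : α ((x * y : Q) : K) * (((x * y : Q) : K))⁻¹
        = (α (x : K) * (x : K)⁻¹) * (x * (α (y : K) * (y : K)⁻¹) * (x : K)⁻¹) := by
      rw [Subgroup.coe_mul, map_mul]; group
    rw [e]
    have hxz : (x : K) * z * (x : K)⁻¹ = z := by rw [(h.commz x.2).eq]; group
    rcases hval x with h2 | h2 <;> rcases hval y with h3 | h3 <;> rw [h2, h3]
    · simp [val_one]
    · rw [hxz, one_mul, val_one, zero_add]
    · rw [mul_one, mul_inv_cancel, mul_one, val_one, add_zero]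
    · rw [hxz, h.z_sq, h.val_z, val_one]; decide
  obtain ⟨v, hv⟩ := h.exists_b_eq (AddMonoidHom.toZModLinearMap 2
    { toFun := F
      map_zero' := by
        have := hadd 0 0
        simpa using this
      map_add' := hadd } : h.V →ₗ[ZMod 2] ZMod 2)
  obtain ⟨y, rfl⟩ := h.pr_surjective v
  refine ⟨y, y.2, fun x hx => ?_⟩
  have h2 : h.b (h.pr y) (h.pr ⟨x, hx⟩) = F (h.pr ⟨x, hx⟩) := hv _
  rw [hF] at h2
  rcases hval ⟨x, hx⟩ with h3 | h3
  · have h4 := (h.b_pr y ⟨x, hx⟩).1 (by rw [h2, h3, val_one])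
    have h4' : (y : K) * x = x * y := h4
    rw [h4', mul_inv_cancel_right]
    exact mul_inv_eq_one.1 h3
  · have h4 : (y : K) * x = x * y * z := (h.b_pr_one y ⟨x, hx⟩).1 (by rw [h2, h3, h.val_z])
    have hyz : (y : K) * z = z * y := h.comm_z y y.2
    have h5 : α x = z * x := mul_inv_eq_iff_eq_mul.1 h3
    rw [h4, h5, mul_assoc x, hyz, ← mul_assoc, mul_inv_cancel_right]
    exact (h.comm_z x hx).symm

/-- **(hC)**, automorphism form. -/
theorem exists_conj [Finite K] (h : Large Q z) (hirr : Irr Q z)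
    (hperf : ∀ f : Subgroup.centralizer ({z} : Set K) →* ℤˣ, ∀ u, f u = 1)
    (hT : ∀ β : MulAut K, (∀ c : K, c * z = z * c → β c = c) → β = 1 ∨ β = MulAut.conj z)
    {v : K} (hv : v ∈ Q) (hv1 : v ≠ 1)
    (hvz : v ≠ z) {D : Set K} (hD : ∀ d ∈ D, d * z = z * d)
    (hfix : ∀ x ∈ Q, (∀ d ∈ D, d * x * d⁻¹ = x ∨ d * x * d⁻¹ = x * z) →
      x = 1 ∨ x = z ∨ x = v ∨ x = v * z)
    (hvD : ∀ d ∈ D, d * v * d⁻¹ = v ∨ d * v * d⁻¹ = v * z)
    {α : MulAut K} (hz : α z = z) (hc : ∀ u : K, u * z = z * u → α u * u⁻¹ ∈ Q) :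
    ∃ y ∈ Q, α = MulAut.conj y := by
  classical
  have hαQ : ∀ x ∈ Q, α x ∈ Q := by
    intro x hx
    have h1 := Q.mul_mem (hc x (h.comm_z x hx)) hx
    rwa [inv_mul_cancel_right] at h1
  have hQt : ∀ a ∈ Q, ∀ x ∈ Q, a * x * a⁻¹ = x ∨ a * x * a⁻¹ = x * z := by
    intro a ha x hx
    rcases h.comm a ha x hx with h1 | h1
    · left; rw [h1, mul_inv_cancel_right]
    · right
      have hz' : z * a⁻¹ = a⁻¹ * z := (h.comm_z _ (Q.inv_mem ha)).symm
      rw [h1, mul_assoc, hz', ← mul_assoc, mul_inv_cancel_right]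
  have hzc : ∀ u : K, u * z = z * u → z * u⁻¹ = u⁻¹ * z := by
    intro u hu
    rw [eq_inv_mul_iff_mul_eq, ← mul_assoc, hu, mul_assoc, mul_inv_cancel, mul_one]
  -- `α` commutes with `u` on `Q` modulo `⟨z⟩`
  have hcomm : ∀ u : K, u * z = z * u → ∀ x ∈ Q,
      u * α x * u⁻¹ = α (u * x * u⁻¹) ∨ u * α x * u⁻¹ = α (u * x * u⁻¹) * z := by
    intro u hu x hx
    have h1 := hc u hu
    set a := α u * u⁻¹ with ha
    have hux : u * α x * u⁻¹ ∈ Q := h.conj_mem u hu _ (hαQ x hx)
    have e : α (u * x * u⁻¹) = a * (u * α x * u⁻¹) * a⁻¹ := by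
      rw [ha, map_mul, map_mul, map_inv]; group
    rw [e]
    rcases hQt a h1 _ hux with h2 | h2
    · left; exact h2.symm
    · right
      rw [h2, mul_assoc _ z z, h.z_sq, mul_one]
  have hgv : α v = v ∨ α v = v * z := by
    have h1 := hfix _ (hαQ v hv) (by
      intro d hd
      have hdz := hD d hd
      rcases hcomm d hdz v hv with h2 | h2 <;> rcases hvD d hd with h3 | h3
      · left; rw [h2, h3]
      · right; rw [h2, h3, map_mul, hz]
      · right; rw [h2, h3]
      · left; rw [h2, h3, map_mul, hz, mul_assoc _ z z, h.z_sq, mul_one])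
    rcases h1 with h2 | h2 | h2 | h2
    · exfalso
      exact hv1 (α.injective (h2.trans (map_one α).symm))
    · exfalso
      exact hvz (α.injective (h2.trans hz.symm))
    · left; exact h2
    · right; exact h2
  -- the subgroup of elements of `Q` fixed modulo `⟨z⟩`
  let N : Subgroup K :=
    { carrier := {x | x ∈ Q ∧ (α x = x ∨ α x = x * z)}
      one_mem' := ⟨Q.one_mem, Or.inl (map_one α)⟩
      mul_mem' := by
        rintro x y ⟨hx, hx'⟩ ⟨hy, hy'⟩
        refine ⟨Q.mul_mem hx hy, ?_⟩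
        have hyz : y * z = z * y := h.comm_z y hy
        rw [map_mul]
        rcases hx' with h1 | h1 <;> rcases hy' with h2 | h2 <;> rw [h1, h2]
        · left; rfl
        · right; rw [mul_assoc]
        · right; rw [mul_assoc, mul_assoc, ← hyz]
        · left
          calc x * z * (y * z) = x * z * (z * y) := by rw [hyz]
            _ = x * (z * z) * y := by group
            _ = x * y := by rw [h.z_sq, mul_one]
      inv_mem' := by
        rintro x ⟨hx, hx'⟩
        refine ⟨Q.inv_mem hx, ?_⟩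
        rw [map_inv]
        rcases hx' with h1 | h1
        · left; rw [h1]
        · right; rw [h1, mul_inv_rev, h.z_inv]
          exact (h.comm_z _ (Q.inv_mem hx)).symm }
  have hN := hirr N (fun y hy => hy.1) (by
    rintro u hu y ⟨hyQ, hy⟩
    refine ⟨h.conj_mem u hu y hyQ, ?_⟩
    rcases hcomm u hu y hyQ with h2 | h2 <;> rcases hy with h3 | h3
    · left; rw [← h2, h3]
    · right; rw [← h2, h3]
      calc u * (y * z) * u⁻¹ = u * y * (z * u⁻¹) := by group
        _ = u * y * u⁻¹ * z := by rw [hzc u hu]; group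
    · right
      have h4 : α (u * y * u⁻¹) = u * α y * u⁻¹ * z := by
        rw [h2, mul_assoc _ z z, h.z_sq, mul_one]
      rw [h4, h3]
    · left
      have h4 : α (u * y * u⁻¹) = u * α y * u⁻¹ * z := by
        rw [h2, mul_assoc _ z z, h.z_sq, mul_one]
      rw [h4, h3]
      calc u * (y * z) * u⁻¹ * z = u * y * (z * u⁻¹) * z := by group
        _ = u * y * u⁻¹ * (z * z) := by rw [hzc u hu]; group
        _ = u * y * u⁻¹ := by rw [h.z_sq, mul_one])
  have hNQ : N = Q := by
    rcases hN with h1 | h1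
    · exfalso
      rcases h1 v ⟨hv, hgv⟩ with h2 | h2
      · exact hv1 h2
      · exact hvz h2
    · exact h1
  obtain ⟨y, hyQ, hy⟩ := exists_conj_on_Q h α hz (fun x hx => by
    have : x ∈ N := by rw [hNQ]; exact hx
    exact this.2)
  -- `β = conj(y)⁻¹ α` centralises `Q`
  set β : MulAut K := (MulAut.conj y)⁻¹ * α with hβ
  have hβa : ∀ x, β x = y⁻¹ * α x * y := fun x => by
    rw [hβ, MulAut.mul_apply, ← map_inv, MulAut.conj_apply, inv_inv]
  have hβQ : ∀ x ∈ Q, β x = x := by
    intro x hx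
    rw [hβa, hy x hx]; group
  have hβz : β z = z := hβQ z h.z_mem
  -- `β` centralises `C_K(z)`
  have hβc : ∀ u : K, u * z = z * u → β u * u⁻¹ = 1 ∨ β u * u⁻¹ = z := by
    intro u hu
    have hcq : ∀ x ∈ Q, (β u * u⁻¹) * x = x * (β u * u⁻¹) := by
      intro x hx
      have hu' : u⁻¹ * z = z * u⁻¹ := (hzc u hu).symm
      have h1 : u⁻¹ * x * u ∈ Q := by
        have := h.conj_mem u⁻¹ hu' x hx
        rwa [inv_inv] at this
      have h2 := hβQ _ h1
      rw [map_mul, map_mul, map_inv, hβQ x hx] at h2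
      calc (β u * u⁻¹) * x = β u * (u⁻¹ * x * u) * u⁻¹ := by group
        _ = β u * ((β u)⁻¹ * x * β u) * u⁻¹ := by rw [h2]
        _ = x * (β u * u⁻¹) := by group
    have hcz : (β u * u⁻¹) * z = z * (β u * u⁻¹) := hcq z h.z_mem
    exact h.cent _ (h.self _ hcz hcq) hcq
  have hβP : ∀ u : K, u * z = z * u → β u = u := by
    let f : Subgroup.centralizer ({z} : Set K) →* ℤˣ :=
      { toFun := fun u => if β (u : K) * (u : K)⁻¹ = 1 then 1 else -1
        map_one' := by simp
        map_mul' := by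
          intro u w
          have hu := hβc u (Subgroup.mem_centralizer_singleton_iff.1 u.2)
          have hw := hβc w (Subgroup.mem_centralizer_singleton_iff.1 w.2)
          have huz : (u : K) * z = z * u := Subgroup.mem_centralizer_singleton_iff.1 u.2
          have e : β ((u * w : Subgroup.centralizer ({z} : Set K)) : K) *
              ((u * w : Subgroup.centralizer ({z} : Set K)) : K)⁻¹ =
              β (u : K) * (β (w : K) * (w : K)⁻¹) * (u : K)⁻¹ := by
            rw [Subgroup.coe_mul, map_mul]; group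
          show (if β ((u * w : Subgroup.centralizer ({z} : Set K)) : K) *
              ((u * w : Subgroup.centralizer ({z} : Set K)) : K)⁻¹ = 1 then (1 : ℤˣ) else -1) = _
          rw [e]
          have e2 : β (u : K) * z * (u : K)⁻¹ = β (u : K) * (u : K)⁻¹ * z := by
            calc β (u : K) * z * (u : K)⁻¹ = β (u : K) * (z * (u : K)⁻¹) := by group
              _ = β (u : K) * (u : K)⁻¹ * z := by rw [hzc u huz]; group
          rcases hw with h2 | h2 <;> rcases hu with h1 | h1
          · rw [h2, mul_one, h1]; simp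
          · rw [h2, mul_one, h1]; simp
          · rw [h2, e2, h1, one_mul]; simp
          · rw [h2, e2, h1, h.z_sq]; simp [h.z_ne] }
    intro u hu
    have h1 := hperf f ⟨u, Subgroup.mem_centralizer_singleton_iff.2 hu⟩
    have h2 : (if β u * u⁻¹ = 1 then (1 : ℤˣ) else -1) = 1 := h1
    by_cases h3 : β u * u⁻¹ = 1
    · exact mul_inv_eq_one.1 h3
    · rw [if_neg h3] at h2
      exact absurd h2 (by decide)
  rcases hT β hβP with h1 | h1
  · refine ⟨y, hyQ, ?_⟩
    rw [hβ, inv_mul_eq_one] at h1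
    exact h1.symm
  · refine ⟨y * z, Q.mul_mem hyQ h.z_mem, ?_⟩
    rw [map_mul, ← h1, hβ, mul_inv_cancel_left]

end Cfsg.Agent.KFacts.LargeAut
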