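import Mathlib

/-!
# Automorphisms centralising an involution centraliser

`eq_one_or_conj`: let `V = ⟨z, z'⟩` be a four-group of `K` with `C_K(C_K(V)) ≤ V`, permuted transitively by an element
`n`, and let `τ ∈ C_K(z)` interchange `z'` and `z z'`. If `K = ⟨C_K(z), n⟩`, then an automorphism of `K` that
centralises `C_K(z)` is trivial or the conjugation by `z`.
-/

set_option autoImplicit false

namespace Cfsg.Agent.KFacts.CentTwo

variable {K : Type*} [Group K]

/-- **Automorphisms centralising an involution centraliser.** -/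
theorem eq_one_or_conj {z z' n τ : K} (hz : z * z = 1) (hz' : z' * z' = 1)
    (hc : z * z' = z' * z) (hne : z ≠ z') (hn : n * z * n⁻¹ = z') (hn' : n * z' * n⁻¹ = z * z')
    (hτ : τ * z = z * τ) (hτ' : τ * z' * τ⁻¹ = z * z')
    (hV : ∀ s : K, (∀ c : K, c * z = z * c → c * z' = z' * c → s * c = c * s) →
      s = 1 ∨ s = z ∨ s = z' ∨ s = z * z')
    (hgen : Subgroup.closure ({c : K | c * z = z * c} ∪ {n}) = ⊤)
    (α : MulAut K) (hα : ∀ c : K, c * z = z * c → α c = c) : α = 1 ∨ α = MulAut.conj z := by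
  have hzi : z⁻¹ = z := inv_eq_of_mul_eq_one_left hz
  have hzi' : z'⁻¹ = z' := inv_eq_of_mul_eq_one_left hz'
  have hn1 : n * z = z' * n := by rw [← hn]; group
  have hn2 : n * z' = z * z' * n := by rw [← hn']; group
  have hn3 : n * (z * z') = z * n := by
    rw [← mul_assoc, hn1, mul_assoc, hn2, ← mul_assoc, ← mul_assoc, ← hc, mul_assoc z z' z', hz', mul_one]
  have hτ1 : τ * z' = z * z' * τ := by rw [← hτ']; group
  have hτ2 : τ * (z * z') = z' * τ := by
    rw [← mul_assoc, hτ, mul_assoc, hτ1, ← mul_assoc, ← mul_assoc, hz, one_mul]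
  -- `α n = n s` with `s ∈ V`
  obtain ⟨s, hs⟩ : ∃ s, α n = n * s := ⟨n⁻¹ * α n, by group⟩
  have hsV : s = 1 ∨ s = z ∨ s = z' ∨ s = z * z' := by
    apply hV
    intro c hcz hcz'
    -- `n c n⁻¹` commutes with `z`
    have h1 : (n * c * n⁻¹) * z = z * (n * c * n⁻¹) := by
      have h2 : n⁻¹ * z = z * z' * n⁻¹ := by
        rw [inv_mul_eq_iff_eq_mul, ← mul_assoc, hn3, mul_assoc, mul_inv_cancel, mul_one]
      calc n * c * n⁻¹ * z = n * c * (n⁻¹ * z) := by group
        _ = n * (c * z * z') * n⁻¹ := by rw [h2]; group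
        _ = n * (z * z' * c) * n⁻¹ := by
            rw [hcz, mul_assoc z c z', hcz', ← mul_assoc z z' c]
        _ = n * (z * z') * (c * n⁻¹) := by group
        _ = z * (n * c * n⁻¹) := by rw [hn3]; group
    have h2 := hα _ h1
    have h3 := hα c hcz
    rw [map_mul, map_mul, map_inv, h3, hs] at h2
    have h4 : n * (s * c * s⁻¹) * n⁻¹ = n * c * n⁻¹ := by rw [← h2]; group
    have h5 : s * c * s⁻¹ = c := by
      have h6 := congrArg (fun x => n⁻¹ * x * n) h4
      simpa [mul_assoc] using h6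
    exact mul_inv_eq_iff_eq_mul.1 h5
  -- the element `c = n τ n τ⁻¹` centralises `V`
  have hcom : (n * τ * n * τ⁻¹) * z = z * (n * τ * n * τ⁻¹) := by
    have h1 : τ⁻¹ * z = z * τ⁻¹ := by
      rw [inv_mul_eq_iff_eq_mul, ← mul_assoc, hτ, mul_assoc, mul_inv_cancel, mul_one]
    calc n * τ * n * τ⁻¹ * z = n * τ * n * (τ⁻¹ * z) := by group
      _ = n * τ * (n * z) * τ⁻¹ := by rw [h1]; group
      _ = n * (τ * z') * n * τ⁻¹ := by rw [hn1]; group
      _ = n * (z * z') * (τ * n * τ⁻¹) := by rw [hτ1]; group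
      _ = z * (n * τ * n * τ⁻¹) := by rw [hn3]; group
  have hfix := hα _ hcom
  have hατ := hα τ hτ
  have key : τ⁻¹ * s * τ = n * s⁻¹ * n⁻¹ := by
    rw [map_mul, map_mul, map_mul, map_inv, hατ, hs] at hfix
    have h1 : s * τ * n * s = τ * n := by
      have h2 := congrArg (fun x => n⁻¹ * x * τ) hfix
      simpa [mul_assoc] using h2
    have h2 : τ⁻¹ * s * τ * (n * s * n⁻¹) = 1 := by
      calc τ⁻¹ * s * τ * (n * s * n⁻¹) = τ⁻¹ * (s * τ * n * s) * n⁻¹ := by group
        _ = 1 := by rw [h1]; group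
    rw [eq_inv_of_mul_eq_one_left h2]
    group
  have hend : ∀ β : MulAut K, (∀ c : K, c * z = z * c → β c = c) → β n = n → β = 1 := by
    intro β hβ hβn
    have h1 : Subgroup.closure ({c : K | c * z = z * c} ∪ {n}) ≤
        (β.toMonoidHom).eqLocus (MonoidHom.id K) := by
      rw [Subgroup.closure_le]
      rintro x (hx | hx)
      · exact hβ x hx
      · rw [Set.mem_singleton_iff] at hx
        subst hx
        exact hβn
    rw [hgen] at h1
    apply MulEquiv.ext
    intro x
    exact h1 (Subgroup.mem_top x)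
  rcases hsV with h | h | h | h
  · left
    apply hend α hα
    rw [hs, h, mul_one]
  · -- `s = z`
    exfalso
    rw [h, hzi] at key
    have h1 : τ⁻¹ * z * τ = z := by rw [mul_assoc, ← hτ]; group
    rw [h1, hn] at key
    exact hne key
  · -- `s = z'`
    right
    have h1 : MulAut.conj z⁻¹ * α = 1 := by
      apply hend
      · intro c hcz
        rw [MulAut.mul_apply, hα c hcz, MulAut.conj_apply, inv_inv, hzi, ← hcz, mul_assoc, hz, mul_one]
      · rw [MulAut.mul_apply, hs, h, MulAut.conj_apply, inv_inv, hzi]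
        calc z * (n * z') * z = z * n * (z' * z) := by group
          _ = z * n * (z * z') := by rw [hc]
          _ = z * (n * (z * z')) := by group
          _ = z * (z * n) := by rw [hn3]
          _ = n := by rw [← mul_assoc, hz, one_mul]
    rw [map_inv] at h1
    exact (inv_mul_eq_one.1 h1).symm
  · -- `s = z z'`
    exfalso
    have hsi : (z * z')⁻¹ = z * z' := by
      rw [mul_inv_rev, hzi, hzi', hc]
    rw [h, hsi] at key
    have h1 : τ⁻¹ * (z * z') * τ = z' := by
      rw [mul_assoc, ← hτ1]; group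
    have h2 : n * (z * z') * n⁻¹ = z := by rw [hn3]; group
    rw [h1, h2] at key
    exact hne key.symm

end Cfsg.Agent.KFacts.CentTwo
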