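import Cfsg.Agent.LargeExtra.Nine.ToCent
import Cfsg.Agent.LargeExtra.Local
import Cfsg.Agent.KFacts.CentTwo

/-!
# K-facts of type (E) from a large extraspecial subgroup (helper756)

`Large Q z` (Co2Type.Quad): `Q = 2^{1+2w} ⊴ C_K(z)`, `C_K(Q) = ⟨z⟩`.

* `perfect`   : if `C_K(z)/Q` is simple non-abelian and `C_K(z)` is irreducible on `Q/⟨z⟩`, then `C_K(z)` is perfect;
* `cent_eq`   : an element commuting with `Q` and `z` is `1` or `z` (so `Ω₁Z(S) = Z(S) = ⟨z⟩` for `Q ≤ S ≤ C(z)`);
* `cent_cent` : `C_K(C_K(⟨z, y⟩)) = ⟨z, y⟩` for an involution `y ∈ Q`;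
* `eq_one_or_conj` : (T1') an automorphism of `K` that centralises `C_K(z)` is `1` or the conjugation by `z`;
* `exists_outside` : (P3) some conjugate of `z` lies in `C_K(z) - Q`.
-/

set_option autoImplicit false

namespace Cfsg.Agent.KFacts.LargeE

open Cfsg.Agent.Co2Type.Quad Cfsg.Agent.LargeExtra.Base
open scoped commutatorElement

variable {K : Type*} [Group K] {Q : Subgroup K} {z : K}

/-- An element commuting with `z` and `Q` is `1` or `z`. -/
theorem cent_eq (h : Large Q z) {y : K} (hyz : y * z = z * y) (hy : ∀ x ∈ Q, y * x = x * y) : y = 1 ∨ y = z :=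
  h.cent y (h.self y hyz hy) hy

/-- `C_K(C_K(⟨z, y⟩)) = ⟨z, y⟩` for an involution `y ∈ Q`, `y ≠ z`. -/
theorem cent_cent [Finite Q] (h : Large Q z) {y : K} (hyQ : y ∈ Q) (hy2 : y * y = 1) {s : K}
    (hs : ∀ c : K, c * z = z * c → c * y = y * c → s * c = c * s) :
    s = 1 ∨ s = z ∨ s = y ∨ s = z * y := by
  have hyz : y * z = z * y := h.comm_z y hyQ
  have hsz : s * z = z * s := hs z rfl hyz.symm
  set g : Subgroup.centralizer ({z} : Set K) := ⟨s, Subgroup.mem_centralizer_singleton_iff.2 hsz⟩ with hg
  set v : h.V := h.pr ⟨y, hyQ⟩ with hv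
  have hqv : h.q v = 0 := h.q_eq_zero.2 hy2
  -- `s` fixes the vectors orthogonal to `v`
  have hfix : ∀ w : h.V, h.b v w = 0 → h.act g w = w := by
    intro w hw
    obtain ⟨x, rfl⟩ := h.pr_surjective w
    have h1 : y * (x : K) = x * y := (h.b_pr ⟨y, hyQ⟩ x).1 hw
    have h2 := hs x (h.comm_z x x.2) h1.symm
    rw [h.act_pr, h.pr_eq_pr, h.conjQ_coe]
    left
    show s * x * s⁻¹ = x
    rw [h2, mul_inv_cancel_right]
  -- `s` acts trivially
  have hact : ∀ w : h.V, h.act g w = w := by
    intro w
    rcases (show h.b v w = 0 ∨ h.b v w = 1 by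
      generalize h.b v w = a
      revert a; decide) with hw | hw
    · exact hfix w hw
    · -- `d = act g w - w` is orthogonal to `v^⊥`
      set d := h.act g w + w with hd
      have hdw : h.act g w = w + d := by
        rw [hd, ← add_assoc, add_comm w, add_assoc, h.add_self, add_zero]
      have hd1 : ∀ u : h.V, h.b v u = 0 → h.b d u = 0 := by
        intro u hu
        have h1 : h.b (h.act g w) (h.act g u) = h.b w u := h.b_act g w u
        rw [hfix u hu] at h1
        rw [hd, map_add, LinearMap.add_apply, h1]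
        generalize h.b w u = a
        revert a; decide
      -- so `d ∈ {0, v}`
      have hd2 : d = 0 ∨ d = v := by
        by_cases hdw2 : h.b d w = 0
        · left
          apply h.b_nondeg
          intro u
          rcases (show h.b v u = 0 ∨ h.b v u = 1 by
            generalize h.b v u = a
            revert a; decide) with hu | hu
          · exact hd1 u hu
          · have h3 : h.b v (u + w) = 0 := by
              rw [map_add, hu, hw]; decide
            have h4 := hd1 _ h3
            rw [map_add, hdw2, add_zero] at h4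
            exact h4
        · right
          have hdw3 : h.b d w = 1 := by
            revert hdw2
            generalize h.b d w = a
            revert a; decide
          have h5 : d + v = 0 := by
            apply h.b_nondeg
            intro u
            rw [map_add, LinearMap.add_apply]
            rcases (show h.b v u = 0 ∨ h.b v u = 1 by
              generalize h.b v u = a
              revert a; decide) with hu | hu
            · rw [hu, hd1 u hu, add_zero]
            · have h3 : h.b v (u + w) = 0 := by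
                rw [map_add, hu, hw]; decide
              have h4 := hd1 _ h3
              rw [map_add, hdw3] at h4
              rw [hu]
              exact h4
          have h6 := congrArg (· + v) h5
          simp only [add_assoc, h.add_self, add_zero, zero_add] at h6
          exact h6
      rcases hd2 with h0 | h0
      · rw [hdw, h0, add_zero]
      · exfalso
        have h1 : h.q (h.act g w) = h.q w := h.q_act g w
        rw [hdw, h0, h.q_add', hqv, add_zero, h.b_comm, hw] at h1
        revert h1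
        generalize h.q w = a
        revert a; decide
  have hsQ : s ∈ Q := by
    have h1 : h.act g = 1 := by
      ext w
      exact hact w
    exact h.mem_of_act g h1
  -- `s ∈ Q` is orthogonal to `v^⊥`
  set e : h.V := h.pr ⟨s, hsQ⟩ with he
  have he1 : ∀ u : h.V, h.b v u = 0 → h.b e u = 0 := by
    intro u hu
    obtain ⟨x, rfl⟩ := h.pr_surjective u
    have h1 : y * (x : K) = x * y := (h.b_pr ⟨y, hyQ⟩ x).1 hu
    exact (h.b_pr ⟨s, hsQ⟩ x).2 (hs x (h.comm_z x x.2) h1.symm)
  have he2 : e = 0 ∨ e = v := by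
    by_cases hex : ∃ w, h.b v w = 1
    · obtain ⟨w, hw⟩ := hex
      by_cases hew : h.b e w = 0
      · left
        apply h.b_nondeg
        intro u
        rcases (show h.b v u = 0 ∨ h.b v u = 1 by
          generalize h.b v u = a
          revert a; decide) with hu | hu
        · exact he1 u hu
        · have h3 : h.b v (u + w) = 0 := by
            rw [map_add, hu, hw]; decide
          have h4 := he1 _ h3
          rw [map_add, hew, add_zero] at h4
          exact h4
      · right
        have hew3 : h.b e w = 1 := by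
          revert hew
          generalize h.b e w = a
          revert a; decide
        have h5 : e + v = 0 := by
          apply h.b_nondeg
          intro u
          rw [map_add, LinearMap.add_apply]
          rcases (show h.b v u = 0 ∨ h.b v u = 1 by
            generalize h.b v u = a
            revert a; decide) with hu | hu
          · rw [hu, he1 u hu, add_zero]
          · have h3 : h.b v (u + w) = 0 := by
              rw [map_add, hu, hw]; decide
            have h4 := he1 _ h3
            rw [map_add, hew3] at h4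
            rw [hu]
            exact h4
        have h6 := congrArg (· + v) h5
        simp only [add_assoc, h.add_self, add_zero, zero_add] at h6
        exact h6
    · left
      push Not at hex
      apply h.b_nondeg
      intro u
      apply he1
      have := hex u
      revert this
      generalize h.b v u = a
      revert a; decide
  rcases he2 with h0 | h0
  · rcases h.pr_eq_zero.1 h0 with h1 | h1
    · exact Or.inl h1
    · exact Or.inr (Or.inl h1)
  · rcases h.pr_eq_pr.1 h0 with h1 | h1
    · exact Or.inr (Or.inr (Or.inl h1))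
    · refine Or.inr (Or.inr (Or.inr ?_))
      rw [← hyz]
      exact h1

/-- **(T1')**: an automorphism centralising `C_K(z)` is trivial or the conjugation by `z`. Here `n₀` conjugates `z` to an
element of `Q` different from `z` and `K = ⟨C_K(z), n₀⟩`. -/
theorem eq_one_or_conj [Finite K] (h : Large Q z) {n₀ : K} (hin : n₀ * z * n₀⁻¹ ∈ Q) (hne : n₀ * z * n₀⁻¹ ≠ z)
    (hgen : Subgroup.closure ({c : K | c * z = z * c} ∪ {n₀}) = ⊤)
    (α : MulAut K) (hα : ∀ c : K, c * z = z * c → α c = c) : α = 1 ∨ α = MulAut.conj z := by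
  set y := n₀ * z * n₀⁻¹ with hy
  have hy2 : y * y = 1 := by
    calc y * y = n₀ * (z * z) * n₀⁻¹ := by rw [hy]; group
      _ = 1 := by rw [h.z_sq]; group
  have hy1 : y ≠ 1 := by
    intro h1
    apply h.z_ne
    calc z = n₀⁻¹ * y * n₀ := by rw [hy]; group
      _ = 1 := by rw [h1]; group
  obtain ⟨n, hn1, hn2, -⟩ := (pair_of_conj h hin hne).cycle
  obtain ⟨τ, hτQ, hτ⟩ := exists_not_comm h hin hy1 hne
  have hτz : τ * z = z * τ := h.comm_z τ hτQ
  have hτy : τ * y * τ⁻¹ = z * y := by
    calc τ * y * τ⁻¹ = y * τ * z * τ⁻¹ := by rw [hτ]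
      _ = y * (z * τ) * τ⁻¹ := by rw [← hτz]; group
      _ = y * z := by group
      _ = z * y := h.comm_z y hin
  have hn2' : n * y * n⁻¹ = z * y := by
    rw [hn2]
    exact h.comm_z y hin
  refine CentTwo.eq_one_or_conj h.z_sq hy2 (h.comm_z y hin).symm (Ne.symm hne) hn1 hn2' hτz hτy
    (fun s hs => cent_cent h hin hy2 hs) ?_ α hα
  -- `n₀ ∈ ⟨C_K(z), n⟩`
  rw [eq_top_iff, ← hgen, Subgroup.closure_le]
  rintro c (hc | hc)
  · exact Subgroup.subset_closure (Or.inl hc)
  · rw [Set.mem_singleton_iff] at hc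
    subst hc
    have h1 : (n⁻¹ * c) * z = z * (n⁻¹ * c) := by
      have h2 : n * z * n⁻¹ = c * z * c⁻¹ := hn1
      calc (n⁻¹ * c) * z = n⁻¹ * (c * z * c⁻¹) * c := by group
        _ = n⁻¹ * (n * z * n⁻¹) * c := by rw [h2]
        _ = z * (n⁻¹ * c) := by group
    have h2 : n⁻¹ * c ∈ Subgroup.closure ({c : K | c * z = z * c} ∪ {n}) :=
      Subgroup.subset_closure (Or.inl h1)
    have h3 : n ∈ Subgroup.closure ({c : K | c * z = z * c} ∪ {n}) :=
      Subgroup.subset_closure (Or.inr rfl)
    have h4 := Subgroup.mul_mem _ h3 h2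
    rwa [mul_inv_cancel_left] at h4

/-- **(P3)**: if two non-commuting conjugates of `z` commute with a third one, `z` has a conjugate in `C_K(z)` outside
`Q`. -/
theorem exists_outside (h : Large Q z) {g a b : K} (ha : ∃ k, k * z * k⁻¹ = a) (hb : ∃ k, k * z * k⁻¹ = b)
    (hga : (g * z * g⁻¹) * a = a * (g * z * g⁻¹)) (hgb : (g * z * g⁻¹) * b = b * (g * z * g⁻¹))
    (haQ : a ∈ Q) (hbQ : b ∈ Q) (hne : g * z * g⁻¹ ≠ z) (hab : a * b ≠ b * a) :
    ∃ k : K, (k * z * k⁻¹) * z = z * (k * z * k⁻¹) ∧ k * z * k⁻¹ ∉ Q := by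
  by_contra hcon
  push Not at hcon
  obtain ⟨ka, rfl⟩ := ha
  obtain ⟨kb, rfl⟩ := hb
  have hconj : ∀ k : K, (g * z * g⁻¹) * (k * z * k⁻¹) = (k * z * k⁻¹) * (g * z * g⁻¹) →
      g⁻¹ * (k * z * k⁻¹) * g ∈ Q := by
    intro k hk
    have h1 : ((g⁻¹ * k) * z * (g⁻¹ * k)⁻¹) * z = z * ((g⁻¹ * k) * z * (g⁻¹ * k)⁻¹) := by
      calc ((g⁻¹ * k) * z * (g⁻¹ * k)⁻¹) * z = g⁻¹ * ((k * z * k⁻¹) * (g * z * g⁻¹)) * g := by group
        _ = g⁻¹ * ((g * z * g⁻¹) * (k * z * k⁻¹)) * g := by rw [hk]
        _ = z * ((g⁻¹ * k) * z * (g⁻¹ * k)⁻¹) := by group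
    have h2 := hcon _ h1
    have h3 : (g⁻¹ * k) * z * (g⁻¹ * k)⁻¹ = g⁻¹ * (k * z * k⁻¹) * g := by group
    rwa [h3] at h2
  have hA := hconj ka hga
  have hB := hconj kb hgb
  set a := ka * z * ka⁻¹
  set b := kb * z * kb⁻¹
  rcases h.comm a haQ b hbQ with h1 | h1
  · exact hab h1
  rcases h.comm _ hA _ hB with h2 | h2
  · apply hab
    calc a * b = g * ((g⁻¹ * a * g) * (g⁻¹ * b * g)) * g⁻¹ := by group
      _ = g * ((g⁻¹ * b * g) * (g⁻¹ * a * g)) * g⁻¹ := by rw [h2]
      _ = b * a := by group
  · apply hne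
    have h3 : a * b = b * a * (g * z * g⁻¹) := by
      calc a * b = g * ((g⁻¹ * a * g) * (g⁻¹ * b * g)) * g⁻¹ := by group
        _ = g * ((g⁻¹ * b * g) * (g⁻¹ * a * g) * z) * g⁻¹ := by rw [h2]
        _ = b * a * (g * z * g⁻¹) := by group
    rw [h1] at h3
    exact (mul_left_cancel h3).symm

/-- **`C_K(z)` is perfect**, if it is irreducible on `Q/⟨z⟩` and `C_K(z)/Q` is simple non-abelian. -/
theorem perfect (h : Large Q z) {L : Type*} [Group L] [IsSimpleGroup L] (hL : ∃ a b : L, a * b ≠ b * a)
    (π : Subgroup.centralizer ({z} : Set K) →* L) (hπs : Function.Surjective π)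
    (hπ : ∀ c : Subgroup.centralizer ({z} : Set K), π c = 1 ↔ (c : K) ∈ Q)
    (hirr : ∀ N : Subgroup K, N ≤ Q → (∀ g : K, g * z = z * g → ∀ n ∈ N, g * n * g⁻¹ ∈ N) →
      (∀ n ∈ N, n = 1 ∨ n = z) ∨ N = Q)
    (hQ : ∃ x ∈ Q, x ≠ 1 ∧ x ≠ z) : commutator (Subgroup.centralizer ({z} : Set K)) = ⊤ := by
  let D : Subgroup (Subgroup.centralizer ({z} : Set K)) := commutator (Subgroup.centralizer ({z} : Set K))
  show D = ⊤
  have hDn : D.Normal := by show (commutator _).Normal; infer_instance
  -- `π D = L`
  have hmap : D.map π = ⊤ := by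
    have h1 : (D.map π).Normal := hDn.map π hπs
    rcases h1.eq_bot_or_eq_top with h2 | h2
    · exfalso
      obtain ⟨a, b, hab⟩ := hL
      obtain ⟨x, rfl⟩ := hπs a
      obtain ⟨y, rfl⟩ := hπs b
      have h3 : ⁅x, y⁆ ∈ D := Subgroup.commutator_mem_commutator (Subgroup.mem_top _) (Subgroup.mem_top _)
      have h4 : π ⁅x, y⁆ ∈ D.map π := ⟨_, h3, rfl⟩
      rw [h2, Subgroup.mem_bot, map_commutatorElement, commutatorElement_eq_one_iff_mul_comm] at h4
      exact hab h4
    · exact h2
  -- `N = D ∩ Q`
  let N : Subgroup K := D.map (Subgroup.centralizer ({z} : Set K)).subtype ⊓ Q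
  have hNinv : ∀ g : K, g * z = z * g → ∀ n ∈ N, g * n * g⁻¹ ∈ N := by
    rintro g hg n ⟨⟨d, hd, rfl⟩, hn⟩
    refine ⟨⟨⟨g, Subgroup.mem_centralizer_singleton_iff.2 hg⟩ * d *
      ⟨g, Subgroup.mem_centralizer_singleton_iff.2 hg⟩⁻¹, ?_, rfl⟩, h.conj_mem g hg _ hn⟩
    exact hDn.conj_mem _ hd _
  have hNQ : Q ≤ D.map (Subgroup.centralizer ({z} : Set K)).subtype := by
    rcases hirr N inf_le_right hNinv with h1 | h1
    · exfalso
      -- `C` centralises `Q / ⟨z⟩`
      obtain ⟨x, hx, hx1, hxz⟩ := hQ
      have hxc : ∀ g : K, g * z = z * g → ∀ q ∈ Q, g * q * g⁻¹ = q ∨ g * q * g⁻¹ = z * q := by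
        intro g hg q hq
        have hqC : q ∈ Subgroup.centralizer ({z} : Set K) := Subgroup.mem_centralizer_singleton_iff.2 (h.comm_z q hq)
        have h2 : g * q * g⁻¹ * q⁻¹ ∈ N := by
          refine ⟨⟨⁅(⟨g, Subgroup.mem_centralizer_singleton_iff.2 hg⟩ : Subgroup.centralizer ({z} : Set K)), ⟨q, hqC⟩⁆,
            Subgroup.commutator_mem_commutator (Subgroup.mem_top _) (Subgroup.mem_top _), rfl⟩, ?_⟩
          exact Q.mul_mem (h.conj_mem g hg q hq) (Q.inv_mem hq)
        rcases h1 _ h2 with h3 | h3
        · left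
          exact mul_inv_eq_one.1 h3
        · right
          exact mul_inv_eq_iff_eq_mul.1 h3
      let R : Subgroup K := Subgroup.closure {x, z}
      have hRQ : R ≤ Q := by
        rw [Subgroup.closure_le]
        rintro u (rfl | hu)
        · exact hx
        · rw [Set.mem_singleton_iff.1 hu]; exact h.z_mem
      have hzR : z ∈ R := Subgroup.subset_closure (Or.inr rfl)
      have hxR : x ∈ R := Subgroup.subset_closure (Or.inl rfl)
      have hRinv : ∀ g : K, g * z = z * g → ∀ n ∈ R, g * n * g⁻¹ ∈ R := by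
        intro g hg n hn
        rcases hxc g hg n (hRQ hn) with h2 | h2
        · rw [h2]; exact hn
        · rw [h2]; exact R.mul_mem hzR hn
      rcases hirr R hRQ hRinv with h2 | h2
      · rcases h2 x hxR with h3 | h3
        · exact hx1 h3
        · exact hxz h3
      · have hcomm : ∀ u ∈ R, x * u = u * x := by
          intro u hu
          induction hu using Subgroup.closure_induction with
          | mem u hu =>
            rcases hu with rfl | hu
            · rfl
            · rw [Set.mem_singleton_iff.1 hu]; exact h.comm_z x hx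
          | one => rw [mul_one, one_mul]
          | mul a b _ _ ha hb => rw [← mul_assoc, ha, mul_assoc, hb, mul_assoc]
          | inv a _ ha =>
            have h3 : a⁻¹ * (x * a) * a⁻¹ = a⁻¹ * (a * x) * a⁻¹ := by rw [ha]
            have h4 : a⁻¹ * (x * a) * a⁻¹ = a⁻¹ * x := by group
            have h5 : a⁻¹ * (a * x) * a⁻¹ = x * a⁻¹ := by group
            rw [h4, h5] at h3
            exact h3.symm
        rcases h.cent x hx (fun u hu => hcomm u (by rw [h2]; exact hu)) with h3 | h3
        · exact hx1 h3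
        · exact hxz h3
    · intro q hq
      have : q ∈ N := by rw [h1]; exact hq
      exact this.1
  rw [eq_top_iff]
  intro c _
  have h1 : π c ∈ D.map π := by rw [hmap]; trivial
  obtain ⟨d, hd, e⟩ := h1
  have h2 : ((d⁻¹ * c : Subgroup.centralizer ({z} : Set K)) : K) ∈ Q := by
    rw [← hπ, map_mul, map_inv, e, inv_mul_cancel]
  obtain ⟨d', hd', e'⟩ := hNQ h2
  have h3 : d' = d⁻¹ * c := Subtype.ext e'
  rw [h3] at hd'
  have h4 := D.mul_mem hd hd'
  rwa [mul_inv_cancel_left] at h4

end Cfsg.Agent.KFacts.LargeE
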