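import Mathlib
import Cfsg.Agent.Nodes.NormalForm

/-!
# The opposite root group datum

`opp : RGD cs h p T n X → RGD cs h p T n (fun x => X (-x))`, with the identification of the opposite objects.
-/

set_option autoImplicit false
set_option linter.unusedSectionVars false

namespace Cfsg.Agent.KFacts.RgdOpp

open CoxeterSystem Cfsg.Agent.ChevalleyStructure.CoxeterGeom Cfsg.Agent.Tits.Roots Cfsg.Agent.Tits.Core
  Cfsg.Agent.Tits.Exchange Cfsg.Agent.Nodes.Reps Cfsg.Agent.Nodes.BNOf Cfsg.Agent.Nodes.StabComb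
  Cfsg.Agent.Nodes.Bruhat Cfsg.Agent.Nodes.OppDec Cfsg.Agent.Nodes.LeviDec Cfsg.Agent.Nodes.NormalForm
open scoped commutatorElement

variable {I W Y : Type*} [Fintype I] [DecidableEq I] [Group W] [Group Y] {M : CoxeterMatrix I}
  {cs : CoxeterSystem M W} {A : I → I → ℤ} {h : IsCartan M A} {p : ℕ} {T : Subgroup Y} {n : I → Y}
  {X : (I → ℤ) → Subgroup Y}

theorem btwn_neg' {x y z : I → ℤ} (hz : Btwn cs h x y z) : Btwn cs h (-x) (-y) (-z) := by
  obtain ⟨h1, m, a, b, hm, ha, hb, he⟩ := hz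
  exact ⟨h1.neg, m, a, b, hm, ha, hb, by rw [smul_neg, he, smul_neg, smul_neg, neg_add]⟩

theorem btw_neg (x y : I → ℤ) : btw cs h (fun x => X (-x)) x y = btw cs h X (-x) (-y) := by
  apply le_antisymm
  · refine iSup_le ?_
    rintro ⟨z, hz⟩
    exact le_btw_of (btwn_neg' hz)
  · refine iSup_le ?_
    rintro ⟨z, hz⟩
    have h1 : Btwn cs h x y (-z) := by
      have := btwn_neg' hz
      rwa [neg_neg, neg_neg] at this
    have h2 := le_btw_of (X := fun x => X (-x)) h1
    simpa using h2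

/-- **The opposite root group datum.** -/
theorem opp [Finite W] (R : RGD cs h p T n X) : RGD cs h p T n (fun x => X (-x)) where
  nsys := R.nsys
  conj i x hx := by
    have := R.conj i (-x) hx.neg
    rw [map_neg] at this
    exact this
  tor x hx t ht := R.tor (-x) hx.neg t ht
  comm x y hx hy hxy hxy' a ha b hb := by
    rw [btw_neg]
    refine R.comm (-x) (-y) hx.neg hy.neg (fun e => hxy (neg_injective e)) (fun e => hxy' ?_) a ha b hb
    rw [neg_neg] at e
    rw [← e, neg_neg]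
  rk1 i u hu hu1 := by
    have hu' : u ∈ X (sr i) := by
      have h1 : u ∈ X (-(-sr i)) := hu
      rwa [neg_neg] at h1
    have h1 : n i * u * (n i)⁻¹ ∈ X (-sr i) := by
      have := R.conj_mem (rp_simple cs R.nsys i) (isRoot_sr cs h i) hu'
      rwa [rep_simple_sr] at this
    have h2 : n i * u * (n i)⁻¹ ≠ 1 := by
      intro h3
      exact hu1 (mul_eq_left.1 (mul_inv_eq_one.1 h3))
    obtain ⟨a, ha, t, ht, b, hb, e⟩ := R.rk1 i _ h1 h2
    have hc : ∀ c ∈ X (sr i), (n i)⁻¹ * c * n i ∈ X (-sr i) := by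
      intro c hc
      have := R.conj_mem' (rp_simple cs R.nsys i) (isRoot_sr cs h i) hc
      rwa [inv_simple, rep_simple_sr] at this
    have ht' : (n i)⁻¹ * t * n i ∈ T := by
      have h3 := inv_mem (R.nsys.norm i)
      have h4 := (Subgroup.mem_normalizer_iff.1 h3 t).1 ht
      rwa [inv_inv] at h4
    refine ⟨(n i)⁻¹ * a * n i, hc a ha, (n i)⁻¹ * t * n i, ht', (n i)⁻¹ * b * n i, hc b hb, ?_⟩
    have h5 : u = (n i)⁻¹ * (n i * u * (n i)⁻¹) * n i := by group
    rw [h5, e]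
    group
  pgrp i := R.pgrp' (isRoot_sr cs h i).neg
  notp i := by
    have h1 : X (-(-sr i)) = X (sr i) := by rw [neg_neg]
    show ¬ IsPGroup p ↥(X (-sr i) ⊔ X (-(-sr i)))
    rw [h1, sup_comm]
    exact R.notp i
  tcop := R.tcop

theorem Sup_opp (S : Set (I → ℤ)) : RGD.Sup (fun x => X (-x)) S = RGD.Sup X {x | -x ∈ S} := by
  apply le_antisymm
  · refine RGD.Sup_le fun z hz => ?_
    exact RGD.le_Sup (S := {x | -x ∈ S}) (by simpa using hz)
  · refine RGD.Sup_le fun z hz => ?_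
    have := RGD.le_Sup (X := fun x => X (-x)) (S := S) (z := -z) hz
    simpa using this

theorem U_opp : RGD.Sup (fun x => X (-x)) (RGD.Pos cs h) = UN cs h X := by
  rw [Sup_opp]
  unfold UN
  congr 1
  ext x
  constructor
  · rintro ⟨h1, h2⟩
    exact ⟨by simpa using h1.neg, neg_nonneg.1 h2⟩
  · rintro ⟨h1, h2⟩
    exact ⟨h1.neg, neg_nonneg.2 h2⟩

theorem UN_opp : UN cs h (fun x => X (-x)) = RGD.Sup X (RGD.Pos cs h) := by
  unfold UN
  rw [Sup_opp]
  congr 1
  ext x
  constructor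
  · rintro ⟨h1, h2⟩
    exact ⟨by simpa using h1.neg, neg_nonpos.1 h2⟩
  · rintro ⟨h1, h2⟩
    exact ⟨h1.neg, neg_nonpos.2 h2⟩

theorem B_opp : RGD.B cs h T (fun x => X (-x)) = BN cs h T X := by
  unfold RGD.B BN
  rw [U_opp]

theorem BN_opp : BN cs h T (fun x => X (-x)) = RGD.B cs h T X := by
  unfold RGD.B BN
  rw [UN_opp]

theorem GG_opp : GG cs h T (fun x => X (-x)) = GG cs h T X := by
  unfold GG
  rw [Sup_opp]
  congr 2
  ext x
  exact ⟨fun h1 => by simpa using IsRoot.neg h1, fun h1 => IsRoot.neg h1⟩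

end Cfsg.Agent.KFacts.RgdOpp
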