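import Mathlib
import Cfsg.Agent.KFacts.RgdOpp

/-!
# Automorphisms of groups with a root group datum: the frame

`exists_frame`: an automorphism normalising `U` normalises, after multiplication by an inner automorphism from `U`,
also `U⁻` (and so `B`, `B⁻`, `T`).
-/

set_option autoImplicit false
set_option linter.unusedSectionVars false

namespace Cfsg.Agent.KFacts.RgdAut

open CoxeterSystem Cfsg.Agent.ChevalleyStructure.CoxeterGeom Cfsg.Agent.Tits.Roots Cfsg.Agent.Tits.Core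
  Cfsg.Agent.Tits.Exchange Cfsg.Agent.Nodes.Reps Cfsg.Agent.Nodes.BNOf Cfsg.Agent.Nodes.StabComb
  Cfsg.Agent.Nodes.Bruhat Cfsg.Agent.Nodes.OppDec Cfsg.Agent.Nodes.LeviDec Cfsg.Agent.Nodes.NormalForm
  Cfsg.Agent.KFacts.RgdOpp
open scoped commutatorElement

variable {I W Y : Type*} [Fintype I] [DecidableEq I] [Group W] [Group Y] {M : CoxeterMatrix I}
  {cs : CoxeterSystem M W} {A : I → I → ℤ} {h : IsCartan M A} {p : ℕ} {T : Subgroup Y} {n : I → Y}
  {X : (I → ℤ) → Subgroup Y}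

/-- The automorphism maps the subgroup onto itself. -/
def Fix (α : MulAut Y) (H : Subgroup Y) : Prop := ∀ x, α x ∈ H ↔ x ∈ H

theorem Fix.inv {α : MulAut Y} {H : Subgroup Y} (hα : Fix α H) : Fix α⁻¹ H := fun x => by
  rw [← hα (α⁻¹ x), MulAut.apply_inv_self]

theorem Fix.mul {α β : MulAut Y} {H : Subgroup Y} (hα : Fix α H) (hβ : Fix β H) : Fix (α * β) H := fun x => by
  rw [MulAut.mul_apply, hα, hβ]

theorem Fix.inf {α : MulAut Y} {H H' : Subgroup Y} (hα : Fix α H) (hα' : Fix α H') : Fix α (H ⊓ H') := fun x => by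
  rw [Subgroup.mem_inf, Subgroup.mem_inf, hα, hα']

theorem fix_iff {α : MulAut Y} {H : Subgroup Y} : Fix α H ↔ H.map α.toMonoidHom = H := by
  constructor
  · intro hα
    ext x
    constructor
    · rintro ⟨y, hy, rfl⟩
      exact (hα y).2 hy
    · intro hx
      refine ⟨α⁻¹ x, (hα.inv x).2 hx, ?_⟩
      exact MulAut.apply_inv_self _ α x
  · intro hα x
    constructor
    · intro hx
      rw [← hα] at hx
      obtain ⟨y, hy, he⟩ := hx
      have : y = x := α.injective he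
      rwa [← this]
    · intro hx
      rw [← hα]
      exact ⟨x, hx, rfl⟩

theorem Fix.normalizer {α : MulAut Y} {H : Subgroup Y} (hα : Fix α H) : Fix α (Subgroup.normalizer (H : Set Y)) := by
  have key : ∀ β : MulAut Y, Fix β H → ∀ x, x ∈ Subgroup.normalizer (H : Set Y) →
      β x ∈ Subgroup.normalizer (H : Set Y) := by
    intro β hβ x hx
    rw [Subgroup.mem_normalizer_iff] at hx ⊢
    intro y
    have h1 := hx (β⁻¹ y)
    have h2 : β (x * β⁻¹ y * x⁻¹) = β x * y * (β x)⁻¹ := by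
      rw [map_mul, map_mul, map_inv, MulAut.apply_inv_self]
    rw [← h2, hβ, ← h1]
    exact (hβ.inv y).symm
  intro x
  refine ⟨fun hx => ?_, key α hα x⟩
  have := key α⁻¹ hα.inv _ hx
  rwa [MulAut.inv_apply_self] at this

section

variable (R : RGD cs h p T n X)

include R

/-- `B` is the normaliser of `U`. -/
theorem normalizer_U' [Finite W] (hG : GG cs h T X = ⊤) :
    Subgroup.normalizer (RGD.Sup X (RGD.Pos cs h) : Set Y) = RGD.B cs h T X := by
  have := normalizer_U R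
  rwa [hG, inf_top_eq] at this

theorem fix_B [Finite W] (hG : GG cs h T X = ⊤) {α : MulAut Y} (hα : Fix α (RGD.Sup X (RGD.Pos cs h))) :
    Fix α (RGD.B cs h T X) := by
  rw [← normalizer_U' R hG]
  exact hα.normalizer

/-- `U⁻` consists of the `p`-elements of `B⁻`. -/
theorem mem_UN_of_mem_BN [Finite W] {x : Y} (hx : x ∈ BN cs h T X) {k : ℕ} (hk : x ^ p ^ k = 1) : x ∈ UN cs h X := by
  have h1 := (opp R).mem_U_of_mem_B (x := x) (by rw [B_opp]; exact hx) hk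
  rwa [U_opp] at h1

theorem isPGroup_UN [Finite W] : IsPGroup p ↥(UN cs h X) := by
  have := (opp R).isPGroup_Upos
  rwa [U_opp] at this

theorem fix_UN [Finite W] {α : MulAut Y} (hα : Fix α (BN cs h T X)) : Fix α (UN cs h X) := by
  have key : ∀ β : MulAut Y, Fix β (BN cs h T X) → ∀ x, x ∈ UN cs h X → β x ∈ UN cs h X := by
    intro β hβ x hx
    obtain ⟨k, hk⟩ := isPGroup_UN R ⟨x, hx⟩
    have h1 : x ^ p ^ k = 1 := by simpa using congrArg Subtype.val hk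
    refine mem_UN_of_mem_BN R ((hβ x).2 (UN_le_BN hx)) (k := k) ?_
    rw [← map_pow, h1, map_one]
  intro x
  refine ⟨fun hx => ?_, key α hα x⟩
  have := key α⁻¹ hα.inv _ hx
  rwa [MulAut.inv_apply_self] at this

theorem fix_T [Finite W] {α : MulAut Y} (hB : Fix α (RGD.B cs h T X)) (hBN : Fix α (BN cs h T X)) : Fix α T := by
  have := hB.inf hBN
  rwa [B_inf_BN R] at this

/-- An element all of whose positive roots become negative is the longest one. -/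
theorem eq_w0 [Finite W] {w : W} (hw : ∀ r, IsRoot cs h r → 0 ≤ r → rep cs h w⁻¹ r ≤ 0) : w = w0 cs := by
  have h1 : w⁻¹ * w0 cs = 1 := by
    apply eq_one_of_nonneg cs h
    intro i
    rw [rep_mul_apply]
    have h2 : rep cs h (w0 cs) (sr i) ≤ 0 := rep_w0_nonpos (isRoot_sr cs h i) (sr_nonneg i)
    have h3 := hw (-rep cs h (w0 cs) (sr i)) ((isRoot_sr cs h i).act _).neg (neg_nonneg.2 h2)
    rw [map_neg] at h3
    exact neg_nonpos.1 h3
  exact inv_mul_eq_one.1 h1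

/-- **The frame.** -/
theorem exists_frame [Finite W] (hG : GG cs h T X = ⊤) {α : MulAut Y} (hα : Fix α (RGD.Sup X (RGD.Pos cs h))) :
    ∃ u ∈ RGD.Sup X (RGD.Pos cs h), Fix (MulAut.conj u * α) (RGD.Sup X (RGD.Pos cs h)) ∧
      Fix (MulAut.conj u * α) (RGD.B cs h T X) ∧ Fix (MulAut.conj u * α) (UN cs h X) ∧
      Fix (MulAut.conj u * α) (BN cs h T X) ∧ Fix (MulAut.conj u * α) T := by
  have hB := fix_B R hG hα
  obtain ⟨k₀, hk₀⟩ := exists_rp cs R.nsys (w0 cs)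
  -- `x ∈ B⁻ ↔ k₀⁻¹ x k₀ ∈ B`
  have hBN : ∀ x, x ∈ BN cs h T X ↔ k₀⁻¹ * x * k₀ ∈ RGD.B cs h T X := by
    intro x
    rw [← cj_B R hk₀, mem_cj]
  have hg : α k₀ ∈ GG cs h T X := by rw [hG]; exact Subgroup.mem_top _
  obtain ⟨w, b₁, hb₁, k, hk, b₂, hb₂, e⟩ := (mem_GG R).1 hg
  -- `α⁻¹ x ∈ B⁻ ↔ (b₁ k)⁻¹ x (b₁ k) ∈ B`
  have hαBN : ∀ x, α⁻¹ x ∈ BN cs h T X ↔ k⁻¹ * (b₁⁻¹ * x * b₁) * k ∈ RGD.B cs h T X := by
    intro x
    rw [hBN, ← hB, map_mul, map_mul, map_inv, MulAut.apply_inv_self, e]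
    have e1 : (b₁ * k * b₂)⁻¹ * x * (b₁ * k * b₂) = b₂⁻¹ * (k⁻¹ * (b₁⁻¹ * x * b₁) * k) * b₂ := by group
    rw [e1]
    constructor
    · intro h1
      have h2 := mul_mem (mul_mem hb₂ h1) (inv_mem hb₂)
      have e2 : b₂ * (b₂⁻¹ * (k⁻¹ * (b₁⁻¹ * x * b₁) * k) * b₂) * b₂⁻¹ = k⁻¹ * (b₁⁻¹ * x * b₁) * k := by group
      rwa [e2] at h2
    · intro h1
      exact mul_mem (mul_mem (inv_mem hb₂) h1) hb₂
  have hw : w = w0 cs := by
    apply eq_w0 R
    intro r hr hr0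
    by_contra hcon
    have hr' : 0 ≤ rep cs h w⁻¹ r := (hr.act w⁻¹).pos_or_neg.resolve_right hcon
    -- a nontrivial element of `X r`
    obtain ⟨⟨u, hu⟩, hu1⟩ := Subgroup.ne_bot_iff_exists_ne_one.1 (X_ne_bot R hr)
    apply hu1
    apply Subtype.ext
    show u = 1
    -- `x = b₁ u b₁⁻¹` lies in `U` and `α⁻¹ x` in `B⁻`
    have hx : b₁ * u * b₁⁻¹ ∈ RGD.Sup X (RGD.Pos cs h) :=
      (Subgroup.mem_normalizer_iff.1 (R.B_le_normalizer_U hb₁) u).1 (RGD.le_Sup (S := RGD.Pos cs h) ⟨hr, hr0⟩ hu)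
    have hx' : α⁻¹ (b₁ * u * b₁⁻¹) ∈ BN cs h T X := by
      rw [hαBN]
      have e1 : k⁻¹ * (b₁⁻¹ * (b₁ * u * b₁⁻¹) * b₁) * k = k⁻¹ * u * k := by group
      rw [e1]
      exact RGD.X_le_B (hr.act w⁻¹) hr' (R.conj_mem' hk hr hu)
    have h1 : α⁻¹ (b₁ * u * b₁⁻¹) = 1 := eq_one_of_mem_U_of_mem_BN R ((hα.inv _).2 hx) hx'
    have h2 : b₁ * u * b₁⁻¹ = 1 := by
      have h3 := congrArg α h1
      rwa [MulAut.apply_inv_self, map_one] at h3
    have h4 : u = b₁⁻¹ * (b₁ * u * b₁⁻¹) * b₁ := by group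
    rw [h4, h2]; group
  subst hw
  obtain ⟨t, ht, v, hv, e'⟩ := R.mem_B.1 (inv_mem hb₁)
  -- `b₁ = v⁻¹ t⁻¹`
  have hb : b₁ = v⁻¹ * t⁻¹ := by rw [← inv_inv b₁, e', mul_inv_rev]
  -- `u = v`
  have hBN' : Fix (MulAut.conj v * α) (BN cs h T X) := by
    have key : ∀ x, (MulAut.conj v * α)⁻¹ x ∈ BN cs h T X ↔ x ∈ BN cs h T X := by
      intro x
      have e1 : (MulAut.conj v * α)⁻¹ x = α⁻¹ (v⁻¹ * x * v) := by
        rw [mul_inv_rev, MulAut.mul_apply, ← map_inv, MulAut.conj_apply, inv_inv]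
      have e2 : k⁻¹ * (b₁⁻¹ * (v⁻¹ * x * v) * b₁) * k = k⁻¹ * (t * x * t⁻¹) * k := by
        rw [hb]; group
      rw [e1, hαBN, e2]
      have h1 : t * x * t⁻¹ ∈ cj k (RGD.B cs h T X) ↔ k⁻¹ * (t * x * t⁻¹) * k ∈ RGD.B cs h T X := mem_cj
      rw [← h1, cj_B R hk]
      exact (Subgroup.mem_normalizer_iff.1 (Subgroup.le_normalizer (T_le_BN ht)) x).symm
    intro x
    rw [← key, MulAut.inv_apply_self]
  have hU' : Fix (MulAut.conj v * α) (RGD.Sup X (RGD.Pos cs h)) := by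
    refine Fix.mul ?_ hα
    intro x
    rw [MulAut.conj_apply]
    exact (Subgroup.mem_normalizer_iff.1 (Subgroup.le_normalizer hv) x).symm
  have hB' := fix_B R hG hU'
  exact ⟨v, hv, hU', hB', fix_UN R hBN', hBN', fix_T R hB' hBN'⟩

end

end Cfsg.Agent.KFacts.RgdAut
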