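import Mathlib
import Cfsg.Agent.KFacts.RgdAut
import Cfsg.Agent.LieRecognition.CoxForm

/-!
# Automorphisms of groups with a root group datum: the diagram

* `exists_diag` : an automorphism `β` fixing `U` and `U⁻` permutes the groups `X_{±α_i}` by a permutation `σ` of `I`
  (`Diag`);
* `Diag.rp`, `Diag.matrix` : `β (n i)` represents `s_{σ i}`, `M (σ i) (σ j) = M i j`;
* `hat`, `Diag.root` : the action on all root groups;
* `eq_one_of_fix` : rigidity.
-/

set_option autoImplicit false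
set_option linter.unusedSectionVars false

namespace Cfsg.Agent.KFacts.RgdDiag

open CoxeterSystem Cfsg.Agent.ChevalleyStructure.CoxeterGeom Cfsg.Agent.Tits.Roots Cfsg.Agent.Tits.Core
  Cfsg.Agent.Tits.Exchange Cfsg.Agent.Nodes.Reps Cfsg.Agent.Nodes.BNOf Cfsg.Agent.Nodes.StabComb
  Cfsg.Agent.Nodes.Bruhat Cfsg.Agent.Nodes.OppDec Cfsg.Agent.Nodes.LeviDec Cfsg.Agent.Nodes.NormalForm
  Cfsg.Agent.KFacts.RgdOpp Cfsg.Agent.KFacts.RgdAut
open scoped commutatorElement

variable {I W Y : Type*} [Fintype I] [DecidableEq I] [Group W] [Group Y] {M : CoxeterMatrix I}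
  {cs : CoxeterSystem M W} {A : I → I → ℤ} {h : IsCartan M A} {p : ℕ} {T : Subgroup Y} {n : I → Y}
  {X : (I → ℤ) → Subgroup Y}

/-! ### the opposite parabolic subgroups -/

theorem LJ_opp (J : Set I) : LJ cs h T (fun x => X (-x)) J = LJ cs h T X J := by
  unfold LJ
  rw [Sup_opp]
  congr 2
  ext x
  constructor
  · intro hx
    have := RootsJ.neg (x := -x) hx
    rwa [neg_neg] at this
  · exact fun hx => RootsJ.neg hx

theorem VNJ_opp (J : Set I) : VNJ cs h (fun x => X (-x)) J = VJ cs h X J := by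
  unfold VNJ VJ
  rw [Sup_opp]
  congr 1
  ext x
  change - -x ∈ NotJ cs h J ↔ x ∈ NotJ cs h J
  rw [neg_neg]

theorem VJ_opp (J : Set I) : VJ cs h (fun x => X (-x)) J = VNJ cs h X J := by
  unfold VNJ VJ
  rw [Sup_opp]
  rfl

theorem PJ_opp (J : Set I) : PJ cs h T (fun x => X (-x)) J = PNJ cs h T X J := by
  unfold PJ PNJ
  rw [LJ_opp, VJ_opp]

theorem PNJ_opp (J : Set I) : PNJ cs h T (fun x => X (-x)) J = PJ cs h T X J := by
  unfold PJ PNJ
  rw [LJ_opp, VNJ_opp]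

theorem UJ_singleton (i : I) : UJ cs h X {i} = X (sr i) := by
  have h1 : PosJ cs h {i} = {sr i} := by
    ext x
    constructor
    · rintro ⟨h1, h2, h3⟩
      exact h1.eq_sr h2 i fun k hk => h3 k hk
    · rintro rfl
      exact sr_mem_PosJ rfl
  unfold UJ
  rw [h1]
  apply le_antisymm
  · refine RGD.Sup_le fun z hz => ?_
    rw [hz]
  · exact RGD.le_Sup rfl

/-! ### Weyl group -/

theorem mem_WJ_singleton {i : I} {w : W} (hw : w ∈ WJ cs {i}) : w = 1 ∨ w = cs.simple i := by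
  unfold WJ at hw
  rw [Set.image_singleton, Subgroup.mem_closure_singleton] at hw
  obtain ⟨k, rfl⟩ := hw
  rcases Int.even_or_odd' k with ⟨m, rfl | rfl⟩
  · left
    rw [zpow_mul, show (2 : ℤ) = ((2 : ℕ) : ℤ) from rfl, zpow_natCast, cs.simple_sq, one_zpow]
  · right
    rw [zpow_add, zpow_mul, show (2 : ℤ) = ((2 : ℕ) : ℤ) from rfl, zpow_natCast, cs.simple_sq, one_zpow, one_mul,
      zpow_one]

theorem WJ_singleton_le {i : I} {J : Set I} (hi : cs.simple i ∈ WJ cs J) : WJ cs {i} ≤ WJ cs J := by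
  intro w hw
  rcases mem_WJ_singleton hw with rfl | rfl
  · exact one_mem _
  · exact hi

theorem simple_ne_one (i : I) : cs.simple i ≠ 1 := by
  intro h1
  have h2 := cs.length_simple i
  rw [h1, cs.length_one] at h2
  exact absurd h2 (by decide)

theorem WJ_empty {w : W} (hw : w ∈ WJ cs ∅) : w = 1 := by
  unfold WJ at hw
  rwa [Set.image_empty, Subgroup.closure_empty, Subgroup.mem_bot] at hw

theorem eq_of_simple_mem (h : IsCartan M A) {i j : I} (hij : cs.simple i ∈ WJ cs {j}) : i = j := by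
  rcases mem_WJ_singleton hij with h1 | h1
  · exact absurd h1 (simple_ne_one i)
  · by_contra hne
    exact RGD.simple_ne (h := h) hne h1

/-! ### representatives -/

theorem rp_pow {hN : NSys M T n} {w : W} {g : Y} (hg : Rp cs hN w g) (k : ℕ) : Rp cs hN (w ^ k) (g ^ k) := by
  induction k with
  | zero => rw [pow_zero, pow_zero]; exact rp_one
  | succ k ih => rw [pow_succ, pow_succ]; exact ih.mul hg

section

variable (R : RGD cs h p T n X)

include R

theorem eq_one_of_mem_VJ_of_mem_PNJ [Finite W] {J : Set I} {x : Y} (hx : x ∈ VJ cs h X J)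
    (hP : x ∈ PNJ cs h T X J) : x = 1 :=
  eq_one_of_mem_VNJ_of_mem_PJ (opp R) (J := J) (x := x) (by rw [VNJ_opp]; exact hx) (by rw [PJ_opp]; exact hP)

theorem X_sr_eq [Finite W] (i : I) : RGD.Sup X (RGD.Pos cs h) ⊓ PNJ cs h T X {i} = X (sr i) := by
  have hle : X (sr i) ≤ PNJ cs h T X {i} :=
    le_trans (X_le_LJ (PosJ_subset {i} (sr_mem_PosJ rfl))) le_sup_left
  apply le_antisymm
  · rintro g ⟨h1, h2⟩
    obtain ⟨u, hu, v, hv, rfl⟩ := (mem_U_iff R (J := {i})).1 h1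
    rw [UJ_singleton] at hu
    have h3 : v ∈ PNJ cs h T X {i} := by
      have : v = u⁻¹ * (u * v) := by group
      rw [this]
      exact mul_mem (inv_mem (hle hu)) h2
    rw [eq_one_of_mem_VJ_of_mem_PNJ R hv h3, mul_one]
    exact hu
  · exact le_inf (RGD.le_Sup (S := RGD.Pos cs h) ⟨isRoot_sr cs h i, sr_nonneg i⟩) hle

theorem X_neg_sr_eq [Finite W] (i : I) : UN cs h X ⊓ PJ cs h T X {i} = X (-sr i) := by
  have := X_sr_eq (opp R) i
  rwa [U_opp, PNJ_opp] at this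

theorem PJ_le_of_mem [Finite W] {P : Subgroup Y} (hP : RGD.B cs h T X ≤ P) {i : I} (hi : n i ∈ P) :
    PJ cs h T X {i} ≤ P := by
  intro x hx
  obtain ⟨w, hw, hc⟩ := (mem_PJ_iff_cell R).1 hx
  exact (cell_mem_iff R hP hc).2 (WJ_mono cs (by rintro _ rfl; exact hi) hw)

/-- `β` permutes the minimal parabolic subgroups. -/
theorem exists_min [Finite W] (hG : GG cs h T X = ⊤) {β : MulAut Y} (hB : Fix β (RGD.B cs h T X)) (i : I) :
    ∃ j, ∀ x, β x ∈ PJ cs h T X {j} ↔ x ∈ PJ cs h T X {i} := by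
  obtain ⟨P, hP⟩ : ∃ P : Subgroup Y, ∀ x, x ∈ P ↔ β⁻¹ x ∈ PJ cs h T X {i} :=
    ⟨(PJ cs h T X {i}).comap (β⁻¹).toMonoidHom, fun x => Iff.rfl⟩
  have hPB : RGD.B cs h T X ≤ P := fun x hx => (hP x).2 (B_le_PJ ((hB.inv x).2 hx))
  have hj : ∃ j, n j ∈ P := by
    by_contra hcon
    push Not at hcon
    obtain ⟨w, hw⟩ := (mem_GG R).1 (show β (n i) ∈ GG cs h T X by rw [hG]; exact Subgroup.mem_top _)
    have h1 : β (n i) ∈ P := (hP _).2 (by rw [MulAut.inv_apply_self]; exact LJ_le_PJ (n_mem_LJ R rfl))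
    have h2 := (cell_mem_iff R hPB hw).1 h1
    have h3 : {j | n j ∈ P} = ∅ := Set.eq_empty_of_forall_notMem hcon
    rw [h3] at h2
    have h4 := WJ_empty h2
    subst h4
    have h6 : n i ∈ RGD.B cs h T X := (hB _).1 hw.mem_of_one
    exact simple_ne_one i (R.eq_one_of_mem_B (rp_simple cs R.nsys i) h6)
  obtain ⟨j, hj⟩ := hj
  refine ⟨j, fun x => ⟨fun hx => ?_, fun hx => ?_⟩⟩
  · have h2 := (hP _).1 (PJ_le_of_mem R hPB hj hx)
    rwa [MulAut.inv_apply_self] at h2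
  · obtain ⟨Q, hQ⟩ : ∃ Q : Subgroup Y, ∀ x, x ∈ Q ↔ β x ∈ PJ cs h T X {j} :=
      ⟨(PJ cs h T X {j}).comap β.toMonoidHom, fun x => Iff.rfl⟩
    have hQB : RGD.B cs h T X ≤ Q := fun x hx => (hQ x).2 (B_le_PJ ((hB x).2 hx))
    have h3 : β⁻¹ (n j) ∈ PJ cs h T X {i} := (hP _).1 hj
    obtain ⟨w, hw, hc⟩ := (mem_PJ_iff_cell R).1 h3
    have h5 : β⁻¹ (n j) ∈ Q := (hQ _).2 (by rw [MulAut.apply_inv_self]; exact LJ_le_PJ (n_mem_LJ R rfl))
    have h6 := (cell_mem_iff R hQB hc).1 h5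
    rcases mem_WJ_singleton hw with rfl | rfl
    · exfalso
      have h7 : n j ∈ RGD.B cs h T X := (hB.inv _).1 hc.mem_of_one
      exact simple_ne_one j (R.eq_one_of_mem_B (rp_simple cs R.nsys j) h7)
    · obtain ⟨w', hw', hc'⟩ := (mem_PJ_iff_cell R).1 hx
      exact (hQ x).1 ((cell_mem_iff R hQB hc').2 (WJ_singleton_le h6 hw'))

theorem exists_perm [Finite W] (hG : GG cs h T X = ⊤) {β : MulAut Y} (hB : Fix β (RGD.B cs h T X)) :
    ∃ σ : Equiv.Perm I, ∀ i x, β x ∈ PJ cs h T X {σ i} ↔ x ∈ PJ cs h T X {i} := by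
  choose f hf using exists_min R hG hB
  have hinj : Function.Injective f := by
    intro i j hij
    have h1 : n i ∈ PJ cs h T X {j} := by
      rw [← hf j, ← hij, hf i]
      exact LJ_le_PJ (n_mem_LJ R rfl)
    exact eq_of_simple_mem h ((cell_mem_PJ_iff R (cell_of_rp (rp_simple cs R.nsys i))).1 h1)
  exact ⟨Equiv.ofBijective f (Finite.injective_iff_bijective.1 hinj), hf⟩

/-- opposite root groups of different nodes commute -/
theorem commute_pos_neg [Finite W] {i j : I} (hij : i ≠ j) {a b : Y} (ha : a ∈ X (sr i)) (hb : b ∈ X (-sr j)) :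
    Commute a b := by
  have h1 : sr i ≠ -sr j := by
    intro h1
    have h2 := congrFun h1 i
    rw [sr_self, Pi.neg_apply, sr_ne hij, neg_zero] at h2
    exact one_ne_zero h2
  have h2 : sr i ≠ - -sr j := by
    rw [neg_neg]
    intro h1
    have h2 := congrFun h1 i
    rw [sr_self, sr_ne hij] at h2
    exact one_ne_zero h2
  have h3 := R.comm (sr i) (-sr j) (isRoot_sr cs h i) (isRoot_sr cs h j).neg h1 h2 a ha b hb
  have h4 : btw cs h X (sr i) (-sr j) = ⊥ := by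
    rw [eq_bot_iff]
    refine iSup_le ?_
    rintro ⟨z, hr, m, c, d, hm, hc, hd, he⟩
    exfalso
    have e1 := congrFun he i
    have e2 := congrFun he j
    rw [Pi.smul_apply, Pi.add_apply, Pi.smul_apply, Pi.smul_apply, Pi.neg_apply, smul_eq_mul, smul_eq_mul,
      smul_eq_mul, sr_self, sr_ne hij, neg_zero, mul_zero, add_zero, mul_one] at e1
    rw [Pi.smul_apply, Pi.add_apply, Pi.smul_apply, Pi.smul_apply, Pi.neg_apply, smul_eq_mul, smul_eq_mul,
      smul_eq_mul, sr_self, sr_ne hij.symm, mul_zero, zero_add, mul_neg, mul_one] at e2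
    have e3 : 0 < z i := by
      by_contra hcon
      push Not at hcon
      have := mul_nonpos_of_nonneg_of_nonpos hm.le hcon
      omega
    have e4 : z j < 0 := by
      by_contra hcon
      push Not at hcon
      have := mul_nonneg hm.le hcon
      omega
    rcases hr.pos_or_neg with h5 | h5
    · exact absurd (h5 j) (not_le.2 e4)
    · exact absurd (h5 i) (not_le.2 e3)
  rw [h4, Subgroup.mem_bot, commutatorElement_eq_one_iff_mul_comm] at h3
  exact h3

end

/-- `β` acts on the groups `X_{±α_i}` by the permutation `σ` of the diagram. -/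
structure Diag (T : Subgroup Y) (X : (I → ℤ) → Subgroup Y) (β : MulAut Y) (σ : Equiv.Perm I) : Prop where
  tor : Fix β T
  pos : ∀ i x, β x ∈ X (sr (σ i)) ↔ x ∈ X (sr i)
  neg : ∀ i x, β x ∈ X (-sr (σ i)) ↔ x ∈ X (-sr i)

theorem Diag.inv {β : MulAut Y} {σ : Equiv.Perm I} (D : Diag T X β σ) : Diag T X β⁻¹ σ⁻¹ where
  tor := D.tor.inv
  pos i x := by
    have h1 : σ (σ⁻¹ i) = i := σ.apply_symm_apply i
    rw [← D.pos, h1, MulAut.apply_inv_self]
  neg i x := by
    have h1 : σ (σ⁻¹ i) = i := σ.apply_symm_apply i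
    rw [← D.neg, h1, MulAut.apply_inv_self]

theorem Diag.mul {β β' : MulAut Y} {σ σ' : Equiv.Perm I} (D : Diag T X β σ) (D' : Diag T X β' σ') :
    Diag T X (β * β') (σ * σ') where
  tor := D.tor.mul D'.tor
  pos i x := by
    rw [MulAut.mul_apply, Equiv.Perm.mul_apply, D.pos, D'.pos]
  neg i x := by
    rw [MulAut.mul_apply, Equiv.Perm.mul_apply, D.neg, D'.neg]

theorem Diag.one : Diag T X (1 : MulAut Y) (1 : Equiv.Perm I) where
  tor _ := Iff.rfl
  pos _ _ := Iff.rfl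
  neg _ _ := Iff.rfl

theorem Diag.pow {β : MulAut Y} {σ : Equiv.Perm I} (D : Diag T X β σ) (k : ℕ) : Diag T X (β ^ k) (σ ^ k) := by
  induction k with
  | zero => rw [pow_zero, pow_zero]; exact Diag.one
  | succ k ih => rw [pow_succ, pow_succ]; exact ih.mul D

theorem Diag.opp {β : MulAut Y} {σ : Equiv.Perm I} (D : Diag T X β σ) : Diag T (fun x => X (-x)) β σ where
  tor := D.tor
  pos i x := D.neg i x
  neg i x := by
    have := D.pos i x
    change β x ∈ X (- -sr (σ i)) ↔ x ∈ X (- -sr i)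
    rwa [neg_neg, neg_neg]

section

variable (R : RGD cs h p T n X)

include R

/-- **The diagram symmetry.** -/
theorem exists_diag [Finite W] (hG : GG cs h T X = ⊤) {β : MulAut Y} (hU : Fix β (RGD.Sup X (RGD.Pos cs h)))
    (hUN : Fix β (UN cs h X)) : ∃ σ : Equiv.Perm I, Diag T X β σ := by
  have hB := fix_B R hG hU
  have hG' : GG cs h T (fun x => X (-x)) = ⊤ := by rw [GG_opp, hG]
  have hBN : Fix β (BN cs h T X) := by
    have := fix_B (opp R) hG' (α := β) (by rw [U_opp]; exact hUN)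
    rwa [B_opp] at this
  have hT := fix_T R hB hBN
  obtain ⟨σ, hσ⟩ := exists_perm R hG hB
  obtain ⟨τ, hτ⟩ := exists_perm (opp R) hG' (β := β) (by rw [B_opp]; exact hBN)
  simp only [PJ_opp] at hτ
  have hneg : ∀ i x, β x ∈ X (-sr (σ i)) ↔ x ∈ X (-sr i) := by
    intro i x
    rw [← X_neg_sr_eq R, ← X_neg_sr_eq R, Subgroup.mem_inf, Subgroup.mem_inf, hUN, hσ]
  have hpos : ∀ i x, β x ∈ X (sr (τ i)) ↔ x ∈ X (sr i) := by
    intro i x
    rw [← X_sr_eq R, ← X_sr_eq R, Subgroup.mem_inf, Subgroup.mem_inf, hU, hτ]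
  have hst : ∀ i, τ i = σ i := by
    intro i
    by_contra hne
    apply R.notp i
    have h1 : ∀ a ∈ X (sr i), ∀ b ∈ X (-sr i), Commute a b := by
      intro a ha b hb
      have h2 := commute_pos_neg R hne ((hpos i a).2 ha) ((hneg i b).2 hb)
      have h3 : β (a * b) = β (b * a) := by rw [map_mul, map_mul]; exact h2
      exact β.injective h3
    have h2 : X (sr i) ≤ Subgroup.normalizer (X (-sr i) : Set Y) := by
      intro a ha
      rw [Subgroup.mem_normalizer_iff]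
      intro b
      constructor
      · intro hb
        rw [(h1 a ha b hb).eq, mul_inv_cancel_right]
        exact hb
      · intro hb
        have h3 := (h1 a⁻¹ (inv_mem ha) _ hb).eq
        have h4 : b = a⁻¹ * (a * b * a⁻¹) * a := by group
        rw [h4, h3]
        have h5 : a * b * a⁻¹ * a⁻¹ * a = a * b * a⁻¹ := by group
        rw [h5]
        exact hb
    exact IsPGroup.to_sup_of_normal_right' (R.pgrp i) (R.pgrp' (isRoot_sr cs h i).neg) h2
  refine ⟨σ, hT, fun i x => ?_, hneg⟩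
  rw [← hst]
  exact hpos i x

/-- An element of `X α_j` normalising `X (-α_j)` is trivial. -/
theorem eq_one_of_norm [Finite W] {j : I} {b : Y} (hb : b ∈ X (sr j))
    (hn : ∀ y ∈ X (-sr j), b * y * b⁻¹ ∈ X (-sr j)) : b = 1 := by
  by_contra hb1
  have hb' : b ∈ X (- -sr j) := by rw [neg_neg]; exact hb
  obtain ⟨a, ha, t, ht, c, hc, e⟩ := (opp R).rk1 j b hb' hb1
  obtain ⟨⟨y, hy⟩, hy1⟩ := Subgroup.ne_bot_iff_exists_ne_one.1 (X_ne_bot R (isRoot_sr cs h j).neg)
  apply hy1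
  apply Subtype.ext
  show y = 1
  have h1 := hn (c⁻¹ * y * c) (mul_mem (mul_mem (inv_mem hc) hy) hc)
  have e1 : b * (c⁻¹ * y * c) * b⁻¹ = a * (t * n j * y * (t * n j)⁻¹) * a⁻¹ := by rw [e]; group
  rw [e1] at h1
  have h2 : t * n j * y * (t * n j)⁻¹ ∈ X (-sr j) := by
    have := mul_mem (mul_mem (inv_mem ha) h1) ha
    have e2 : a⁻¹ * (a * (t * n j * y * (t * n j)⁻¹) * a⁻¹) * a = t * n j * y * (t * n j)⁻¹ := by group
    rwa [e2] at this
  have hk : Rp cs R.nsys (cs.simple j) (t * n j) := by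
    have := (rp_of_mem (cs := cs) (hN := R.nsys) ht).mul (rp_simple cs R.nsys j)
    rwa [one_mul] at this
  have h3 : t * n j * y * (t * n j)⁻¹ ∈ X (sr j) := by
    have := R.conj_mem hk (isRoot_sr cs h j).neg hy
    rwa [map_neg, rep_simple_sr, neg_neg] at this
  have hne : sr j ≠ -sr j := by
    intro h4
    have h5 := congrFun h4 j
    rw [sr_self, Pi.neg_apply, sr_self] at h5
    exact absurd h5 (by decide)
  have h4 : t * n j * y * (t * n j)⁻¹ = 1 := by
    have h5 := X_inf_X R (isRoot_sr cs h j) (isRoot_sr cs h j).neg hne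
    rw [Subgroup.eq_bot_iff_forall] at h5
    exact h5 _ ⟨h3, h2⟩
  exact mul_eq_left.1 (mul_inv_eq_one.1 h4)

variable {R} in
theorem Diag.rp [Finite W] {β : MulAut Y} {σ : Equiv.Perm I} (D : Diag T X β σ) (i : I) :
    Rp cs R.nsys (cs.simple (σ i)) (β (n i)) := by
  obtain ⟨u, hu, hu1⟩ := exists_ne_one R i
  have h1 : n i * u * (n i)⁻¹ ∈ X (-sr i) := by
    have := R.conj_mem (rp_simple cs R.nsys i) (isRoot_sr cs h i) hu
    rwa [rep_simple_sr] at this
  have h2 : n i * u * (n i)⁻¹ ≠ 1 := fun h3 => hu1 (mul_eq_left.1 (mul_inv_eq_one.1 h3))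
  obtain ⟨v, hv⟩ : ∃ v, v = n i * u * (n i)⁻¹ := ⟨_, rfl⟩
  rw [← hv] at h1 h2
  obtain ⟨a, ha, t, ht, b, hb, e⟩ := R.rk1 i _ h1 h2
  have hβv : β v ≠ 1 := fun h3 => h2 (β.injective (by rw [h3, map_one]))
  obtain ⟨a', ha', t', ht', b', hb', e'⟩ := R.rk1 (σ i) _ ((D.neg i v).2 h1) hβv
  obtain ⟨s, hs⟩ : ∃ s, s = (β t)⁻¹ := ⟨_, rfl⟩
  have hsT : s ∈ T := by rw [hs]; exact inv_mem ((D.tor t).2 ht)
  obtain ⟨c, hc⟩ : ∃ c, c = s * ((β a)⁻¹ * a') * s⁻¹ := ⟨_, rfl⟩
  have hcX : c ∈ X (sr (σ i)) := by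
    have h3 : (β a)⁻¹ * a' ∈ X (sr (σ i)) := mul_mem (inv_mem ((D.pos i a).2 ha)) ha'
    rw [hc, ← R.tor _ (isRoot_sr cs h (σ i)) s hsT]
    exact conj_mem_cj.2 h3
  obtain ⟨d, hd⟩ : ∃ d, d = b' * (β b)⁻¹ := ⟨_, rfl⟩
  have hdX : d ∈ X (sr (σ i)) := by rw [hd]; exact mul_mem hb' (inv_mem ((D.pos i b).2 hb))
  obtain ⟨k, hk⟩ : ∃ k, k = s * t' * n (σ i) := ⟨_, rfl⟩
  have hkR : Rp cs R.nsys (cs.simple (σ i)) k := by
    have := (rp_of_mem (cs := cs) (hN := R.nsys) (mul_mem hsT ht')).mul (rp_simple cs R.nsys (σ i))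
    rwa [one_mul, ← hk] at this
  have key : β (n i) = c * k * d := by
    have e1 : n i = t⁻¹ * a⁻¹ * v * b⁻¹ := by
      rw [e]; group
    rw [e1, map_mul, map_mul, map_mul, map_inv, map_inv, map_inv, e', ← hs, hc, hk, hd]
    group
  -- `d = 1`
  have hd1 : d = 1 := by
    apply eq_one_of_norm R hdX
    intro y hy
    have h3 : β⁻¹ y ∈ X (-sr i) := (D.neg i _).1 (by rwa [MulAut.apply_inv_self])
    have h4 : n i * β⁻¹ y * (n i)⁻¹ ∈ X (sr i) := by
      have := R.conj_mem (rp_simple cs R.nsys i) (isRoot_sr cs h i).neg h3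
      rwa [map_neg, rep_simple_sr, neg_neg] at this
    have h5 := (D.pos i _).2 h4
    rw [map_mul, map_mul, map_inv, MulAut.apply_inv_self, key] at h5
    have h6 : k * (d * y * d⁻¹) * k⁻¹ ∈ X (sr (σ i)) := by
      have := mul_mem (mul_mem (inv_mem hcX) h5) hcX
      have e2 : c⁻¹ * (c * k * d * y * (c * k * d)⁻¹) * c = k * (d * y * d⁻¹) * k⁻¹ := by group
      rwa [e2] at this
    have h7 := R.conj_mem' hkR (isRoot_sr cs h (σ i)) h6
    rw [inv_simple, rep_simple_sr] at h7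
    have e3 : k⁻¹ * (k * (d * y * d⁻¹) * k⁻¹) * k = d * y * d⁻¹ := by group
    rwa [e3] at h7
  -- `c = 1`
  have hc1 : c = 1 := by
    apply eq_one_of_norm R hcX
    intro y hy
    have h3 : k⁻¹ * y * k ∈ X (sr (σ i)) := by
      have := R.conj_mem' hkR (isRoot_sr cs h (σ i)).neg hy
      rwa [inv_simple, map_neg, rep_simple_sr, neg_neg] at this
    have h4 : β⁻¹ (k⁻¹ * y * k) ∈ X (sr i) := (D.pos i _).1 (by rwa [MulAut.apply_inv_self])
    have h5 : n i * β⁻¹ (k⁻¹ * y * k) * (n i)⁻¹ ∈ X (-sr i) := by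
      have := R.conj_mem (rp_simple cs R.nsys i) (isRoot_sr cs h i) h4
      rwa [rep_simple_sr] at this
    have h6 := (D.neg i _).2 h5
    rw [map_mul, map_mul, map_inv, MulAut.apply_inv_self, key, hd1] at h6
    have e2 : c * k * 1 * (k⁻¹ * y * k) * (c * k * 1)⁻¹ = c * y * c⁻¹ := by group
    rwa [e2] at h6
  rw [key, hc1, hd1, one_mul, mul_one]
  exact hkR

variable {R} in
theorem Diag.dvd [Finite W] {β : MulAut Y} {σ : Equiv.Perm I} (D : Diag T X β σ) (i j : I) :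
    M (σ i) (σ j) ∣ M i j := by
  rw [← LieRecognition.CoxForm.orderOf_eq cs (σ i) (σ j)]
  apply orderOf_dvd_of_pow_eq_one
  have h1 : (n i * n j) ^ M i j ∈ T := R.nsys.rel i j
  have h2 := (D.tor _).2 h1
  rw [map_pow, map_mul] at h2
  exact R.eq_one_of_mem_B (rp_pow ((D.rp (R := R) i).mul (D.rp (R := R) j)) (M i j)) (RGD.T_le_B h2)

include R in
/-- **The permutation is a symmetry of the Coxeter diagram.** -/
theorem Diag.matrix [Finite W] {β : MulAut Y} {σ : Equiv.Perm I} (D : Diag T X β σ) (i j : I) :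
    M (σ i) (σ j) = M i j := by
  apply Nat.dvd_antisymm (D.dvd (R := R) i j)
  have := D.inv.dvd (R := R) (σ i) (σ j)
  rwa [show σ⁻¹ (σ i) = i from σ.symm_apply_apply i, show σ⁻¹ (σ j) = j from σ.symm_apply_apply j] at this

end

/-! ### the action on the Weyl group and on the roots -/

/-- The automorphism of `W` induced by a symmetry of the diagram. -/
noncomputable def hat (cs : CoxeterSystem M W) (σ : Equiv.Perm I) (hσ : ∀ i j, M (σ i) (σ j) = M i j) : W →* W :=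
  cs.lift ⟨fun i => cs.simple (σ i), fun i j => by
    rw [← hσ i j]; exact cs.simple_mul_simple_pow (σ i) (σ j)⟩

theorem hat_simple (σ : Equiv.Perm I) (hσ : ∀ i j, M (σ i) (σ j) = M i j) (i : I) :
    hat cs σ hσ (cs.simple i) = cs.simple (σ i) := cs.lift_apply_simple _ i

section

variable (R : RGD cs h p T n X)

include R

variable {R} in
theorem Diag.rp' [Finite W] {β : MulAut Y} {σ : Equiv.Perm I} (D : Diag T X β σ)
    (hσ : ∀ i j, M (σ i) (σ j) = M i j) {w : W} {g : Y} (hg : Rp cs R.nsys w g) :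
    Rp cs R.nsys (hat cs σ hσ w) (β g) := by
  obtain ⟨ω, rfl⟩ := cs.wordProd_surjective w
  induction ω generalizing g with
  | nil =>
    rw [wordProd_nil] at hg ⊢
    rw [map_one]
    exact rp_of_mem ((D.tor g).2 hg.mem_of_one)
  | cons i ω ih =>
    rw [wordProd_cons] at hg ⊢
    have h1 : Rp cs R.nsys (cs.wordProd ω) ((n i)⁻¹ * g) := by
      have := (rp_simple cs R.nsys i).inv.mul hg
      rwa [inv_mul_cancel_left] at this
    have h2 := (D.rp (R := R) i).mul (ih h1)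
    have e : β (n i) * β ((n i)⁻¹ * g) = β g := by rw [map_mul, map_inv, mul_inv_cancel_left]
    rw [e] at h2
    rwa [map_mul, hat_simple]

/-- **The action on the root groups.** -/
theorem Diag.root [Finite W] {β : MulAut Y} {σ : Equiv.Perm I} (D : Diag T X β σ)
    (hσ : ∀ i j, M (σ i) (σ j) = M i j) (w : W) (i : I) (x : Y) :
    β x ∈ X (rep cs h (hat cs σ hσ w) (sr (σ i))) ↔ x ∈ X (rep cs h w (sr i)) := by
  obtain ⟨k, hk⟩ := exists_rp cs R.nsys w
  rw [← R.conj_rp hk (isRoot_sr cs h i), ← R.conj_rp (D.rp' (R := R) hσ hk) (isRoot_sr cs h (σ i)), mem_cj, mem_cj,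
    ← map_inv, ← map_mul, ← map_mul, D.pos]

/-- The action on the roots. -/
theorem Diag.exists_rootMap [Finite W] {β : MulAut Y} {σ : Equiv.Perm I} (D : Diag T X β σ)
    (hσ : ∀ i j, M (σ i) (σ j) = M i j) : ∃ ρ : (I → ℤ) → (I → ℤ),
      (∀ x, IsRoot cs h x → IsRoot cs h (ρ x) ∧ ∀ y, β y ∈ X (ρ x) ↔ y ∈ X x) ∧
      (∀ w i, ρ (rep cs h w (sr i)) = rep cs h (hat cs σ hσ w) (sr (σ i))) ∧
      (∀ x, IsRoot cs h x → ρ (-x) = -ρ x) := by
  classical
  have hex : ∀ x, ∃ x', IsRoot cs h x → IsRoot cs h x' ∧ ∀ y, β y ∈ X x' ↔ y ∈ X x := by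
    intro x
    by_cases hx : IsRoot cs h x
    · obtain ⟨w, i, rfl⟩ := hx
      exact ⟨_, fun _ => ⟨⟨_, _, rfl⟩, D.root R hσ w i⟩⟩
    · exact ⟨0, fun h1 => absurd h1 hx⟩
  choose ρ hρ using hex
  have huniq : ∀ x, IsRoot cs h x → ∀ z, IsRoot cs h z → (∀ y, β y ∈ X z ↔ y ∈ X x) → ρ x = z := by
    intro x hx z hz h1
    apply X_injective R (hρ x hx).1 hz
    ext y
    have h2 := (hρ x hx).2 (β⁻¹ y)
    have h3 := h1 (β⁻¹ y)
    rw [MulAut.apply_inv_self] at h2 h3
    rw [h2, h3]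
  have h2 : ∀ w i, ρ (rep cs h w (sr i)) = rep cs h (hat cs σ hσ w) (sr (σ i)) := fun w i =>
    huniq _ ⟨w, i, rfl⟩ _ ⟨_, _, rfl⟩ (D.root R hσ w i)
  refine ⟨ρ, fun x hx => hρ x hx, h2, ?_⟩
  rintro x ⟨w, i, rfl⟩
  have e1 : -rep cs h w (sr i) = rep cs h (w * cs.simple i) (sr i) := by
    rw [rep_mul_apply, rep_simple_sr, map_neg]
  rw [e1, h2, h2, map_mul, hat_simple, rep_mul_apply, rep_simple_sr, map_neg]

end

/-- If `σ` preserves the Cartan matrix, `β` acts on the roots by permuting the coordinates. -/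
theorem pairing_comp {σ : Equiv.Perm I} (hA : ∀ i j, A (σ i) (σ j) = A i j) (i : I) (x : I → ℤ) :
    pairing A (σ i) (x ∘ σ.symm) = pairing A i x := by
  unfold pairing
  rw [← Equiv.sum_comp σ]
  refine Finset.sum_congr rfl fun k _ => ?_
  rw [hA, Function.comp_apply, Equiv.symm_apply_apply]

theorem sr_comp (σ : Equiv.Perm I) (i : I) : (sr i : I → ℤ) ∘ σ.symm = sr (σ i) := by
  funext k
  rw [Function.comp_apply]
  by_cases hk : k = σ i
  · subst hk
    rw [Equiv.symm_apply_apply, sr_self, sr_self]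
  · rw [sr_ne (fun h1 => hk (by rw [← h1, Equiv.apply_symm_apply])), sr_ne hk]

theorem rep_hat {σ : Equiv.Perm I} (hσ : ∀ i j, M (σ i) (σ j) = M i j) (hA : ∀ i j, A (σ i) (σ j) = A i j) (w : W)
    (x : I → ℤ) : rep cs h (hat cs σ hσ w) (x ∘ σ.symm) = rep cs h w x ∘ σ.symm := by
  obtain ⟨ω, rfl⟩ := cs.wordProd_surjective w
  induction ω with
  | nil => rw [wordProd_nil, map_one, map_one, Module.End.one_apply, Module.End.one_apply]
  | cons i ω ih =>
    rw [wordProd_cons, map_mul, hat_simple, rep_mul_apply, rep_mul_apply, ih, rep_simple_eq, rep_simple_eq,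
      pairing_comp hA, ← sr_comp]
    rfl

theorem Diag.root_comp (R : RGD cs h p T n X) [Finite W] {β : MulAut Y} {σ : Equiv.Perm I} (D : Diag T X β σ)
    (hA : ∀ i j, A (σ i) (σ j) = A i j) {r : I → ℤ} (hr : IsRoot cs h r) (x : Y) :
    β x ∈ X (r ∘ σ.symm) ↔ x ∈ X r := by
  obtain ⟨w, i, rfl⟩ := hr
  have hσ := D.matrix R
  rw [← rep_hat hσ hA, sr_comp]
  exact D.root R hσ w i x

end Cfsg.Agent.KFacts.RgdDiag
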