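import Mathlib
import Cfsg.Agent.KFacts.RgdDiag

/-!
# Automorphisms of groups with a root group datum: rigidity

* `Sup_le_of_simple` : the groups `X_{±α_i}` generate all root groups;
* `eq_one_of_fix` : an automorphism fixing `U`, `U⁻` and trivial on all `X_{α_i}` is trivial;
* `exists_frame_pow` : the frame automorphism `conj u * α` satisfies `α ^ k = 1 → (conj u * α) ^ k = 1`;
* `Frame` : the group of automorphisms fixing `U` and `U⁻`.
-/

set_option autoImplicit false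
set_option linter.unusedSectionVars false

namespace Cfsg.Agent.KFacts.RgdRigid

open CoxeterSystem Cfsg.Agent.ChevalleyStructure.CoxeterGeom Cfsg.Agent.Tits.Roots Cfsg.Agent.Tits.Core
  Cfsg.Agent.Tits.Exchange Cfsg.Agent.Nodes.Reps Cfsg.Agent.Nodes.BNOf Cfsg.Agent.Nodes.StabComb
  Cfsg.Agent.Nodes.Bruhat Cfsg.Agent.Nodes.OppDec Cfsg.Agent.Nodes.LeviDec Cfsg.Agent.Nodes.NormalForm
  Cfsg.Agent.KFacts.RgdOpp Cfsg.Agent.KFacts.RgdAut Cfsg.Agent.KFacts.RgdDiag
open scoped commutatorElement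

variable {I W Y : Type*} [Fintype I] [DecidableEq I] [Group W] [Group Y] {M : CoxeterMatrix I}
  {cs : CoxeterSystem M W} {A : I → I → ℤ} {h : IsCartan M A} {p : ℕ} {T : Subgroup Y} {n : I → Y}
  {X : (I → ℤ) → Subgroup Y}

theorem GG_eq_top (hG1 : RGD.Sup X {x | IsRoot cs h x} = ⊤) : GG cs h T X = ⊤ := by
  unfold GG
  rw [hG1, sup_top_eq]

section

variable (R : RGD cs h p T n X)

include R

/-- `n i` lies in `T X_i X_{-i} X_i` -/
theorem exists_n_eq (i : I) : ∃ t ∈ T, ∃ a ∈ X (sr i), ∃ v ∈ X (-sr i), ∃ b ∈ X (sr i), n i = t * a * v * b := by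
  obtain ⟨u, hu, hu1⟩ := exists_ne_one R i
  have h1 : n i * u * (n i)⁻¹ ∈ X (-sr i) := by
    have := R.conj_mem (rp_simple cs R.nsys i) (isRoot_sr cs h i) hu
    rwa [rep_simple_sr] at this
  have h2 : n i * u * (n i)⁻¹ ≠ 1 := fun h3 => hu1 (mul_eq_left.1 (mul_inv_eq_one.1 h3))
  obtain ⟨v, hv⟩ : ∃ v, v = n i * u * (n i)⁻¹ := ⟨_, rfl⟩
  rw [← hv] at h1 h2
  obtain ⟨a, ha, t, ht, b, hb, e⟩ := R.rk1 i _ h1 h2
  refine ⟨t⁻¹, inv_mem ht, a⁻¹, inv_mem ha, v, h1, b⁻¹, inv_mem hb, ?_⟩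
  rw [e]; group

/-- A subgroup containing the groups `X_{±α_i}` and normalised by `T` contains all root groups. -/
theorem Sup_le_of_simple' {H : Subgroup Y} (hT : T ≤ Subgroup.normalizer (H : Set Y)) (hpos : ∀ i, X (sr i) ≤ H)
    (hneg : ∀ i, X (-sr i) ≤ H) : RGD.Sup X {x | IsRoot cs h x} ≤ H := by
  have hn : ∀ i, n i ∈ Subgroup.normalizer (H : Set Y) := by
    intro i
    obtain ⟨t, ht, a, ha, v, hv, b, hb, e⟩ := exists_n_eq R i
    rw [e]
    exact mul_mem (mul_mem (mul_mem (hT ht) (Subgroup.le_normalizer (hpos i ha)))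
      (Subgroup.le_normalizer (hneg i hv))) (Subgroup.le_normalizer (hpos i hb))
  refine RGD.Sup_le ?_
  rintro x ⟨w, i, rfl⟩
  obtain ⟨ω, rfl⟩ := cs.wordProd_surjective w
  induction ω with
  | nil => rw [wordProd_nil, map_one, Module.End.one_apply]; exact hpos i
  | cons j ω ih =>
    rw [wordProd_cons, rep_mul_apply, ← R.conj j _ ⟨_, _, rfl⟩]
    have h1 := cj_mono (n j) ih
    rwa [mem_normalizer_iff_cj.1 (hn j)] at h1

/-- **The groups `X_{±α_i}` generate.** -/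
theorem Sup_eq_simple : RGD.Sup X {x | IsRoot cs h x} = ⨆ i, (X (sr i) ⊔ X (-sr i)) := by
  apply le_antisymm
  · refine Sup_le_of_simple' R ?_ (fun i => ?_) (fun i => ?_)
    · intro t ht
      rw [mem_normalizer_iff_cj, cj_iSup]
      congr 1
      funext i
      rw [cj_sup, R.tor _ (isRoot_sr cs h i) t ht, R.tor _ (isRoot_sr cs h i).neg t ht]
    · exact le_trans le_sup_left (le_iSup (fun i => X (sr i) ⊔ X (-sr i)) i)
    · exact le_trans le_sup_right (le_iSup (fun i => X (sr i) ⊔ X (-sr i)) i)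
  · refine iSup_le fun i => sup_le ?_ ?_
    · exact RGD.le_Sup (S := {x | IsRoot cs h x}) (isRoot_sr cs h i)
    · exact RGD.le_Sup (S := {x | IsRoot cs h x}) (isRoot_sr cs h i).neg

/-- A subgroup containing the groups `X_{±α_i}` contains all root groups. -/
theorem Sup_le_of_simple {H : Subgroup Y} (hpos : ∀ i, X (sr i) ≤ H) (hneg : ∀ i, X (-sr i) ≤ H) :
    RGD.Sup X {x | IsRoot cs h x} ≤ H := by
  rw [Sup_eq_simple R]
  exact iSup_le fun i => sup_le (hpos i) (hneg i)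

/-- A `p`-element of `T` is trivial. -/
theorem eq_one_of_mem_T [Finite W] {t : Y} (ht : t ∈ T) {k : ℕ} (hk : t ^ p ^ k = 1) : t = 1 := by
  have h1 := R.mem_U_of_mem_B (RGD.T_le_B ht) hk
  have h2 := U_inf_T R
  rw [Subgroup.eq_bot_iff_forall] at h2
  exact h2 t ⟨h1, ht⟩

/-- **Rigidity**: a frame automorphism acting trivially on the groups `X_{α_i}` is trivial. -/
theorem Diag.apply_neg [Finite W] {β : MulAut Y} (D : Diag T X β 1) {i : I} (hpos : ∀ x ∈ X (sr i), β x = x)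
    {x : Y} (hx : x ∈ X (-sr i)) : β x = x := by
  by_cases hx1 : x = 1
  · rw [hx1, map_one]
  obtain ⟨a, ha, t, ht, b, hb, e⟩ := R.rk1 i _ hx hx1
  have hk : Rp cs R.nsys (cs.simple i) (t * n i) := by
    have := (rp_of_mem (cs := cs) (hN := R.nsys) ht).mul (rp_simple cs R.nsys i)
    rwa [one_mul] at this
  have hβk : Rp cs R.nsys (cs.simple i) (β (t * n i)) := by
    have := (rp_of_mem (cs := cs) (hN := R.nsys) ((D.tor t).2 ht)).mul (D.rp (R := R) i)
    rwa [one_mul, Equiv.Perm.one_apply, ← map_mul] at this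
  obtain ⟨s, hs⟩ : ∃ s, s = (t * n i)⁻¹ * β (t * n i) := ⟨_, rfl⟩
  have hsT : s ∈ T := by rw [hs]; exact hk.unique hβk
  have e1 : β x = x * (b⁻¹ * s * b) := by
    rw [e, mul_assoc a t (n i), map_mul, map_mul, hpos a ha, hpos b hb, hs]
    group
  have h1 : b⁻¹ * s * b ∈ X (-sr i) := by
    have h2 : b⁻¹ * s * b = x⁻¹ * β x := by rw [e1]; group
    rw [h2]
    have h3 := (D.neg i x).2 hx
    rw [Equiv.Perm.one_apply] at h3
    exact mul_mem (inv_mem hx) h3
  obtain ⟨k, hk'⟩ := R.pgrp' (isRoot_sr cs h i).neg ⟨_, h1⟩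
  have h2 : (b⁻¹ * s * b) ^ p ^ k = 1 := by simpa using congrArg Subtype.val hk'
  have h3 : s ^ p ^ k = 1 := by
    have h4 : (b⁻¹ * s * b) ^ p ^ k = b⁻¹ * s ^ p ^ k * b := by
      have := conj_pow (i := p ^ k) (a := b⁻¹) (b := s)
      rwa [inv_inv] at this
    rw [h4] at h2
    have h5 : s ^ p ^ k = b * (b⁻¹ * s ^ p ^ k * b) * b⁻¹ := by group
    rw [h5, h2]; group
  have h4 := eq_one_of_mem_T R hsT h3
  rw [e1, h4]; group

theorem Diag.eq_one [Finite W] (hG1 : RGD.Sup X {x | IsRoot cs h x} = ⊤) {β : MulAut Y} (D : Diag T X β 1)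
    (hpos : ∀ i, ∀ x ∈ X (sr i), β x = x) : β = 1 := by
  have h1 : RGD.Sup X {x | IsRoot cs h x} ≤ β.toMonoidHom.eqLocus (MonoidHom.id Y) :=
    Sup_le_of_simple R (fun i x hx => hpos i x hx) (fun i x hx => Diag.apply_neg R D (hpos i) hx)
  rw [hG1, top_le_iff] at h1
  ext x
  have h2 : x ∈ β.toMonoidHom.eqLocus (MonoidHom.id Y) := by rw [h1]; exact Subgroup.mem_top x
  exact h2

/-- The permutation of an automorphism fixing a nontrivial element of `X (sr i)`. -/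
theorem Diag.apply_eq [Finite W] {β : MulAut Y} {σ : Equiv.Perm I} (D : Diag T X β σ) {i : I} {x : Y}
    (hx : x ∈ X (sr i)) (hx1 : x ≠ 1) (he : β x = x) : σ i = i := by
  by_contra hne
  apply hx1
  have h1 := (D.pos i x).2 hx
  rw [he] at h1
  have h2 : sr (σ i) ≠ (sr i : I → ℤ) := by
    intro h3
    have h4 := congrFun h3 i
    rw [sr_self, sr_ne (Ne.symm hne)] at h4
    exact zero_ne_one h4
  have h3 := X_inf_X R (isRoot_sr cs h (σ i)) (isRoot_sr cs h i) h2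
  rw [Subgroup.eq_bot_iff_forall] at h3
  exact h3 x ⟨h1, hx⟩

/-- **Rigidity.** -/
theorem eq_one_of_fix [Finite W] (hG1 : RGD.Sup X {x | IsRoot cs h x} = ⊤) {β : MulAut Y}
    (hU : Fix β (RGD.Sup X (RGD.Pos cs h))) (hUN : Fix β (UN cs h X)) (hpos : ∀ i, ∀ x ∈ X (sr i), β x = x) :
    β = 1 := by
  obtain ⟨σ, D⟩ := exists_diag R (GG_eq_top hG1) hU hUN
  have hσ : σ = 1 := by
    ext i
    obtain ⟨u, hu, hu1⟩ := exists_ne_one R i
    exact Diag.apply_eq R D hu hu1 (hpos i u hu)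
  subst hσ
  exact Diag.eq_one R hG1 D hpos

/-! ### powers -/

omit R in
theorem conj_mul_pow {H : Subgroup Y} {α : MulAut Y} (hα : Fix α H) {u : Y} (hu : u ∈ H) (k : ℕ) :
    ∃ v ∈ H, (MulAut.conj u * α) ^ k = MulAut.conj v * α ^ k := by
  induction k with
  | zero => exact ⟨1, one_mem _, by rw [pow_zero, pow_zero, map_one, one_mul]⟩
  | succ k ih =>
    obtain ⟨v, hv, e⟩ := ih
    refine ⟨u * α v, mul_mem hu ((hα v).2 hv), ?_⟩
    rw [pow_succ', e, pow_succ']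
    ext x
    simp only [MulAut.mul_apply, MulAut.conj_apply, map_mul, map_inv, mul_inv_rev, mul_assoc]

/-- The normaliser of `U⁻`. -/
theorem normalizer_UN [Finite W] (hG : GG cs h T X = ⊤) : Subgroup.normalizer (UN cs h X : Set Y) = BN cs h T X := by
  have := normalizer_U' (opp R) (by rw [GG_opp, hG])
  rwa [U_opp, B_opp] at this

/-- An element of `U` normalising `U⁻` is trivial. -/
theorem eq_one_of_mem_U_of_norm [Finite W] (hG : GG cs h T X = ⊤) {u : Y} (hu : u ∈ RGD.Sup X (RGD.Pos cs h))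
    (hN : u ∈ Subgroup.normalizer (UN cs h X : Set Y)) : u = 1 := by
  rw [normalizer_UN R hG] at hN
  exact eq_one_of_mem_U_of_mem_BN R hu hN

/-- An inner automorphism by an element of `U` fixing `U⁻` is trivial. -/
theorem eq_one_of_fix_conj [Finite W] (hG : GG cs h T X = ⊤) {u : Y} (hu : u ∈ RGD.Sup X (RGD.Pos cs h))
    (hN : Fix (MulAut.conj u) (UN cs h X)) : u = 1 := by
  apply eq_one_of_mem_U_of_norm R hG hu
  rw [Subgroup.mem_normalizer_iff]
  intro x
  rw [← MulAut.conj_apply]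
  exact (hN x).symm

/-- Orders are preserved when passing to the frame. -/
theorem pow_eq_one_of_frame [Finite W] (hG : GG cs h T X = ⊤) {α : MulAut Y}
    (hα : Fix α (RGD.Sup X (RGD.Pos cs h))) {u : Y} (hu : u ∈ RGD.Sup X (RGD.Pos cs h))
    (hN : Fix (MulAut.conj u * α) (UN cs h X)) {k : ℕ} (hk : α ^ k = 1) : (MulAut.conj u * α) ^ k = 1 := by
  obtain ⟨v, hv, e⟩ := conj_mul_pow hα hu k
  have h1 : Fix ((MulAut.conj u * α) ^ k) (UN cs h X) := by
    generalize k = m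
    induction m with
    | zero => intro x; rw [pow_zero]; rfl
    | succ m ih => rw [pow_succ]; exact ih.mul hN
  rw [e, hk, mul_one] at h1
  rw [e, hk, mul_one, eq_one_of_fix_conj R hG hv h1, map_one]

/-- **The frame, with orders.** -/
theorem exists_frame_pow [Finite W] (hG : GG cs h T X = ⊤) {α : MulAut Y}
    (hα : Fix α (RGD.Sup X (RGD.Pos cs h))) :
    ∃ u ∈ RGD.Sup X (RGD.Pos cs h), Fix (MulAut.conj u * α) (RGD.Sup X (RGD.Pos cs h)) ∧
      Fix (MulAut.conj u * α) (UN cs h X) ∧ (∀ k : ℕ, α ^ k = 1 → (MulAut.conj u * α) ^ k = 1) ∧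
      ∃ σ : Equiv.Perm I, Diag T X (MulAut.conj u * α) σ := by
  obtain ⟨u, hu, hU, -, hUN, -, -⟩ := exists_frame R hG hα
  exact ⟨u, hu, hU, hUN, fun k hk => pow_eq_one_of_frame R hG hα hu hUN hk, exists_diag R hG hU hUN⟩

/-- The element of `U` is unique. -/
theorem frame_unique [Finite W] (hG : GG cs h T X = ⊤) {α : MulAut Y} {u v : Y}
    (hu : u ∈ RGD.Sup X (RGD.Pos cs h)) (hv : v ∈ RGD.Sup X (RGD.Pos cs h))
    (hN : Fix (MulAut.conj u * α) (UN cs h X)) (hN' : Fix (MulAut.conj v * α) (UN cs h X)) : u = v := by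
  have h1 := hN.mul hN'.inv
  have h2 : MulAut.conj u * α * (MulAut.conj v * α)⁻¹ = MulAut.conj (u * v⁻¹) := by
    rw [mul_inv_rev, map_mul, map_inv]; group
  rw [h2] at h1
  exact mul_inv_eq_one.1 (eq_one_of_fix_conj R hG (mul_mem hu (inv_mem hv)) h1)

end

/-- The group of the automorphisms fixing `U` and `U⁻`. -/
def Frame (cs : CoxeterSystem M W) (h : IsCartan M A) (X : (I → ℤ) → Subgroup Y) : Subgroup (MulAut Y) where
  carrier := {β | Fix β (RGD.Sup X (RGD.Pos cs h)) ∧ Fix β (UN cs h X)}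
  mul_mem' ha hb := ⟨ha.1.mul hb.1, ha.2.mul hb.2⟩
  one_mem' := ⟨fun _ => Iff.rfl, fun _ => Iff.rfl⟩
  inv_mem' ha := ⟨ha.1.inv, ha.2.inv⟩

theorem mem_Frame {β : MulAut Y} :
    β ∈ Frame cs h X ↔ Fix β (RGD.Sup X (RGD.Pos cs h)) ∧ Fix β (UN cs h X) := Iff.rfl

end Cfsg.Agent.KFacts.RgdRigid
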