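import Cfsg.Agent.KFacts.LargeAut
import Cfsg.Agent.OddHalf.D8.Sheet
import Cfsg.Agent.Schreier.Basic

/-!
# The sheet of type (E) from `Large Q z`, `P = C_K(z)` perfect

`sheetE`: all the fields of `SheetE z C_K(z) Q` from the facts proved by kernel computation in `K`.
-/

set_option autoImplicit false

namespace Cfsg.Agent.KFacts.SheetOf

open Subgroup Cfsg.Agent.Co2Type.Quad Cfsg.Agent.KFacts.LargeO2 Cfsg.Agent.OddHalf

variable {K : Type*} [Group K] {Q : Subgroup K} {z : K}

/-- the derived series becomes stationary -/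
theorem exists_perfect [Finite K] (H : Subgroup K) : ∃ n, ⁅TR.dser n H, TR.dser n H⁆ = TR.dser n H := by
  by_contra hcon
  push Not at hcon
  have h1 : ∀ n, Nat.card (TR.dser n H) + n ≤ Nat.card H := by
    intro n
    induction n with
    | zero => exact le_rfl
    | succ n ih =>
      have h2 : TR.dser (n + 1) H < TR.dser n H := by
        rw [TR.dser_succ']
        exact lt_of_le_of_ne ((Subgroup.commutator_le.2 fun a ha b hb => Subgroup.mul_mem _ (Subgroup.mul_mem _ (Subgroup.mul_mem _ ha hb) (Subgroup.inv_mem _ ha)) (Subgroup.inv_mem _ hb))) (hcon n)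
      have h3 : Nat.card (TR.dser (n + 1) H) < Nat.card (TR.dser n H) := by
        apply lt_of_not_ge
        intro h4
        exact absurd (Subgroup.eq_of_le_of_card_ge h2.le h4) h2.ne
      omega
  have h2 := h1 (Nat.card H + 1)
  omega

/-- the Schreier property in the form of the sheet -/
theorem schreier_of_sch [Finite K] (h : Schreier.Basic.Sch K) :
    ∃ n, TR.dser n (⊤ : Subgroup (MulAut K)) ≤ (MulAut.conj : K →* MulAut K).range := by
  have : Finite (MulAut K) := inferInstance
  obtain ⟨n, hn⟩ := exists_perfect (⊤ : Subgroup (MulAut K))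
  exact ⟨n, h _ hn⟩

/-- a Sylow 2-subgroup of `K` inside `C_K(z)`, of odd index -/
theorem exists_sylow [Finite K] (C : Subgroup K) (hodd : Odd C.index) :
    ∃ S : Sylow 2 K, (S : Subgroup K) ≤ C := by
  have : Fact (Nat.Prime 2) := ⟨Nat.prime_two⟩
  obtain ⟨T⟩ : Nonempty (Sylow 2 C) := inferInstance
  have hcT : Nat.card ((T : Subgroup C).map C.subtype) = 2 ^ (Nat.card C).factorization 2 := by
    rw [Nat.card_congr ((T : Subgroup C).equivMapOfInjective C.subtype C.subtype_injective).symm.toEquiv]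
    exact T.card_eq_multiplicity
  have hf : (Nat.card K).factorization 2 = (Nat.card C).factorization 2 := by
    rw [← C.card_mul_index, Nat.factorization_mul Nat.card_pos.ne' C.index_ne_zero_of_finite,
      Finsupp.add_apply]
    have : C.index.factorization 2 = 0 := by
      apply Nat.factorization_eq_zero_of_not_dvd
      intro h2
      exact (Nat.not_even_iff_odd.2 hodd) (even_iff_two_dvd.2 h2)
    omega
  refine ⟨Sylow.ofCard ((T : Subgroup C).map C.subtype) (by rw [hcT, hf]), ?_⟩
  rintro _ ⟨x, -, rfl⟩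
  exact x.2

/-- **The sheet of type (E)** for `P = C_K(z)`. -/
theorem sheetE [Finite K] (h : Large Q z) (hirr : Irr Q z)
    (hperf : commutator (centralizer ({z} : Set K)) = ⊤)
    (hodd : Odd (centralizer ({z} : Set K)).index)
    (hna : ∃ a ∈ Q, ∃ b ∈ Q, a * b ≠ b * a)
    {v : K} (hv : v ∈ Q) (hv1 : v ≠ 1) (hvz : v ≠ z) {D : Set K} (hD : ∀ d ∈ D, d * z = z * d)
    (hfix : ∀ x ∈ Q, (∀ d ∈ D, d * x * d⁻¹ = x ∨ d * x * d⁻¹ = x * z) →
      x = 1 ∨ x = z ∨ x = v ∨ x = v * z)
    (hvD : ∀ d ∈ D, d * v * d⁻¹ = v ∨ d * v * d⁻¹ = v * z)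
    (hT : ∀ β : MulAut K, (∀ c : K, c * z = z * c → β c = c) → β = 1 ∨ β = MulAut.conj z)
    (hout : ¬ 4 ∣ (MulAut.conj : K →* MulAut K).range.index) (hsch : Schreier.Basic.Sch K)
    {k : K} (hk : (k * z * k⁻¹) * z = z * (k * z * k⁻¹)) (hkQ : k * z * k⁻¹ ∉ Q)
    (hw : ∀ hkz : k⁻¹ * z * k ∈ centralizer ({z} : Set K),
      ∀ β : MulAut (centralizer ({z} : Set K)), (β ⟨z, mem_centralizer_singleton_iff.2 rfl⟩ : K) = z →
      ∃ p : K, p * z = z * p ∧ (β ⟨k⁻¹ * z * k, hkz⟩ : K) = p * (k⁻¹ * z * k) * p⁻¹) :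
    D8.Sheet.SheetE z (centralizer ({z} : Set K)) Q where
  zz := h.z_sq
  z1 := h.z_ne
  syl := by
    obtain ⟨S, hS⟩ := exists_sylow _ hodd
    have hQ2 : IsPGroup 2 Q := by
      intro x
      refine ⟨2, Subtype.ext ?_⟩
      show (x : K) ^ (2 ^ 2) = 1
      have e : (x : K) ^ (2 ^ 2) = (x * x : K) * (x * x) := by
        rw [show (2 : ℕ) ^ 2 = 4 by norm_num, pow_succ, pow_succ, pow_succ, pow_one]; group
      rw [e]
      rcases h.sq x x.2 with h1 | h1
      · rw [h1, one_mul]
      · rw [h1, h.z_sq]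
    have hnorm : (S : Subgroup K) ≤ normalizer (Q : Set K) := by
      intro s hs
      have hsz : s * z = z * s := mem_centralizer_singleton_iff.1 (hS hs)
      have hsz' : s⁻¹ * z = z * s⁻¹ := by
        rw [inv_mul_eq_iff_eq_mul, ← mul_assoc, hsz, mul_assoc, mul_inv_cancel, mul_one]
      rw [mem_normalizer_iff]
      intro r
      constructor
      · exact fun hr => h.conj_mem s hsz r hr
      · intro hr
        have h1 := h.conj_mem s⁻¹ hsz' _ hr
        have e : s⁻¹ * (s * r * s⁻¹) * s⁻¹⁻¹ = r := by group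
        rwa [e] at h1
    have h2 : IsPGroup 2 ((S : Subgroup K) ⊔ Q : Subgroup K) :=
      S.isPGroup'.to_sup_of_normal_right' hQ2 hnorm
    have h3 := S.is_maximal' h2 le_sup_left
    have hQS : Q ≤ S := (le_sup_right : Q ≤ (S : Subgroup K) ⊔ Q).trans h3.le
    refine ⟨S, hQS h.z_mem, fun x hx => mem_centralizer_singleton_iff.1 (hS hx), ?_⟩
    intro y _ hy
    have hyz : y * z = z * y := (hy z (hQS h.z_mem)).symm
    have hyQ : ∀ x ∈ Q, y * x = x * y := fun x hx => (hy x (hQS hx)).symm
    exact h.cent y (h.self y hyz hyQ) hyQ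
  cen x hx := mem_centralizer_singleton_iff.1 hx
  perf := by
    rw [_root_.commutator_def] at hperf
    have h2 := congrArg (Subgroup.map (centralizer ({z} : Set K)).subtype) hperf
    rw [Subgroup.map_commutator, ← MonoidHom.range_eq_map, Subgroup.range_subtype] at h2
    exact h2
  der := ⟨0, le_rfl⟩
  out := hout
  schreier := schreier_of_sch hsch
  zR := h.z_mem
  RP := fun x hx => mem_centralizer_singleton_iff.2 (h.comm_z x hx)
  R2 := by
    intro x
    refine ⟨2, Subtype.ext ?_⟩
    show (x : K) ^ (2 ^ 2) = 1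
    have e : (x : K) ^ (2 ^ 2) = (x * x : K) * (x * x) := by
      rw [show (2 : ℕ) ^ 2 = 4 by norm_num, pow_succ, pow_succ, pow_succ, pow_one]; group
    rw [e]
    rcases h.sq x x.2 with h1 | h1
    · rw [h1, one_mul]
    · rw [h1, h.z_sq]
  Rn x hx r hr := h.conj_mem x (mem_centralizer_singleton_iff.1 hx) r hr
  Rmax B hB hB2 hBn := by
    refine le_of_normal h hirr ⟨v, hv, hv1, hvz⟩ hB2
      (fun w hw => mem_centralizer_singleton_iff.1 (hB hw)) ?_
    intro u hu w hw
    exact hBn u (mem_centralizer_singleton_iff.2 hu) w hw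
  Rmin B hB hBn := hirr B hB fun u hu y hy => hBn u (mem_centralizer_singleton_iff.2 hu) y hy
  Rna := hna
  cR x hx hc := h.self x (mem_centralizer_singleton_iff.1 hx) hc
  aut := by
    intro α _ hαz hα
    have hf : ∀ f : centralizer ({z} : Set K) →* ℤˣ, ∀ u, f u = 1 := by
      intro f u
      have h1 : commutator (centralizer ({z} : Set K)) ≤ f.ker := Abelianization.commutator_subset_ker f
      rw [hperf] at h1
      exact h1 (Subgroup.mem_top u)
    refine LargeAut.exists_conj h hirr hf hT hv hv1 hvz hD hfix hvD hαz ?_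
    intro u hu
    have h1 := h.conj_mem u hu _ (hα u (mem_centralizer_singleton_iff.2 hu))
    have e : u * (u⁻¹ * α u) * u⁻¹ = α u * u⁻¹ := by group
    rwa [e] at h1
  ytrick := by
    have hkz : k⁻¹ * z * k ∈ centralizer ({z} : Set K) := by
      rw [mem_centralizer_singleton_iff]
      calc k⁻¹ * z * k * z = k⁻¹ * (z * (k * z * k⁻¹)) * k := by group
        _ = k⁻¹ * ((k * z * k⁻¹) * z) * k := by rw [hk]
        _ = z * (k⁻¹ * z * k) := by group
    refine ⟨k, mem_centralizer_singleton_iff.2 hk, hkQ, hkz, ?_⟩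
    intro β hβ
    exact hw hkz β hβ

end Cfsg.Agent.KFacts.SheetOf
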