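import Cfsg.Agent.KFacts.J3Model

/-!
# Facts on `J₃` (helper206)

`exists_facts`: a group `K` isomorphic to `J₃` has an involution `z` with `C(z) = 2^{1+4}_-.A₅` (a model with the five classes `v i`),
one class of involutions, an element `n : z ↦ v₀ ↦ z v₀`, and `K` is generated by `C(z)` and `n`.
-/

set_option autoImplicit false

namespace Cfsg.Agent.KFacts.J3

open Cfsg.Spor Cfsg.Agent.J2Type.Model Cfsg.Agent.J3Type.OneClass Cfsg.Agent.KFacts.J3W Subgroup
open Cfsg.Agent.J3.Core Cfsg.Agent.J3.Elts Cfsg.Agent.J2Type.CStruct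

/-- the involution `z` with its model, `n` and `u` -/
structure Facts {K : Type*} [Group K] (z : K) (Q : Subgroup (centralizer ({z} : Set K)))
    (v : Fin 5 → centralizer ({z} : Set K)) (ρ : centralizer ({z} : Set K) →* SP) (n : K)
    (u : centralizer ({z} : Set K)) : Prop where
  card_K : Nat.card K = 50232960
  card_C : Nat.card (centralizer ({z} : Set K)) = 1920
  model : IsModel Q (zc z) v ρ
  one : ∀ t : K, t ≠ 1 → t * t = 1 → ∃ g : K, g * z * g⁻¹ = t
  nz : n * z * n⁻¹ = (v 0 : K)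
  nv : n * (v 0 : K) * n⁻¹ = z * (v 0 : K)
  gen : closure ({c : K | c * z = z * c} ∪ {n}) = ⊤
  u_sq : u * u = 1
  u_not : u ∉ Q

theorem exists_facts {K : Type*} [Group K] (h : IsoJ3 K) :
    IsSimpleGroup K ∧ ∃ z Q v ρ n u, Facts (K := K) z Q v ρ n u := by
  obtain ⟨F, _, _, ω, hF, hω, ⟨e⟩⟩ := h
  have H := good_of_card hF hω
  obtain ⟨G⟩ := exists_gens hF H
  let f : threeJ3 F ω →* K := e.symm.toMonoidHom.comp (QuotientGroup.mk' (center (threeJ3 F ω)))
  have hf : Function.Surjective f := e.symm.surjective.comp (QuotientGroup.mk'_surjective _)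
  have hk : f.ker = center _ := by
    ext x
    rw [MonoidHom.mem_ker]
    show e.symm (QuotientGroup.mk' _ x) = 1 ↔ _
    rw [map_eq_one_iff _ e.symm.injective]
    exact QuotientGroup.eq_one_iff x
  have hs : IsSimpleGroup K := by
    have := Cfsg.Agent.J3.Simple.simple_J3 hF H
    have : Nontrivial K := e.toEquiv.nontrivial
    exact IsSimpleGroup.isSimpleGroup_of_surjective e.symm.toMonoidHom e.symm.surjective
  refine ⟨hs, ?_⟩
  have hcK := card_K hF H hf hk
  have hfin : Finite K := by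
    apply Nat.finite_of_card_ne_zero
    rw [hcK]; norm_num
  obtain ⟨⟨-, hcard, -⟩, Q, ρ, M⟩ := j3_model (G := G) hF H hf hk
  let u : centralizer ({f (zz G)} : Set K) := ⟨f (uu G), mem_centralizer_singleton_iff.2 (hmul (uz H))⟩
  have hconj : ∀ {x : threeJ3 F ω}, (∃ g, g * zz G = x * g) → ∃ g : K, g * f (zz G) * g⁻¹ = f x := by
    rintro x ⟨g, hg⟩
    refine ⟨f g, ?_⟩
    rw [← map_mul, hg, map_mul, mul_inv_cancel_right]
  have huv : ∀ i, u * (⟨f (vv G i), mem_centralizer_singleton_iff.2 (hmul (vz H i))⟩ : centralizer ({f (zz G)} : Set K)) =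
      zp (zc (f (zz G))) (sg (Cfsg.Agent.J3.Tab.get 0 ua i)) *
      (⟨f (vv G ((Equiv.swap 0 3 * Equiv.swap 2 4 : Equiv.Perm (Fin 5)) i)),
        mem_centralizer_singleton_iff.2 (hmul (vz H _))⟩ : centralizer ({f (zz G)} : Set K)) * u := by
    intro i
    apply Subtype.ext
    have h1 := congrArg f (ua_eq (G := G) H i)
    rw [map_mul, map_mul, map_mul, f_zp] at h1
    have h2 : ∀ a, ((zp (zc (f (zz G))) a : centralizer ({f (zz G)} : Set K)) : K) = zp (f (zz G)) a := by
      intro a
      rcases zmod2_cases a with rfl | rfl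
      · rw [zp_zero, zp_zero]; rfl
      · rw [zp_one, zp_one]
    show f (uu G) * f (vv G i) = ((zp (zc (f (zz G))) (sg (Cfsg.Agent.J3.Tab.get 0 ua i)) : centralizer ({f (zz G)} : Set K)) : K) *
      f (vv G _) * f (uu G)
    rw [h2]
    exact h1
  have huQ : u ∉ Q := by
    rw [M.mem_Q]
    intro h1
    have h2 := M.conj u 0
    rw [mul_inv_eq_iff_eq_mul, huv 0, h1] at h2
    have h3 := (M.v_inj _ _ _ _ (mul_right_cancel h2)).2
    exact absurd h3 (by decide)
  have huu : u * u = 1 := by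
    -- `u` is conjugate to `z`
    obtain ⟨g, hg⟩ := hconj (uconj (G := G) H)
    apply Subtype.ext
    show f (uu G) * f (uu G) = 1
    rw [← hg]
    have hzz : f (zz G) * f (zz G) = 1 := by rw [← map_mul, zsq H, map_one]
    calc g * f (zz G) * g⁻¹ * (g * f (zz G) * g⁻¹) = g * (f (zz G) * f (zz G)) * g⁻¹ := by group
      _ = 1 := by rw [hzz]; group
  have hidx : ¬ 2 ∣ (centralizer ({f (zz G)} : Set K)).index := by
    have h1 := Subgroup.card_mul_index (centralizer ({f (zz G)} : Set K))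
    rw [hcard, hcK] at h1
    omega
  refine ⟨f (zz G), Q, _, ρ, f (nn G), u, hcK, hcard, M, ?_, ?_, ?_, ?_, huu, huQ⟩
  · intro t ht1 htt
    exact OneClassOf.one_class hidx M (hconj (vconj (G := G) H 0)) huu huQ (hconj (uconj (G := G) H)) ht1 htt
  · show f (nn G) * f (zz G) * (f (nn G))⁻¹ = f (vv G 0)
    rw [← map_mul, nz H, map_mul, mul_inv_cancel_right]
  · show f (nn G) * f (vv G 0) * (f (nn G))⁻¹ = f (zz G) * f (vv G 0)
    rw [← map_mul, nv H, map_mul, map_mul, mul_inv_cancel_right]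
  · rw [eq_top_iff]
    have h1 : (closure ({c : K | c * f (zz G) = f (zz G) * c} ∪ {f (nn G)})).comap f = ⊤ := by
      apply gen_top (G := G) hF H
      · intro c hc
        exact subset_closure (Or.inl (hmul hc))
      · exact subset_closure (Or.inr rfl)
    intro x _
    obtain ⟨g, rfl⟩ := hf x
    have : g ∈ (closure ({c : K | c * f (zz G) = f (zz G) * c} ∪ {f (nn G)})).comap f := by rw [h1]; trivial
    exact this

end Cfsg.Agent.KFacts.J3
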