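import Cfsg.Agent.KFacts.Codes

/-!
# Orbit certificates for the conjugation action on a coded subgroup

`run f t m`: the mask `m` enlarged along the edges `(k, a) ↦ f k a` of the list `t`. `step_le`: one step of a
stabiliser chain; `irr`: invariant subgroups.
-/

set_option autoImplicit false

namespace Cfsg.Agent.KFacts.Orbits

open Cfsg.Agent.LargeExtra.Model Cfsg.Agent.LargeExtra.Pres Cfsg.Agent.KFacts.Codes
  Cfsg.Agent.Lib.PermNetOrbit

variable {K : Type*} [Group K]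

/-- enlarge a mask along edges -/
def run (f : ℕ → ℕ → ℕ) : List (ℕ × ℕ) → ℕ → ℕ
  | [], m => m
  | e :: t, m => run f t (if m.testBit e.2 = true then m ||| 2 ^ f e.1 e.2 else m)

theorem run_spec {f : ℕ → ℕ → ℕ} {P : ℕ → Prop} (hf : ∀ k a, P a → P (f k a)) :
    ∀ (t : List (ℕ × ℕ)) (m : ℕ), (∀ b, m.testBit b = true → P b) →
      ∀ b, (run f t m).testBit b = true → P b := by
  intro t
  induction t with
  | nil => intro m hm b hb; exact hm b hb
  | cons e t ih =>
    intro m hm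
    apply ih
    intro b hb
    by_cases h1 : m.testBit e.2 = true
    · rw [if_pos h1, Nat.testBit_or, Bool.or_eq_true] at hb
      rcases hb with hb | hb
      · exact hm b hb
      · rw [Nat.testBit_two_pow, decide_eq_true_eq] at hb
        rw [← hb]
        exact hf _ _ (hm _ h1)
    · rw [if_neg h1] at hb
      exact hm b hb

/-- the orbit of `cod r` under `H` contains the elements of the mask -/
theorem run_conj {f : ℕ → ℕ → ℕ} {C : ℕ → K} {H : Subgroup K}
    (hf : ∀ k, ∃ h ∈ H, ∀ c, h * C c * h⁻¹ = C (f k c)) (t : List (ℕ × ℕ)) (r : ℕ) :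
    ∀ b, (run f t (2 ^ r)).testBit b = true → ∃ h ∈ H, h * C r * h⁻¹ = C b := by
  apply run_spec (P := fun b => ∃ h ∈ H, h * C r * h⁻¹ = C b)
  · rintro k a ⟨h, hh, h1⟩
    obtain ⟨g, hg, h2⟩ := hf k
    refine ⟨g * h, H.mul_mem hg hh, ?_⟩
    rw [← h2, ← h1]; group
  · intro b hb
    rw [Nat.testBit_two_pow, decide_eq_true_eq] at hb
    subst hb
    exact ⟨1, H.one_mem, by group⟩

/-- orbit-stabiliser inequality for conjugation -/
theorem orbit_le [Finite K] (H : Subgroup K) (r : K) (S : Finset ℕ) (C : ℕ → K)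
    (hC : ∀ a ∈ S, ∀ b ∈ S, C a = C b → a = b) (hS : ∀ b ∈ S, ∃ h ∈ H, h * r * h⁻¹ = C b) :
    S.card * Nat.card (H ⊓ Subgroup.centralizer ({r} : Set K) : Subgroup K) ≤ Nat.card H := by
  classical
  choose! u hu hur using hS
  have hle : ∀ y : S × (H ⊓ Subgroup.centralizer ({r} : Set K) : Subgroup K), u y.1 * y.2 ∈ H := by
    rintro ⟨t, s⟩
    exact H.mul_mem (hu t t.2) s.2.1
  have hs : ∀ s : (H ⊓ Subgroup.centralizer ({r} : Set K) : Subgroup K),
      (s : K) * r * (s : K)⁻¹ = r := by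
    intro s
    have := Subgroup.mem_centralizer_singleton_iff.1 s.2.2
    rw [this, mul_inv_cancel_right]
  have hinj : Function.Injective
      (fun y : S × (H ⊓ Subgroup.centralizer ({r} : Set K) : Subgroup K) =>
        (⟨u y.1 * y.2, hle y⟩ : H)) := by
    rintro ⟨t, s⟩ ⟨t', s'⟩ h
    simp only [Subtype.mk.injEq] at h
    have h1 : C t = C t' := by
      rw [← hur t t.2, ← hur t' t'.2]
      calc u t * r * (u t)⁻¹ = (u t * s) * (s : K)⁻¹ * r * ((s : K)⁻¹)⁻¹ * (u t * s)⁻¹ := by group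
        _ = (u t * s) * r * (u t * s)⁻¹ := by
            have := hs s
            have h2 : (s : K)⁻¹ * r * ((s : K)⁻¹)⁻¹ = r := by
              rw [inv_inv]
              calc (s : K)⁻¹ * r * s = (s : K)⁻¹ * ((s : K) * r * (s : K)⁻¹) * s := by rw [this]
                _ = r := by group
            calc (u t * s) * (s : K)⁻¹ * r * ((s : K)⁻¹)⁻¹ * (u t * s)⁻¹
                = (u t * s) * ((s : K)⁻¹ * r * ((s : K)⁻¹)⁻¹) * (u t * s)⁻¹ := by group
              _ = _ := by rw [h2]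
        _ = (u t' * s') * r * (u t' * s')⁻¹ := by rw [h]
        _ = u t' * (s' * r * (s' : K)⁻¹) * (u t')⁻¹ := by group
        _ = u t' * r * (u t')⁻¹ := by rw [hs s']
    have h2 : t = t' := Subtype.ext (hC t t.2 t' t'.2 h1)
    subst h2
    have h3 : (s : K) = s' := mul_left_cancel h
    rw [Subtype.ext h3]
  have := Nat.card_le_card_of_injective _ hinj
  rwa [Nat.card_prod, Nat.card_eq_fintype_card, Fintype.card_coe] at this

variable {B : ℕ → ℕ} {n : ℕ} {z : K} {x : ℕ → K}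

/-- **One step of a stabiliser chain.** -/
theorem step_le [Finite K] (h : Rels B n z x) (hB : Tri B n) (hN : Nondeg B n) (hz : z ≠ 1)
    {f : ℕ → ℕ → ℕ} {H : Subgroup K}
    (hf : ∀ k, ∃ g ∈ H, ∀ c, g * cod n z x c * g⁻¹ = cod n z x (f k c)) (t : List (ℕ × ℕ)) (r N : ℕ)
    (hlt : run f t (2 ^ r) < 2 ^ 2 ^ (n + 1)) (hm : N ≤ pc (n + 1) (run f t (2 ^ r))) :
    N * Nat.card (H ⊓ Subgroup.centralizer ({cod n z x r} : Set K) : Subgroup K) ≤ Nat.card H := by
  rw [pc_eq _ _ hlt] at hm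
  refine le_trans (Nat.mul_le_mul_right _ hm) (orbit_le H _ _ (cod n z x) ?_ ?_)
  · intro a ha b hb
    exact cod_injOn h hB hN hz (mem_bits.1 ha).1 (mem_bits.1 hb).1
  · intro b hb
    exact run_conj hf t r b (mem_bits.1 hb).2

/-! ### Words -/

/-- product of a word -/
def gw (g : ℕ → K) : List ℕ → K
  | [] => 1
  | k :: w => g k * gw g w

/-- action of a word on codes -/
def actw (A : ℕ → ℕ → ℕ) : List ℕ → ℕ → ℕ
  | [], c => c
  | k :: w, c => A k (actw A w c)

theorem gw_mem {g : ℕ → K} {P : Subgroup K} (hg : ∀ k, g k ∈ P) (w : List ℕ) : gw g w ∈ P := by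
  induction w with
  | nil => exact P.one_mem
  | cons k w ih => exact P.mul_mem (hg k) ih

theorem conj_word {g : ℕ → K} {C : ℕ → K} {A : ℕ → ℕ → ℕ}
    (h : ∀ k c, g k * C c * (g k)⁻¹ = C (A k c)) (w : List ℕ) (c : ℕ) :
    gw g w * C c * (gw g w)⁻¹ = C (actw A w c) := by
  induction w with
  | nil => show 1 * C c * 1⁻¹ = C c; group
  | cons k w ih =>
    show g k * gw g w * C c * (g k * gw g w)⁻¹ = C (A k (actw A w c))
    rw [← h, ← ih]; group

/-- `P` intersected with the centralisers of the elements with codes in `rs` -/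
def Hs (P : Subgroup K) (C : ℕ → K) : List ℕ → Subgroup K
  | [] => P
  | r :: rs => Hs P C rs ⊓ Subgroup.centralizer ({C r} : Set K)

theorem mem_Hs {P : Subgroup K} {C : ℕ → K} {rs : List ℕ} {g : K} (hg : g ∈ P)
    (h : ∀ r ∈ rs, g * C r * g⁻¹ = C r) : g ∈ Hs P C rs := by
  induction rs with
  | nil => exact hg
  | cons r rs ih =>
    refine Subgroup.mem_inf.2 ⟨ih (fun s hs => h s (List.mem_cons_of_mem _ hs)), ?_⟩
    rw [Subgroup.mem_centralizer_singleton_iff]
    exact mul_inv_eq_iff_eq_mul.1 (h r List.mem_cons_self)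

theorem centralizer_le_Hs {P : Subgroup K} {C : ℕ → K} {rs : List ℕ} {R : Set K}
    (h : ∀ r ∈ rs, C r ∈ R) : P ⊓ Subgroup.centralizer R ≤ Hs P C rs := by
  intro g hg
  apply mem_Hs hg.1
  intro r hr
  rw [mul_inv_eq_iff_eq_mul]
  exact (Subgroup.mem_centralizer_iff.1 hg.2 _ (h r hr)).symm

/-- the images of a stage as a function -/
def img (l : List ℕ) (i : ℕ) : ℕ := l.getD i 0

/-- action of the `k`-th element of a stage -/
def stf (B : ℕ → ℕ) (n : ℕ) (L : List (List ℕ × List ℕ)) (k c : ℕ) : ℕ :=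
  match L[k]? with
  | some p => act B n (img p.2) c
  | none => c

/-- check of a stage: the words have the given images, which fix the codes in `rs` -/
def StOk (B : ℕ → ℕ) (n : ℕ) (A : ℕ → ℕ → ℕ) (rs : List ℕ) (L : List (List ℕ × List ℕ)) : Prop :=
  ∀ p ∈ L, (∀ i < n, actw A p.1 (2 ^ i) = img p.2 i) ∧ ∀ r ∈ rs, act B n (img p.2) r = r

instance (B : ℕ → ℕ) (n : ℕ) (A : ℕ → ℕ → ℕ) (rs : List ℕ) (L : List (List ℕ × List ℕ)) :
    Decidable (StOk B n A rs L) := by unfold StOk; infer_instance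

theorem stage (h : Rels B n z x) (hB : Tri B n) {g : ℕ → K} {P : Subgroup K}
    {A : ℕ → ℕ → ℕ} (hgP : ∀ k, g k ∈ P) (hPz : ∀ u ∈ P, u * z = z * u)
    (hA : ∀ k c, g k * cod n z x c * (g k)⁻¹ = cod n z x (A k c))
    {rs : List ℕ} {L : List (List ℕ × List ℕ)} (hL : StOk B n A rs L) (k : ℕ) :
    ∃ u ∈ Hs P (cod n z x) rs, ∀ c, u * cod n z x c * u⁻¹ = cod n z x (stf B n L k c) := by
  unfold stf
  rcases hk : L[k]? with _ | p
  · refine ⟨1, Subgroup.one_mem _, fun c => ?_⟩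
    show 1 * cod n z x c * 1⁻¹ = cod n z x c
    group
  · have hp := hL p (List.mem_of_getElem? hk)
    have hc : ∀ c, gw g p.1 * cod n z x c * (gw g p.1)⁻¹ = cod n z x (act B n (img p.2) c) := by
      apply conj_cod h hB (hPz _ (gw_mem hgP _))
      intro i hi
      rw [← cod_pow (z := z) (x := x) hi, conj_word hA, hp.1 i hi]
    refine ⟨gw g p.1, mem_Hs (gw_mem hgP _) ?_, hc⟩
    intro r hr
    rw [hc, hp.2 r hr]

/-- check of one step of a chain -/
def ChOk (B : ℕ → ℕ) (n : ℕ) (A : ℕ → ℕ → ℕ) (rs : List ℕ) (r N : ℕ) (L : List (List ℕ × List ℕ))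
    (t : List (ℕ × ℕ)) : Prop :=
  StOk B n A rs L ∧ run (stf B n L) t (2 ^ r) < 2 ^ 2 ^ (n + 1) ∧
    N ≤ pc (n + 1) (run (stf B n L) t (2 ^ r))

noncomputable instance (B : ℕ → ℕ) (n : ℕ) (A : ℕ → ℕ → ℕ) (rs : List ℕ) (r N : ℕ)
    (L : List (List ℕ × List ℕ)) (t : List (ℕ × ℕ)) : Decidable (ChOk B n A rs r N L t) := by unfold ChOk; infer_instance

theorem chain_le [Finite K] (h : Rels B n z x) (hB : Tri B n) (hN : Nondeg B n) (hz : z ≠ 1)
    {g : ℕ → K} {P : Subgroup K}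
    {A : ℕ → ℕ → ℕ} (hgP : ∀ k, g k ∈ P) (hPz : ∀ u ∈ P, u * z = z * u)
    (hA : ∀ k c, g k * cod n z x c * (g k)⁻¹ = cod n z x (A k c))
    {rs : List ℕ} {r N : ℕ} {L : List (List ℕ × List ℕ)} {t : List (ℕ × ℕ)}
    (hL : ChOk B n A rs r N L t) :
    N * Nat.card (Hs P (cod n z x) (r :: rs)) ≤ Nat.card (Hs P (cod n z x) rs) :=
  step_le h hB hN hz (stage h hB hgP hPz hA hL.1) t r N hL.2.1 hL.2.2

/-! ### Invariant subgroups -/

/-- an invariant subgroup containing one element of an orbit contains the others -/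
theorem mem_of_mask {N P : Subgroup K} (hinv : ∀ u ∈ P, ∀ y ∈ N, u * y * u⁻¹ ∈ N) {C : ℕ → K}
    {f : ℕ → ℕ → ℕ} (hf : ∀ k, ∃ h ∈ P, ∀ c, h * C c * h⁻¹ = C (f k c)) (t : List (ℕ × ℕ)) (r : ℕ)
    {a b : ℕ} (ha : (run f t (2 ^ r)).testBit a = true) (hb : (run f t (2 ^ r)).testBit b = true)
    (hN : C a ∈ N) : C b ∈ N := by
  obtain ⟨u, hu, h1⟩ := run_conj hf t r a ha
  obtain ⟨v, hv, h2⟩ := run_conj hf t r b hb
  have h3 : C r ∈ N := by
    have := hinv _ (P.inv_mem hu) _ hN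
    rw [← h1] at this
    have e : u⁻¹ * (u * C r * u⁻¹) * u⁻¹⁻¹ = C r := by group
    rwa [e] at this
  rw [← h2]
  exact hinv v hv _ h3

/-- generation certificate for a mask: all generators are products of two elements of the mask -/
def GenOk (B : ℕ → ℕ) (n : ℕ) (M : ℕ) (l : List (ℕ × ℕ)) : Prop :=
  ∀ i < n + 1, M.testBit (l.getD i (0, 0)).1 = true ∧ M.testBit (l.getD i (0, 0)).2 = true ∧
    mulc B n (l.getD i (0, 0)).1 (l.getD i (0, 0)).2 = 2 ^ i

instance (B : ℕ → ℕ) (n : ℕ) (M : ℕ) (l : List (ℕ × ℕ)) : Decidable (GenOk B n M l) := by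
  unfold GenOk; infer_instance

theorem RG_le_of_gen (h : Rels B n z x) (hB : Tri B n) {N : Subgroup K} {M : ℕ}
    {l : List (ℕ × ℕ)} (hl : GenOk B n M l)
    (hM : ∀ b, M.testBit b = true → cod n z x b ∈ N) : RG n z x ≤ N := by
  have h1 : ∀ i < n + 1, cod n z x (2 ^ i) ∈ N := by
    intro i hi
    obtain ⟨ha, hb, hc⟩ := hl i hi
    rw [← hc, ← cod_mul h hB]
    exact N.mul_mem (hM _ ha) (hM _ hb)
  rw [RG, Subgroup.closure_le]
  rintro g (rfl | ⟨i, hi, rfl⟩)
  · have := h1 n (Nat.lt_succ_self n)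
    rwa [cod_z] at this
  · have := h1 i (Nat.lt_succ_of_lt hi)
    rwa [cod_pow hi] at this

/-- **Irreducibility.** Two orbits covering the noncentral elements, each generating. -/
theorem irr_two (h : Rels B n z x) (hB : Tri B n) {P N : Subgroup K}
    (hN : N ≤ RG n z x) (hinv : ∀ u ∈ P, ∀ y ∈ N, u * y * u⁻¹ ∈ N) {f : ℕ → ℕ → ℕ}
    (hf : ∀ k, ∃ u ∈ P, ∀ c, u * cod n z x c * u⁻¹ = cod n z x (f k c))
    (t t' : List (ℕ × ℕ)) (r r' : ℕ) (l l' : List (ℕ × ℕ))
    (hl : GenOk B n (run f t (2 ^ r)) l) (hl' : GenOk B n (run f t' (2 ^ r')) l')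
    (hcov : (run f t (2 ^ r) ||| run f t' (2 ^ r')) ||| (1 ||| 2 ^ (2 ^ n)) = 2 ^ 2 ^ (n + 1) - 1) :
    (∀ y ∈ N, y = 1 ∨ y = z) ∨ N = RG n z x := by
  by_cases hall : ∀ y ∈ N, y = 1 ∨ y = z
  · exact Or.inl hall
  · right
    apply le_antisymm hN
    push Not at hall
    obtain ⟨y, hy, hy1, hyz⟩ := hall
    obtain ⟨c, hc, rfl⟩ := (mem_RG h hB).1 (hN hy)
    have h1 : ((run f t (2 ^ r) ||| run f t' (2 ^ r')) ||| (1 ||| 2 ^ (2 ^ n))).testBit c = true := by
      rw [hcov, Nat.testBit_two_pow_sub_one, decide_eq_true_eq]; exact hc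
    rw [Nat.testBit_or, Nat.testBit_or, Nat.testBit_or, Bool.or_eq_true, Bool.or_eq_true,
      Bool.or_eq_true] at h1
    rcases h1 with (h1 | h1) | (h1 | h1)
    · exact RG_le_of_gen h hB hl fun b hb => mem_of_mask hinv hf t r h1 hb hy
    · exact RG_le_of_gen h hB hl' fun b hb => mem_of_mask hinv hf t' r' h1 hb hy
    · exfalso
      have : c = 0 := by
        have h2 : (1 : ℕ).testBit c = decide (0 = c) := by
          rw [show (1 : ℕ) = 2 ^ 0 by norm_num, Nat.testBit_two_pow]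
        rw [h2, decide_eq_true_eq] at h1
        exact h1.symm
      rw [this, cod_zero] at hy1
      exact hy1 rfl
    · exfalso
      rw [Nat.testBit_two_pow, decide_eq_true_eq] at h1
      rw [← h1, cod_z] at hyz
      exact hyz rfl

end Cfsg.Agent.KFacts.Orbits
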