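import Cfsg.Agent.KFacts.LargeE
import Cfsg.Agent.KFacts.OutQ
import Cfsg.Agent.Lib.FrattiniPGroup

/-!
# Automorphisms of a group with a large extraspecial subgroup (helper399)

`Large Q z`, `Irr Q z` (no `C_K(z)`-invariant subgroup strictly between `⟨z⟩` and `Q`), `C_K(z)` perfect,
`K = ⟨C_K(z), n₀⟩` with `n₀ z n₀⁻¹ ∈ Q`, `≠ z`. For `α : MulAut K`:

* `map_mem`     : `α z = z` implies `α Q ≤ Q`;
* `eq_conj`     : `α z = z`, `α` trivial on `Q/⟨z⟩` implies `α = conj x`, `x ∈ Q`;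
* `eq_one_or_conj` : (T1s) `α` trivial on `Q` implies `α = 1` or `α = conj z`;
* `eq_conj_of_comm` : (hC) `α z = z`, `[α, C_K(z)] ≤ Q` implies `α = conj x`, `x ∈ Q`;
* `exists_conj_z`   : if `C_K(z)` has odd index, `α z` is conjugate to `z`.
-/

set_option autoImplicit false

namespace Cfsg.Agent.KFacts.AutLarge

open Cfsg.Agent.Co2Type.Quad Cfsg.Agent.LargeExtra.Base
open scoped commutatorElement

variable {K : Type*} [Group K] {Q : Subgroup K} {z : K}

/-- no invariant subgroup strictly between `⟨z⟩` and `Q` -/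
def Irr (Q : Subgroup K) (z : K) : Prop :=
  ∀ N : Subgroup K, N ≤ Q → (∀ g : K, g * z = z * g → ∀ n ∈ N, g * n * g⁻¹ ∈ N) →
    (∀ n ∈ N, n = 1 ∨ n = z) ∨ N = Q

/-- equality modulo `⟨z⟩` -/
def Eqz (z x y : K) : Prop := x = y ∨ x = y * z

theorem eqz_refl (z x : K) : Eqz z x x := Or.inl rfl

theorem eqz_iff (h : Large Q z) {x y : K} (hx : x ∈ Q) (hy : y ∈ Q) :
    Eqz z x y ↔ h.pr ⟨x, hx⟩ = h.pr ⟨y, hy⟩ := (h.pr_eq_pr (x := ⟨x, hx⟩) (y := ⟨y, hy⟩)).symm

theorem Eqz.conj {x y c : K} (hc : c * z = z * c) (h : Eqz z x y) : Eqz z (c * x * c⁻¹) (c * y * c⁻¹) := by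
  rcases h with h | h
  · left; rw [h]
  · right
    rw [h]
    calc c * (y * z) * c⁻¹ = c * y * (z * c⁻¹) := by group
      _ = c * y * (c⁻¹ * z) := by
          congr 1
          rw [eq_inv_mul_iff_mul_eq, ← mul_assoc, hc, mul_assoc, mul_inv_cancel, mul_one]
      _ = c * y * c⁻¹ * z := by group

theorem Eqz.map {x y : K} {α : MulAut K} (hα : α z = z) (h : Eqz z x y) : Eqz z (α x) (α y) := by
  rcases h with h | h
  · left; rw [h]
  · right; rw [h, map_mul, hα]

theorem Eqz.conj_mem (h : Large Q z) {r x : K} (hr : r ∈ Q) (hx : x ∈ Q) : Eqz z (r * x * r⁻¹) x := by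
  rcases h.comm r hr x hx with h1 | h1
  · left; rw [h1]; group
  · right
    rw [h1]
    calc x * r * z * r⁻¹ = x * (r * z) * r⁻¹ := by group
      _ = x * (z * r) * r⁻¹ := by rw [h.comm_z r hr]
      _ = x * z := by group

theorem Eqz.trans (h : Large Q z) {x y w : K} (h1 : Eqz z x y) (h2 : Eqz z y w) : Eqz z x w := by
  rcases h1 with h1 | h1 <;> rcases h2 with h2 | h2
  · left; rw [h1, h2]
  · right; rw [h1, h2]
  · right; rw [h1, h2]
  · left; rw [h1, h2, mul_assoc, h.z_sq, mul_one]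

theorem Eqz.symm (h : Large Q z) {x y : K} (h1 : Eqz z x y) : Eqz z y x := by
  rcases h1 with h1 | h1
  · left; rw [h1]
  · right; rw [h1, mul_assoc, h.z_sq, mul_one]

/-- `Q` is extraspecial -/
theorem extraspecial [Finite K] (h : Large Q z) (hne : ∃ x ∈ Q, x ≠ 1 ∧ x ≠ z) : Cfsg.IsExtraspecial 2 Q := by
  have hfact : Fact (Nat.Prime 2) := ⟨Nat.prime_two⟩
  have hpG : IsPGroup 2 Q := isPGroup h
  have hcm : ∀ x y : Q, ⁅x, y⁆ ∈ Subgroup.center Q := by
    intro x y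
    rw [h.mem_center]
    have h1 : ((⁅x, y⁆ : Q) : K) = (x : K) * y * (x : K)⁻¹ * (y : K)⁻¹ := rfl
    rw [h1]
    rcases Eqz.conj_mem h x.2 y.2 with h2 | h2
    · left; rw [h2]; group
    · right
      rw [h2, h.comm_z y y.2]; group
  have hzle : ∀ N : Subgroup Q, (⟨z, h.z_mem⟩ : Q) ∈ N → Subgroup.center Q ≤ N := by
    intro N hN c hc
    rcases h.mem_center.1 hc with h1 | h1
    · rw [show c = 1 from Subtype.ext h1]; exact N.one_mem
    · rw [show c = ⟨z, h.z_mem⟩ from Subtype.ext h1]; exact hN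
  -- two elements that do not commute
  obtain ⟨x, hx, hx1, hxz⟩ := hne
  obtain ⟨y, hy, hxy⟩ := exists_not_comm h hx hx1 hxz
  have hcomm : ⁅(⟨x, hx⟩ : Q), (⟨y, hy⟩ : Q)⁆ = ⟨z, h.z_mem⟩ := by
    apply Subtype.ext
    show x * y * x⁻¹ * y⁻¹ = z
    rcases Eqz.conj_mem h hx hy with h2 | h2
    · exfalso
      have h3 : x * y = y * x := mul_inv_eq_iff_eq_mul.1 h2
      rw [h3, eq_comm, mul_eq_left] at hxy
      exact h.z_ne hxy
    · rw [h2, h.comm_z y hy]; group
  refine ⟨⟨hpG, ?_, ?_⟩, h.card_center⟩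
  · apply le_antisymm
    · apply Cfsg.Agent.Lib.FrattiniPGroup.frattini_le (p := 2) (Subgroup.center Q) hcm
      intro x
      rw [pow_two]
      exact h.sq_mem x
    · apply hzle
      -- some square is `z`
      by_contra hcon
      have hsq : ∀ x : Q, x * x = 1 := by
        intro x
        rcases h.sq x x.2 with h1 | h1
        · exact Subtype.ext h1
        · exfalso
          apply hcon
          have h2 := Cfsg.Agent.Lib.FrattiniPGroup.pow_mem_frattini hpG x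
          rw [pow_two] at h2
          have h3 : x * x = ⟨z, h.z_mem⟩ := Subtype.ext h1
          rwa [h3] at h2
      have h5 : ∀ a b : Q, a * b = b * a := by
        intro a b
        have h1 := hsq (a * b)
        have h2 := hsq a
        have h3 := hsq b
        calc a * b = a * ((a * b) * (a * b)) * b := by rw [h1, mul_one]
          _ = (a * a) * b * a * (b * b) := by group
          _ = b * a := by rw [h2, h3, one_mul, mul_one]
      have h6 : ⁅(⟨x, hx⟩ : Q), (⟨y, hy⟩ : Q)⁆ = 1 := by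
        rw [commutatorElement_eq_one_iff_mul_comm]
        exact h5 _ _
      rw [hcomm] at h6
      exact h.z_ne (congrArg Subtype.val h6)
  · apply le_antisymm
    · rw [_root_.commutator_def, Subgroup.commutator_le]
      intro x _ y _
      exact hcm x y
    · apply hzle
      rw [← hcomm, _root_.commutator_def]
      exact Subgroup.commutator_mem_commutator (Subgroup.mem_top _) (Subgroup.mem_top _)

/-- **(1)** an automorphism fixing `z` maps `Q` to `Q`. -/
theorem map_mem [Finite K] (h : Large Q z) (hirr : Irr Q z) (hne : ∃ x ∈ Q, x ≠ 1 ∧ x ≠ z) {α : MulAut K}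
    (hα : α z = z) {x : K} (hx : x ∈ Q) : α x ∈ Q := by
  classical
  have hfact : Fact (Nat.Prime 2) := ⟨Nat.prime_two⟩
  have hαi : α⁻¹ z = z := by
    rw [MulAut.inv_def, MulEquiv.symm_apply_eq, hα]
  set C : Subgroup K := Subgroup.centralizer ({z} : Set K) with hC
  have hmemC : ∀ {g : K}, g ∈ C ↔ g * z = z * g := fun {g} => Subgroup.mem_centralizer_singleton_iff
  -- the image of `Q` as a subgroup of `C`
  let T : Subgroup C := (Q.map α.toMonoidHom).comap C.subtype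
  have hT : ∀ t : C, t ∈ T ↔ ∃ q ∈ Q, α q = t := fun t => Iff.rfl
  have hTn : ∀ c : C, ∀ t ∈ T, c * t * c⁻¹ ∈ T := by
    intro c t ht
    obtain ⟨q, hq, hqt⟩ := (hT t).1 ht
    refine (hT _).2 ⟨α⁻¹ c * q * (α⁻¹ (c : K))⁻¹, h.conj_mem _ ?_ _ hq, ?_⟩
    · have h1 := congrArg (α⁻¹ : MulAut K) (hmemC.1 c.2)
      rwa [map_mul, map_mul, hαi] at h1
    · rw [map_mul, map_mul, map_inv, MulAut.apply_inv_self, hqt]
      rfl
  have hTp : IsPGroup 2 T := by
    have h1 : IsPGroup 2 (Q.map α.toMonoidHom) := (isPGroup h).map _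
    exact h1.comap_of_injective C.subtype Subtype.val_injective
  -- the fixed points
  let hact : MulAction T h.V := MulAction.compHom h.V (h.act.comp T.subtype)
  have hactd : ∀ (t : T) (v : h.V), t • v = h.act t v := fun t v => rfl
  have hfinV : Finite h.V := by unfold Large.V; infer_instance
  obtain ⟨x0, hx0, hx01, hx0z⟩ := hne
  have h2V : 2 ∣ Nat.card h.V := by
    have h1 : addOrderOf (h.pr ⟨x0, hx0⟩) = 2 := by
      rw [addOrderOf_eq_prime_iff]
      refine ⟨?_, fun h0 => ?_⟩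
      · rw [two_nsmul]; exact h.add_self _
      · rcases h.pr_eq_zero.1 h0 with h1 | h1
        · exact hx01 h1
        · exact hx0z h1
    rw [← h1]
    exact addOrderOf_dvd_natCard _
  have h0fix : (0 : h.V) ∈ MulAction.fixedPoints T h.V := fun t => by
    rw [hactd]; exact map_zero _
  obtain ⟨v, hv, hv0⟩ := hTp.exists_fixed_point_of_prime_dvd_card_of_fixed_point h.V h2V h0fix
  -- the subgroup of the elements fixed modulo `z`
  let F : Subgroup K :=
    { carrier := {y | ∃ hy : y ∈ Q, ∀ t : T, h.act t (h.pr ⟨y, hy⟩) = h.pr ⟨y, hy⟩}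
      one_mem' := ⟨Q.one_mem, fun t => by
        have : h.pr (⟨1, Q.one_mem⟩ : Q) = 0 := h.pr_one
        rw [this, map_zero]⟩
      mul_mem' := by
        rintro a b ⟨ha, ha'⟩ ⟨hb, hb'⟩
        refine ⟨Q.mul_mem ha hb, fun t => ?_⟩
        have : h.pr (⟨a * b, Q.mul_mem ha hb⟩ : Q) = h.pr ⟨a, ha⟩ + h.pr ⟨b, hb⟩ :=
          h.pr_mul ⟨a, ha⟩ ⟨b, hb⟩
        rw [this, map_add, ha', hb']
      inv_mem' := by
        rintro a ⟨ha, ha'⟩
        refine ⟨Q.inv_mem ha, fun t => ?_⟩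
        have : h.pr (⟨a⁻¹, Q.inv_mem ha⟩ : Q) = - h.pr ⟨a, ha⟩ := h.pr_inv ⟨a, ha⟩
        rw [this, map_neg, ha'] }
  have hFmem : ∀ y : K, y ∈ F ↔ ∃ hy : y ∈ Q, ∀ t : T, h.act t (h.pr ⟨y, hy⟩) = h.pr ⟨y, hy⟩ := fun _ => Iff.rfl
  have hFQ : F ≤ Q := fun y hy => ((hFmem y).1 hy).1
  have hFinv : ∀ g : K, g * z = z * g → ∀ n ∈ F, g * n * g⁻¹ ∈ F := by
    intro g hg n hn
    obtain ⟨hnQ, hnt⟩ := (hFmem n).1 hn
    refine (hFmem _).2 ⟨h.conj_mem g hg n hnQ, fun t => ?_⟩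
    set c : C := ⟨g, hmemC.2 hg⟩ with hc
    have e1 : h.pr ⟨g * n * g⁻¹, h.conj_mem g hg n hnQ⟩ = h.act c (h.pr ⟨n, hnQ⟩) := by
      rw [h.act_pr]; rfl
    have ht' : c⁻¹ * t * c ∈ T := by
      have := hTn c⁻¹ t t.2
      rwa [inv_inv] at this
    have e2 := hnt ⟨_, ht'⟩
    rw [e1]
    have e3 : h.act (t : C) (h.act c (h.pr ⟨n, hnQ⟩)) = h.act c (h.act (c⁻¹ * t * c) (h.pr ⟨n, hnQ⟩)) := by
      have e4 : (t : C) * c = c * (c⁻¹ * t * c) := by group
      have e5 : (h.act ((t : C) * c)) (h.pr ⟨n, hnQ⟩) = (h.act (c * (c⁻¹ * t * c))) (h.pr ⟨n, hnQ⟩) := by rw [e4]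
      rw [map_mul, map_mul] at e5
      exact e5
    rw [e3]
    exact congrArg _ e2
  rcases hirr F hFQ hFinv with h1 | h1
  · exfalso
    obtain ⟨y, rfl⟩ := h.pr_surjective v
    have hyF : (y : K) ∈ F := (hFmem _).2 ⟨y.2, fun t => hv t⟩
    apply hv0
    rw [eq_comm, h.pr_eq_zero]
    exact h1 _ hyF
  · -- `α x` acts trivially
    have hxC : α x ∈ C := by
      rw [hmemC]
      have := congrArg α (h.comm_z x hx)
      rwa [map_mul, map_mul, hα] at this
    have hxT : (⟨α x, hxC⟩ : C) ∈ T := (hT _).2 ⟨x, hx, rfl⟩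
    have h2 : h.act ⟨α x, hxC⟩ = 1 := by
      apply LinearEquiv.ext
      intro w
      obtain ⟨y, rfl⟩ := h.pr_surjective w
      have hyF : (y : K) ∈ F := by rw [h1]; exact y.2
      exact ((hFmem _).1 hyF).2 ⟨_, hxT⟩
    exact h.mem_of_act ⟨α x, hxC⟩ h2

theorem map_mem_iff [Finite K] (h : Large Q z) (hirr : Irr Q z) (hne : ∃ x ∈ Q, x ≠ 1 ∧ x ≠ z) {α : MulAut K}
    (hα : α z = z) {x : K} : α x ∈ Q ↔ x ∈ Q := by
  refine ⟨fun hx => ?_, map_mem h hirr hne hα⟩
  have hαi : α⁻¹ z = z := by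
    rw [MulAut.inv_def, MulEquiv.symm_apply_eq, hα]
  have := map_mem h hirr hne hαi hx
  rwa [MulAut.inv_apply_self] at this

/-- a perfect group has no subgroup of index 2 -/
theorem index_ne_two {C : Type*} [Group C] (h : commutator C = ⊤) (N : Subgroup C) : N.index ≠ 2 := by
  intro hN
  have hn : N.Normal := Subgroup.normal_of_index_eq_two hN
  have h1 : commutator C ≤ N := by
    rw [_root_.commutator_def, Subgroup.commutator_le]
    intro a _ b _
    have hmul : ∀ {x y : C}, x * y ∈ N ↔ (x ∈ N ↔ y ∈ N) := fun {x y} => Subgroup.mul_mem_iff_of_index_two hN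
    rw [commutatorElement_def, hmul, hmul, hmul, N.inv_mem_iff, N.inv_mem_iff]
    tauto
  rw [h, top_le_iff] at h1
  rw [h1, Subgroup.index_top] at hN
  omega

section Gen

variable {n₀ : K}

/-- **(T1s)** an automorphism trivial on `Q` is `1` or the conjugation by `z`. -/
theorem exists_conj_cent [Finite K] (h : Large Q z) (hne : ∃ x ∈ Q, x ≠ 1 ∧ x ≠ z)
    (hperf : commutator (Subgroup.centralizer ({z} : Set K)) = ⊤) (α : MulAut K) (hα : α z = z)
    (hQ : ∀ x ∈ Q, Eqz z (α x) x) : ∃ x ∈ Q, ∀ c : K, c * z = z * c → α c = x * c * x⁻¹ := by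
  obtain ⟨x, hx, hxc⟩ := OutQ.exists_conj_mul h.z_ne h.z_sq Q (extraspecial h hne) h.z_mem h.comm_z h.conj_mem
    (fun c hc => cent_eq' h hc) (index_ne_two hperf) α hα (c₀ := 1) (by rw [one_mul, mul_one])
    (fun q hq => by
      rw [one_mul, inv_one, mul_one]
      exact hQ q hq)
  refine ⟨x, hx, fun c hc => ?_⟩
  have := hxc c hc
  rwa [one_mul] at this
where
  cent_eq' (h : Large Q z) {c : K} (hc : ∀ q ∈ Q, c * q = q * c) : c = 1 ∨ c = z :=
    LargeE.cent_eq h (hc z h.z_mem) hc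

/-- **(2)** -/
theorem eq_conj [Finite K] (h : Large Q z)
    (hperf : commutator (Subgroup.centralizer ({z} : Set K)) = ⊤) (hin : n₀ * z * n₀⁻¹ ∈ Q)
    (hnz : n₀ * z * n₀⁻¹ ≠ z) (hgen : Subgroup.closure ({c : K | c * z = z * c} ∪ {n₀}) = ⊤)
    (α : MulAut K) (hα : α z = z) (hQ : ∀ x ∈ Q, Eqz z (α x) x) : ∃ x ∈ Q, α = MulAut.conj x := by
  have hne : ∃ x ∈ Q, x ≠ 1 ∧ x ≠ z := ⟨_, hin, fun h1 => h.z_ne (by
    have : n₀ * z = n₀ := by
      have := congrArg (· * n₀) h1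
      simpa using this
    exact mul_eq_left.1 this), hnz⟩
  obtain ⟨x, hx, hxc⟩ := exists_conj_cent h hne hperf α hα hQ
  have h1 : ∀ c : K, c * z = z * c → ((MulAut.conj x)⁻¹ * α) c = c := by
    intro c hc
    rw [OutQ.conj_inv_mul_apply, hxc c hc]; group
  rcases LargeE.eq_one_or_conj h hin hnz hgen _ h1 with h2 | h2
  · exact ⟨x, hx, (inv_mul_eq_one.1 h2).symm⟩
  · refine ⟨x * z, Q.mul_mem hx h.z_mem, ?_⟩
    rw [inv_mul_eq_iff_eq_mul] at h2
    rw [h2, ← map_mul]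

/-- **(T1s)** an automorphism trivial on `Q` is `1` or the conjugation by `z`. -/
theorem eq_one_or_conj [Finite K] (h : Large Q z)
    (hperf : commutator (Subgroup.centralizer ({z} : Set K)) = ⊤) (hin : n₀ * z * n₀⁻¹ ∈ Q)
    (hnz : n₀ * z * n₀⁻¹ ≠ z) (hgen : Subgroup.closure ({c : K | c * z = z * c} ∪ {n₀}) = ⊤)
    (α : MulAut K) (hQ : ∀ x ∈ Q, α x = x) : α = 1 ∨ α = MulAut.conj z := by
  obtain ⟨x, hx, rfl⟩ := eq_conj h hperf hin hnz hgen α (hQ z h.z_mem) (fun x hx => Or.inl (hQ x hx))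
  have h1 : ∀ y ∈ Q, x * y = y * x := fun y hy => by
    have := hQ y hy
    rw [MulAut.conj_apply, mul_inv_eq_iff_eq_mul] at this
    exact this
  rcases h.cent x hx h1 with h2 | h2
  · left; rw [h2, map_one]
  · right; rw [h2]

/-- **(hC)** -/
theorem eq_conj_of_comm [Finite K] (h : Large Q z) (hirr : Irr Q z)
    (hperf : commutator (Subgroup.centralizer ({z} : Set K)) = ⊤) (hin : n₀ * z * n₀⁻¹ ∈ Q)
    (hnz : n₀ * z * n₀⁻¹ ≠ z) (hgen : Subgroup.closure ({c : K | c * z = z * c} ∪ {n₀}) = ⊤)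
    {x₀ : K} (hx₀ : x₀ ∈ Q) (hx₀1 : x₀ ≠ 1) (hx₀z : x₀ ≠ z)
    (hcen : ∀ y ∈ Q, (∀ c : K, c * z = z * c → Eqz z (c * x₀ * c⁻¹) x₀ → Eqz z (c * y * c⁻¹) y) →
      Eqz z y 1 ∨ Eqz z y x₀)
    (α : MulAut K) (hα : α z = z) (hcomm : ∀ c : K, c * z = z * c → α c * c⁻¹ ∈ Q) :
    ∃ x ∈ Q, α = MulAut.conj x := by
  have hne : ∃ x ∈ Q, x ≠ 1 ∧ x ≠ z := ⟨x₀, hx₀, hx₀1, hx₀z⟩
  -- compatibility of `α` with the conjugations
  have hcomp : ∀ c : K, c * z = z * c → ∀ y ∈ Q, Eqz z (α (c * y * c⁻¹)) (c * α y * c⁻¹) := by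
    intro c hc y hy
    have hy' := map_mem h hirr hne hα hy
    have e : α (c * y * c⁻¹) = (α c * c⁻¹) * (c * α y * c⁻¹) * (α c * c⁻¹)⁻¹ := by
      rw [map_mul, map_mul, map_inv]; group
    rw [e]
    exact Eqz.conj_mem h (hcomm c hc) (h.conj_mem c hc _ hy')
  have hx₀' : Eqz z (α x₀) x₀ := by
    rcases hcen (α x₀) (map_mem h hirr hne hα hx₀) (fun c hc hcx => by
      exact (Eqz.symm h (hcomp c hc x₀ hx₀)).trans h (hcx.map hα)) with h1 | h1
    · exfalso
      rcases h1 with h1 | h1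
      · exact hx₀1 (α.injective (by rw [h1, map_one]))
      · rw [one_mul] at h1
        exact hx₀z (α.injective (by rw [h1, hα]))
    · exact h1
  -- the subgroup of the elements fixed modulo `z`
  let F : Subgroup K :=
    { carrier := {y | y ∈ Q ∧ Eqz z (α y) y}
      one_mem' := ⟨Q.one_mem, Or.inl (map_one α)⟩
      mul_mem' := by
        rintro a b ⟨ha, ha'⟩ ⟨hb, hb'⟩
        refine ⟨Q.mul_mem ha hb, ?_⟩
        rw [map_mul]
        have hbz := h.comm_z b hb
        rcases ha' with h1 | h1 <;> rcases hb' with h2 | h2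
        · left; rw [h1, h2]
        · right; rw [h1, h2]; group
        · right; rw [h1, h2, mul_assoc, ← hbz]; group
        · left
          rw [h1, h2]
          calc a * z * (b * z) = a * (z * b) * z := by group
            _ = a * (b * z) * z := by rw [hbz]
            _ = a * b * (z * z) := by group
            _ = a * b := by rw [h.z_sq, mul_one]
      inv_mem' := by
        rintro a ⟨ha, ha'⟩
        refine ⟨Q.inv_mem ha, ?_⟩
        rw [map_inv]
        rcases ha' with h1 | h1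
        · left; rw [h1]
        · right
          rw [h1, mul_inv_rev, h.z_inv]
          have := h.comm_z _ (Q.inv_mem ha)
          exact this.symm }
  have hF : ∀ y, y ∈ F ↔ y ∈ Q ∧ Eqz z (α y) y := fun _ => Iff.rfl
  have hFinv : ∀ g : K, g * z = z * g → ∀ n ∈ F, g * n * g⁻¹ ∈ F := by
    intro g hg n hn
    obtain ⟨hnQ, hn'⟩ := (hF n).1 hn
    exact (hF _).2 ⟨h.conj_mem g hg n hnQ, (hcomp g hg n hnQ).trans h (hn'.conj hg)⟩
  rcases hirr F (fun y hy => ((hF y).1 hy).1) hFinv with h1 | h1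
  · exfalso
    rcases h1 x₀ ((hF x₀).2 ⟨hx₀, hx₀'⟩) with h2 | h2
    · exact hx₀1 h2
    · exact hx₀z h2
  · apply eq_conj h hperf hin hnz hgen α hα
    intro x hx
    rw [← h1] at hx
    exact ((hF x).1 hx).2

end Gen

/-- a normal 2-subgroup of `C` lies in every Sylow 2-subgroup of `K` contained in `C` -/
theorem le_sylow (h : Large Q z) (S : Sylow 2 K) (hS : (S : Subgroup K) ≤ Subgroup.centralizer ({z} : Set K)) :
    Q ≤ S := by
  have hfact : Fact (Nat.Prime 2) := ⟨Nat.prime_two⟩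
  have hn : (S : Subgroup K) ≤ Subgroup.normalizer (Q : Set K) := by
    intro s hs
    have hsz : s * z = z * s := Subgroup.mem_centralizer_singleton_iff.1 (hS hs)
    rw [Subgroup.mem_normalizer_iff]
    intro x
    refine ⟨fun hx => h.conj_mem s hsz x hx, fun hx => ?_⟩
    have h1 : s⁻¹ * z = z * s⁻¹ := by
      rw [inv_mul_eq_iff_eq_mul, ← mul_assoc, hsz, mul_assoc, mul_inv_cancel, mul_one]
    have h2 := h.conj_mem s⁻¹ h1 _ hx
    have e : s⁻¹ * (s * x * s⁻¹) * s⁻¹⁻¹ = x := by group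
    rwa [e] at h2
  have h1 : IsPGroup 2 ((S : Subgroup K) ⊔ Q : Subgroup K) :=
    S.isPGroup'.to_sup_of_normal_right' (isPGroup h) hn
  have h2 := S.is_maximal' h1 le_sup_left
  rw [← h2]
  exact le_sup_right

/-- some Sylow 2-subgroup centralises `z` -/
theorem exists_sylow [Finite K] (hodd : Odd (Subgroup.centralizer ({z} : Set K)).index) :
    ∃ S : Sylow 2 K, (S : Subgroup K) ≤ Subgroup.centralizer ({z} : Set K) := by
  have hfact : Fact (Nat.Prime 2) := ⟨Nat.prime_two⟩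
  set C := Subgroup.centralizer ({z} : Set K)
  obtain ⟨P⟩ : Nonempty (Sylow 2 K) := inferInstance
  obtain ⟨a, ha⟩ := P.isPGroup'.nonempty_fixed_point_of_prime_not_dvd_card (K ⧸ C) (by
    rw [← Subgroup.index_eq_card]
    exact fun h2 => by
      rcases hodd with ⟨m, hm⟩
      omega)
  obtain ⟨g, rfl⟩ := QuotientGroup.mk_surjective a
  refine ⟨g⁻¹ • P, ?_⟩
  intro x hx
  rw [Sylow.coe_subgroup_smul, Subgroup.mem_pointwise_smul_iff_inv_smul_mem, ← map_inv, inv_inv] at hx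
  have hx' : g * x * g⁻¹ ∈ (P : Subgroup K) := hx
  obtain ⟨p, hp, rfl⟩ : ∃ p ∈ (P : Subgroup K), g⁻¹ * p * g = x := ⟨_, hx', by group⟩
  have h1 := ha ⟨p, hp⟩
  have h2 : (QuotientGroup.mk (p * g) : K ⧸ C) = QuotientGroup.mk g := h1
  rw [QuotientGroup.eq] at h2
  have h3 := C.inv_mem h2
  have e : ((p * g)⁻¹ * g)⁻¹ = g⁻¹ * p * g := by group
  rwa [← e]

/-- **(5)** -/
theorem exists_conj_z [Finite K] (h : Large Q z) (hodd : Odd (Subgroup.centralizer ({z} : Set K)).index)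
    (α : MulAut K) : ∃ k : K, α z = k * z * k⁻¹ := by
  have hfact : Fact (Nat.Prime 2) := ⟨Nat.prime_two⟩
  obtain ⟨S, hS⟩ := exists_sylow hodd
  have hQS := le_sylow h S hS
  -- the image of `S`
  obtain ⟨g, hg⟩ := MulAction.exists_smul_eq K S (S.mapSurjective (f := α.toMonoidHom) α.surjective)
  refine ⟨g, ?_⟩
  have hcen : ∀ x ∈ (S : Subgroup K), x * z = z * x := fun x hx => Subgroup.mem_centralizer_singleton_iff.1 (hS hx)
  have h1 : ∀ x ∈ (S : Subgroup K), (g⁻¹ * α z * g) * x = x * (g⁻¹ * α z * g) := by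
    intro x hx
    have hx' : g * x * g⁻¹ ∈ ((S.mapSurjective (f := α.toMonoidHom) α.surjective : Sylow 2 K) : Subgroup K) := by
      rw [← hg, Sylow.coe_subgroup_smul, Subgroup.mem_pointwise_smul_iff_inv_smul_mem, ← map_inv]
      show g⁻¹ * (g * x * g⁻¹) * g⁻¹⁻¹ ∈ (S : Subgroup K)
      have e : g⁻¹ * (g * x * g⁻¹) * g⁻¹⁻¹ = x := by group
      rw [e]
      exact hx
    obtain ⟨y, hy, hyx⟩ : ∃ y ∈ (S : Subgroup K), α y = g * x * g⁻¹ := hx'
    have h2 := congrArg α (hcen y hy)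
    rw [map_mul, map_mul, hyx] at h2
    calc (g⁻¹ * α z * g) * x = g⁻¹ * (α z * (g * x * g⁻¹)) * g := by group
      _ = g⁻¹ * (g * x * g⁻¹ * α z) * g := by rw [h2]
      _ = x * (g⁻¹ * α z * g) := by group
  have h2 := LargeE.cent_eq h (h1 z (hQS h.z_mem)) (fun x hx => h1 x (hQS hx))
  rcases h2 with h2 | h2
  · exfalso
    have h3 : α z = 1 := by
      have := congrArg (fun y => g * y * g⁻¹) h2
      simpa [mul_assoc] using this
    exact h.z_ne (α.injective (by rw [h3, map_one]))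
  · calc α z = g * (g⁻¹ * α z * g) * g⁻¹ := by group
      _ = g * z * g⁻¹ := by rw [h2]

end Cfsg.Agent.KFacts.AutLarge
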