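import Cfsg.Agent.Co2Type.Quad

/-!
# `O₂(C_K(z)) = Q` for an irreducible large extraspecial subgroup `Q`

`le_of_normal`: (hR) a 2-subgroup of `C_K(z)` normalised by `C_K(z)` is contained in `Q`.
`mem_of_comm`: (hC) if `g ∈ C_K(z)` centralises `P/Q` and some subgroup of `P` has a one-dimensional space of fixed
points on `Q/⟨z⟩`, then `g ∈ Q`.
`map`: transport along isomorphisms.
-/

set_option autoImplicit false

namespace Cfsg.Agent.KFacts.LargeO2

open Cfsg.Agent.Co2Type.Quad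

variable {K : Type*} [Group K] {Q : Subgroup K} {z : K}

/-- Irreducibility, in terms of subgroups. -/
def Irr (Q : Subgroup K) (z : K) : Prop :=
  ∀ N : Subgroup K, N ≤ Q → (∀ u : K, u * z = z * u → ∀ y ∈ N, u * y * u⁻¹ ∈ N) →
    (∀ y ∈ N, y = 1 ∨ y = z) ∨ N = Q

/-- the elements of `Q` centralised modulo `⟨z⟩` by a set -/
def fixQ (h : Large Q z) (W : Set K) : Subgroup K where
  carrier := {x | x ∈ Q ∧ ∀ w ∈ W, w * x * w⁻¹ = x ∨ w * x * w⁻¹ = x * z}
  one_mem' := ⟨Q.one_mem, fun w _ => Or.inl (by group)⟩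
  mul_mem' := by
    rintro x y ⟨hx, hx'⟩ ⟨hy, hy'⟩
    refine ⟨Q.mul_mem hx hy, fun w hw => ?_⟩
    have e : w * (x * y) * w⁻¹ = (w * x * w⁻¹) * (w * y * w⁻¹) := by group
    have hyz : y * z = z * y := h.comm_z y hy
    rw [e]
    rcases hx' w hw with h1 | h1 <;> rcases hy' w hw with h2 | h2 <;> rw [h1, h2]
    · left; rfl
    · right; rw [mul_assoc]
    · right; rw [mul_assoc, mul_assoc, ← hyz]
    · left
      calc x * z * (y * z) = x * z * (z * y) := by rw [hyz]
        _ = x * (z * z) * y := by group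
        _ = x * y := by rw [h.z_sq, mul_one]
  inv_mem' := by
    rintro x ⟨hx, hx'⟩
    refine ⟨Q.inv_mem hx, fun w hw => ?_⟩
    have e : w * x⁻¹ * w⁻¹ = (w * x * w⁻¹)⁻¹ := by group
    rw [e]
    rcases hx' w hw with h1 | h1
    · left; rw [h1]
    · right; rw [h1, mul_inv_rev, h.z_inv]
      have := h.comm_z _ (Q.inv_mem hx)
      exact this.symm

theorem mem_fixQ (h : Large Q z) {W : Set K} {x : K} :
    x ∈ fixQ h W ↔ x ∈ Q ∧ ∀ w ∈ W, w * x * w⁻¹ = x ∨ w * x * w⁻¹ = x * z := Iff.rfl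

/-- an element of `C_K(z)` acting trivially on `Q/⟨z⟩` lies in `Q` -/
theorem mem_of_triv [Finite Q] (h : Large Q z) {g : K} (hg : g * z = z * g)
    (ht : ∀ x ∈ Q, g * x * g⁻¹ = x ∨ g * x * g⁻¹ = x * z) : g ∈ Q := by
  have := h.mem_of_act ⟨g, Subgroup.mem_centralizer_singleton_iff.2 hg⟩ (by
    ext v
    obtain ⟨x, rfl⟩ := h.pr_surjective v
    rw [h.act_pr]
    exact h.pr_eq_pr.2 (ht x x.2))
  exact this

/-- **(hR)**: `O₂(C_K(z)) = Q`. -/
theorem le_of_normal [Finite K] (h : Large Q z) (hirr : Irr Q z) (hQ : ∃ x ∈ Q, x ≠ 1 ∧ x ≠ z)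
    {W : Subgroup K} (hW : IsPGroup 2 W) (hWz : ∀ w ∈ W, w * z = z * w)
    (hinv : ∀ u : K, u * z = z * u → ∀ w ∈ W, u * w * u⁻¹ ∈ W) : W ≤ Q := by
  classical
  -- a nontrivial fixed vector
  have hfix : ∃ x ∈ Q, x ≠ 1 ∧ x ≠ z ∧ ∀ w ∈ W, w * x * w⁻¹ = x ∨ w * x * w⁻¹ = x * z := by
    let _ : MulAction W h.V :=
      { smul := fun w v => h.act ⟨w, Subgroup.mem_centralizer_singleton_iff.2 (hWz w w.2)⟩ v
        one_smul := fun v => by
          show h.act ⟨((1 : W) : K), _⟩ v = v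
          have : (⟨((1 : W) : K), Subgroup.mem_centralizer_singleton_iff.2 (hWz _ (1 : W).2)⟩ :
            Subgroup.centralizer ({z} : Set K)) = 1 := rfl
          rw [this, map_one]; rfl
        mul_smul := fun a b v => by
          show h.act ⟨((a * b : W) : K), _⟩ v = h.act ⟨a, _⟩ (h.act ⟨b, _⟩ v)
          have : (⟨((a * b : W) : K), Subgroup.mem_centralizer_singleton_iff.2 (hWz _ (a * b).2)⟩ :
            Subgroup.centralizer ({z} : Set K)) =
              ⟨a, Subgroup.mem_centralizer_singleton_iff.2 (hWz a a.2)⟩ *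
              ⟨b, Subgroup.mem_centralizer_singleton_iff.2 (hWz b b.2)⟩ := rfl
          rw [this, map_mul]; rfl }
    have hsm : ∀ (w : W) (v : h.V), w • v =
        h.act ⟨w, Subgroup.mem_centralizer_singleton_iff.2 (hWz w w.2)⟩ v := fun _ _ => rfl
    obtain ⟨x0, hx0, hx01, hx0z⟩ := hQ
    have hne : h.pr ⟨x0, hx0⟩ ≠ 0 := by
      intro h1
      rcases h.pr_eq_zero.1 h1 with h2 | h2
      · exact hx01 h2
      · exact hx0z h2
    have h2V : 2 ∣ Nat.card h.V := by
      have h1 : addOrderOf (h.pr ⟨x0, hx0⟩) = 2 := by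
        apply addOrderOf_eq_prime
        · rw [two_nsmul]; exact h.add_self _
        · exact hne
      rw [← h1]
      exact addOrderOf_dvd_natCard _
    have h0 : (0 : h.V) ∈ MulAction.fixedPoints W h.V := fun w => by
      rw [hsm, map_zero]
    obtain ⟨v, hv, hv0⟩ := hW.exists_fixed_point_of_prime_dvd_card_of_fixed_point h.V h2V h0
    obtain ⟨x, rfl⟩ := h.pr_surjective v
    refine ⟨x, x.2, ?_, ?_, ?_⟩
    · intro h1
      exact hv0 (h.pr_eq_zero.2 (Or.inl h1)).symm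
    · intro h1
      exact hv0 (h.pr_eq_zero.2 (Or.inr h1)).symm
    · intro w hw
      have h1 := hv ⟨w, hw⟩
      rw [hsm, h.act_pr, h.pr_eq_pr] at h1
      exact h1
  obtain ⟨x, hxQ, hx1, hxz, hx⟩ := hfix
  have hN := hirr (fixQ h W) (fun y hy => hy.1) (by
    rintro u hu y ⟨hyQ, hy⟩
    refine ⟨h.conj_mem u hu y hyQ, fun w hw => ?_⟩
    have hw' : u⁻¹ * w * u ∈ W := by
      have hu' : u⁻¹ * z = z * u⁻¹ := by
        rw [inv_mul_eq_iff_eq_mul, ← mul_assoc, hu, mul_assoc, mul_inv_cancel, mul_one]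
      have := hinv u⁻¹ hu' w hw
      rwa [inv_inv] at this
    have e : w * (u * y * u⁻¹) * w⁻¹ = u * ((u⁻¹ * w * u) * y * (u⁻¹ * w * u)⁻¹) * u⁻¹ := by group
    rw [e]
    rcases hy _ hw' with h1 | h1
    · left; rw [h1]
    · right
      rw [h1]
      have hu' : z * u⁻¹ = u⁻¹ * z := by
        rw [eq_inv_mul_iff_mul_eq, ← mul_assoc, hu, mul_assoc, mul_inv_cancel, mul_one]
      calc u * (y * z) * u⁻¹ = u * y * (z * u⁻¹) := by group
        _ = u * y * u⁻¹ * z := by rw [hu']; group)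
  rcases hN with h1 | h1
  · exfalso
    rcases h1 x ⟨hxQ, hx⟩ with h2 | h2
    · exact hx1 h2
    · exact hxz h2
  · intro w hw
    apply mem_of_triv h (hWz w hw)
    intro y hy
    have : y ∈ fixQ h W := by rw [h1]; exact hy
    exact this.2 w hw

/-- **(hC)**: `v ∈ Q - ⟨z⟩` is determined modulo `⟨z⟩` by being fixed by the elements of `D ⊆ C_K(z)`; then an element
`g ∈ C_K(z)` commuting with every element of `C_K(z)` modulo `Q` lies in `Q`. -/
theorem mem_of_comm [Finite K] (h : Large Q z) (hirr : Irr Q z) {v : K} (hv : v ∈ Q) (hv1 : v ≠ 1)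
    (hvz : v ≠ z) {D : Set K} (hD : ∀ d ∈ D, d * z = z * d)
    (hfix : ∀ x ∈ Q, (∀ d ∈ D, d * x * d⁻¹ = x ∨ d * x * d⁻¹ = x * z) →
      x = 1 ∨ x = z ∨ x = v ∨ x = v * z)
    (hvD : ∀ d ∈ D, d * v * d⁻¹ = v ∨ d * v * d⁻¹ = v * z)
    {g : K} (hg : g * z = z * g) (hc : ∀ u : K, u * z = z * u → g * u * g⁻¹ * u⁻¹ ∈ Q) : g ∈ Q := by
  have hzi := h.z_inv
  -- conjugation by elements of `Q` is trivial modulo `⟨z⟩`
  have hQt : ∀ a ∈ Q, ∀ x ∈ Q, a * x * a⁻¹ = x ∨ a * x * a⁻¹ = x * z := by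
    intro a ha x hx
    rcases h.comm a ha x hx with h1 | h1
    · left; rw [h1, mul_inv_cancel_right]
    · right
      have hz' : z * a⁻¹ = a⁻¹ * z := (h.comm_z _ (Q.inv_mem ha)).symm
      rw [h1, mul_assoc, hz', ← mul_assoc, mul_inv_cancel_right]
  have hzc : ∀ u : K, u * z = z * u → z * u⁻¹ = u⁻¹ * z := by
    intro u hu
    rw [eq_inv_mul_iff_mul_eq, ← mul_assoc, hu, mul_assoc, mul_inv_cancel, mul_one]
  -- `g` commutes with `u` on `Q` modulo `⟨z⟩`
  have hcomm : ∀ u : K, u * z = z * u → ∀ x ∈ Q,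
      u * (g * x * g⁻¹) * u⁻¹ = g * (u * x * u⁻¹) * g⁻¹ ∨
      u * (g * x * g⁻¹) * u⁻¹ = g * (u * x * u⁻¹) * g⁻¹ * z := by
    intro u hu x hx
    have h1 := hc u hu
    set a := g * u * g⁻¹ * u⁻¹ with ha
    have hgx : g * x * g⁻¹ ∈ Q := h.conj_mem g hg x hx
    have hux : u * (g * x * g⁻¹) * u⁻¹ ∈ Q := h.conj_mem u hu _ hgx
    have e : g * (u * x * u⁻¹) * g⁻¹ = a * (u * (g * x * g⁻¹) * u⁻¹) * a⁻¹ := by rw [ha]; group
    rw [e]
    rcases hQt a h1 _ hux with h2 | h2
    · left; exact h2.symm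
    · right
      rw [h2, mul_assoc _ z z, h.z_sq, mul_one]
  -- `g` fixes `v` modulo `⟨z⟩`
  have hgv : g * v * g⁻¹ = v ∨ g * v * g⁻¹ = v * z := by
    have hgvQ : g * v * g⁻¹ ∈ Q := h.conj_mem g hg v hv
    have h1 := hfix _ hgvQ (by
      intro d hd
      have hdz := hD d hd
      rcases hcomm d hdz v hv with h2 | h2 <;> rcases hvD d hd with h3 | h3
      · left; rw [h2, h3]
      · right; rw [h2, h3]
        calc g * (v * z) * g⁻¹ = g * v * (z * g⁻¹) := by group
          _ = g * v * g⁻¹ * z := by rw [hzc g hg]; group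
      · right; rw [h2, h3]
      · left; rw [h2, h3]
        calc g * (v * z) * g⁻¹ * z = g * v * (z * g⁻¹) * z := by group
          _ = g * v * g⁻¹ * (z * z) := by rw [hzc g hg]; group
          _ = g * v * g⁻¹ := by rw [h.z_sq, mul_one])
    rcases h1 with h2 | h2 | h2 | h2
    · exfalso
      apply hv1
      calc v = g⁻¹ * (g * v * g⁻¹) * g := by group
        _ = 1 := by rw [h2]; group
    · exfalso
      apply hvz
      calc v = g⁻¹ * (g * v * g⁻¹) * g := by group
        _ = g⁻¹ * (z * g) := by rw [h2]; group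
        _ = z := by rw [← hg]; group
    · left; exact h2
    · right; exact h2
  have hN := hirr (fixQ h {g}) (fun y hy => hy.1) (by
    rintro u hu y ⟨hyQ, hy⟩
    refine ⟨h.conj_mem u hu y hyQ, fun w hw => ?_⟩
    rw [Set.mem_singleton_iff] at hw
    subst hw
    have hy' := hy w (Set.mem_singleton _)
    rcases hcomm u hu y hyQ with h2 | h2 <;> rcases hy' with h3 | h3
    · left; rw [← h2, h3]
    · right; rw [← h2, h3]
      calc u * (y * z) * u⁻¹ = u * y * (z * u⁻¹) := by group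
        _ = u * y * u⁻¹ * z := by rw [hzc u hu]; group
    · right
      have h4 : w * (u * y * u⁻¹) * w⁻¹ = u * (w * y * w⁻¹) * u⁻¹ * z := by
        rw [h2, mul_assoc _ z z, h.z_sq, mul_one]
      rw [h4, h3]
    · left
      have h4 : w * (u * y * u⁻¹) * w⁻¹ = u * (w * y * w⁻¹) * u⁻¹ * z := by
        rw [h2, mul_assoc _ z z, h.z_sq, mul_one]
      rw [h4, h3]
      calc u * (y * z) * u⁻¹ * z = u * y * (z * u⁻¹) * z := by group
        _ = u * y * u⁻¹ * (z * z) := by rw [hzc u hu]; group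
        _ = u * y * u⁻¹ := by rw [h.z_sq, mul_one])
  rcases hN with h1 | h1
  · exfalso
    rcases h1 v ⟨hv, fun w hw => by rw [Set.mem_singleton_iff.1 hw]; exact hgv⟩ with h2 | h2
    · exact hv1 h2
    · exact hvz h2
  · apply mem_of_triv h hg
    intro y hy
    have : y ∈ fixQ h {g} := by rw [h1]; exact hy
    exact this.2 g (Set.mem_singleton _)

/-- transport of `Large` along an isomorphism -/
theorem map {K' : Type*} [Group K'] (e : K ≃* K') (h : Large Q z) :
    Large (Q.map e.toMonoidHom) (e z) where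
  z_mem := ⟨z, h.z_mem, rfl⟩
  z_ne := fun h1 => h.z_ne (e.injective (by rw [h1, map_one]))
  z_sq := by rw [← map_mul, h.z_sq, map_one]
  comm_z := by
    rintro _ ⟨x, hx, rfl⟩
    show e x * e z = e z * e x
    rw [← map_mul, h.comm_z x hx, map_mul]
  conj_mem := by
    rintro g hg _ ⟨x, hx, rfl⟩
    obtain ⟨g, rfl⟩ := e.surjective g
    have hg' : g * z = z * g := e.injective (by rw [map_mul, map_mul]; exact hg)
    refine ⟨g * x * g⁻¹, h.conj_mem g hg' x hx, ?_⟩
    show e (g * x * g⁻¹) = e g * e x * (e g)⁻¹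
    rw [map_mul, map_mul, map_inv]
  sq := by
    rintro _ ⟨x, hx, rfl⟩
    show e x * e x = 1 ∨ e x * e x = e z
    rcases h.sq x hx with h1 | h1
    · left; rw [← map_mul, h1, map_one]
    · right; rw [← map_mul, h1]
  comm := by
    rintro _ ⟨x, hx, rfl⟩ _ ⟨y, hy, rfl⟩
    show e x * e y = e y * e x ∨ e x * e y = e y * e x * e z
    rcases h.comm x hx y hy with h1 | h1
    · left; rw [← map_mul, h1, map_mul]
    · right; rw [← map_mul, h1, map_mul, map_mul]
  cent := by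
    rintro _ ⟨x, hx, rfl⟩ h1
    show e x = 1 ∨ e x = e z
    rcases h.cent x hx (fun y hy => e.injective (by
      rw [map_mul, map_mul]; exact h1 (e y) ⟨y, hy, rfl⟩)) with h2 | h2
    · left; rw [h2, map_one]
    · right; rw [h2]
  self := by
    intro g hg h1
    obtain ⟨g, rfl⟩ := e.surjective g
    refine ⟨g, h.self g (e.injective (by rw [map_mul, map_mul]; exact hg)) (fun x hx =>
      e.injective (by rw [map_mul, map_mul]; exact h1 (e x) ⟨x, hx, rfl⟩)), rfl⟩

end Cfsg.Agent.KFacts.LargeO2
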