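import Cfsg.Agent.KFacts.AutLarge
import Cfsg.Agent.KFacts.LargeO2
import Cfsg.Agent.OddHalf.D8.Sheet

/-!
# The sheet of type (E) for `K` with `Out(C_K(z)/Q) = 1`

`Data Q z L`: `Q` large extraspecial and irreducible, `C_K(z)` of odd index, `C_K(z)/Q ≃ L` simple with all automorphisms
inner, `K = ⟨C_K(z), n₀⟩`, a vector `x₀` of `Q/⟨z⟩` whose stabiliser fixes no other vector, and a conjugate of `z` in
`C_K(z) - Q`.

* `allInner`  : every automorphism of `K` is inner;
* `innerCent` : every automorphism of `C_K(z)` is inner;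
* `sheet`     : `SheetE z (centralizer {z}) Q`;
* `SheetE.map` : transport of a sheet along an isomorphism.
-/

set_option autoImplicit false

namespace Cfsg.Agent.KFacts.SheetInner

open Cfsg.Agent.Co2Type.Quad Cfsg.Agent.LargeExtra.Base Cfsg.Agent.KFacts.AutLarge
open Cfsg.Agent.OddHalf.D8.Sheet Cfsg.Agent.OddHalf
open scoped commutatorElement

/-! ### the induced automorphism of a quotient -/

/-- If `π : C → L` is onto, `γ : MulAut C` preserves the kernel and all automorphisms of `L` are inner, then `γ` is on `L`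
the conjugation by some `π c₀`. -/
theorem exists_conj_quot {C L : Type*} [Group C] [Group L] (π : C →* L) (hπs : Function.Surjective π)
    (γ : MulAut C) (hγ : ∀ c, π c = 1 ↔ π (γ c) = 1) (hinn : ∀ α : MulAut L, ∃ g : L, α = MulAut.conj g) :
    ∃ c₀ : C, ∀ c, π (γ c) = π (c₀ * c * c₀⁻¹) := by
  have hker : ∀ c d : C, π c = π d → π (γ c) = π (γ d) := by
    intro c d h
    have h1 : π (c * d⁻¹) = 1 := by rw [map_mul, map_inv, h, mul_inv_cancel]
    have h2 := (hγ _).1 h1
    rw [map_mul, map_mul, map_inv, map_inv, mul_inv_eq_one] at h2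
    exact h2
  have hker' : ∀ c d : C, π (γ c) = π (γ d) → π c = π d := by
    intro c d h
    have h1 : π (γ (c * d⁻¹)) = 1 := by rw [map_mul, map_mul, map_inv, map_inv, h, mul_inv_cancel]
    have h2 := (hγ _).2 h1
    rw [map_mul, map_inv, mul_inv_eq_one] at h2
    exact h2
  have hinj : Function.Injective (fun l : L => π (γ (Function.surjInv hπs l))) := by
    intro a b h
    have h1 := hker' _ _ h
    rwa [Function.surjInv_eq hπs, Function.surjInv_eq hπs] at h1
  have hsurj : Function.Surjective (fun l : L => π (γ (Function.surjInv hπs l))) := by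
    intro l
    obtain ⟨c, rfl⟩ := hπs l
    obtain ⟨d, rfl⟩ := γ.surjective c
    exact ⟨π d, hker _ _ (Function.surjInv_eq hπs _)⟩
  let α : MulAut L :=
    MulEquiv.ofBijective (MonoidHom.mk'
      (fun l => π (γ (Function.surjInv hπs l)))
      (by
        intro a b
        have h1 := hker (Function.surjInv hπs (a * b)) (Function.surjInv hπs a * Function.surjInv hπs b) (by
            rw [map_mul, Function.surjInv_eq hπs, Function.surjInv_eq hπs, Function.surjInv_eq hπs])
        rw [h1, map_mul, map_mul])) ⟨hinj, hsurj⟩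
  have hα : ∀ c, α (π c) = π (γ c) := fun c => hker _ _ (Function.surjInv_eq hπs _)
  obtain ⟨g, hg⟩ := hinn α
  obtain ⟨c₀, rfl⟩ := hπs g
  refine ⟨c₀, fun c => ?_⟩
  rw [← hα, hg, MulAut.conj_apply, map_mul, map_mul, map_inv]

/-! ### automorphisms trivial on `C/Q` -/

section Comm

variable {K : Type*} [Group K] {Q : Subgroup K} {z : K}

/-- An automorphism that fixes `z` and is trivial on `C_K(z)/Q` is trivial on `Q/⟨z⟩`. -/
theorem eqz_of_comm [Finite K] (h : Large Q z) (hirr : Irr Q z)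
    {x₀ : K} (hx₀ : x₀ ∈ Q) (hx₀1 : x₀ ≠ 1) (hx₀z : x₀ ≠ z)
    (hcen : ∀ y ∈ Q, (∀ c : K, c * z = z * c → Eqz z (c * x₀ * c⁻¹) x₀ → Eqz z (c * y * c⁻¹) y) →
      Eqz z y 1 ∨ Eqz z y x₀)
    (α : MulAut K) (hα : α z = z) (hcomm : ∀ c : K, c * z = z * c → α c * c⁻¹ ∈ Q) :
    ∀ x ∈ Q, Eqz z (α x) x := by
  have hne : ∃ x ∈ Q, x ≠ 1 ∧ x ≠ z := ⟨x₀, hx₀, hx₀1, hx₀z⟩
  have hcomp : ∀ c : K, c * z = z * c → ∀ y ∈ Q, Eqz z (α (c * y * c⁻¹)) (c * α y * c⁻¹) := by
    intro c hc y hy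
    have hy' := map_mem h hirr hne hα hy
    have e : α (c * y * c⁻¹) = (α c * c⁻¹) * (c * α y * c⁻¹) * (α c * c⁻¹)⁻¹ := by
      rw [map_mul, map_mul, map_inv]; group
    rw [e]
    exact Eqz.conj_mem h (hcomm c hc) (h.conj_mem c hc _ hy')
  have hx₀' : Eqz z (α x₀) x₀ := by
    rcases hcen (α x₀) (map_mem h hirr hne hα hx₀) (fun c hc hcx => by
      exact (Eqz.symm h (hcomp c hc x₀ hx₀)).trans h (hcx.map hα)) with h1 | h1
    · exfalso
      rcases h1 with h1 | h1
      · exact hx₀1 (α.injective (by rw [h1, map_one]))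
      · rw [one_mul] at h1
        exact hx₀z (α.injective (by rw [h1, hα]))
    · exact h1
  let F : Subgroup K :=
    { carrier := {y | y ∈ Q ∧ Eqz z (α y) y}
      one_mem' := ⟨Q.one_mem, Or.inl (map_one α)⟩
      mul_mem' := by
        rintro a b ⟨ha, ha'⟩ ⟨hb, hb'⟩
        refine ⟨Q.mul_mem ha hb, ?_⟩
        rw [map_mul]
        have hbz := h.comm_z b hb
        rcases ha' with h1 | h1 <;> rcases hb' with h2 | h2
        · left; rw [h1, h2]
        · right; rw [h1, h2]; group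
        · right; rw [h1, h2, mul_assoc, ← hbz]; group
        · left
          rw [h1, h2]
          calc a * z * (b * z) = a * (z * b) * z := by group
            _ = a * (b * z) * z := by rw [hbz]
            _ = a * b * (z * z) := by group
            _ = a * b := by rw [h.z_sq, mul_one]
      inv_mem' := by
        rintro a ⟨ha, ha'⟩
        refine ⟨Q.inv_mem ha, ?_⟩
        rw [map_inv]
        rcases ha' with h1 | h1
        · left; rw [h1]
        · right
          rw [h1, mul_inv_rev, h.z_inv]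
          have := h.comm_z _ (Q.inv_mem ha)
          exact this.symm }
  have hF : ∀ y, y ∈ F ↔ y ∈ Q ∧ Eqz z (α y) y := fun _ => Iff.rfl
  have hFinv : ∀ g : K, g * z = z * g → ∀ n ∈ F, g * n * g⁻¹ ∈ F := by
    intro g hg n hn
    obtain ⟨hnQ, hn'⟩ := (hF n).1 hn
    exact (hF _).2 ⟨h.conj_mem g hg n hnQ, (hcomp g hg n hnQ).trans h (hn'.conj hg)⟩
  rcases hirr F (fun y hy => ((hF y).1 hy).1) hFinv with h1 | h1
  · exfalso
    rcases h1 x₀ ((hF x₀).2 ⟨hx₀, hx₀'⟩) with h2 | h2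
    · exact hx₀1 h2
    · exact hx₀z h2
  · intro x hx
    rw [← h1] at hx
    exact ((hF x).1 hx).2

end Comm

/-! ### the data -/

/-- The hypotheses. -/
structure Data {K : Type*} [Group K] (Q : Subgroup K) (z : K) (L : Type*) [Group L] : Prop where
  large : Large Q z
  irr : Irr Q z
  odd : Odd (Subgroup.centralizer ({z} : Set K)).index
  simple : IsSimpleGroup L
  nonab : ∃ a b : L, a * b ≠ b * a
  quot : ∃ π : Subgroup.centralizer ({z} : Set K) →* L, Function.Surjective π ∧ ∀ c, π c = 1 ↔ (c : K) ∈ Q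
  inner : ∀ α : MulAut L, ∃ g : L, α = MulAut.conj g
  gen : ∃ n₀ : K, n₀ * z * n₀⁻¹ ∈ Q ∧ n₀ * z * n₀⁻¹ ≠ z ∧
    Subgroup.closure ({c : K | c * z = z * c} ∪ {n₀}) = ⊤
  /-- the stabiliser of the vector `x₀` of `Q/⟨z⟩` fixes only `0` and `x₀` -/
  fix : ∃ x₀ ∈ Q, x₀ ≠ 1 ∧ x₀ ≠ z ∧
    ∀ y ∈ Q, (∀ c : K, c * z = z * c → Eqz z (c * x₀ * c⁻¹) x₀ → Eqz z (c * y * c⁻¹) y) →
      Eqz z y 1 ∨ Eqz z y x₀
  out : ∃ k : K, (k * z * k⁻¹) * z = z * (k * z * k⁻¹) ∧ k * z * k⁻¹ ∉ Q

namespace Data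

variable {K : Type*} [Group K] {Q : Subgroup K} {z : K} {L : Type*} [Group L]

theorem ne (D : Data Q z L) : ∃ x ∈ Q, x ≠ 1 ∧ x ≠ z := by
  obtain ⟨x₀, h0, h1, h2, -⟩ := D.fix
  exact ⟨x₀, h0, h1, h2⟩

/-- **`C_K(z)` is perfect.** -/
theorem perfect (D : Data Q z L) : commutator (Subgroup.centralizer ({z} : Set K)) = ⊤ := by
  have := D.simple
  obtain ⟨π, hπs, hπ⟩ := D.quot
  exact LargeE.perfect D.large D.nonab π hπs hπ D.irr D.ne

theorem perf (D : Data Q z L) :
    ⁅Subgroup.centralizer ({z} : Set K), Subgroup.centralizer ({z} : Set K)⁆ =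
      Subgroup.centralizer ({z} : Set K) := by
  have h := congrArg (Subgroup.map (Subgroup.centralizer ({z} : Set K)).subtype) D.perfect
  rw [_root_.commutator_def, Subgroup.map_commutator, ← MonoidHom.range_eq_map, Subgroup.range_subtype] at h
  exact h

/-- **Every automorphism of `K` is inner.** -/
theorem allInner [Finite K] (D : Data Q z L) (α : MulAut K) : ∃ k : K, α = MulAut.conj k := by
  have h := D.large
  obtain ⟨π, hπs, hπ⟩ := D.quot
  obtain ⟨n₀, hin, hnz, hgen⟩ := D.gen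
  obtain ⟨x₀, hx₀, hx₀1, hx₀z, hcen⟩ := D.fix
  -- fix `z`
  obtain ⟨k, hk⟩ := exists_conj_z h D.odd α
  set β : MulAut K := (MulAut.conj k)⁻¹ * α with hβ
  have hβz : β z = z := by
    rw [hβ, OutQ.conj_inv_mul_apply, hk]; group
  -- the restriction to `C`
  have hβC : ∀ {c : K}, c * z = z * c ↔ β c * z = z * β c := by
    intro c
    constructor
    · intro hc
      have := congrArg β hc
      rwa [map_mul, map_mul, hβz] at this
    · intro hc
      apply β.injective
      rw [map_mul, map_mul, hβz]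
      exact hc
  let γ : MulAut (Subgroup.centralizer ({z} : Set K)) :=
    MulEquiv.ofBijective (MonoidHom.mk'
      (fun c : Subgroup.centralizer ({z} : Set K) => (⟨β c, Subgroup.mem_centralizer_singleton_iff.2
          (hβC.1 (Subgroup.mem_centralizer_singleton_iff.1 c.2))⟩ : Subgroup.centralizer ({z} : Set K)))
      (fun a b => Subtype.ext (map_mul β (a : K) b)))
      ⟨fun a b hab => Subtype.ext (β.injective (congrArg Subtype.val hab)),
       fun c => by
        obtain ⟨d, hd⟩ := β.surjective (c : K)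
        refine ⟨⟨d, Subgroup.mem_centralizer_singleton_iff.2 (hβC.2 ?_)⟩, Subtype.ext hd⟩
        rw [hd]
        exact Subgroup.mem_centralizer_singleton_iff.1 c.2⟩
  have hγ : ∀ c, ((γ c : Subgroup.centralizer ({z} : Set K)) : K) = β c := fun c => rfl
  obtain ⟨c₀, hc₀⟩ := exists_conj_quot π hπs γ (fun c => by
    rw [hπ, hπ, hγ]
    exact (map_mem_iff h D.irr D.ne hβz).symm) D.inner
  have hc₀z : (c₀ : K) * z = z * c₀ := Subgroup.mem_centralizer_singleton_iff.1 c₀.2
  set δ : MulAut K := (MulAut.conj (c₀ : K))⁻¹ * β with hδ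
  have hδa : ∀ x, δ x = (c₀ : K)⁻¹ * β x * c₀ := fun x => OutQ.conj_inv_mul_apply _ β x
  have hδz : δ z = z := by
    rw [hδa, hβz, mul_assoc, ← hc₀z]; group
  obtain ⟨x, -, hx⟩ := eq_conj_of_comm h D.irr D.perfect hin hnz hgen hx₀ hx₀1 hx₀z hcen δ hδz (by
    intro c hc
    have hcm : c ∈ Subgroup.centralizer ({z} : Set K) := Subgroup.mem_centralizer_singleton_iff.2 hc
    have h1 := hc₀ ⟨c, hcm⟩
    have h2 : π (c₀⁻¹ * γ ⟨c, hcm⟩ * c₀ * ⟨c, hcm⟩⁻¹) = 1 := by
      simp only [map_mul, map_inv, h1]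
      group
    have h3 := (hπ _).1 h2
    rw [hδa]
    exact h3)
  refine ⟨k * c₀ * x, ?_⟩
  have e1 : α = MulAut.conj k * β := by rw [hβ]; group
  have e2 : β = MulAut.conj (c₀ : K) * δ := by rw [hδ]; group
  rw [e1, e2, hx, map_mul, map_mul, mul_assoc]

/-- `innerCent` for a subgroup `C` equal to the centraliser. -/
theorem innerCent_aux [Finite K] (h : Large Q z) (hirr : Irr Q z) (C : Subgroup K)
    (hmemC : ∀ {c : K}, c ∈ C ↔ c * z = z * c) (π : C →* L) (hπs : Function.Surjective π)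
    (hπ : ∀ c, π c = 1 ↔ (c : K) ∈ Q) (hinn : ∀ α : MulAut L, ∃ g : L, α = MulAut.conj g)
    (hperf : commutator C = ⊤) {x₀ : K} (hx₀ : x₀ ∈ Q) (hx₀1 : x₀ ≠ 1) (hx₀z : x₀ ≠ z)
    (hcen : ∀ y ∈ Q, (∀ c : K, c * z = z * c → Eqz z (c * x₀ * c⁻¹) x₀ → Eqz z (c * y * c⁻¹) y) →
      Eqz z y 1 ∨ Eqz z y x₀) (β : MulAut C) :
    ∃ p : C, β = MulAut.conj p := by
  have hQC : Q ≤ C := fun x hx => hmemC.2 (h.comm_z x hx)
  let z' : C := ⟨z, hQC h.z_mem⟩
  let Q' : Subgroup C := Q.subgroupOf C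
  have hcz : ∀ c : C, c * z' = z' * c := fun c => Subtype.ext (hmemC.1 c.2)
  have h' : Large Q' z' :=
    { z_mem := h.z_mem
      z_ne := fun e => h.z_ne (congrArg Subtype.val e)
      z_sq := Subtype.ext h.z_sq
      comm_z := fun x _ => hcz x
      conj_mem := fun g _ x hx => h.conj_mem g (hmemC.1 g.2) x hx
      sq := fun x hx => (h.sq x hx).imp (fun e => Subtype.ext e) (fun e => Subtype.ext e)
      comm := fun x hx y hy => (h.comm x hx y hy).imp (fun e => Subtype.ext e) (fun e => Subtype.ext e)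
      cent := fun x hx hc => (h.cent x hx (fun y hy =>
        congrArg Subtype.val (hc ⟨y, hQC hy⟩ hy))).imp (fun e => Subtype.ext e) (fun e => Subtype.ext e)
      self := fun g _ hc => h.self g (hmemC.1 g.2) (fun x hx => congrArg Subtype.val (hc ⟨x, hQC hx⟩ hx)) }
  have hirr' : Irr Q' z' := by
    intro N hNQ hNinv
    have h1 := hirr (N.map C.subtype) (by
      rintro _ ⟨n, hn, rfl⟩
      exact hNQ hn) (by
      rintro g hg _ ⟨n, hn, rfl⟩
      exact ⟨⟨g, hmemC.2 hg⟩ * n * ⟨g, hmemC.2 hg⟩⁻¹, hNinv ⟨g, hmemC.2 hg⟩ (hcz _) n hn, rfl⟩)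
    rcases h1 with h1 | h1
    · left
      intro n hn
      exact (h1 n ⟨n, hn, rfl⟩).imp (fun e => Subtype.ext e) (fun e => Subtype.ext e)
    · right
      ext n
      constructor
      · exact fun hn => hNQ hn
      · intro hn
        have h2 : (n : K) ∈ N.map C.subtype := by rw [h1]; exact hn
        obtain ⟨m, hm, e⟩ := h2
        rwa [Subtype.ext e] at hm
  have hne' : ∃ x ∈ Q', x ≠ 1 ∧ x ≠ z' := ⟨⟨x₀, hQC hx₀⟩, hx₀,
    fun e => hx₀1 (congrArg Subtype.val e), fun e => hx₀z (congrArg Subtype.val e)⟩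
  -- `z'` is fixed
  have hcenter : ∀ c : C, (∀ d : C, c * d = d * c) → c = 1 ∨ c = z' := by
    intro c hc
    exact (LargeE.cent_eq h (hmemC.1 c.2) (fun x hx => congrArg Subtype.val (hc ⟨x, hQC hx⟩))).imp
      (fun e => Subtype.ext e) (fun e => Subtype.ext e)
  have hβz : β z' = z' := by
    rcases hcenter (β z') (fun d => by
      obtain ⟨e, rfl⟩ := β.surjective d
      rw [← map_mul, ← map_mul, hcz]) with h1 | h1
    · exact absurd (β.injective (h1.trans (map_one β).symm)) h'.z_ne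
    · exact h1
  -- trivial on `C/Q`
  obtain ⟨c₀, hc₀⟩ := exists_conj_quot π hπs β (fun c => by
    rw [hπ, hπ]
    exact (map_mem_iff h' hirr' hne' hβz).symm) hinn
  set δ : MulAut C := (MulAut.conj c₀)⁻¹ * β with hδ
  have hδa : ∀ x, δ x = c₀⁻¹ * β x * c₀ := fun x => OutQ.conj_inv_mul_apply _ β x
  have hδz : δ z' = z' := by
    rw [hδa, hβz, mul_assoc, ← hcz]; group
  have hδc : ∀ c : C, c * z' = z' * c → δ c * c⁻¹ ∈ Q' := by
    intro c _
    have h2 : π (c₀⁻¹ * β c * c₀ * c⁻¹) = 1 := by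
      simp only [map_mul, map_inv, hc₀]
      group
    have h3 := (hπ _).1 h2
    rw [hδa]
    exact h3
  have hQz := eqz_of_comm h' hirr' (x₀ := ⟨x₀, hQC hx₀⟩) hx₀ (fun e => hx₀1 (congrArg Subtype.val e))
    (fun e => hx₀z (congrArg Subtype.val e)) (by
      intro y hy hyc
      have h1 := hcen y hy (fun c hc hcx => by
        have h2 := hyc ⟨c, hmemC.2 hc⟩ (hcz _) (hcx.imp (fun e => Subtype.ext e) (fun e => Subtype.ext e))
        exact h2.imp (fun e => congrArg Subtype.val e) (fun e => congrArg Subtype.val e))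
      exact h1.imp (fun h2 => h2.imp (fun e => Subtype.ext e) (fun e => Subtype.ext e))
        (fun h2 => h2.imp (fun e => Subtype.ext e) (fun e => Subtype.ext e))) δ hδz hδc
  have hperf' : commutator (Subgroup.centralizer ({z'} : Set C)) = ⊤ := by
    have htop : Subgroup.centralizer ({z'} : Set C) = ⊤ := by
      rw [eq_top_iff]
      intro c _
      exact Subgroup.mem_centralizer_singleton_iff.2 (hcz c)
    rw [htop]
    have h1 := congrArg (Subgroup.map (Subgroup.topEquiv (G := C)).symm.toMonoidHom) hperf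
    rw [_root_.commutator_def, Subgroup.map_commutator, Subgroup.map_top_of_surjective _
      (Subgroup.topEquiv (G := C)).symm.surjective] at h1
    rw [_root_.commutator_def]
    exact h1
  obtain ⟨x, -, hx⟩ := exists_conj_cent h' hne' hperf' δ hδz hQz
  refine ⟨c₀ * x, ?_⟩
  ext c : 1
  have h1 := hx c (hcz c)
  rw [hδa] at h1
  have h2 : β c = c₀ * (x * c * x⁻¹) * c₀⁻¹ := by rw [← h1]; group
  rw [h2, MulAut.conj_apply]; group

/-- **Every automorphism of `C_K(z)` is inner.** -/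
theorem innerCent [Finite K] (D : Data Q z L) (β : MulAut (Subgroup.centralizer ({z} : Set K))) :
    ∃ p : Subgroup.centralizer ({z} : Set K), β = MulAut.conj p := by
  obtain ⟨π, hπs, hπ⟩ := D.quot
  obtain ⟨x₀, hx₀, hx₀1, hx₀z, hcen⟩ := D.fix
  exact innerCent_aux D.large D.irr _ Subgroup.mem_centralizer_singleton_iff π hπs hπ D.inner D.perfect
    hx₀ hx₀1 hx₀z hcen β

/-- **The sheet.** -/
theorem sheet [Finite K] (D : Data Q z L) : SheetE z (Subgroup.centralizer ({z} : Set K)) Q := by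
  have h := D.large
  have hmemC : ∀ {c : K}, c ∈ Subgroup.centralizer ({z} : Set K) ↔ c * z = z * c :=
    fun {c} => Subgroup.mem_centralizer_singleton_iff
  have hQC : Q ≤ Subgroup.centralizer ({z} : Set K) := fun x hx => hmemC.2 (h.comm_z x hx)
  have htop : (MulAut.conj : K →* MulAut K).range = ⊤ := by
    rw [eq_top_iff]
    intro α _
    obtain ⟨k, rfl⟩ := D.allInner α
    exact ⟨k, rfl⟩
  refine
    { zz := h.z_sq
      z1 := h.z_ne
      syl := ?_
      cen := fun x hx => hmemC.1 hx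
      perf := D.perf
      der := ⟨0, le_of_eq rfl⟩
      out := ?_
      schreier := ⟨0, by rw [htop]; exact le_top⟩
      zR := h.z_mem
      RP := hQC
      R2 := isPGroup h
      Rn := fun x hx r hr => h.conj_mem x (hmemC.1 hx) r hr
      Rmax := ?_
      Rmin := ?_
      Rna := ?_
      cR := fun x hx hr => h.self x (hmemC.1 hx) hr
      aut := ?_
      ytrick := ?_ }
  · obtain ⟨S, hS⟩ := exists_sylow D.odd
    have hQS := le_sylow h S hS
    exact ⟨S, hQS h.z_mem, fun x hx => hmemC.1 (hS hx), fun y hy hyc =>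
      LargeE.cent_eq h (hmemC.1 (hS hy)) (fun x hx => (hyc x (hQS hx)).symm)⟩
  · rw [htop, Subgroup.index_top]; decide
  · intro B hBC hB2 hBn
    exact LargeO2.le_of_normal h D.irr D.ne hB2 (fun w hw => hmemC.1 (hBC hw))
      (fun u hu w hw => hBn u (hmemC.2 hu) w hw)
  · intro B hBQ hBn
    exact D.irr B hBQ (fun g hg n hn => hBn g (hmemC.2 hg) n hn)
  · obtain ⟨x, hx, hx1, hxz⟩ := D.ne
    obtain ⟨y, hy, hxy⟩ := exists_not_comm h hx hx1 hxz
    refine ⟨y, hy, x, hx, fun e => ?_⟩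
    rw [e] at hxy
    exact h.z_ne (left_eq_mul.1 hxy)
  · intro α _ hαz hα
    obtain ⟨n₀, hin, hnz, hgen⟩ := D.gen
    obtain ⟨x₀, hx₀, hx₀1, hx₀z, hcen⟩ := D.fix
    exact eq_conj_of_comm h D.irr D.perfect hin hnz hgen hx₀ hx₀1 hx₀z hcen α hαz (by
      intro c hc
      have h1 := h.conj_mem c hc _ (hα c (hmemC.2 hc))
      have e : c * (c⁻¹ * α c) * c⁻¹ = α c * c⁻¹ := by group
      rwa [e] at h1)
  · obtain ⟨k, hk, hkQ⟩ := D.out
    have hw : k⁻¹ * z * k ∈ Subgroup.centralizer ({z} : Set K) := by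
      rw [hmemC]
      calc k⁻¹ * z * k * z = k⁻¹ * (z * (k * z * k⁻¹)) * k := by group
        _ = k⁻¹ * ((k * z * k⁻¹) * z) * k := by rw [hk]
        _ = z * (k⁻¹ * z * k) := by group
    refine ⟨k, hmemC.2 hk, hkQ, hw, fun β _ => ?_⟩
    obtain ⟨p, rfl⟩ := D.innerCent β
    exact ⟨p, hmemC.1 p.2, rfl⟩

end Data

end Cfsg.Agent.KFacts.SheetInner
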