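import Cfsg.Agent.OddHalf.D8.Sheet

/-!
# Transport of the sheet of type (E) along an isomorphism

`sheetE_map : SheetE z P R → SheetE (e z) (P.map e) (R.map e)` for `e : K ≃* K'`.
-/

set_option autoImplicit false

namespace Cfsg.Agent.KFacts.SheetIso

open Subgroup Cfsg.Agent.OddHalf Cfsg.Agent.OddHalf.D8.Sheet

variable {K K' : Type*} [Group K] [Group K']

theorem dser_map' (n : ℕ) (H : Subgroup K) (f : K →* K') :
    TR.dser n (H.map f) = (TR.dser n H).map f := by
  induction n with
  | zero => rfl
  | succ n ih => rw [TR.dser_succ', TR.dser_succ', ih, ← Subgroup.map_commutator]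

theorem centralizer_map (e : K ≃* K') (z : K) :
    centralizer ({e z} : Set K') = (centralizer ({z} : Set K)).map (e : K →* K') := by
  ext x
  rw [mem_centralizer_singleton_iff]
  constructor
  · intro hx
    refine ⟨e.symm x, mem_centralizer_singleton_iff.2 ?_, e.apply_symm_apply x⟩
    apply e.injective
    rw [map_mul, map_mul, e.apply_symm_apply]
    exact hx
  · rintro ⟨y, hy, rfl⟩
    show e y * e z = e z * e y
    rw [← map_mul, ← map_mul, mem_centralizer_singleton_iff.1 hy]

theorem conj_range_map (e : K ≃* K') :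
    (MulAut.conj : K' →* MulAut K').range =
      ((MulAut.conj : K →* MulAut K).range).map (MulAut.congr e : MulAut K →* MulAut K') := by
  ext α
  constructor
  · rintro ⟨x, rfl⟩
    refine ⟨MulAut.conj (e.symm x), ⟨_, rfl⟩, ?_⟩
    ext y
    show e (e.symm x * e.symm y * (e.symm x)⁻¹) = x * y * x⁻¹
    rw [map_mul, map_mul, map_inv, e.apply_symm_apply, e.apply_symm_apply]
  · rintro ⟨_, ⟨x, rfl⟩, rfl⟩
    refine ⟨e x, ?_⟩
    ext y
    show e x * y * (e x)⁻¹ = e (x * e.symm y * x⁻¹)
    rw [map_mul, map_mul, map_inv, e.apply_symm_apply]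

theorem mem_map' (e : K ≃* K') {H : Subgroup K} {x : K'} :
    x ∈ H.map (e : K →* K') ↔ e.symm x ∈ H := by
  constructor
  · rintro ⟨y, hy, rfl⟩
    show e.symm (e y) ∈ H
    rwa [e.symm_apply_apply]
  · intro h
    exact ⟨_, h, e.apply_symm_apply x⟩

/-- the isomorphism `P ≃* e(P)` -/
noncomputable def res (e : K ≃* K') (P : Subgroup K) : P ≃* P.map (e : K →* K') :=
  P.equivMapOfInjective (e : K →* K') e.injective

theorem res_coe (e : K ≃* K') (P : Subgroup K) (x : P) : (res e P x : K') = e x := rfl

theorem res_symm_coe (e : K ≃* K') (P : Subgroup K) (y : P.map (e : K →* K')) :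
    (((res e P).symm y : P) : K) = e.symm y := by
  apply e.injective
  rw [e.apply_symm_apply, ← res_coe, MulEquiv.apply_symm_apply]

/-- the image of a Sylow subgroup -/
noncomputable def sylMap (e : K ≃* K') (S : Sylow 2 K) : Sylow 2 K' where
  toSubgroup := (S : Subgroup K).map (e : K →* K')
  isPGroup' := S.isPGroup'.map _
  is_maximal' := by
    intro Q hQ hle
    have h1 : IsPGroup 2 (Q.map (e.symm : K' →* K)) := hQ.map _
    have h2 : (S : Subgroup K) ≤ Q.map (e.symm : K' →* K) := by
      intro s hs
      exact ⟨e s, hle ⟨s, hs, rfl⟩, e.symm_apply_apply s⟩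
    have h3 := S.is_maximal' h1 h2
    apply le_antisymm _ hle
    intro q hq
    rw [mem_map']
    have : e.symm q ∈ Q.map (e.symm : K' →* K) := ⟨q, hq, rfl⟩
    rw [h3] at this
    exact this

theorem mem_sylMap (e : K ≃* K') (S : Sylow 2 K) (x : K') : x ∈ sylMap e S ↔ e.symm x ∈ S :=
  mem_map' e (H := (S : Subgroup K))

variable {z : K} {P R : Subgroup K}

/-- **transport of the sheet** -/
theorem sheetE_map (e : K ≃* K') (h : SheetE z P R) :
    SheetE (e z) (P.map (e : K →* K')) (R.map (e : K →* K')) where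
  zz := by rw [← map_mul, h.zz, map_one]
  z1 := fun h1 => h.z1 (e.injective (by rw [h1, map_one]))
  syl := by
    obtain ⟨S, hzS, hS, hc⟩ := h.syl
    refine ⟨sylMap e S, (mem_sylMap e S _).2 (by rwa [e.symm_apply_apply]), ?_, ?_⟩
    · intro x hx
      have h1 := congrArg e (hS _ ((mem_sylMap e S _).1 hx))
      rwa [map_mul, map_mul, e.apply_symm_apply] at h1
    · intro y hy hyc
      have h1 := hc (e.symm y) ((mem_sylMap e S _).1 hy) (by
        intro x hx
        have h2 := hyc (e x) ((mem_sylMap e S _).2 (by rwa [e.symm_apply_apply]))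
        have h3 := congrArg e.symm h2
        rwa [map_mul, map_mul, e.symm_apply_apply] at h3)
      rcases h1 with h1 | h1
      · left
        rw [← e.apply_symm_apply y, h1, map_one]
      · right
        rw [← h1, e.apply_symm_apply]
  cen := by
    intro x hx
    have h1 := congrArg e (h.cen _ ((mem_map' e).1 hx))
    rwa [map_mul, map_mul, e.apply_symm_apply] at h1
  perf := by rw [← Subgroup.map_commutator, h.perf]
  der := by
    obtain ⟨m, hm⟩ := h.der
    refine ⟨m, ?_⟩
    rw [centralizer_map, dser_map']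
    exact Subgroup.map_mono hm
  out := by
    rw [conj_range_map e]
    have h1 : (((MulAut.conj : K →* MulAut K).range).map
        (MulAut.congr e : MulAut K →* MulAut K')).index = (MulAut.conj : K →* MulAut K).range.index :=
      Subgroup.index_map_equiv _ (MulAut.congr e)
    rw [h1]
    exact h.out
  schreier := by
    obtain ⟨n, hn⟩ := h.schreier
    refine ⟨n, ?_⟩
    rw [conj_range_map e]
    have h1 : (⊤ : Subgroup (MulAut K')) =
        (⊤ : Subgroup (MulAut K)).map (MulAut.congr e : MulAut K →* MulAut K') := by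
      rw [eq_comm, eq_top_iff]
      intro α _
      exact ⟨(MulAut.congr e).symm α, mem_top _, (MulAut.congr e).apply_symm_apply α⟩
    rw [h1, dser_map']
    exact Subgroup.map_mono hn
  zR := (mem_map' e).2 (by rw [e.symm_apply_apply]; exact h.zR)
  RP := Subgroup.map_mono h.RP
  R2 := h.R2.map _
  Rn := by
    intro x hx r hr
    rw [mem_map'] at hx hr ⊢
    rw [map_mul, map_mul, map_inv]
    exact h.Rn _ hx _ hr
  Rmax := by
    intro B hB hB2 hBn
    have h1 : B.map (e.symm : K' →* K) ≤ R := by
      apply h.Rmax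
      · rintro _ ⟨b, hb, rfl⟩
        exact (mem_map' e).1 (hB hb)
      · exact hB2.map _
      · rintro x hx _ ⟨b, hb, rfl⟩
        refine ⟨e x * b * (e x)⁻¹, hBn _ ((mem_map' e).2 (by rwa [e.symm_apply_apply])) b hb, ?_⟩
        show e.symm (e x * b * (e x)⁻¹) = x * e.symm b * x⁻¹
        rw [map_mul, map_mul, map_inv, e.symm_apply_apply]
    intro b hb
    exact (mem_map' e).2 (h1 ⟨b, hb, rfl⟩)
  Rmin := by
    intro B hB hBn
    rcases h.Rmin (B.map (e.symm : K' →* K)) (by
      rintro _ ⟨b, hb, rfl⟩
      exact (mem_map' e).1 (hB hb)) (by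
      rintro x hx _ ⟨b, hb, rfl⟩
      refine ⟨e x * b * (e x)⁻¹, hBn _ ((mem_map' e).2 (by rwa [e.symm_apply_apply])) b hb, ?_⟩
      show e.symm (e x * b * (e x)⁻¹) = x * e.symm b * x⁻¹
      rw [map_mul, map_mul, map_inv, e.symm_apply_apply]) with h1 | h1
    · left
      intro b hb
      rcases h1 (e.symm b) ⟨b, hb, rfl⟩ with h2 | h2
      · left
        rw [← e.apply_symm_apply b, h2, map_one]
      · right
        rw [← h2, e.apply_symm_apply]
    · right
      apply le_antisymm hB
      rintro _ ⟨r, hr, rfl⟩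
      rw [← h1] at hr
      obtain ⟨b, hb, hbr⟩ := hr
      have : (e : K →* K') r = b := by
        rw [← hbr]
        exact e.apply_symm_apply b
      rw [this]
      exact hb
  Rna := by
    obtain ⟨a, ha, b, hb, hab⟩ := h.Rna
    refine ⟨e a, ⟨a, ha, rfl⟩, e b, ⟨b, hb, rfl⟩, ?_⟩
    rw [← map_mul, ← map_mul]
    exact fun h1 => hab (e.injective h1)
  cR := by
    intro x hx hc
    rw [mem_map'] at hx ⊢
    apply h.cR _ hx
    intro r hr
    have h1 := congrArg e.symm (hc (e r) ⟨r, hr, rfl⟩)
    rwa [map_mul, map_mul, e.symm_apply_apply] at h1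
  aut := by
    intro α hα2 hαz hα
    have hev : ∀ x : K, (MulAut.congr e).symm α x = e.symm (α (e x)) := fun x => rfl
    obtain ⟨r, hr, hre⟩ := h.aut ((MulAut.congr e).symm α) (by
      have h1 := hα2.map ((MulAut.congr e).symm : MulAut K' →* MulAut K)
      rw [MonoidHom.map_zpowers] at h1
      exact h1) (by
      rw [hev, hαz, e.symm_apply_apply]) (by
      intro x hx
      rw [hev]
      have h1 := hα (e x) ⟨x, hx, rfl⟩
      rw [mem_map', map_mul, map_inv, e.symm_apply_apply] at h1
      exact h1)
    refine ⟨e r, ⟨r, hr, rfl⟩, ?_⟩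
    have h1 : α = MulAut.congr e (MulAut.conj r) := by
      rw [← hre]
      exact ((MulAut.congr e).apply_symm_apply α).symm
    rw [h1]
    ext y
    show e (r * e.symm y * r⁻¹) = e r * y * (e r)⁻¹
    rw [map_mul, map_mul, map_inv, e.apply_symm_apply]
  ytrick := by
    obtain ⟨k, hk1, hk2, hk3, hk⟩ := h.ytrick
    refine ⟨e k, ?_, ?_, ?_, ?_⟩
    · rw [mem_map', map_mul, map_mul, map_inv, e.symm_apply_apply, e.symm_apply_apply]
      exact hk1
    · rw [mem_map', map_mul, map_mul, map_inv, e.symm_apply_apply, e.symm_apply_apply]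
      exact hk2
    · rw [mem_map', map_mul, map_mul, map_inv, e.symm_apply_apply, e.symm_apply_apply]
      exact hk3
    · intro β hβ
      have hev : ∀ x : P, ((((MulAut.congr (res e P)).symm β) x : P) : K) = e.symm (β (res e P x)) := by
        intro x
        show (((res e P).symm (β (res e P x)) : P) : K) = _
        rw [res_symm_coe]
      obtain ⟨p, hp, hpe⟩ := hk ((MulAut.congr (res e P)).symm β) (by
        rw [hev]
        have h1 : res e P ⟨z, h.RP h.zR⟩ = ⟨e z, (mem_map' e).2 (by
            rw [e.symm_apply_apply]; exact h.RP h.zR)⟩ := Subtype.ext rfl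
        rw [h1]
        apply e.injective
        rw [e.apply_symm_apply]
        exact hβ)
      refine ⟨e p, by rw [← map_mul, ← map_mul, hp], ?_⟩
      rw [hev] at hpe
      have h1 := congrArg e hpe
      rw [e.apply_symm_apply] at h1
      have h2 : res e P ⟨k⁻¹ * z * k, hk3⟩ = ⟨(e k)⁻¹ * e z * e k, (mem_map' e).2 (by
          rw [map_mul, map_mul, map_inv, e.symm_apply_apply, e.symm_apply_apply]
          exact hk3)⟩ := Subtype.ext (by
        show e (k⁻¹ * z * k) = _
        rw [map_mul, map_mul, map_inv])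
      rw [h2] at h1
      rw [h1]
      rw [map_mul, map_mul, map_mul, map_mul, map_inv, map_inv]

end Cfsg.Agent.KFacts.SheetIso
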