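import Cfsg.Agent.Nodes.Coroot

/-!
Chevalley groups in characteristic two, abstract form (K-group facts for S1765, node D10).

* `Data cs h e` : `e x t` (`x` a root, `t` in a field `K` of characteristic `2`) root elements with all commutator
  relations of characteristic two (no triple bonds), the elements `nel e x = e x 1 * e (-x) 1 * e x 1` permuting the
  root elements WITHOUT SIGNS and the torus elements `hel e x c` acting by `c ^ ⟨y, x^∨⟩`;
* `Data.mk'` : it is enough to know the relations with a simple root on one side;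
* `Data.nel_conj`, `Data.hel_conj` : `n_x`, `h_x(c)` for an arbitrary root `x`;
* `Data.map`, `Data.codRestrict`.
-/

set_option autoImplicit false
set_option linter.unusedSectionVars false

namespace Cfsg.Agent.KFacts.ChevTwo

open CoxeterSystem Cfsg.Agent.ChevalleyStructure.CoxeterGeom Cfsg.Agent.Tits.Roots Cfsg.Agent.Tits.Core
  Cfsg.Agent.Tits.RootComb Cfsg.Agent.Nodes.Comb Cfsg.Agent.Nodes.Coroot
open scoped commutatorElement

variable {I W Y K : Type*} [Fintype I] [DecidableEq I] [Group W] [Group Y] [Field K] {M : CoxeterMatrix I}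

/-- `n_x(c)` (characteristic two) -/
def nc (e : (I → ℤ) → K → Y) (x : I → ℤ) (c : K) : Y := e x c * e (-x) c⁻¹ * e x c

/-- `n_x = n_x(1)` -/
def nel (e : (I → ℤ) → K → Y) (x : I → ℤ) : Y := nc e x 1

/-- `h_x(c) = n_x(c) n_x(1)` -/
def hel (e : (I → ℤ) → K → Y) (x : I → ℤ) (c : K) : Y := nc e x c * nel e x

theorem nel_def (e : (I → ℤ) → K → Y) (x : I → ℤ) : nel e x = e x 1 * e (-x) 1 * e x 1 := by
  unfold nel nc; rw [inv_one]

theorem nc_def (e : (I → ℤ) → K → Y) (x : I → ℤ) (c : K) : nc e x c = e x c * e (-x) c⁻¹ * e x c := rfl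

theorem hel_def (e : (I → ℤ) → K → Y) (x : I → ℤ) (c : K) : hel e x c = nc e x c * nel e x := rfl

/-- A Chevalley group of characteristic two without triple bonds. -/
structure Data (cs : CoxeterSystem M W) {A : I → I → ℤ} (h : IsCartan M A) (e : (I → ℤ) → K → Y) : Prop where
  two : ∀ t : K, t + t = 0
  add : ∀ x, IsRoot cs h x → ∀ t u, e x (t + u) = e x t * e x u
  inj : ∀ x, IsRoot cs h x → ∀ t, e x t = 1 → t = 0
  refl : ∀ i x, IsRoot cs h x → ∀ t, nel e (sr i) * e x t * (nel e (sr i))⁻¹ = e (rep cs h (cs.simple i) x) t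
  tor : ∀ i x, IsRoot cs h x → ∀ c : K, c ≠ 0 → ∀ t,
    hel e (sr i) c * e x t * (hel e (sr i) c)⁻¹ = e x (c ^ pairing A i x * t)
  lace : ∀ x y, IsRoot cs h x → IsRoot cs h y → x ≠ y → x ≠ -y → cpr cs h x y ≤ 2 ∧ -2 ≤ cpr cs h x y
  comm0 : ∀ x y, IsRoot cs h x → IsRoot cs h y → x ≠ y → x ≠ -y → 0 ≤ cpr cs h x y → ∀ t u, ⁅e x t, e y u⁆ = 1
  comm1 : ∀ x y, IsRoot cs h x → IsRoot cs h y → cpr cs h x y = -1 → cpr cs h y x = -1 → ∀ t u,
    ⁅e x t, e y u⁆ = e (x + y) (t * u)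
  comm2 : ∀ x y, IsRoot cs h x → IsRoot cs h y → cpr cs h x y = -2 → cpr cs h y x = -1 → ∀ t u,
    ⁅e x t, e y u⁆ = e (x + y) (t * u) * e (x + (2 : ℤ) • y) (t * u ^ 2)

variable {cs : CoxeterSystem M W} {A : I → I → ℤ} {h : IsCartan M A} {e : (I → ℤ) → K → Y}

/-! ### Transport by the Weyl group -/

section transport

variable (hrefl : ∀ i x, IsRoot cs h x → ∀ t, nel e (sr i) * e x t * (nel e (sr i))⁻¹ = e (rep cs h (cs.simple i) x) t)

include hrefl in
theorem exists_rep (w : W) : ∃ n ∈ Subgroup.closure {g | ∃ x t, IsRoot cs h x ∧ g = e x t},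
    ∀ x, IsRoot cs h x → ∀ t, n * e x t * n⁻¹ = e (rep cs h w x) t := by
  obtain ⟨ω, rfl⟩ := cs.wordProd_surjective w
  induction ω with
  | nil =>
    refine ⟨1, one_mem _, fun x hx t => ?_⟩
    rw [wordProd_nil, map_one, Module.End.one_apply, one_mul, inv_one, mul_one]
  | cons i ω ih =>
    obtain ⟨n, hn, ih⟩ := ih
    have h1 : nel e (sr i) ∈ Subgroup.closure {g | ∃ x t, IsRoot cs h x ∧ g = e x t} := by
      rw [nel_def]
      refine mul_mem (mul_mem ?_ ?_) ?_
      · exact Subgroup.subset_closure ⟨_, _, isRoot_sr cs h i, rfl⟩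
      · exact Subgroup.subset_closure ⟨_, _, (isRoot_sr cs h i).neg, rfl⟩
      · exact Subgroup.subset_closure ⟨_, _, isRoot_sr cs h i, rfl⟩
    refine ⟨nel e (sr i) * n, mul_mem h1 hn, fun x hx t => ?_⟩
    rw [wordProd_cons, rep_mul_apply, ← hrefl i _ (hx.act _), ← ih x hx t]
    group

theorem conj_comm' {Y : Type*} [Group Y] (n a b : Y) : ⁅n * a * n⁻¹, n * b * n⁻¹⁆ = n * ⁅a, b⁆ * n⁻¹ := by
  rw [commutatorElement_def, commutatorElement_def]; group

end transport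

/-- The general relations follow from those with a simple root on one side. -/
theorem Data.mk' [Finite W]
    (two : ∀ t : K, t + t = 0)
    (add : ∀ x, IsRoot cs h x → ∀ t u, e x (t + u) = e x t * e x u)
    (inj : ∀ x, IsRoot cs h x → ∀ t, e x t = 1 → t = 0)
    (refl : ∀ i x, IsRoot cs h x → ∀ t, nel e (sr i) * e x t * (nel e (sr i))⁻¹ = e (rep cs h (cs.simple i) x) t)
    (tor : ∀ i x, IsRoot cs h x → ∀ c : K, c ≠ 0 → ∀ t,
      hel e (sr i) c * e x t * (hel e (sr i) c)⁻¹ = e x (c ^ pairing A i x * t))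
    (lace : ∀ x i, IsRoot cs h x → x ≠ sr i → x ≠ -sr i → pairing A i x ≤ 2 ∧ -2 ≤ pairing A i x)
    (comm0 : ∀ x i, IsRoot cs h x → x ≠ sr i → x ≠ -sr i → 0 ≤ pairing A i x → ∀ t u, ⁅e x t, e (sr i) u⁆ = 1)
    (comm1 : ∀ x i, IsRoot cs h x → pairing A i x = -1 → cpr cs h (sr i) x = -1 → ∀ t u,
      ⁅e x t, e (sr i) u⁆ = e (x + sr i) (t * u))
    (comm2 : ∀ x i, IsRoot cs h x → pairing A i x = -2 → cpr cs h (sr i) x = -1 → ∀ t u,
      ⁅e x t, e (sr i) u⁆ = e (x + sr i) (t * u) * e (x + (2 : ℤ) • sr i) (t * u ^ 2)) : Data cs h e := by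
  have key : ∀ x y, IsRoot cs h x → IsRoot cs h y → ∃ w i x', IsRoot cs h x' ∧ x = rep cs h w x' ∧
      y = rep cs h w (sr i) ∧ cpr cs h x y = pairing A i x' ∧ cpr cs h y x = cpr cs h (sr i) x' ∧
      ∃ n : Y, ∀ z, IsRoot cs h z → ∀ t, n * e z t * n⁻¹ = e (rep cs h w z) t := by
    intro x y hx hy
    obtain ⟨w, i, rfl⟩ := hy
    obtain ⟨n, -, hn⟩ := exists_rep refl w
    refine ⟨w, i, rep cs h w⁻¹ x, hx.act _, (rep_apply_inv _ _ _ _).symm, rfl, ?_, ?_, n, hn⟩
    · rw [cpr_rep_sr]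
    · have h1 := cpr_rep cs h w (sr i) (hx.act w⁻¹)
      rw [rep_apply_inv] at h1
      exact h1
  refine ⟨two, add, inj, refl, tor, ?_, ?_, ?_, ?_⟩
  · intro x y hx hy hxy hxy'
    obtain ⟨w, i, x', hx', rfl, rfl, e1, -, -⟩ := key x y hx hy
    rw [e1]
    exact lace x' i hx' (fun h0 => hxy (by rw [h0])) (fun h0 => hxy' (by rw [h0, map_neg]))
  · intro x y hx hy hxy hxy' h0 t u
    obtain ⟨w, i, x', hx', rfl, rfl, e1, -, n, hn⟩ := key x y hx hy
    rw [← hn x' hx', ← hn _ (isRoot_sr cs h i), conj_comm', comm0 x' i hx' (fun h0 => hxy (by rw [h0]))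
      (fun h0 => hxy' (by rw [h0, map_neg])) (e1 ▸ h0), mul_one, mul_inv_cancel]
  · intro x y hx hy h1 h2 t u
    obtain ⟨w, i, x', hx', rfl, rfl, e1, e2, n, hn⟩ := key x y hx hy
    have hr : IsRoot cs h (x' + sr i) := by
      have := isRoot_refl cs h hx' (isRoot_sr cs h i)
      rwa [cpr_sr, ← e1, h1, neg_one_smul, sub_neg_eq_add] at this
    rw [← hn x' hx', ← hn _ (isRoot_sr cs h i), conj_comm', comm1 x' i hx' (e1 ▸ h1) (e2 ▸ h2), hn _ hr, map_add]
  · intro x y hx hy h1 h2 t u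
    obtain ⟨w, i, x', hx', rfl, rfl, e1, e2, n, hn⟩ := key x y hx hy
    have hr : IsRoot cs h (x' + (2 : ℤ) • sr i) := by
      have := isRoot_refl cs h hx' (isRoot_sr cs h i)
      rwa [cpr_sr, ← e1, h1, neg_smul, sub_neg_eq_add] at this
    have hr' : IsRoot cs h (x' + sr i) := by
      have := (isRoot_refl cs h (isRoot_sr cs h i) hx')
      rw [← e2, h2, neg_one_smul, sub_neg_eq_add, add_comm] at this
      exact this
    have e3 := hn _ hr' (t * u)
    have e4 := hn _ hr (t * u ^ 2)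
    rw [map_add] at e3
    rw [map_add, map_smul] at e4
    rw [← hn x' hx', ← hn _ (isRoot_sr cs h i), conj_comm', comm2 x' i hx' (e1 ▸ h1) (e2 ▸ h2), ← e3, ← e4]
    group

end Cfsg.Agent.KFacts.ChevTwo
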