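import Mathlib
import Cfsg.Agent.Nodes.NormX
import Cfsg.Agent.Nodes.Slope

/-!
Intersections of parabolic subgroups of a root group datum (ODD, D10; fact (I)).

* `PS T X Ω = T ⊔ ⟨X x : x ∈ Ω⟩`, `Half cs h f = {x root | 0 ≤ f x}` for an additive functional `f`;
* `cj_PS`, `exists_dom` (every functional is dominant up to `W`), `PS_half_of_dom : PS (Half f) = PJ {i | f α_i = 0}`;
* `key` : `u ∈ ⟨X x : f x < 0⟩`, `k ∈ N`, `u k ∈ PS (Half f)` ⟹ `u = 1`;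
* `Par cs h Ω`, `step`, `inter` : `GG ⊓ ⋂ PS (Half f) = PS {x | ∀ f, 0 ≤ f x}`.
-/

set_option autoImplicit false
set_option linter.unusedSectionVars false

namespace Cfsg.Agent.KFacts.RgdPar

open CoxeterSystem Cfsg.Agent.ChevalleyStructure.CoxeterGeom Cfsg.Agent.Tits.Roots Cfsg.Agent.Tits.Core
  Cfsg.Agent.Tits.RootComb Cfsg.Agent.Tits.Exchange Cfsg.Agent.Nodes.Reps Cfsg.Agent.Nodes.BNOf
  Cfsg.Agent.Nodes.StabComb Cfsg.Agent.Nodes.Bruhat Cfsg.Agent.Nodes.OppDec Cfsg.Agent.Nodes.LeviDec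
open scoped commutatorElement

variable {I W Y : Type*} [Fintype I] [DecidableEq I] [Group W] [Group Y] {M : CoxeterMatrix I}
  {cs : CoxeterSystem M W} {A : I → I → ℤ} {h : IsCartan M A} {p : ℕ} {T : Subgroup Y} {n : I → Y}
  {X : (I → ℤ) → Subgroup Y}

/-- `T` and the root groups of `Ω` -/
def PS (T : Subgroup Y) (X : (I → ℤ) → Subgroup Y) (Ω : Set (I → ℤ)) : Subgroup Y := T ⊔ RGD.Sup X Ω

/-- the half space of `f` -/
def Half (cs : CoxeterSystem M W) (h : IsCartan M A) (f : (I → ℤ) →+ ℤ) : Set (I → ℤ) :=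
  {x | IsRoot cs h x ∧ 0 ≤ f x}

theorem T_le_PS {Ω : Set (I → ℤ)} : T ≤ PS T X Ω := le_sup_left

theorem Sup_le_PS {Ω : Set (I → ℤ)} : RGD.Sup X Ω ≤ PS T X Ω := le_sup_right

theorem X_le_PS {Ω : Set (I → ℤ)} {x : I → ℤ} (hx : x ∈ Ω) : X x ≤ PS T X Ω := le_trans (RGD.le_Sup hx) Sup_le_PS

theorem PS_mono {Ω Ω' : Set (I → ℤ)} (hΩ : Ω ⊆ Ω') : PS T X Ω ≤ PS T X Ω' := sup_le_sup_left (RGD.Sup_mono hΩ) _

theorem PS_le_GG {Ω : Set (I → ℤ)} (hΩ : ∀ x ∈ Ω, IsRoot cs h x) : PS T X Ω ≤ GG cs h T X :=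
  sup_le_sup_left (RGD.Sup_mono hΩ) _

/-- the functional `f ∘ w` -/
noncomputable def pull (cs : CoxeterSystem M W) (h : IsCartan M A) (f : (I → ℤ) →+ ℤ) (w : W) : (I → ℤ) →+ ℤ :=
  f.comp (rep cs h w).toAddMonoidHom

theorem pull_apply (f : (I → ℤ) →+ ℤ) (w : W) (x : I → ℤ) : pull cs h f w x = f (rep cs h w x) := rfl

theorem eq_sum_sr (x : I → ℤ) : x = ∑ k, x k • (sr k : I → ℤ) := by
  funext j
  rw [Finset.sum_apply]
  simp only [Pi.smul_apply, smul_eq_mul]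
  rw [Finset.sum_eq_single j]
  · rw [sr_self, mul_one]
  · intro k _ hk
    rw [sr_ne (Ne.symm hk), mul_zero]
  · intro hj
    exact absurd (Finset.mem_univ j) hj

theorem map_eq_sum (f : (I → ℤ) →+ ℤ) (x : I → ℤ) : f x = ∑ k, x k * f (sr k) := by
  conv_lhs => rw [eq_sum_sr x]
  rw [map_sum]
  refine Finset.sum_congr rfl fun k _ => ?_
  rw [map_zsmul, smul_eq_mul]

theorem dom_nonneg {f : (I → ℤ) →+ ℤ} (hf : ∀ i, 0 ≤ f (sr i)) {x : I → ℤ} (hx : 0 ≤ x) : 0 ≤ f x := by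
  rw [map_eq_sum]
  exact Finset.sum_nonneg fun k _ => mul_nonneg (hx k) (hf k)

theorem dom_zero {f : (I → ℤ) →+ ℤ} (hf : ∀ i, 0 ≤ f (sr i)) {x : I → ℤ} (hx : 0 ≤ x) (h0 : f x = 0) (k : I)
    (hk : f (sr k) ≠ 0) : x k = 0 := by
  rw [map_eq_sum] at h0
  have h1 := (Finset.sum_eq_zero_iff_of_nonneg (fun k _ => mul_nonneg (hx k) (hf k))).1 h0 k (Finset.mem_univ k)
  exact (mul_eq_zero.1 h1).resolve_right hk

/-- the roots killed by a dominant functional -/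
theorem rootsJ_eq {f : (I → ℤ) →+ ℤ} (hf : ∀ i, 0 ≤ f (sr i)) :
    RootsJ cs h {i | f (sr i) = 0} = {x | IsRoot cs h x ∧ f x = 0} := by
  ext x
  constructor
  · rintro ⟨hx, hk⟩
    refine ⟨hx, ?_⟩
    rw [map_eq_sum]
    refine Finset.sum_eq_zero fun k _ => ?_
    by_cases h1 : f (sr k) = 0
    · rw [h1, mul_zero]
    · rw [hk k h1, zero_mul]
  · rintro ⟨hx, h0⟩
    refine ⟨hx, fun k hk => ?_⟩
    rcases hx.pos_or_neg with h1 | h1
    · exact dom_zero hf h1 h0 k hk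
    · have h2 := dom_zero hf (neg_nonneg.2 h1) (by rw [map_neg, h0, neg_zero]) k hk
      rwa [Pi.neg_apply, neg_eq_zero] at h2

theorem notNJ_of_neg {f : (I → ℤ) →+ ℤ} (hf : ∀ i, 0 ≤ f (sr i)) {x : I → ℤ} (hx : IsRoot cs h x) (h0 : f x < 0) :
    x ∈ NotNJ cs h {i | f (sr i) = 0} := by
  have h1 : x ≤ 0 := by
    rcases hx.pos_or_neg with h2 | h2
    · have := dom_nonneg hf h2
      omega
    · exact h2
  refine ⟨hx.neg, neg_nonneg.2 h1, ?_⟩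
  by_contra hcon
  push Not at hcon
  have h2 : f (-x) = 0 := by
    rw [map_eq_sum]
    refine Finset.sum_eq_zero fun k _ => ?_
    by_cases h3 : f (sr k) = 0
    · rw [h3, mul_zero]
    · have h4 := hcon k h3
      have h5 : 0 ≤ (-x) k := neg_nonneg.2 h1 k
      rw [le_antisymm h4 h5, zero_mul]
  rw [map_neg] at h2
  omega

theorem PS_half_of_dom {f : (I → ℤ) →+ ℤ} (hf : ∀ i, 0 ≤ f (sr i)) :
    PS T X (Half cs h f) = PJ cs h T X {i | f (sr i) = 0} := by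
  apply le_antisymm
  · refine sup_le (le_trans T_le_LJ LJ_le_PJ) (RGD.Sup_le fun x hx => ?_)
    rcases hx.1.pos_or_neg with h1 | h1
    · rcases mem_PosJ_or_NotJ {i | f (sr i) = 0} hx.1 h1 with h2 | h2
      · exact le_trans (X_le_LJ (PosJ_subset _ h2)) LJ_le_PJ
      · exact le_trans (RGD.le_Sup h2) VJ_le_PJ
    · have h2 : f x = 0 := by
        have h3 := dom_nonneg hf (neg_nonneg.2 h1)
        rw [map_neg] at h3
        have h4 := hx.2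
        omega
      refine le_trans (X_le_LJ ?_) LJ_le_PJ
      rw [rootsJ_eq hf]
      exact ⟨hx.1, h2⟩
  · refine sup_le (sup_le T_le_PS ?_) ?_
    · refine RGD.Sup_le fun x hx => X_le_PS ?_
      rw [rootsJ_eq hf] at hx
      exact ⟨hx.1, hx.2.ge⟩
    · exact RGD.Sup_le fun x hx => X_le_PS ⟨hx.1, dom_nonneg hf hx.2.1⟩

variable (R : RGD cs h p T n X)

include R

theorem cj_Sup_eq {w : W} {g : Y} (hg : Rp cs R.nsys w g) {Ω : Set (I → ℤ)} (hΩ : ∀ x ∈ Ω, IsRoot cs h x) :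
    cj g (RGD.Sup X Ω) = RGD.Sup X {x | rep cs h w⁻¹ x ∈ Ω} := by
  rw [RGD.cj_Sup]
  apply le_antisymm
  · refine iSup_le ?_
    rintro ⟨z, hz⟩
    show cj g (X z) ≤ _
    rw [R.conj_rp hg (hΩ z hz)]
    refine RGD.le_Sup (S := {x | rep cs h w⁻¹ x ∈ Ω}) ?_
    show rep cs h w⁻¹ (rep cs h w z) ∈ Ω
    rwa [rep_inv_apply]
  · refine RGD.Sup_le fun x hx => ?_
    have h1 : X x = cj g (X (rep cs h w⁻¹ x)) := by
      rw [R.conj_rp hg (hΩ _ hx), rep_apply_inv]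
    rw [h1]
    exact le_iSup (fun z : Ω => cj g (X z.1)) ⟨_, hx⟩

theorem cj_PS {w : W} {g : Y} (hg : Rp cs R.nsys w g) {Ω : Set (I → ℤ)} (hΩ : ∀ x ∈ Ω, IsRoot cs h x) :
    cj g (PS T X Ω) = PS T X {x | rep cs h w⁻¹ x ∈ Ω} := by
  unfold PS
  rw [cj_sup, cj_T R hg, cj_Sup_eq R hg hΩ]

omit R in
theorem exists_dom [Finite W] (f : (I → ℤ) →+ ℤ) : ∃ w : W, ∀ i, 0 ≤ pull cs h f w (sr i) := by
  obtain ⟨mu, h1, h2, h3⟩ := Nodes.Slope.exists_generic (cs := cs) (h := h) f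
  obtain ⟨w, hw⟩ := Nodes.Slope.exists_w (cs := cs) (h := h) mu h1
  refine ⟨w, fun i => ?_⟩
  by_contra hcon
  push Not at hcon
  have := h3 _ ((isRoot_sr cs h i).act w) hcon
  exact absurd (hw i) (not_lt.2 this.le)

/-- In the standard position. -/
theorem mem_of_VNJ_mul [Finite W] {J : Set I} {w : W} {k u : Y} (hk : Rp cs R.nsys w k) (hu : u ∈ VNJ cs h X J)
    (hP : u * k ∈ PJ cs h T X J) : w ∈ WJ cs J ∧ u = 1 := by
  obtain ⟨l, hl, v, hv, e⟩ := (mem_PJ R).1 hP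
  obtain ⟨k0, hk0⟩ := exists_rp cs R.nsys (wJ cs J)
  have hlong : IsLongest cs J (wJ cs J) := isLongest_wJ cs J
  have hk0L : k0 ∈ LJ cs h T X J := rp_mem_LJ R hlong.mem hk0
  obtain ⟨v1, hv1, b1, hb1, k1, hk1, b2, hb2, e1⟩ := (mem_LJ R).1 (mul_mem (inv_mem hk0L) hl)
  have h1 : k0 * b1 * k0⁻¹ ∈ BN cs h T X := by
    have h2 : cj k0 (BJ cs h T X J) ≤ BN cs h T X := by
      show cj k0 (T ⊔ RGD.Sup X (PosJ cs h J)) ≤ _
      rw [cj_sup, cj_T R hk0, cj_Sup_eq R hk0 (fun x hx => hx.1)]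
      refine sup_le T_le_BN (RGD.Sup_le fun x hx => ?_)
      have h3 : rep cs h (wJ cs J)⁻¹ x ∈ PosJ cs h J := hx
      have h4 : rep cs h (wJ cs J) (rep cs h (wJ cs J)⁻¹ x) ≤ 0 := rep_longest_nonpos hlong h3
      rw [rep_apply_inv] at h4
      have h5 : IsRoot cs h x := by
        have := h3.1.act (wJ cs J)
        rwa [rep_apply_inv] at this
      exact X_le_BN h5 h4
    exact h2 (conj_mem_cj.2 hb1)
  have h2 : Rp cs R.nsys (wJ cs J * v1) (k0 * k1) := hk0.mul hk1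
  have e2 : u * k * 1 = (k0 * b1 * k0⁻¹) * (k0 * k1) * (b2 * v) := by
    rw [mul_one, e]
    calc l * v = k0 * (k0⁻¹ * l) * v := by group
      _ = k0 * (b1 * k1 * b2) * v := by rw [e1]
      _ = _ := by group
  have h3 := birkhoff R hk h2 (UN_le_BN (VNJ_le_UN J hu)) (one_mem _) h1
    (mul_mem (BJ_le_B J hb2) (VJ_le_B J hv)) e2
  have hw : w ∈ WJ cs J := by
    rw [h3]; exact mul_mem hlong.mem hv1
  refine ⟨hw, eq_one_of_mem_VNJ_of_mem_PJ R hu ?_⟩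
  have h4 : k ∈ PJ cs h T X J := LJ_le_PJ (rp_mem_LJ R hw hk)
  have : u = u * k * k⁻¹ := by group
  rw [this]
  exact mul_mem hP (inv_mem h4)

/-- `u ∈ ⟨X x : f x < 0⟩`, `k ∈ N` and `u k ∈ P_f` imply `u = 1`. -/
theorem key [Finite W] (f : (I → ℤ) →+ ℤ) {w : W} {k u : Y} (hk : Rp cs R.nsys w k)
    (hu : u ∈ RGD.Sup X {x | IsRoot cs h x ∧ f x < 0}) (hP : u * k ∈ PS T X (Half cs h f)) : u = 1 := by
  obtain ⟨v, hv⟩ := exists_dom (cs := cs) (h := h) f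
  obtain ⟨g, hg⟩ := exists_rp cs R.nsys v
  have h1 : g⁻¹ * u * g ∈ VNJ cs h X {i | pull cs h f v (sr i) = 0} := by
    have h2 : g⁻¹ * u * g ∈ cj g⁻¹ (RGD.Sup X {x | IsRoot cs h x ∧ f x < 0}) := by
      have := (conj_mem_cj (g := g⁻¹) (A := RGD.Sup X {x | IsRoot cs h x ∧ f x < 0})).2 hu
      rwa [inv_inv] at this
    rw [cj_Sup_eq R hg.inv (fun x hx => hx.1)] at h2
    refine RGD.Sup_mono (fun x hx => ?_) h2
    have hx' : rep cs h v⁻¹⁻¹ x ∈ {x | IsRoot cs h x ∧ f x < 0} := hx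
    rw [inv_inv] at hx'
    have hx1 : IsRoot cs h x := by
      have := hx'.1.act v⁻¹
      rwa [rep_inv_apply] at this
    exact notNJ_of_neg hv hx1 hx'.2
  have h2 : g⁻¹ * (u * k) * g ∈ PJ cs h T X {i | pull cs h f v (sr i) = 0} := by
    have h3 : g⁻¹ * (u * k) * g ∈ cj g⁻¹ (PS T X (Half cs h f)) := by
      have := (conj_mem_cj (g := g⁻¹) (A := PS T X (Half cs h f))).2 hP
      rwa [inv_inv] at this
    rw [cj_PS R hg.inv (fun x hx => hx.1)] at h3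
    rw [← PS_half_of_dom hv]
    refine PS_mono (fun x hx => ?_) h3
    have hx' : rep cs h v⁻¹⁻¹ x ∈ Half cs h f := hx
    rw [inv_inv] at hx'
    have hx1 : IsRoot cs h x := by
      have := hx'.1.act v⁻¹
      rwa [rep_inv_apply] at this
    exact ⟨hx1, hx'.2⟩
  have h3 : (g⁻¹ * u * g) * (g⁻¹ * k * g) ∈ PJ cs h T X {i | pull cs h f v (sr i) = 0} := by
    have : (g⁻¹ * u * g) * (g⁻¹ * k * g) = g⁻¹ * (u * k) * g := by group
    rwa [this]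
  have h4 := (mem_of_VNJ_mul R (((hg.inv.mul hk).mul hg)) h1 h3).2
  have : u = g * (g⁻¹ * u * g) * g⁻¹ := by group
  rw [this, h4]; group

theorem X_le_half_iff [Finite W] (f : (I → ℤ) →+ ℤ) {x : I → ℤ} (hx : IsRoot cs h x) :
    X x ≤ PS T X (Half cs h f) ↔ 0 ≤ f x := by
  constructor
  · intro h1
    by_contra h2
    push Not at h2
    apply X_ne_bot R hx
    rw [Subgroup.eq_bot_iff_forall]
    intro u hu
    refine key R f (rp_one (cs := cs) (hN := R.nsys)) (RGD.le_Sup (S := {x | IsRoot cs h x ∧ f x < 0}) ⟨hx, h2⟩ hu) ?_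
    rw [mul_one]
    exact h1 hu
  · intro h1
    exact X_le_PS ⟨hx, h1⟩

/-- an element of `N ∩ P_f` preserves the half space of `f` -/
theorem half_of_rp [Finite W] (f : (I → ℤ) →+ ℤ) {w : W} {k : Y} (hk : Rp cs R.nsys w k)
    (hP : k ∈ PS T X (Half cs h f)) {x : I → ℤ} (hx : IsRoot cs h x) (h0 : 0 ≤ f x) : 0 ≤ f (rep cs h w x) := by
  rw [← X_le_half_iff R f (hx.act w), ← R.conj_rp hk hx]
  have h1 : cj k (PS T X (Half cs h f)) = PS T X (Half cs h f) := cj_eq_of_mem hP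
  rw [← h1]
  exact cj_mono k (X_le_PS ⟨hx, h0⟩)

omit R in
/-- `N ∩ L_J ∩ P_μ` for `μ` dominant on `Φ_J` -/
theorem mem_WJ_of_half [Finite W] {J : Set I} (mu : (I → ℤ) →+ ℤ) (hmu : ∀ i ∈ J, 0 ≤ mu (sr i)) : ∀ {w : W},
    w ∈ WJ cs J → (∀ x, IsRoot cs h x → 0 ≤ mu x → 0 ≤ mu (rep cs h w x)) →
    (∀ x, IsRoot cs h x → 0 ≤ mu x → 0 ≤ mu (rep cs h w⁻¹ x)) →
    w ∈ WJ cs {i | i ∈ J ∧ mu (sr i) = 0} := by
  intro w
  induction hn : cs.length w using Nat.strong_induction_on generalizing w with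
  | _ N ih =>
  intro hw hP hQ
  by_cases hw1 : w = 1
  · rw [hw1]; exact one_mem _
  obtain ⟨i, hi⟩ := cs.exists_rightDescent_of_ne_one hw1
  have hi' : cs.length (w * cs.simple i) < cs.length w := hi
  have hneg : rep cs h w (sr i) ≤ 0 := nonpos_of_lt cs h w i hi'
  have hiJ : i ∈ J := by
    by_contra hiJ
    have h1 := rep_apply_of_mem cs h hw (sr i) hiJ
    rw [sr_self] at h1
    have h2 : rep cs h w (sr i) i ≤ 0 := hneg i
    rw [h1] at h2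
    omega
  have hpos : ∀ x : I → ℤ, 0 ≤ x → (∀ k, k ∉ J → x k = 0) → 0 ≤ mu x := by
    intro x h0 hx
    rw [map_eq_sum]
    refine Finset.sum_nonneg fun k _ => ?_
    by_cases hk : k ∈ J
    · exact mul_nonneg (h0 k) (hmu k hk)
    · rw [hx k hk, zero_mul]
  have h1 : 0 ≤ mu (-rep cs h w (sr i)) := by
    refine hpos _ (neg_nonneg.2 hneg) fun k hk => ?_
    rw [Pi.neg_apply, rep_apply_of_mem cs h hw (sr i) hk, sr_ne (by rintro rfl; exact hk hiJ), neg_zero]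
  have h4 : mu (sr i) = 0 := by
    have h5 := hQ _ ((isRoot_sr cs h i).act w).neg h1
    rw [map_neg, rep_inv_apply, map_neg] at h5
    have := hmu i hiJ
    omega
  have hinv : ∀ x, mu (rep cs h (cs.simple i) x) = mu x := by
    intro x
    rw [rep_simple_eq, map_sub, map_zsmul, h4, smul_zero, sub_zero]
  have h6 := ih _ (by omega) (w := w * cs.simple i) rfl (mul_mem hw (simple_mem_WJ cs hiJ))
    (fun x hx h0 => by
      rw [rep_mul_apply]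
      exact hP _ (hx.act _) (by rwa [hinv]))
    (fun x hx h0 => by
      rw [mul_inv_rev, cs.inv_simple, rep_mul_apply, hinv]
      exact hQ x hx h0)
  have h7 : w = w * cs.simple i * cs.simple i := by rw [mul_assoc, simple_mul_simple_self, mul_one]
  rw [h7]
  exact mul_mem h6 (simple_mem_WJ cs ⟨hiJ, h4⟩)

/-! ### The induction step -/

omit R in
/-- the sets `Ω = {x | f x ≥ 0 for all f ∈ F}` -/
structure Par (cs : CoxeterSystem M W) (h : IsCartan M A) (Ω : Set (I → ℤ)) : Prop where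
  root : ∀ x ∈ Ω, IsRoot cs h x
  btw : ∀ x ∈ Ω, ∀ y ∈ Ω, ∀ z, Btwn cs h x y z → z ∈ Ω
  lam : ∃ l : (I → ℤ) →+ ℤ, (∀ x ∈ Ω, 0 ≤ l x) ∧ (∀ x, IsRoot cs h x → l x = 0 → x ∈ Ω)

omit R in
theorem par_univ : Par cs h {x | IsRoot cs h x} :=
  ⟨fun _ hx => hx, fun _ _ _ _ _ hz => hz.1, 0, fun _ _ => le_rfl, fun _ hx _ => hx⟩

omit R in
theorem exists_bound [Finite W] (f : (I → ℤ) →+ ℤ) : ∃ N : ℤ, 0 < N ∧ ∀ x, IsRoot cs h x → |f x| < N := by
  classical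
  have hfin := RGD.finite_roots (cs := cs) (h := h)
  refine ⟨1 + ∑ x ∈ hfin.toFinset, |f x|, ?_, fun x hx => ?_⟩
  · have : 0 ≤ ∑ x ∈ hfin.toFinset, |f x| := Finset.sum_nonneg fun _ _ => abs_nonneg _
    omega
  · have h1 : |f x| ≤ ∑ x ∈ hfin.toFinset, |f x| :=
      Finset.single_le_sum (f := fun x => |f x|) (fun _ _ => abs_nonneg _) (hfin.mem_toFinset.2 hx)
    omega

omit R in
theorem Par.inter [Finite W] {Ω : Set (I → ℤ)} (hΩ : Par cs h Ω) (mu : (I → ℤ) →+ ℤ) :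
    Par cs h {x | x ∈ Ω ∧ 0 ≤ mu x} := by
  obtain ⟨l, hl1, hl2⟩ := hΩ.lam
  obtain ⟨N, hN, hN2⟩ := exists_bound (cs := cs) (h := h) mu
  refine ⟨fun x hx => hΩ.root x hx.1, fun x hx y hy z hz => ⟨hΩ.btw x hx.1 y hy.1 z hz,
    Nodes.Slope.btwn_nonneg' hz mu hx.2 hy.2⟩, N • l + mu, fun x hx => ?_, fun x hx h0 => ?_⟩
  · have h1 := hl1 x hx.1
    show 0 ≤ N • l x + mu x
    rw [smul_eq_mul]
    have h2 := mul_nonneg hN.le h1
    have := hx.2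
    omega
  · have h0' : N * l x + mu x = 0 := h0
    have h1 := hN2 x hx
    rw [abs_lt] at h1
    have h2 : l x = 0 := by
      by_contra h3
      rcases lt_or_gt_of_ne h3 with h4 | h4
      · have : N * l x ≤ N * (-1) := mul_le_mul_of_nonneg_left (by omega) hN.le
        omega
      · have : N * 1 ≤ N * l x := mul_le_mul_of_nonneg_left (by omega) hN.le
        omega
    rw [h2, mul_zero, zero_add] at h0'
    exact ⟨hl2 x hx h2, h0'.ge⟩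

theorem step_std [Finite W] {Ω : Set (I → ℤ)} (hΩ : Par cs h Ω) (l mu : (I → ℤ) →+ ℤ) (hl1 : ∀ x ∈ Ω, 0 ≤ l x)
    (hl2 : ∀ x, IsRoot cs h x → l x = 0 → x ∈ Ω)
    (hstd : ∀ x, IsRoot cs h x → 0 ≤ x → 0 ≤ l x ∧ (l x = 0 → 0 ≤ mu x)) {g : Y} (hg : g ∈ PS T X Ω)
    (hmu : g ∈ PS T X (Half cs h mu)) : g ∈ PS T X {x | x ∈ Ω ∧ 0 ≤ mu x} := by
  have hl : ∀ i, 0 ≤ l (sr i) := fun i => (hstd _ (isRoot_sr cs h i) (sr_nonneg i)).1
  set J : Set I := {i | l (sr i) = 0} with hJ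
  have hRJ : RootsJ cs h J = {x | IsRoot cs h x ∧ l x = 0} := rootsJ_eq hl
  have hRΩ : ∀ x ∈ RootsJ cs h J, x ∈ Ω := fun x hx => by
    rw [hRJ] at hx
    exact hl2 x hx.1 hx.2
  set V : Subgroup Y := RGD.Sup X {x | x ∈ Ω ∧ 0 < l x} with hV
  have hnorm : LJ cs h T X J ≤ Subgroup.normalizer (V : Set Y) := by
    refine sup_le (R.T_le_normalizer fun x hx => hΩ.root x hx.1) (RGD.Sup_le fun x hx => ?_)
    have hx' := hx
    rw [hRJ] at hx'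
    refine R.le_normalizer hx'.1 fun y hy => ⟨hΩ.root y hy.1, Or.inr ⟨?_, fun z hz => ⟨?_, ?_⟩⟩⟩
    · rintro rfl
      have h1 := hx'.2
      rw [map_neg] at h1
      have := hy.2
      omega
    · exact hΩ.btw x (hRΩ x hx) y hy.1 z hz
    · exact Nodes.Slope.btwn_pos' hz.symm l hy.2 hx'.2.ge
  -- `PS Ω = L_J V`
  have h1 : g ∈ LJ cs h T X J ⊔ V := by
    refine (sup_le (le_trans T_le_LJ le_sup_left) (RGD.Sup_le fun x hx => ?_) : PS T X Ω ≤ LJ cs h T X J ⊔ V) hg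
    rcases (hl1 x hx).lt_or_eq with h2 | h2
    · exact le_trans (RGD.le_Sup (S := {x | x ∈ Ω ∧ 0 < l x}) ⟨hx, h2⟩) le_sup_right
    · refine le_trans (X_le_LJ ?_) le_sup_left
      rw [hRJ]
      exact ⟨hΩ.root x hx, h2.symm⟩
  have h2 : g ∈ ((LJ cs h T X J ⊔ V : Subgroup Y) : Set Y) := h1
  rw [Subgroup.coe_mul_of_left_le_normalizer_right _ _ hnorm, Set.mem_mul] at h2
  obtain ⟨m, hm, v, hv, e⟩ := h2
  have hv' : m * v * m⁻¹ ∈ V := (Subgroup.mem_normalizer_iff.1 (hnorm hm) v).1 hv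
  obtain ⟨w, hw, b, hb, k, hk, b', hb', e1⟩ := (mem_LJ R).1 hm
  -- `b = u t`
  have hTU : T ≤ Subgroup.normalizer (UJ cs h X J : Set Y) := R.T_le_normalizer fun x hx => hx.1
  have h3 : b ∈ ((T ⊔ UJ cs h X J : Subgroup Y) : Set Y) := hb
  rw [Subgroup.coe_mul_of_left_le_normalizer_right _ _ hTU, Set.mem_mul] at h3
  obtain ⟨t, ht, u, hu, e2⟩ := h3
  have hu' : t * u * t⁻¹ ∈ UJ cs h X J := (Subgroup.mem_normalizer_iff.1 (hTU ht) u).1 hu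
  have hS : Nodes.Slope.Closed cs h {x | x ∈ Ω ∧ 0 ≤ x} :=
    ⟨fun x hx => hΩ.root x hx.1, fun x hx y hy z hz => ⟨hΩ.btw x hx.1 y hy.1 z hz,
      RGD.nonneg_of_btwn hx.2 hy.2 hz⟩⟩
  have h4 : m * v * m⁻¹ * (t * u * t⁻¹) ∈ RGD.Sup X {x | x ∈ Ω ∧ 0 ≤ x} := by
    have hs1 : {x | x ∈ Ω ∧ 0 < l x} ⊆ {x | x ∈ Ω ∧ 0 ≤ x} := by
      rintro x ⟨hx1, hx2⟩
      refine ⟨hx1, ?_⟩
      rcases (hΩ.root x hx1).pos_or_neg with h5 | h5
      · exact h5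
      · have h6 := (hstd _ (hΩ.root x hx1).neg (neg_nonneg.2 h5)).1
        rw [map_neg] at h6
        omega
    have hs2 : PosJ cs h J ⊆ {x | x ∈ Ω ∧ 0 ≤ x} := fun x hx => ⟨hRΩ x (PosJ_subset _ hx), hx.2.1⟩
    exact mul_mem (RGD.Sup_mono hs1 hv') (RGD.Sup_mono hs2 hu')
  obtain ⟨a, ha, c, hc, e3⟩ := Nodes.Slope.split R hS Nodes.Slope.htHom (-mu) (fun x hx => RGD.ht_pos (hS.root x hx) hx.2)
    (inv_mem h4)
  have e4 : g = c⁻¹ * a⁻¹ * (t * k) * b' := by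
    have h5 : m * v * m⁻¹ * (t * u * t⁻¹) = c⁻¹ * a⁻¹ := by
      rw [← inv_inv (m * v * m⁻¹ * (t * u * t⁻¹)), e3]; group
    rw [← e, ← h5]
    calc m * v = m * v * m⁻¹ * m := by group
      _ = m * v * m⁻¹ * (b * k * b') := by rw [← e1]
      _ = m * v * m⁻¹ * (t * u * k * b') := by rw [← e2]
      _ = _ := by group
  have hΩ' : ∀ x ∈ PosJ cs h J, x ∈ {x | x ∈ Ω ∧ 0 ≤ mu x} := fun x hx => by
    have h5 := PosJ_subset _ hx
    have h6 := h5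
    rw [hRJ] at h6
    exact ⟨hRΩ x h5, (hstd x h6.1 hx.2.1).2 h6.2⟩
  have hBJ : BJ cs h T X J ≤ PS T X {x | x ∈ Ω ∧ 0 ≤ mu x} :=
    sup_le T_le_PS (RGD.Sup_le fun x hx => X_le_PS (hΩ' x hx))
  have hle : PS T X {x | x ∈ Ω ∧ 0 ≤ mu x} ≤ PS T X (Half cs h mu) := PS_mono fun x hx => ⟨hΩ.root x hx.1, hx.2⟩
  have hc' : c ∈ PS T X {x | x ∈ Ω ∧ 0 ≤ mu x} := by
    have hs1 : {x | x ∈ {x | x ∈ Ω ∧ 0 ≤ x} ∧ (-mu) x ≤ 0} ⊆ {x | x ∈ Ω ∧ 0 ≤ mu x} := by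
      rintro x ⟨⟨hx1, hx2⟩, h5⟩
      rw [AddMonoidHom.neg_apply] at h5
      exact ⟨hx1, by omega⟩
    exact Sup_le_PS (RGD.Sup_mono hs1 hc)
  have htk : Rp cs R.nsys w (t * k) := by
    have := (rp_of_mem (cs := cs) (hN := R.nsys) ht).mul hk
    rwa [one_mul] at this
  have h6 : a⁻¹ * (t * k) ∈ PS T X (Half cs h mu) := by
    have : a⁻¹ * (t * k) = c * g * b'⁻¹ := by rw [e4]; group
    rw [this]
    exact mul_mem (mul_mem (hle hc') hmu) (inv_mem (hle (hBJ hb')))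
  have h7 : a⁻¹ = 1 := by
    have hs1 : {x | x ∈ {x | x ∈ Ω ∧ 0 ≤ x} ∧ 0 < (-mu) x} ⊆ {x | IsRoot cs h x ∧ mu x < 0} := by
      rintro x ⟨⟨hx1, hx2⟩, h5⟩
      rw [AddMonoidHom.neg_apply] at h5
      exact ⟨hΩ.root x hx1, by omega⟩
    exact key R mu htk (inv_mem (RGD.Sup_mono hs1 ha)) h6
  rw [h7, one_mul] at h6
  have h8 : w ∈ WJ cs {i | i ∈ J ∧ mu (sr i) = 0} := by
    refine mem_WJ_of_half mu (fun i hi => (hstd _ (isRoot_sr cs h i) (sr_nonneg i)).2 hi) hw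
      (fun x hx h0 => half_of_rp R mu htk h6 hx h0) (fun x hx h0 => half_of_rp R mu htk.inv (inv_mem h6) hx h0)
  have h9 : LJ cs h T X {i | i ∈ J ∧ mu (sr i) = 0} ≤ PS T X {x | x ∈ Ω ∧ 0 ≤ mu x} := by
    refine sup_le T_le_PS (RGD.Sup_le fun x hx => X_le_PS ⟨hRΩ x ⟨hx.1, fun k hk => hx.2 k fun h => hk h.1⟩, ?_⟩)
    rw [map_eq_sum]
    refine (Finset.sum_eq_zero fun k _ => ?_).ge
    by_cases hk : k ∈ {i | i ∈ J ∧ mu (sr i) = 0}
    · rw [hk.2, mul_zero]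
    · rw [hx.2 k hk, zero_mul]
  rw [e4, h7, mul_one]
  exact mul_mem (mul_mem (inv_mem hc') (h9 (rp_mem_LJ R h8 htk))) (hBJ hb')

/-- **The induction step.** -/
theorem step [Finite W] {Ω : Set (I → ℤ)} (hΩ : Par cs h Ω) (mu : (I → ℤ) →+ ℤ) {g : Y} (hg : g ∈ PS T X Ω)
    (hmu : g ∈ PS T X (Half cs h mu)) : g ∈ PS T X {x | x ∈ Ω ∧ 0 ≤ mu x} := by
  obtain ⟨l, hl1, hl2⟩ := hΩ.lam
  obtain ⟨N, hN, hN2⟩ := exists_bound (cs := cs) (h := h) mu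
  obtain ⟨w, hw⟩ := exists_dom (cs := cs) (h := h) (N • l + mu)
  obtain ⟨k, hk⟩ := exists_rp cs R.nsys w
  have hpull : ∀ {Ω : Set (I → ℤ)} {x : I → ℤ}, x ∈ {x | rep cs h w⁻¹⁻¹ x ∈ Ω} ↔ rep cs h w x ∈ Ω := by
    intro Ω x; rw [inv_inv]; rfl
  have hroot : ∀ {x : I → ℤ}, IsRoot cs h (rep cs h w x) → IsRoot cs h x := by
    intro x hx
    have := hx.act w⁻¹
    rwa [rep_inv_apply] at this
  have hΩw : Par cs h {x | rep cs h w x ∈ Ω} := by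
    refine ⟨fun x hx => hroot (hΩ.root _ hx), fun x hx y hy z hz => hΩ.btw _ hx _ hy _ (hz.act w),
      pull cs h l w, fun x hx => hl1 _ hx, fun x hx h0 => hl2 _ (hx.act w) h0⟩
  have h1 : k⁻¹ * g * k ∈ PS T X {x | rep cs h w x ∈ Ω} := by
    have h2 : k⁻¹ * g * k ∈ cj k⁻¹ (PS T X Ω) := by
      have := (conj_mem_cj (g := k⁻¹) (A := PS T X Ω)).2 hg
      rwa [inv_inv] at this
    rw [cj_PS R hk.inv hΩ.root] at h2
    exact PS_mono (fun x hx => hpull.1 hx) h2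
  have h2 : k⁻¹ * g * k ∈ PS T X (Half cs h (pull cs h mu w)) := by
    have h3 : k⁻¹ * g * k ∈ cj k⁻¹ (PS T X (Half cs h mu)) := by
      have := (conj_mem_cj (g := k⁻¹) (A := PS T X (Half cs h mu))).2 hmu
      rwa [inv_inv] at this
    rw [cj_PS R hk.inv (fun x hx => hx.1)] at h3
    have hs1 : {x | rep cs h w⁻¹⁻¹ x ∈ Half cs h mu} ⊆ Half cs h (pull cs h mu w) :=
      fun x hx => ⟨hroot (hpull.1 hx).1, (hpull.1 hx).2⟩
    exact PS_mono hs1 h3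
  have h3 := step_std R hΩw (pull cs h l w) (pull cs h mu w) (fun x hx => hl1 _ hx)
    (fun x hx h0 => hl2 _ (hx.act w) h0) (fun x hx h0 => ?_) h1 h2
  · have h4 : g ∈ cj k (PS T X {x | rep cs h w x ∈ Ω ∧ 0 ≤ pull cs h mu w x}) := mem_cj.2 h3
    rw [cj_PS R hk (fun x hx => hroot (hΩ.root _ hx.1))] at h4
    refine PS_mono (fun x hx => ?_) h4
    have h5 : rep cs h w (rep cs h w⁻¹ x) ∈ Ω ∧ 0 ≤ mu (rep cs h w (rep cs h w⁻¹ x)) := hx
    rwa [rep_apply_inv] at h5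
  · have h4 := dom_nonneg hw h0
    have h5 := hN2 _ (hx.act w)
    rw [abs_lt] at h5
    have h6 : 0 ≤ N * l (rep cs h w x) + mu (rep cs h w x) := h4
    refine ⟨?_, fun h7 => ?_⟩
    · by_contra h7
      push Not at h7
      have h8 : l (rep cs h w x) < 0 := h7
      have : N * l (rep cs h w x) ≤ N * (-1) := mul_le_mul_of_nonneg_left (by omega) hN.le
      omega
    · have h8 : l (rep cs h w x) = 0 := h7
      rw [h8, mul_zero, zero_add] at h6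
      exact h6

/-- **Intersections of parabolic subgroups.** -/
theorem inter [Finite W] (F : List ((I → ℤ) →+ ℤ)) {g : Y} (hg : g ∈ GG cs h T X)
    (hF : ∀ f ∈ F, g ∈ PS T X (Half cs h f)) :
    g ∈ PS T X {x | IsRoot cs h x ∧ ∀ f ∈ F, 0 ≤ f x} ∧ Par cs h {x | IsRoot cs h x ∧ ∀ f ∈ F, 0 ≤ f x} := by
  induction F with
  | nil =>
    have h1 : {x | IsRoot cs h x ∧ ∀ f ∈ ([] : List ((I → ℤ) →+ ℤ)), 0 ≤ f x} = {x | IsRoot cs h x} := by
      ext x; simp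
    rw [h1]
    exact ⟨hg, par_univ⟩
  | cons mu F ih =>
    obtain ⟨h1, h2⟩ := ih fun f hf => hF f (List.mem_cons_of_mem _ hf)
    have h3 : {x | IsRoot cs h x ∧ ∀ f ∈ mu :: F, 0 ≤ f x} =
        {x | x ∈ {x | IsRoot cs h x ∧ ∀ f ∈ F, 0 ≤ f x} ∧ 0 ≤ mu x} := by
      ext x
      simp only [List.mem_cons, forall_eq_or_imp, Set.mem_ofPred_eq]
      tauto
    rw [h3]
    exact ⟨step R h2 mu h1 (hF mu List.mem_cons_self), h2.inter mu⟩

end Cfsg.Agent.KFacts.RgdPar
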