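import Mathlib
import Cfsg.Agent.KFacts.RgdTI

/-!
Centralisers of subgroups generated by root groups (ODD, D10; fact (F3)).

* `Star cs h Ψ = {b | ⟨b, a^∨⟩ ≥ 0 for all a ∈ Ψ}`, `cent_le : C(⟨X a : a ∈ Ψ⟩) ≤ T ⟨X b : b ∈ Ψ*⟩`;
* `Cen X t = {b | t centralises X b}` is symmetric and closed (`cen_neg`, `cen_add`) for `t ∈ T`;
* `Psi cs h r s = {a | ⟨a, r^∨⟩ ≥ 0, ⟨a, s^∨⟩ ≥ 0}`; simply laced case: `star_self`, `star_one`, `star_zero`, `star_neg`;
  `f3_self`, `f3_one`, `f3_zero`, `f3_neg`.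
-/

set_option autoImplicit false
set_option linter.unusedSectionVars false

namespace Cfsg.Agent.KFacts.RgdCent

open CoxeterSystem Cfsg.Agent.ChevalleyStructure.CoxeterGeom Cfsg.Agent.Tits.Roots Cfsg.Agent.Tits.Core
  Cfsg.Agent.Tits.RootComb Cfsg.Agent.Tits.Exchange Cfsg.Agent.Nodes.Reps Cfsg.Agent.Nodes.BNOf
  Cfsg.Agent.Nodes.StabComb Cfsg.Agent.Nodes.Bruhat Cfsg.Agent.Nodes.OppDec Cfsg.Agent.Nodes.LeviDec
  Cfsg.Agent.Nodes.NormX Cfsg.Agent.Nodes.Coroot Cfsg.Agent.KFacts.RgdPar Cfsg.Agent.KFacts.RgdSL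
  Cfsg.Agent.KFacts.RgdTI
open scoped commutatorElement

variable {I W Y : Type*} [Fintype I] [DecidableEq I] [Group W] [Group Y] {M : CoxeterMatrix I}
  {cs : CoxeterSystem M W} {A : I → I → ℤ} {h : IsCartan M A} {p : ℕ} {T : Subgroup Y} {n : I → Y}
  {X : (I → ℤ) → Subgroup Y}

/-- `Ψ*` -/
def Star (cs : CoxeterSystem M W) (h : IsCartan M A) (Psi : Set (I → ℤ)) : Set (I → ℤ) :=
  {b | IsRoot cs h b ∧ ∀ a ∈ Psi, 0 ≤ cpr cs h b a}

/-- the root groups centralised by `t` -/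
def Cen (cs : CoxeterSystem M W) (h : IsCartan M A) (X : (I → ℤ) → Subgroup Y) (t : Y) : Set (I → ℤ) :=
  {b | IsRoot cs h b ∧ ∀ v ∈ X b, t * v = v * t}

section Gen

variable (R : RGD cs h p T n X)

include R

/-- **Centralisers lie in intersections of parabolic subgroups.** -/
theorem cent_le [Finite W] {Psi : Set (I → ℤ)} (hPsi : ∀ a ∈ Psi, LR R a) {g : Y} (hg : g ∈ GG cs h T X)
    (hc : ∀ a ∈ Psi, ∀ v ∈ X a, g * v = v * g) : g ∈ PS T X (Star cs h Psi) := by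
  classical
  have hfin : Psi.Finite := (RGD.finite_roots (cs := cs) (h := h)).subset fun a ha => (hPsi a ha).root
  let F : List ((I → ℤ) →+ ℤ) := hfin.toFinset.toList.map fun a =>
    if ha : IsRoot cs h a then ell cs h ha else 0
  have h1 := inter R F hg (by
    intro f hf
    rw [List.mem_map] at hf
    obtain ⟨a, ha, rfl⟩ := hf
    have ha' : a ∈ Psi := by simpa using ha
    have L := hPsi a ha'
    rw [dif_pos L.root, half_ell]
    obtain ⟨⟨z, hz⟩, hz1⟩ := (Subgroup.ne_bot_iff_exists_ne_one).1 (X_ne_bot R L.root)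
    exact L.le_PS_of_comm hg hz (fun h0 => hz1 (Subtype.ext h0)) (hc a ha' z hz))
  have hs1 : {x | IsRoot cs h x ∧ ∀ f ∈ F, 0 ≤ f x} ⊆ Star cs h Psi := by
    rintro x ⟨hx1, hx2⟩
    refine ⟨hx1, fun a ha => ?_⟩
    exact hx2 (ell cs h (hPsi a ha).root) (by
      rw [List.mem_map]
      exact ⟨a, by simpa using ha, by rw [dif_pos (hPsi a ha).root]⟩)
  exact PS_mono hs1 h1.1

theorem cent_eq [Finite W] {Psi : Set (I → ℤ)} (hPsi : ∀ a ∈ Psi, LR R a)
    (hst : ∀ b ∈ Star cs h Psi, ∀ a ∈ Psi, ∀ u ∈ X b, ∀ v ∈ X a, u * v = v * u) {g : Y} (hg : g ∈ GG cs h T X)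
    (hc : ∀ a ∈ Psi, ∀ v ∈ X a, g * v = v * g) :
    ∃ t ∈ T, Psi ⊆ Cen cs h X t ∧ ∃ q ∈ RGD.Sup X (Star cs h Psi), g = t * q := by
  have h2 : g ∈ ((PS T X (Star cs h Psi) : Subgroup Y) : Set Y) := cent_le R hPsi hg hc
  have hT : T ≤ Subgroup.normalizer (RGD.Sup X (Star cs h Psi) : Set Y) := R.T_le_normalizer fun x hx => hx.1
  unfold PS at h2
  rw [Subgroup.coe_mul_of_left_le_normalizer_right _ _ hT, Set.mem_mul] at h2
  obtain ⟨t, ht, q, hq, rfl⟩ := h2
  refine ⟨t, ht, fun a ha => ⟨(hPsi a ha).root, fun v hv => ?_⟩, q, hq, rfl⟩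
  have h3 : q * v = v * q := by
    have h4 : RGD.Sup X (Star cs h Psi) ≤ Subgroup.centralizer (X a : Set Y) := by
      refine RGD.Sup_le fun b hb => ?_
      intro u hu
      rw [Subgroup.mem_centralizer_iff]
      intro v hv
      exact (hst b hb a ha u hu v hv).symm
    exact ((Subgroup.mem_centralizer_iff.1 (h4 hq)) v hv).symm
  have h5 := hc a ha v hv
  have h6 : t * v * q = v * t * q := by
    rw [mul_assoc, ← h3, ← mul_assoc, h5, mul_assoc]
  exact mul_right_cancel h6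

/-- `t ∈ T` centralising `X b` centralises `X (-b)`. -/
theorem cen_neg [Finite W] {t : Y} (ht : t ∈ T) {b : I → ℤ} (hb : b ∈ Cen cs h X t) : -b ∈ Cen cs h X t := by
  refine ⟨hb.1.neg, fun v hv => ?_⟩
  by_cases hv1 : v = 1
  · rw [hv1, mul_one, one_mul]
  obtain ⟨s, hs, x, hx, y, hy, m, hm, he⟩ := exists_mu R hb.1.neg hv hv1
  rw [neg_neg] at hx hy
  have e1 := hb.2 x hx
  have e2 := hb.2 y hy
  have hmT : m⁻¹ * t * m ∈ T := by
    have h1 : cj m T = T := cj_T R hm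
    have h2 : t ∈ cj m T := by rw [h1]; exact ht
    exact mem_cj.1 h2
  have hf : v⁻¹ * (t * v * t⁻¹) = y * (m⁻¹ * t * m * t⁻¹) * y⁻¹ := by
    have h1 : v = x⁻¹ * m * y⁻¹ := by rw [he]; group
    have e3 : t * x⁻¹ = x⁻¹ * t := by
      calc t * x⁻¹ = x⁻¹ * (x * t) * x⁻¹ := by group
        _ = x⁻¹ * (t * x) * x⁻¹ := by rw [e1]
        _ = _ := by group
    have e4 : y⁻¹ * t⁻¹ = t⁻¹ * y⁻¹ := by rw [← mul_inv_rev, ← mul_inv_rev, e2]
    rw [h1]
    calc (x⁻¹ * m * y⁻¹)⁻¹ * (t * (x⁻¹ * m * y⁻¹) * t⁻¹) = y * m⁻¹ * x * (t * x⁻¹) * m * (y⁻¹ * t⁻¹) := by group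
      _ = y * m⁻¹ * x * (x⁻¹ * t) * m * (t⁻¹ * y⁻¹) := by rw [e3, e4]
      _ = _ := by group
  have h3 : v⁻¹ * (t * v * t⁻¹) ∈ X (-b) := by
    refine mul_mem (inv_mem hv) ?_
    have h4 : cj t (X (-b)) = X (-b) := R.tor _ hb.1.neg t ht
    rw [← h4]
    exact conj_mem_cj.2 hv
  have h4 : v⁻¹ * (t * v * t⁻¹) ∈ PS T X (Half cs h (ell cs h hb.1)) := by
    rw [hf]
    have hbb : b ∈ Half cs h (ell cs h hb.1) := by
      refine ⟨hb.1, ?_⟩
      show 0 ≤ cpr cs h b b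
      rw [cpr_self cs h hb.1]; norm_num
    have hy' : y ∈ PS T X (Half cs h (ell cs h hb.1)) := X_le_PS hbb hy
    exact mul_mem (mul_mem hy' (mul_mem (T_le_PS hmT) (T_le_PS (inv_mem ht)))) (inv_mem hy')
  have h5 := key R (ell cs h hb.1) (rp_one (cs := cs) (hN := R.nsys)) (u := v⁻¹ * (t * v * t⁻¹))
    (RGD.le_Sup (S := {x | IsRoot cs h x ∧ ell cs h hb.1 x < 0}) ⟨hb.1.neg, by
      show cpr cs h (-b) b < 0
      rw [cpr_neg_left _ hb.1, cpr_self cs h hb.1]; norm_num⟩ h3) (by rwa [mul_one])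
  calc t * v = v * (v⁻¹ * (t * v * t⁻¹)) * t := by group
    _ = v * t := by rw [h5, mul_one]

theorem cen_add [Finite W] {t : Y} {b c : I → ℤ} (hA : A2 cs h b c) (hb : b ∈ Cen cs h X t)
    (hc : c ∈ Cen cs h X t) : b + c ∈ Cen cs h X t := by
  refine ⟨hA.rxy, fun w hw => ?_⟩
  obtain ⟨⟨u, hu⟩, hu1⟩ := (Subgroup.ne_bot_iff_exists_ne_one).1 (X_ne_bot R hb.1)
  obtain ⟨v, hv, rfl⟩ := hA.comm_surj R hu (fun h0 => hu1 (Subtype.ext h0)) hw
  have e1 : Commute t u := hb.2 u hu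
  have e2 : Commute t v := hc.2 v hv
  have : Commute t ⁅u, v⁆ := by
    rw [commutatorElement_def]
    exact ((e1.mul_right e2).mul_right e1.inv_right).mul_right e2.inv_right
  exact this.eq

end Gen

/-! ### The simply laced case -/

/-- `{a | ⟨a, r^∨⟩ ≥ 0, ⟨a, s^∨⟩ ≥ 0}` -/
def Psi (cs : CoxeterSystem M W) (h : IsCartan M A) (r s : I → ℤ) : Set (I → ℤ) :=
  {a | IsRoot cs h a ∧ 0 ≤ cpr cs h a r ∧ 0 ≤ cpr cs h a s}

variable [Finite W]

theorem psi_comm (r s : I → ℤ) : Psi cs h r s = Psi cs h s r := by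
  ext a
  exact ⟨fun ha => ⟨ha.1, ha.2.2, ha.2.1⟩, fun ha => ⟨ha.1, ha.2.2, ha.2.1⟩⟩

section Comb

variable (hs : SL cs h) {r s : I → ℤ} (hr : IsRoot cs h r) (hsr : IsRoot cs h s)

include hs hr hsr

theorem cpr_sub_left {x y z : I → ℤ} (hz : IsRoot cs h z) : cpr cs h (x - y) z = cpr cs h x z - cpr cs h y z := by
  rw [sub_eq_add_neg, cpr_add cs h _ _ hz, cpr_neg cs h _ hz, sub_eq_add_neg]

/-- the main exclusion: `⟨b, r⟩ = 1`, `⟨r - b, s⟩ ≥ 0` -/
theorem not_star {b : I → ℤ} (hb : b ∈ Star cs h (Psi cs h r s)) (h1 : cpr cs h b r = 1)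
    (h2 : cpr cs h b s ≤ cpr cs h r s) : False := by
  have h3 : IsRoot cs h (r - b) := isRoot_sub hr hb.1 (by rw [hs r b hr hb.1, h1])
  have h4 := hb.2 (r - b) ⟨h3, by
    rw [cpr_sub_left hs hr hsr hr, cpr_self cs h hr, h1]; norm_num, by
    rw [cpr_sub_left hs hr hsr hsr]; omega⟩
  rw [hs b _ hb.1 h3, cpr_sub_left hs hr hsr hb.1, cpr_self cs h hb.1, hs r b hr hb.1, h1] at h4
  norm_num at h4

theorem not_star' {b : I → ℤ} (hb : b ∈ Star cs h (Psi cs h r s)) (h1 : cpr cs h b s = 1)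
    (h2 : cpr cs h b r ≤ cpr cs h r s) : False := by
  rw [psi_comm] at hb
  exact not_star hs hsr hr hb h1 (by rwa [hs s r hsr hr])

theorem not_star_zero {b : I → ℤ} (hb : b ∈ Star cs h (Psi cs h r s)) (h1 : cpr cs h b r = 0)
    (h2 : cpr cs h b s = 0) : False := by
  have h4 := hb.2 (-b) ⟨hb.1.neg, by rw [cpr_neg_left _ hr, h1]; norm_num, by
    rw [cpr_neg_left _ hsr, h2]; norm_num⟩
  rw [cpr_neg_right cs h _ hb.1, cpr_self cs h hb.1] at h4
  norm_num at h4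

end Comb

/-- `Ψ* = {r}` for `s = r`. -/
theorem star_self (hs : SL cs h) {r : I → ℤ} (hr : IsRoot cs h r) : Star cs h (Psi cs h r r) = {r} := by
  ext b
  constructor
  · intro hb
    have h1 : 0 ≤ cpr cs h b r := hb.2 r ⟨hr, by rw [cpr_self cs h hr]; norm_num, by rw [cpr_self cs h hr]; norm_num⟩
    rcases hs.cases hb.1 hr with h2 | h2 | h2
    · exact h2.1
    · omega
    · exfalso
      have h3 : cpr cs h b r = 0 ∨ cpr cs h b r = 1 := by omega
      rcases h3 with h3 | h3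
      · exact not_star_zero hs hr hr hb h3 h3
      · exact not_star hs hr hr hb h3 (by rw [cpr_self cs h hr, h3]; norm_num)
  · intro hb
    rw [Set.mem_singleton_iff] at hb
    subst hb
    exact ⟨hr, fun a ha => by rw [hs _ _ hr ha.1]; exact ha.2.1⟩

/-- `Ψ* = {r, s}` for `⟨r, s⟩ = 1`. -/
theorem star_one (hs : SL cs h) {r s : I → ℤ} (hr : IsRoot cs h r) (hsr : IsRoot cs h s) (hrs : cpr cs h r s = 1) :
    Star cs h (Psi cs h r s) = {r, s} := by
  have hsr' : cpr cs h s r = 1 := by rw [hs s r hsr hr, hrs]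
  ext b
  constructor
  · intro hb
    have h1 : 0 ≤ cpr cs h b r := hb.2 r ⟨hr, by rw [cpr_self cs h hr]; norm_num, by rw [hrs]; norm_num⟩
    have h1' : 0 ≤ cpr cs h b s := hb.2 s ⟨hsr, by rw [hsr']; norm_num, by rw [cpr_self cs h hsr]; norm_num⟩
    rcases hs.cases hb.1 hr with h2 | h2 | h2
    · exact Or.inl h2.1
    · omega
    rcases hs.cases hb.1 hsr with h3 | h3 | h3
    · exact Or.inr h3.1
    · omega
    exfalso
    have h4 : cpr cs h b r = 0 ∨ cpr cs h b r = 1 := by omega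
    have h5 : cpr cs h b s = 0 ∨ cpr cs h b s = 1 := by omega
    rcases h4 with h4 | h4
    · rcases h5 with h5 | h5
      · exact not_star_zero hs hr hsr hb h4 h5
      · exact not_star' hs hr hsr hb h5 (by omega)
    · exact not_star hs hr hsr hb h4 (by omega)
  · rintro (hb | hb)
    · subst hb
      exact ⟨hr, fun a ha => by rw [hs _ _ hr ha.1]; exact ha.2.1⟩
    · rw [Set.mem_singleton_iff] at hb
      subst hb
      exact ⟨hsr, fun a ha => by rw [hs _ _ hsr ha.1]; exact ha.2.2⟩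

/-- the condition (STAR) for a pair of orthogonal roots: every `b` with `⟨b, r⟩ = ⟨b, s⟩ = 1` has a companion. -/
def Comp (cs : CoxeterSystem M W) (h : IsCartan M A) (r s : I → ℤ) : Prop :=
  ∀ b, IsRoot cs h b → cpr cs h b r = 1 → cpr cs h b s = 1 →
    ∃ c, IsRoot cs h c ∧ cpr cs h c r = 1 ∧ cpr cs h c s = 1 ∧ cpr cs h b c = 1

/-- `Ψ* = {r, s}` for orthogonal roots with `Comp`. -/
theorem star_zero (hs : SL cs h) {r s : I → ℤ} (hr : IsRoot cs h r) (hsr : IsRoot cs h s) (hrs : cpr cs h r s = 0)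
    (hC : Comp cs h r s) : Star cs h (Psi cs h r s) = {r, s} := by
  have hsr' : cpr cs h s r = 0 := by rw [hs s r hsr hr, hrs]
  ext b
  constructor
  · intro hb
    have h1 : 0 ≤ cpr cs h b r := hb.2 r ⟨hr, by rw [cpr_self cs h hr]; norm_num, by rw [hrs]⟩
    have h1' : 0 ≤ cpr cs h b s := hb.2 s ⟨hsr, by rw [hsr'], by rw [cpr_self cs h hsr]; norm_num⟩
    rcases hs.cases hb.1 hr with h2 | h2 | h2
    · exact Or.inl h2.1
    · omega
    rcases hs.cases hb.1 hsr with h3 | h3 | h3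
    · exact Or.inr h3.1
    · omega
    exfalso
    have h4 : cpr cs h b r = 0 ∨ cpr cs h b r = 1 := by omega
    have h5 : cpr cs h b s = 0 ∨ cpr cs h b s = 1 := by omega
    rcases h4 with h4 | h4
    · rcases h5 with h5 | h5
      · exact not_star_zero hs hr hsr hb h4 h5
      · exact not_star' hs hr hsr hb h5 (by omega)
    · rcases h5 with h5 | h5
      · exact not_star hs hr hsr hb h4 (by omega)
      · obtain ⟨c, hc, hcr, hcs, hbc⟩ := hC b hb.1 h4 h5
        have hcb : cpr cs h c b = 1 := by rw [hs c b hc hb.1, hbc]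
        have h6 : IsRoot cs h (c - b) := isRoot_sub hc hb.1 hcb
        have h7 := hb.2 (c - b) ⟨h6, by
          rw [cpr_sub_left hs hr hsr hr]; omega, by
          rw [cpr_sub_left hs hr hsr hsr]; omega⟩
        rw [hs b _ hb.1 h6, cpr_sub_left hs hr hsr hb.1, cpr_self cs h hb.1, hcb] at h7
        norm_num at h7
  · rintro (hb | hb)
    · subst hb
      exact ⟨hr, fun a ha => by rw [hs _ _ hr ha.1]; exact ha.2.1⟩
    · rw [Set.mem_singleton_iff] at hb
      subst hb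
      exact ⟨hsr, fun a ha => by rw [hs _ _ hsr ha.1]; exact ha.2.2⟩

/-- `Ψ* = {r, s, r + s}` for `⟨r, s⟩ = -1`. -/
theorem star_neg (hs : SL cs h) {r s : I → ℤ} (hr : IsRoot cs h r) (hsr : IsRoot cs h s)
    (hrs : cpr cs h r s = -1) : Star cs h (Psi cs h r s) = {r, s, r + s} := by
  have hsr' : cpr cs h s r = -1 := by rw [hs s r hsr hr, hrs]
  have hv := isRoot_add hr hsr hrs
  have hvr : cpr cs h (r + s) r = 1 := by rw [cpr_add cs h _ _ hr, cpr_self cs h hr, hsr']; norm_num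
  have hvs : cpr cs h (r + s) s = 1 := by rw [cpr_add cs h _ _ hsr, cpr_self cs h hsr, hrs]; norm_num
  have hvP : r + s ∈ Psi cs h r s := ⟨hv, by rw [hvr]; norm_num, by rw [hvs]; norm_num⟩
  ext b
  constructor
  · intro hb
    have hbr := hs b r hb.1 hr
    have hbs := hs b s hb.1 hsr
    have h1 : 0 ≤ cpr cs h b (r + s) := hb.2 _ hvP
    have h1' : cpr cs h b (r + s) = cpr cs h b r + cpr cs h b s := by
      rw [hs b _ hb.1 hv, cpr_add cs h _ _ hb.1, ← hbr, ← hbs]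
    rcases hs.cases hb.1 hr with h2 | h2 | h2
    · exact Or.inl h2.1
    · exfalso
      rw [h2.1, cpr_neg_left _ hsr, hrs] at h1'
      rw [h2.1] at h1
      rw [cpr_neg_left _ hr, cpr_self cs h hr] at h1'
      omega
    rcases hs.cases hb.1 hsr with h3 | h3 | h3
    · exact Or.inr (Or.inl h3.1)
    · exfalso
      rw [h3.1, cpr_neg_left _ hr, hsr', cpr_neg_left _ hsr, cpr_self cs h hsr] at h1'
      rw [h3.1] at h1
      omega
    rcases hs.cases hb.1 hv with h4 | h4 | h4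
    · exact Or.inr (Or.inr h4.1)
    · omega
    exfalso
    have h5 : cpr cs h b r = 1 ∨ cpr cs h b s = 1 ∨ (cpr cs h b r = 0 ∧ cpr cs h b s = 0) := by omega
    have key : ∀ {r s : I → ℤ}, IsRoot cs h r → IsRoot cs h s → IsRoot cs h (r + s) → cpr cs h r s = -1 →
        cpr cs h s r = -1 → b ∈ Star cs h (Psi cs h r s) → cpr cs h b (r + s) = 1 ∨ cpr cs h b (r + s) = 0 →
        cpr cs h b r = 1 → cpr cs h b (r + s) = cpr cs h b r + cpr cs h b s → False := by
      intro r s hr hsr hv hrs hsr' hb h6 h7 h8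
      have hbr := hs b r hb.1 hr
      have hbs := hs b s hb.1 hsr
      rcases h6 with h6 | h6
      · have h9 : IsRoot cs h (r + s - b) := isRoot_sub hv hb.1 (by rw [hs _ b hv hb.1, h6])
        have h10 := hb.2 (r + s - b) ⟨h9, by
          rw [cpr_sub_left hs hr hsr hr, cpr_add cs h _ _ hr, cpr_self cs h hr]; omega, by
          rw [cpr_sub_left hs hr hsr hsr, cpr_add cs h _ _ hsr, cpr_self cs h hsr]; omega⟩
        rw [hs b _ hb.1 h9, cpr_sub_left hs hr hsr hb.1, cpr_self cs h hb.1, hs _ b hv hb.1, h6] at h10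
        norm_num at h10
      · exact not_star hs hr hsr hb h7 (by omega)
    rcases h5 with h5 | h5 | h5
    · exact key hr hsr hv hrs hsr' hb (by omega) h5 h1'
    · have hv' : IsRoot cs h (s + r) := by rw [add_comm]; exact hv
      refine key hsr hr hv' hsr' hrs (by rw [psi_comm]; exact hb) ?_ h5 ?_
      · rw [add_comm]; omega
      · rw [add_comm s r, h1', add_comm]
    · exact not_star_zero hs hr hsr hb h5.1 h5.2
  · rintro (hb | hb | hb)
    · subst hb
      exact ⟨hr, fun a ha => by rw [hs _ _ hr ha.1]; exact ha.2.1⟩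
    · subst hb
      exact ⟨hsr, fun a ha => by rw [hs _ _ hsr ha.1]; exact ha.2.2⟩
    · rw [Set.mem_singleton_iff] at hb
      subst hb
      refine ⟨hv, fun a ha => ?_⟩
      rw [cpr_add cs h _ _ ha.1, hs r a hr ha.1, hs s a hsr ha.1]
      exact add_nonneg ha.2.1 ha.2.2

/-! ### The torus part -/

/-- the root groups of `Psi` centralise those of `{r, s}` etc. -/
theorem star_comm {R : RGD cs h p T n X} {Psi : Set (I → ℤ)} (hL : ∀ a ∈ Psi, LR R a) : ∀ b ∈ Star cs h Psi, ∀ a ∈ Psi,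
    ∀ u ∈ X b, ∀ v ∈ X a, u * v = v * u :=
  fun b hb a ha u hu v hv => (hL a ha).comm b hb.1 (hb.2 a ha) u hu v hv

section Cen

variable (R : RGD cs h p T n X) (hs : SL cs h) {t : Y} (ht : t ∈ T) {r s : I → ℤ} (hr : IsRoot cs h r)
  (hsr : IsRoot cs h s)

include R hs ht hr hsr

theorem cen_sub {b c : I → ℤ} (hb : b ∈ Cen cs h X t) (hc : c ∈ Cen cs h X t) (hbc : cpr cs h b c = 1) :
    b - c ∈ Cen cs h X t := by
  rw [sub_eq_add_neg]
  refine cen_add R (hs.a2 hb.1 hc.1.neg ?_) hb (cen_neg R ht hc)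
  rw [cpr_neg_right cs h _ hc.1, hbc]

theorem cen_of_psi_one (hrs : cpr cs h r s = 1) (hP : Psi cs h r s ⊆ Cen cs h X t) {b : I → ℤ}
    (hb : IsRoot cs h b) : b ∈ Cen cs h X t := by
  have hsr' : cpr cs h s r = 1 := by rw [hs s r hsr hr, hrs]
  have hrC : r ∈ Cen cs h X t := hP ⟨hr, by rw [cpr_self cs h hr]; norm_num, by rw [hrs]; norm_num⟩
  have hsC : s ∈ Cen cs h X t := hP ⟨hsr, by rw [hsr']; norm_num, by rw [cpr_self cs h hsr]; norm_num⟩
  -- the case `⟨b, r⟩ > 0`, `⟨b, s⟩ < 0`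
  have key : ∀ {r s : I → ℤ}, IsRoot cs h r → IsRoot cs h s → cpr cs h r s = 1 → r ∈ Cen cs h X t →
      s ∈ Cen cs h X t → ∀ {b : I → ℤ}, IsRoot cs h b → 0 < cpr cs h b r → cpr cs h b s < 0 →
      b ∈ Cen cs h X t := by
    intro r s hr hsr hrs hrC hsC b hb h1 h2
    have hrs' : IsRoot cs h (r - s) := isRoot_sub hr hsr hrs
    have h3 : b = r - s := by
      refine hs.eq_of_cpr hb hrs' ?_
      rw [hs b _ hb hrs', cpr_sub_left hs hr hsr hb, hs r b hr hb, hs s b hsr hb]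
      omega
    rw [h3]
    exact cen_sub R hs ht hr hsr hrC hsC hrs
  by_cases h1 : 0 ≤ cpr cs h b r
  · by_cases h2 : 0 ≤ cpr cs h b s
    · exact hP ⟨hb, h1, h2⟩
    · push Not at h2
      rcases h1.lt_or_eq with h3 | h3
      · exact key hr hsr hrs hrC hsC hb h3 h2
      · have h4 := cen_neg R ht (hP (a := -b) ⟨hb.neg, by rw [cpr_neg_left _ hr]; omega, by
          rw [cpr_neg_left _ hsr]; omega⟩)
        rwa [neg_neg] at h4
  · push Not at h1
    by_cases h2 : 0 < cpr cs h b s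
    · exact key hsr hr hsr' hsC hrC hb h2 h1
    · push Not at h2
      have h4 := cen_neg R ht (hP (a := -b) ⟨hb.neg, by rw [cpr_neg_left _ hr]; omega, by
          rw [cpr_neg_left _ hsr]; omega⟩)
      rwa [neg_neg] at h4

theorem cen_of_psi_zero (hrs : cpr cs h r s = 0) (hP : Psi cs h r s ⊆ Cen cs h X t) {b : I → ℤ}
    (hb : IsRoot cs h b) : b ∈ Cen cs h X t := by
  have hsr' : cpr cs h s r = 0 := by rw [hs s r hsr hr, hrs]
  have hrC : r ∈ Cen cs h X t := hP ⟨hr, by rw [cpr_self cs h hr]; norm_num, by rw [hrs]⟩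
  have hsC : s ∈ Cen cs h X t := hP ⟨hsr, by rw [hsr'], by rw [cpr_self cs h hsr]; norm_num⟩
  have key : ∀ {r s : I → ℤ}, IsRoot cs h r → IsRoot cs h s → cpr cs h r s = 0 → r ∈ Cen cs h X t →
      Psi cs h r s ⊆ Cen cs h X t → ∀ {b : I → ℤ}, IsRoot cs h b → 0 < cpr cs h b r → cpr cs h b s < 0 →
      b ∈ Cen cs h X t := by
    intro r s hr hsr hrs hrC hP b hb h1 h2
    have h3 : cpr cs h b r = 1 := by
      rcases hs.cases hb hr with h4 | h4 | h4
      · rw [h4.1, hrs] at h2; omega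
      · omega
      · omega
    have hrb : cpr cs h r b = 1 := by rw [hs r b hr hb, h3]
    have h5 : r - b ∈ Cen cs h X t := hP ⟨isRoot_sub hr hb hrb, by
      rw [cpr_sub_left hs hr hsr hr, cpr_self cs h hr]; omega, by
      rw [cpr_sub_left hs hr hsr hsr]; omega⟩
    have h6 := cen_sub R hs ht hr hsr hrC h5 (by
      rw [hs r _ hr h5.1, cpr_sub_left hs hr hsr hr, cpr_self cs h hr, h3]; norm_num)
    rwa [sub_sub_cancel] at h6
  by_cases h1 : 0 ≤ cpr cs h b r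
  · by_cases h2 : 0 ≤ cpr cs h b s
    · exact hP ⟨hb, h1, h2⟩
    · push Not at h2
      rcases h1.lt_or_eq with h3 | h3
      · exact key hr hsr hrs hrC hP hb h3 h2
      · have h4 := cen_neg R ht (hP (a := -b) ⟨hb.neg, by rw [cpr_neg_left _ hr]; omega, by
          rw [cpr_neg_left _ hsr]; omega⟩)
        rwa [neg_neg] at h4
  · push Not at h1
    by_cases h2 : 0 < cpr cs h b s
    · exact key hsr hr hsr' hsC (by rwa [psi_comm]) hb h2 h1
    · push Not at h2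
      have h4 := cen_neg R ht (hP (a := -b) ⟨hb.neg, by rw [cpr_neg_left _ hr]; omega, by
          rw [cpr_neg_left _ hsr]; omega⟩)
      rwa [neg_neg] at h4

omit hsr in
theorem cen_of_psi_self (hP : Psi cs h r r ⊆ Cen cs h X t) {b : I → ℤ} (hb : IsRoot cs h b) :
    b ∈ Cen cs h X t := by
  by_cases h1 : 0 ≤ cpr cs h b r
  · exact hP ⟨hb, h1, h1⟩
  · push Not at h1
    have h4 := cen_neg R ht (hP (a := -b) ⟨hb.neg, by rw [cpr_neg_left _ hr]; omega, by
          rw [cpr_neg_left _ hr]; omega⟩)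
    rwa [neg_neg] at h4

end Cen

/-- the condition for a pair at 120 degrees: two orthogonal roots `a`, `a'` with `⟨·, r⟩ = 1`, `⟨·, s⟩ = 0`. -/
def Comp' (cs : CoxeterSystem M W) (h : IsCartan M A) (r s : I → ℤ) : Prop :=
  ∃ a a', IsRoot cs h a ∧ IsRoot cs h a' ∧ cpr cs h a r = 1 ∧ cpr cs h a s = 0 ∧ cpr cs h a' r = 1 ∧
    cpr cs h a' s = 0 ∧ cpr cs h a a' = 0

theorem cen_of_psi_neg (R : RGD cs h p T n X) (hs : SL cs h) {t : Y} (ht : t ∈ T) {r s : I → ℤ}
    (hr : IsRoot cs h r) (hsr : IsRoot cs h s) (hrs : cpr cs h r s = -1) (hC : Comp' cs h r s)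
    (hP : Psi cs h r s ⊆ Cen cs h X t) {b : I → ℤ} (hb : IsRoot cs h b) : b ∈ Cen cs h X t := by
  have hsr' : cpr cs h s r = -1 := by rw [hs s r hsr hr, hrs]
  have hv := isRoot_add hr hsr hrs
  have hvr : cpr cs h (r + s) r = 1 := by rw [cpr_add cs h _ _ hr, cpr_self cs h hr, hsr']; norm_num
  have hvs : cpr cs h (r + s) s = 1 := by rw [cpr_add cs h _ _ hsr, cpr_self cs h hsr, hrs]; norm_num
  have hvC : r + s ∈ Cen cs h X t := hP ⟨hv, by rw [hvr]; norm_num, by rw [hvs]; norm_num⟩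
  obtain ⟨a, a', ha, ha', har, has, har', has', haa⟩ := hC
  have hsub := @cpr_sub_left I W _ _ _ M cs A h _ hs r s hr hsr
  -- `a'' = r + s - a'`
  have hav : cpr cs h a (r + s) = 1 := by
    rw [hs a _ ha hv, cpr_add cs h _ _ ha, hs r a hr ha, hs s a hsr ha, har, has]; norm_num
  have hav' : cpr cs h a' (r + s) = 1 := by
    rw [hs a' _ ha' hv, cpr_add cs h _ _ ha', hs r a' hr ha', hs s a' hsr ha', har', has']; norm_num
  have h1 : IsRoot cs h (r + s - a') := isRoot_sub hv ha' (by rw [hs _ a' hv ha', hav'])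
  have h1C : r + s - a' ∈ Cen cs h X t := hP ⟨h1, by rw [hsub hr, hvr, har']; norm_num, by
    rw [hsub hsr, hvs, has']; norm_num⟩
  have haC : a ∈ Cen cs h X t := hP ⟨ha, by rw [har]; norm_num, by rw [has]⟩
  have h2 : cpr cs h a (r + s - a') = 1 := by
    rw [hs a _ ha h1, hsub ha, hs _ a hv ha, hav, hs a' a ha' ha, haa]; norm_num
  -- `c = a - a''`
  have h3 : a - (r + s - a') ∈ Cen cs h X t := cen_sub R hs ht hr hsr haC h1C h2
  set c := a - (r + s - a') with hc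
  have hcr : cpr cs h c r = 1 := by
    rw [hc, hsub hr, hsub hr, hvr, har, har']; norm_num
  have hcs : cpr cs h c s = -1 := by
    rw [hc, hsub hsr, hsub hsr, hvs, has, has']; norm_num
  have hrc : cpr cs h r c = 1 := by rw [hs r c hr h3.1, hcr]
  have h4 : r - c ∈ Cen cs h X t := hP ⟨isRoot_sub hr h3.1 hrc, by
    rw [hsub hr, cpr_self cs h hr, hcr]; norm_num, by rw [hsub hsr, hrs, hcs]; norm_num⟩
  have hrC : r ∈ Cen cs h X t := by
    have h5 := cen_add R (hs.a2 h3.1 h4.1 (by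
      rw [hs c _ h3.1 h4.1, hsub h3.1, cpr_self cs h h3.1, hrc]; norm_num)) h3 h4
    rwa [add_sub_cancel] at h5
  have hsC : s ∈ Cen cs h X t := by
    have h5 := cen_sub R hs ht hr hsr hvC hrC hvr
    rwa [add_sub_cancel_left] at h5
  have key : ∀ {r s : I → ℤ}, IsRoot cs h r → IsRoot cs h s → cpr cs h r s = -1 → r ∈ Cen cs h X t →
      s ∈ Cen cs h X t → Psi cs h r s ⊆ Cen cs h X t → ∀ {b : I → ℤ}, IsRoot cs h b → 0 < cpr cs h b r →
      cpr cs h b s < 0 → b ∈ Cen cs h X t := by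
    intro r s hr hsr hrs hrC hsC hP b hb h1 h2
    rcases hs.cases hb hr with h4 | h4 | h4
    · rw [h4.1]; exact hrC
    · omega
    rcases hs.cases hb hsr with h6 | h6 | h6
    · omega
    · rw [h6.1]; exact cen_neg R ht hsC
    have h3 : cpr cs h b r = 1 := by omega
    have hrb : cpr cs h r b = 1 := by rw [hs r b hr hb, h3]
    have h5 : r - b ∈ Cen cs h X t := hP ⟨isRoot_sub hr hb hrb, by
      rw [cpr_sub_left hs hr hsr hr, cpr_self cs h hr]; omega, by
      rw [cpr_sub_left hs hr hsr hsr]; omega⟩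
    have h6 := cen_sub R hs ht hr hsr hrC h5 (by
      rw [hs r _ hr h5.1, cpr_sub_left hs hr hsr hr, cpr_self cs h hr, h3]; norm_num)
    rwa [sub_sub_cancel] at h6
  by_cases h1 : 0 ≤ cpr cs h b r
  · by_cases h2 : 0 ≤ cpr cs h b s
    · exact hP ⟨hb, h1, h2⟩
    · push Not at h2
      rcases h1.lt_or_eq with h3 | h3
      · exact key hr hsr hrs hrC hsC hP hb h3 h2
      · have h4 := cen_neg R ht (hP (a := -b) ⟨hb.neg, by rw [cpr_neg_left _ hr]; omega, by
          rw [cpr_neg_left _ hsr]; omega⟩)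
        rwa [neg_neg] at h4
  · push Not at h1
    by_cases h2 : 0 < cpr cs h b s
    · exact key hsr hr hsr' hsC hrC (by rwa [psi_comm]) hb h2 h1
    · push Not at h2
      have h4 := cen_neg R ht (hP (a := -b) ⟨hb.neg, by rw [cpr_neg_left _ hr]; omega, by
          rw [cpr_neg_left _ hsr]; omega⟩)
      rwa [neg_neg] at h4

/-! ### (F3) -/

/-- the root groups have no centre in `T` -/
def NoCent (cs : CoxeterSystem M W) (h : IsCartan M A) (T : Subgroup Y) (X : (I → ℤ) → Subgroup Y) : Prop :=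
  ∀ t ∈ T, (∀ b, IsRoot cs h b → ∀ v ∈ X b, t * v = v * t) → t = 1

section F3

variable (R : RGD cs h p T n X) (hs : SL cs h) (hL : ∀ a, IsRoot cs h a → LR R a) (hN : NoCent cs h T X)
  {r s : I → ℤ} (hr : IsRoot cs h r) (hsr : IsRoot cs h s) {g : Y} (hg : g ∈ GG cs h T X)

include R hs hL hN hr hsr hg

omit hsr in
/-- **(F3)** `C(P_r) = X_r`. -/
theorem f3_self (hc : ∀ a ∈ Psi cs h r r, ∀ v ∈ X a, g * v = v * g) : g ∈ X r := by
  have hL' : ∀ a ∈ Psi cs h r r, LR R a := fun a ha => hL a ha.1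
  obtain ⟨t, ht, hP, q, hq, rfl⟩ := cent_eq R hL' (star_comm hL') hg hc
  have h1 : t = 1 := hN t ht fun b hb => (cen_of_psi_self R hs ht hr hP hb).2
  rw [h1, one_mul]
  rw [star_self hs hr] at hq
  refine (RGD.Sup_le fun z hz => ?_ : RGD.Sup X {r} ≤ X r) hq
  rw [Set.mem_singleton_iff] at hz
  rw [hz]

/-- **(F3)** `C(Y_rs) = X_r X_s` for `⟨r, s⟩ = 1`. -/
theorem f3_one (hrs : cpr cs h r s = 1) (hc : ∀ a ∈ Psi cs h r s, ∀ v ∈ X a, g * v = v * g) :
    g ∈ X r ⊔ X s := by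
  have hL' : ∀ a ∈ Psi cs h r s, LR R a := fun a ha => hL a ha.1
  obtain ⟨t, ht, hP, q, hq, rfl⟩ := cent_eq R hL' (star_comm hL') hg hc
  have h1 : t = 1 := hN t ht fun b hb => (cen_of_psi_one R hs ht hr hsr hrs hP hb).2
  rw [h1, one_mul]
  rw [star_one hs hr hsr hrs] at hq
  refine (RGD.Sup_le fun z hz => ?_ : RGD.Sup X {r, s} ≤ X r ⊔ X s) hq
  rcases hz with rfl | hz
  · exact le_sup_left
  · rw [Set.mem_singleton_iff] at hz
    rw [hz]; exact le_sup_right

/-- **(F3)** `C(Y_rs) = X_r X_s` for `⟨r, s⟩ = 0` (not type `A`). -/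
theorem f3_zero (hrs : cpr cs h r s = 0) (hC : Comp cs h r s)
    (hc : ∀ a ∈ Psi cs h r s, ∀ v ∈ X a, g * v = v * g) : g ∈ X r ⊔ X s := by
  have hL' : ∀ a ∈ Psi cs h r s, LR R a := fun a ha => hL a ha.1
  obtain ⟨t, ht, hP, q, hq, rfl⟩ := cent_eq R hL' (star_comm hL') hg hc
  have h1 : t = 1 := hN t ht fun b hb => (cen_of_psi_zero R hs ht hr hsr hrs hP hb).2
  rw [h1, one_mul]
  rw [star_zero hs hr hsr hrs hC] at hq
  refine (RGD.Sup_le fun z hz => ?_ : RGD.Sup X {r, s} ≤ X r ⊔ X s) hq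
  rcases hz with rfl | hz
  · exact le_sup_left
  · rw [Set.mem_singleton_iff] at hz
    rw [hz]; exact le_sup_right

/-- **(F3)** `C(Y_rs) = ⟨X_r, X_s⟩` for `⟨r, s⟩ = -1` (not type `A`). -/
theorem f3_neg (hrs : cpr cs h r s = -1) (hC : Comp' cs h r s)
    (hc : ∀ a ∈ Psi cs h r s, ∀ v ∈ X a, g * v = v * g) : g ∈ X r ⊔ X s := by
  have hL' : ∀ a ∈ Psi cs h r s, LR R a := fun a ha => hL a ha.1
  obtain ⟨t, ht, hP, q, hq, rfl⟩ := cent_eq R hL' (star_comm hL') hg hc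
  have h1 : t = 1 := hN t ht fun b hb => (cen_of_psi_neg R hs ht hr hsr hrs hC hP hb).2
  rw [h1, one_mul]
  rw [star_neg hs hr hsr hrs] at hq
  have hA := hs.a2 hr hsr hrs
  refine (RGD.Sup_le fun z hz => ?_ : RGD.Sup X {r, s, r + s} ≤ X r ⊔ X s) hq
  rcases hz with rfl | rfl | hz
  · exact le_sup_left
  · exact le_sup_right
  · rw [Set.mem_singleton_iff] at hz
    rw [hz]
    intro w hw
    obtain ⟨⟨u, hu⟩, hu1⟩ := (Subgroup.ne_bot_iff_exists_ne_one).1 (X_ne_bot R hr)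
    obtain ⟨v, hv, rfl⟩ := hA.comm_surj R hu (fun h0 => hu1 (Subtype.ext h0)) hw
    have h2 : u ∈ X r ⊔ X s := Subgroup.mem_sup_left hu
    have h3 : v ∈ X r ⊔ X s := Subgroup.mem_sup_right hv
    rw [commutatorElement_def]
    exact mul_mem (mul_mem (mul_mem h2 h3) (inv_mem h2)) (inv_mem h3)

end F3

/-- In the simply laced case with no isolated node all root groups satisfy `LR`. -/
theorem lr_all (R : RGD cs h p T n X) (hs : SL cs h)
    (hc : ∀ a, IsRoot cs h a → ∃ b, IsRoot cs h b ∧ cpr cs h a b = 1) (a : I → ℤ) (ha : IsRoot cs h a) :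
    LR R a := by
  obtain ⟨b, hb, hab⟩ := hc a ha
  exact LR.of_SL R hs ha hb hab

/-- `NoCent` for a generated group with trivial centre. -/
theorem noCent_of_center (_R : RGD cs h p T n X) (hG : (⨆ x : {x // IsRoot cs h x}, X x.1) = ⊤)
    (hZ : Subgroup.center Y = ⊥) : NoCent cs h T X := by
  intro t ht hc
  have h1 : t ∈ Subgroup.center Y := by
    rw [Subgroup.mem_center_iff]
    intro g
    have h2 : g ∈ (⨆ x : {x // IsRoot cs h x}, X x.1) := by rw [hG]; trivial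
    have h3 : (⨆ x : {x // IsRoot cs h x}, X x.1) ≤ Subgroup.centralizer {t} := by
      refine iSup_le ?_
      rintro ⟨x, hx⟩ v hv
      rw [Subgroup.mem_centralizer_singleton_iff]
      exact (hc x hx v hv).symm
    exact (Subgroup.mem_centralizer_singleton_iff.1 (h3 h2))
  rwa [hZ, Subgroup.mem_bot] at h1

end Cfsg.Agent.KFacts.RgdCent
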