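import Mathlib
import Cfsg.Agent.KFacts.RgdOdd
import Cfsg.Agent.Nodes.Unique

/-!
Further facts on root group data (ODD, D10; for the existence of the doubled root groups).

* `inf_eq_half` : `Sup X S ⊓ Sup X S' = Sup X (S ∩ S')` for closed sets on which a functional is positive; `dirQ`;
* `elementary` : `x ^ p = 1` on `X r`; `tor_trans_pos`, `tor_trans_neg`; `tor_comm_orth`;
* `normalizer_U : N(U) ⊓ GG = B`; `eq_U` : `U` is a maximal `p`-subgroup of `GG`;
* `core_le` : a `p`-subgroup of `GG` normalised by `P_r` lies in `Q_r`;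
* `Two60`, `sep`.
-/

set_option autoImplicit false
set_option linter.unusedSectionVars false

namespace Cfsg.Agent.KFacts.RgdEx

open CoxeterSystem Cfsg.Agent.ChevalleyStructure.CoxeterGeom Cfsg.Agent.Tits.Roots Cfsg.Agent.Tits.Core
  Cfsg.Agent.Tits.RootComb Cfsg.Agent.Tits.Exchange Cfsg.Agent.Nodes.Reps Cfsg.Agent.Nodes.BNOf
  Cfsg.Agent.Nodes.StabComb Cfsg.Agent.Nodes.Bruhat Cfsg.Agent.Nodes.OppDec Cfsg.Agent.Nodes.LeviDec
  Cfsg.Agent.Nodes.NormX Cfsg.Agent.Nodes.Coroot Cfsg.Agent.Nodes.PosPair Cfsg.Agent.KFacts.RgdPar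
  Cfsg.Agent.KFacts.RgdSL Cfsg.Agent.KFacts.RgdTI Cfsg.Agent.KFacts.RgdCent Cfsg.Agent.KFacts.RgdOdd
open scoped commutatorElement

variable {I W Y : Type*} [Fintype I] [DecidableEq I] [Group W] [Group Y] {M : CoxeterMatrix I}
  {cs : CoxeterSystem M W} {A : I → I → ℤ} {h : IsCartan M A} {p : ℕ} {T : Subgroup Y} {n : I → Y}
  {X : (I → ℤ) → Subgroup Y}

section Gen

variable (R : RGD cs h p T n X)

include R

/-- Intersections of subgroups of a unipotent group. -/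
theorem inf_eq_half [Finite W] (f : (I → ℤ) →+ ℤ) {S S' : Set (I → ℤ)} (hS : ∀ x ∈ S, IsRoot cs h x ∧ 0 < f x)
    (hS' : ∀ x ∈ S', IsRoot cs h x ∧ 0 < f x) (hc : Nodes.Unique.Closed cs h S)
    (hc' : Nodes.Unique.Closed cs h S') : RGD.Sup X S ⊓ RGD.Sup X S' = RGD.Sup X (S ∩ S') := by
  obtain ⟨w, hw⟩ := exists_dom (cs := cs) (h := h) f
  obtain ⟨k, hk⟩ := exists_rp cs R.nsys w
  have hpull : ∀ {S : Set (I → ℤ)}, (∀ x ∈ S, IsRoot cs h x ∧ 0 < f x) →
      cj k⁻¹ (RGD.Sup X S) = RGD.Sup X {x | rep cs h w x ∈ S} := by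
    intro S hS
    rw [cj_Sup_eq R hk.inv (fun x hx => (hS x hx).1), inv_inv]
  have hpos : ∀ {S : Set (I → ℤ)}, (∀ x ∈ S, IsRoot cs h x ∧ 0 < f x) →
      {x | rep cs h w x ∈ S} ⊆ RGD.Pos cs h := by
    intro S hS x hx
    have h1 := hS _ hx
    have h2 : IsRoot cs h x := by
      have := h1.1.act w⁻¹
      rwa [rep_inv_apply] at this
    refine ⟨h2, ?_⟩
    rcases h2.pos_or_neg with h3 | h3
    · exact h3
    · have h4 := dom_nonneg hw (neg_nonneg.2 h3)
      rw [map_neg] at h4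
      have h5 : 0 < pull cs h f w x := h1.2
      omega
  have hcl : ∀ {S : Set (I → ℤ)}, Nodes.Unique.Closed cs h S → Nodes.Unique.Closed cs h {x | rep cs h w x ∈ S} :=
    fun hc x hx y hy z hz => hc _ hx _ hy _ (hz.act w)
  have h1 := Nodes.Unique.inf_eq R (hpos hS) (hpos hS') (hcl hc) (hcl hc')
  rw [← hpull hS, ← hpull hS'] at h1
  have h2 : {x | rep cs h w x ∈ S} ∩ {x | rep cs h w x ∈ S'} = {x | rep cs h w x ∈ S ∩ S'} := rfl
  rw [h2, ← hpull (S := S ∩ S') (fun x hx => hS x hx.1)] at h1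
  have h3 : cj k⁻¹ (RGD.Sup X S ⊓ RGD.Sup X S') = cj k⁻¹ (RGD.Sup X S) ⊓ cj k⁻¹ (RGD.Sup X S') := by
    ext x
    simp only [mem_cj, Subgroup.mem_inf]
  rw [← h3] at h1
  have h4 := congrArg (cj k) h1
  rwa [cj_cj_inv, cj_cj_inv] at h4

/-- `N_GG(U) = B` -/
theorem normalizer_U [Finite W] :
    Subgroup.normalizer (RGD.Sup X (RGD.Pos cs h) : Set Y) ⊓ GG cs h T X = RGD.B cs h T X := by
  rw [inf_eq_PJ R R.B_le_normalizer_U]
  have h1 : {i | n i ∈ Subgroup.normalizer (RGD.Sup X (RGD.Pos cs h) : Set Y)} = ∅ := by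
    ext i
    simp only [Set.mem_ofPred_eq, Set.mem_empty_iff_false, iff_false]
    intro h2
    apply R.not_neg_le_B i
    have h3 : X (-sr i) = cj (n i) (X (sr i)) := by
      rw [R.conj i _ (isRoot_sr cs h i), rep_simple_sr]
    rw [h3]
    refine le_trans (cj_mono (n i) (RGD.le_Sup (S := RGD.Pos cs h) ⟨isRoot_sr cs h i, sr_nonneg i⟩)) ?_
    rw [mem_normalizer_iff_cj.1 h2]
    exact RGD.U_le_B
  rw [h1]
  apply le_antisymm
  · refine sup_le (sup_le RGD.T_le_B (RGD.Sup_le fun x hx => ?_)) (VJ_le_B _)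
    exact absurd (funext fun k => hx.2 k (Set.notMem_empty k)) hx.1.ne_zero
  · exact B_le_PJ

/-- `U` is a maximal `p`-subgroup of `GG`. -/
theorem eq_U [Finite W] {P : Subgroup Y} (hUP : RGD.Sup X (RGD.Pos cs h) ≤ P) (hPG : P ≤ GG cs h T X)
    [Finite P] [Fact p.Prime] (hP : IsPGroup p P) : P = RGD.Sup X (RGD.Pos cs h) := by
  by_contra hne
  set U := RGD.Sup X (RGD.Pos cs h) with hU
  have h1 : U.subgroupOf P < ⊤ := by
    rw [lt_top_iff_ne_top]
    intro h2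
    rw [Subgroup.subgroupOf_eq_top] at h2
    exact hne (le_antisymm h2 hUP)
  have h2 : Group.IsNilpotent P := hP.isNilpotent
  have h3 := Group.normalizerCondition_of_isNilpotent (G := P) _ h1
  obtain ⟨x, hx, hx'⟩ := SetLike.exists_of_lt h3
  apply hx'
  rw [Subgroup.mem_subgroupOf]
  have h4 : (x : Y) ∈ Subgroup.normalizer (U : Set Y) := by
    rw [Subgroup.mem_normalizer_iff]
    intro y
    constructor
    · intro hy
      have h5 := (Subgroup.mem_normalizer_iff.1 hx ⟨y, hUP hy⟩).1 (by rw [Subgroup.mem_subgroupOf]; exact hy)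
      rw [Subgroup.mem_subgroupOf] at h5
      exact h5
    · intro hy
      have h6 : y ∈ P := by
        have : y = (x : Y)⁻¹ * ((x : Y) * y * (x : Y)⁻¹) * x := by group
        rw [this]
        exact mul_mem (mul_mem (inv_mem x.2) (hUP hy)) x.2
      have h5 := (Subgroup.mem_normalizer_iff.1 hx ⟨y, h6⟩).2 (by rw [Subgroup.mem_subgroupOf]; exact hy)
      rw [Subgroup.mem_subgroupOf] at h5
      exact h5
  have h5 : (x : Y) ∈ RGD.B cs h T X := by
    rw [← normalizer_U R]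
    exact ⟨h4, hPG x.2⟩
  obtain ⟨k, hk⟩ := hP x
  exact R.mem_U_of_mem_B h5 (k := k) (congrArg Subtype.val hk)

/-- representatives of `W_J` in the group generated by the root groups of `J` -/
theorem exists_rp_in [Finite W] {J : Set I} {w : W} (hw : w ∈ WJ cs J) :
    ∃ k ∈ RGD.Sup X (RootsJ cs h J), Rp cs R.nsys w k := by
  refine Subgroup.closure_induction (p := fun w _ => ∃ k ∈ RGD.Sup X (RootsJ cs h J), Rp cs R.nsys w k)
    ?_ ?_ ?_ ?_ hw
  · rintro _ ⟨i, hi, rfl⟩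
    obtain ⟨u, hu, hu1⟩ := exists_ne_one R i
    obtain ⟨s, hs, a, ha, b, hb, m, hm, he⟩ := exists_mu R (isRoot_sr cs h i) hu hu1
    have h1 : s = cs.simple i := by
      have : (cs.simple i)⁻¹ * s = 1 := by
        refine eq_one_of_fix cs h _ fun j => ?_
        have h3 : rep cs h s (sr j) = rep cs h (cs.simple i) (sr j) := by
          rw [hs, rep_simple_eq, cpr_sr]
        show rep cs h ((cs.simple i)⁻¹ * s) (sr j) = sr j
        rw [rep_mul_apply, h3, rep_inv_apply]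
      exact (inv_mul_eq_one.1 this).symm
    have h2 : sr i ∈ RootsJ cs h J := PosJ_subset _ (sr_mem_PosJ hi)
    have h3 : -sr i ∈ RootsJ cs h J := RootsJ.neg h2
    refine ⟨m, ?_, by rw [← h1]; exact hm⟩
    rw [he]
    exact mul_mem (mul_mem (RGD.le_Sup h3 ha) (RGD.le_Sup h2 hu)) (RGD.le_Sup h3 hb)
  · exact ⟨1, one_mem _, rp_one⟩
  · rintro v w _ _ ⟨k, hk, hkr⟩ ⟨l, hl, hlr⟩
    exact ⟨k * l, mul_mem hk hl, hkr.mul hlr⟩
  · rintro v _ ⟨k, hk, hkr⟩
    exact ⟨k⁻¹, inv_mem hk, hkr.inv⟩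

end Gen

/-! ### Root groups -/

section Root

variable [Finite W] (R : RGD cs h p T n X)

include R

/-- **(F2)** for `⟨x, y⟩ = 1`. -/
theorem tor_trans_pos {x y : I → ℤ} (hA : A2 cs h (-x) y) {v v' : Y} (hv : v ∈ X y) (hv1 : v ≠ 1) (hv' : v' ∈ X y)
    (hv1' : v' ≠ 1) : ∃ t ∈ T ⊓ (X x ⊔ X (-x)), t * v * t⁻¹ = v' := by
  obtain ⟨t, ht, e⟩ := hA.tor_trans R hv hv1 hv' hv1'
  rw [neg_neg, sup_comm] at ht
  exact ⟨t, ht, e⟩

/-- The root groups in an `A₂` are elementary abelian. -/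
theorem elementary [Fact p.Prime] {x y : I → ℤ} (hA : A2 cs h x y) {v : Y} (hv : v ∈ X y) : v ^ p = 1 := by
  have hp : p.Prime := Fact.out
  by_cases hv1 : v = 1
  · rw [hv1, one_pow]
  obtain ⟨k, hk⟩ := R.pgrp' hA.ry ⟨v, hv⟩
  have hk' : v ^ p ^ k = 1 := congrArg Subtype.val hk
  obtain ⟨j, hj, ej⟩ := (Nat.dvd_prime_pow hp).1 (orderOf_dvd_of_pow_eq_one hk')
  have hj0 : j ≠ 0 := by
    rintro rfl
    rw [pow_zero, orderOf_eq_one_iff] at ej
    exact hv1 ej
  obtain ⟨i, rfl⟩ := Nat.exists_eq_succ_of_ne_zero hj0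
  have h1 : orderOf (v ^ p ^ i) = p := by
    rw [orderOf_pow_of_dvd (pow_ne_zero i hp.ne_zero) (by rw [ej]; exact pow_dvd_pow p (Nat.le_succ i)), ej,
      Nat.succ_eq_add_one, Nat.pow_div (Nat.le_succ i) hp.pos]
    simp
  have h2 : v ^ p ^ i ≠ 1 := by
    intro h0
    rw [h0, orderOf_one] at h1
    exact hp.one_lt.ne h1
  obtain ⟨t, -, e⟩ := hA.tor_trans R (pow_mem hv (p ^ i)) h2 hv hv1
  have h3 : orderOf v = p := by
    have h4 := (MulAut.conj t).orderOf_eq (v ^ p ^ i)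
    rw [MulAut.conj_apply, e, h1] at h4
    exact h4
  rw [← h3, pow_orderOf_eq_one]

/-- `T ⊓ ⟨X_r, X_-r⟩` centralises the root groups orthogonal to `r`. -/
theorem orth_comm (hs : SL cs h) {r b : I → ℤ} (hr : IsRoot cs h r) (hb : IsRoot cs h b) (hrb : cpr cs h b r = 0)
    {g v : Y} (hg : g ∈ X r ⊔ X (-r)) (hv : v ∈ X b) : g * v = v * g := by
  have hne : ∀ {r : I → ℤ}, IsRoot cs h r → cpr cs h b r = 0 → b ≠ r := by
    rintro r hr h0 rfl
    rw [cpr_self cs h hr] at h0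
    omega
  have h0' : cpr cs h b (-r) = 0 := by rw [cpr_neg_right cs h _ hr, hrb, neg_zero]
  have h1 : X r ⊔ X (-r) ≤ Subgroup.centralizer {v} := by
    refine sup_le ?_ ?_
    · intro u hu
      rw [Subgroup.mem_centralizer_singleton_iff]
      refine comm_of_not_btwn R hr hb (hne hr hrb).symm (fun h2 => hne hr.neg h0' (by rw [h2, neg_neg])) ?_ hu hv
      refine hs.not_btwn hr hb (hne hr hrb).symm ?_
      rw [hs r b hr hb, hrb]
    · intro u hu
      rw [Subgroup.mem_centralizer_singleton_iff]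
      refine comm_of_not_btwn R hr.neg hb (hne hr.neg h0').symm (fun h2 => hne hr hrb (neg_injective h2).symm) ?_ hu hv
      refine hs.not_btwn hr.neg hb (hne hr.neg h0').symm ?_
      rw [cpr_neg_left _ hb, hs r b hr hb, hrb, neg_zero]
  exact Subgroup.mem_centralizer_singleton_iff.1 (h1 hg)

theorem closed_rad_sub (hs : SL cs h) {r : I → ℤ} (hr : IsRoot cs h r) {S : Set (I → ℤ)}
    (hS : ∀ b ∈ S, IsRoot cs h b ∧ cpr cs h b r = 1) : Nodes.Unique.Closed cs h (insert r S) := by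
  have key : ∀ x ∈ insert r S, IsRoot cs h x ∧ 1 ≤ cpr cs h x r := by
    rintro x (rfl | hx)
    · exact ⟨hr, by rw [cpr_self cs h hr]; norm_num⟩
    · exact ⟨(hS x hx).1, (hS x hx).2.ge⟩
  intro x hx y hy z hz
  by_cases hxy : x = y
  · subst hxy
    rw [Nodes.Unique.btwn_self (key x hx).1 hz]
    exact hx
  · have hxy' : x ≠ -y := by
      rintro rfl
      have h1 := (key _ hx).2
      rw [cpr_neg_left _ hr] at h1
      have := (key y hy).2
      omega
    obtain ⟨h1, h2⟩ := hs.btwn (key x hx).1 (key y hy).1 hxy hxy' hz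
    left
    refine hs.eq_of_cpr hz.1 hr ?_
    rw [h2, cpr_add cs h _ _ hr]
    have := (key x hx).2
    have := (key y hy).2
    omega

/-- **(dirQ)** direct decomposition of `Q_r / X_r`. -/
theorem dirQ (hs : SL cs h) {r : I → ℤ} (hr : IsRoot cs h r) {S S' : Set (I → ℤ)}
    (hS : ∀ b ∈ S, IsRoot cs h b ∧ cpr cs h b r = 1) (hS' : ∀ b ∈ S', IsRoot cs h b ∧ cpr cs h b r = 1) :
    (RGD.Sup X S ⊔ X r) ⊓ (RGD.Sup X S' ⊔ X r) = RGD.Sup X (S ∩ S') ⊔ X r := by
  have hins : ∀ S : Set (I → ℤ), RGD.Sup X S ⊔ X r = RGD.Sup X (insert r S) := by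
    intro S
    apply le_antisymm
    · exact sup_le (RGD.Sup_mono (Set.subset_insert r S)) (RGD.le_Sup (Set.mem_insert r S))
    · refine RGD.Sup_le fun z hz => ?_
      rcases hz with rfl | hz
      · exact le_sup_right
      · exact le_trans (RGD.le_Sup hz) le_sup_left
  have key : ∀ {S : Set (I → ℤ)}, (∀ b ∈ S, IsRoot cs h b ∧ cpr cs h b r = 1) →
      ∀ x ∈ insert r S, IsRoot cs h x ∧ 0 < ell cs h hr x := by
    rintro S hS x (rfl | hx)
    · exact ⟨hr, by show 0 < cpr cs h x x; rw [cpr_self cs h hr]; norm_num⟩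
    · exact ⟨(hS x hx).1, by show 0 < cpr cs h x r; rw [(hS x hx).2]; norm_num⟩
  rw [hins, hins, hins, inf_eq_half R (ell cs h hr) (key hS) (key hS') (closed_rad_sub R hs hr hS)
    (closed_rad_sub R hs hr hS')]
  congr 1
  ext x
  simp only [Set.mem_inter_iff, Set.mem_insert_iff]
  tauto

end Root

/-! ### The core of the parabolic subgroup -/

section Core

variable [Finite W] (R : RGD cs h p T n X)

include R

theorem core_le_std [Fact p.Prime] {r : I → ℤ} (hr : IsRoot cs h r) (hd : ∀ i, 0 ≤ cpr cs h (sr i) r)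
    {D : Subgroup Y} [Finite ↥(D ⊔ RGD.Sup X (RGD.Pos cs h))] (hDG : D ≤ GG cs h T X) (hD : IsPGroup p D)
    (hn : ∀ u ∈ RGD.Sup X (Ge cs h r), cj u D = D) : D ≤ RGD.Sup X (Rad cs h r) := by
  set f := ell cs h hr with hf
  have hGe : ∀ x, IsRoot cs h x → 0 ≤ x → x ∈ Ge cs h r := fun x hx h0 => ⟨hx, dom_nonneg (f := f) hd h0⟩
  -- `D ≤ U`
  have h1 : D ≤ RGD.Sup X (RGD.Pos cs h) := by
    have h2 : RGD.Sup X (RGD.Pos cs h) ≤ Subgroup.normalizer (D : Set Y) := by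
      intro u hu
      rw [mem_normalizer_iff_cj]
      refine hn u (RGD.Sup_mono (fun x hx => hGe x hx.1 hx.2) hu)
    have h3 : IsPGroup p ↥(D ⊔ RGD.Sup X (RGD.Pos cs h)) := hD.to_sup_of_normal_left' R.isPGroup_Upos h2
    have h4 := eq_U R (P := D ⊔ RGD.Sup X (RGD.Pos cs h)) le_sup_right
      (sup_le hDG (le_trans RGD.U_le_B B_le_GG)) h3
    rw [← h4]
    exact le_sup_left
  -- the longest element of the Levi subgroup
  set J : Set I := {i | f (sr i) = 0} with hJ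
  have hRJ : RootsJ cs h J = {x | IsRoot cs h x ∧ f x = 0} := rootsJ_eq hd
  have hlong : IsLongest cs J (wJ cs J) := isLongest_wJ cs J
  obtain ⟨k, hk, hkr⟩ := exists_rp_in R hlong.mem
  have hk' : k ∈ RGD.Sup X (Ge cs h r) := by
    refine RGD.Sup_mono (fun x hx => ?_) hk
    rw [hRJ] at hx
    exact ⟨hx.1, hx.2.ge⟩
  intro d hd'
  have h5 : k⁻¹ * d * k ∈ D := by
    have : d ∈ cj k D := by rw [hn k hk']; exact hd'
    exact mem_cj.1 this
  have h6 := mem_PW_of_conj R hkr (h1 hd') (RGD.U_le_B (h1 h5))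
  refine (RGD.Sup_mono ?_ : RGD.Sup X (PW cs h (wJ cs J)⁻¹) ≤ RGD.Sup X (Rad cs h r)) h6
  intro x hx
  refine ⟨hx.1, ?_⟩
  have h7 : 0 ≤ f x := dom_nonneg (f := f) hd hx.2.1
  by_contra h8
  have h9 : f x = 0 := by
    have h10 : ¬ 1 ≤ f x := h8
    omega
  have h10 : x ∈ PosJ cs h J := by
    have : x ∈ RootsJ cs h J := by rw [hRJ]; exact ⟨hx.1, h9⟩
    exact ⟨hx.1, hx.2.1, this.2⟩
  have h11 := rep_longest_nonpos hlong h10
  have h12 := hx.2.2
  rw [hlong.inv_eq] at h12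
  exact (hx.1.act _).not_pos_neg h12 h11

theorem cj_Sup_Ge {r : I → ℤ} (hr : IsRoot cs h r) {w : W} {k : Y} (hk : Rp cs R.nsys w k) :
    cj k (RGD.Sup X (Ge cs h r)) = RGD.Sup X (Ge cs h (rep cs h w r)) := by
  rw [cj_Sup_eq R hk (fun x hx => hx.1)]
  congr 1
  ext x
  constructor
  · intro hx
    have hx' : rep cs h w⁻¹ x ∈ Ge cs h r := hx
    have h1 : IsRoot cs h x := by
      have := hx'.1.act w
      rwa [rep_apply_inv] at this
    refine ⟨h1, ?_⟩
    have h2 := hx'.2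
    rwa [cpr_rep_left _ _ hr, inv_inv] at h2
  · intro hx
    show rep cs h w⁻¹ x ∈ Ge cs h r
    refine ⟨hx.1.act _, ?_⟩
    rw [cpr_rep_left _ _ hr, inv_inv]
    exact hx.2

theorem cj_Sup_Rad {r : I → ℤ} (hr : IsRoot cs h r) {w : W} {k : Y} (hk : Rp cs R.nsys w k) :
    cj k (RGD.Sup X (Rad cs h r)) = RGD.Sup X (Rad cs h (rep cs h w r)) := by
  rw [cj_Sup_eq R hk (fun x hx => hx.1)]
  congr 1
  ext x
  constructor
  · intro hx
    have hx' : rep cs h w⁻¹ x ∈ Rad cs h r := hx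
    have h1 : IsRoot cs h x := by
      have := hx'.1.act w
      rwa [rep_apply_inv] at this
    refine ⟨h1, ?_⟩
    have h2 := hx'.2
    rwa [cpr_rep_left _ _ hr, inv_inv] at h2
  · intro hx
    show rep cs h w⁻¹ x ∈ Rad cs h r
    refine ⟨hx.1.act _, ?_⟩
    rw [cpr_rep_left _ _ hr, inv_inv]
    exact hx.2

/-- **`O_p(P_r) ≤ Q_r`.** A `p`-subgroup of `GG` normalised by `P_r` lies in `Q_r`. -/
theorem core_le [Finite Y] [Fact p.Prime] {r : I → ℤ} (hr : IsRoot cs h r) {D : Subgroup Y}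
    (hDG : D ≤ GG cs h T X) (hD : IsPGroup p D) (hn : ∀ u ∈ RGD.Sup X (Ge cs h r), cj u D = D) :
    D ≤ RGD.Sup X (Rad cs h r) := by
  obtain ⟨w, hw⟩ := exists_dom (cs := cs) (h := h) (ell cs h hr)
  obtain ⟨k, hk⟩ := exists_rp cs R.nsys w⁻¹
  have hkG := NN_le_GG R ⟨_, hk⟩
  have hd : ∀ i, 0 ≤ cpr cs h (sr i) (rep cs h w⁻¹ r) := by
    intro i
    have h1 : 0 ≤ cpr cs h (rep cs h w (sr i)) r := hw i
    rwa [cpr_rep_left w _ hr] at h1
  have h1 := core_le_std R (hr.act w⁻¹) hd (D := cj k D) ?_ ?_ ?_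
  · rw [← cj_Sup_Rad R hr hk] at h1
    exact (cj_le_cj_iff k).1 h1
  · rw [← cj_GG hkG]
    exact cj_mono k hDG
  · exact hD.map _
  · intro u hu
    rw [← cj_Sup_Ge R hr hk] at hu
    have h2 := hn _ (mem_cj.1 hu)
    have h3 : cj u (cj k D) = cj k (cj (k⁻¹ * u * k) D) := by
      rw [← cj_mul, ← cj_mul]
      congr 1
      group
    rw [h3, h2]

end Core

/-! ### Separation -/

/-- for `⟨r, s⟩ = 1` there are at least two roots at 60 degrees to both -/
def Two60 (cs : CoxeterSystem M W) (h : IsCartan M A) : Prop :=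
  ∀ r s, IsRoot cs h r → IsRoot cs h s → cpr cs h r s = 1 → ∀ m₀, ∃ m, IsRoot cs h m ∧ m ≠ m₀ ∧
    cpr cs h m r = 1 ∧ cpr cs h m s = 1

/-- **(sep)** -/
theorem sep [Finite W] (hs : SL cs h) (h2 : Two60 cs h) {r b b' : I → ℤ} (hr : IsRoot cs h r) (hb : IsRoot cs h b)
    (hb' : IsRoot cs h b') (hbr : cpr cs h b r = 1) (hbr' : cpr cs h b' r = 1) (hne : b ≠ b') :
    ∃ d, IsRoot cs h d ∧ cpr cs h d r = 0 ∧ cpr cs h b d = 1 ∧ cpr cs h b' d ≤ 0 := by
  have hrb : cpr cs h r b = 1 := by rw [hs r b hr hb, hbr]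
  have hrb' : cpr cs h r b' = 1 := by rw [hs r b' hr hb', hbr']
  by_cases h1 : cpr cs h b b' = 1
  · have hd := isRoot_sub hb hb' h1
    refine ⟨b - b', hd, ?_, ?_, ?_⟩
    · rw [cpr_sub_left hs hr hr hr, hbr, hbr']; norm_num
    · rw [hs b _ hb hd, cpr_sub_left hs hr hr hb, cpr_self cs h hb, hs b' b hb' hb, h1]; norm_num
    · rw [hs b' _ hb' hd, cpr_sub_left hs hr hr hb', cpr_self cs h hb', h1]; norm_num
  · obtain ⟨m, hm, hmne, hmr, hmb⟩ := h2 r b hr hb hrb (r - b')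
    have hbm : cpr cs h b m = 1 := by rw [hs b m hb hm, hmb]
    have hd := isRoot_sub hb hm hbm
    have h3 : cpr cs h b b' ≤ 0 := by
      rcases hs.cases hb hb' with h4 | h4 | h4
      · exact absurd h4.1 hne
      · omega
      · omega
    have h5 : 0 ≤ cpr cs h m b' := by
      by_contra h6
      push Not at h6
      apply hmne
      have h7 : cpr cs h m b' = -1 := by
        rcases hs.cases hm hb' with h8 | h8 | h8
        · omega
        · exfalso
          rw [h8.1, cpr_neg_left _ hr, hbr'] at hmr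
          omega
        · omega
      have h8 : m + b' = r := by
        refine hs.eq_of_cpr (isRoot_add hm hb' h7) hr ?_
        rw [cpr_add cs h _ _ hr, hmr, hbr']; norm_num
      rw [← h8, add_sub_cancel_right]
    refine ⟨b - m, hd, ?_, ?_, ?_⟩
    · rw [cpr_sub_left hs hr hr hr, hbr, hmr]; norm_num
    · rw [hs b _ hb hd, cpr_sub_left hs hr hr hb, cpr_self cs h hb, hmb]; norm_num
    · rw [hs b' _ hb' hd, cpr_sub_left hs hr hr hb']
      omega

end Cfsg.Agent.KFacts.RgdEx
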