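import Mathlib
import Cfsg.Agent.KFacts.RgdEx

/-!
Centralisers of unipotent radicals (ODD, D10; fact (K3)), for arbitrary root group data.

* `eq_one_of_conj_X` : `b ∈ B`, `x ≠ y` positive roots, `v ∈ X x`, `b v b⁻¹ ∈ X y` imply `v = 1`;
* `normalizer_VJ` : `N(V_J) ⊓ GG = P_J`;
* `cent_VJ` : `c ∈ GG` centralises `V_J` (`J ≠ univ`, connected diagram) implies `c = t v`, `v ∈ Z(V_J)`, `t ∈ T`
  centralising all root groups.
-/

set_option autoImplicit false
set_option linter.unusedSectionVars false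

namespace Cfsg.Agent.KFacts.RgdVJ

open CoxeterSystem Cfsg.Agent.ChevalleyStructure.CoxeterGeom Cfsg.Agent.Tits.Roots Cfsg.Agent.Tits.Core
  Cfsg.Agent.Tits.RootComb Cfsg.Agent.Tits.Exchange Cfsg.Agent.Nodes.Reps Cfsg.Agent.Nodes.BNOf
  Cfsg.Agent.Nodes.StabComb Cfsg.Agent.Nodes.Bruhat Cfsg.Agent.Nodes.OppDec Cfsg.Agent.Nodes.LeviDec
  Cfsg.Agent.Nodes.NormX Cfsg.Agent.Nodes.Coroot Cfsg.Agent.Nodes.PosPair Cfsg.Agent.KFacts.RgdPar
  Cfsg.Agent.KFacts.RgdSL Cfsg.Agent.KFacts.RgdTI Cfsg.Agent.KFacts.RgdCent Cfsg.Agent.KFacts.RgdOdd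
  Cfsg.Agent.KFacts.RgdEx
open scoped commutatorElement

variable {I W Y : Type*} [Fintype I] [DecidableEq I] [Group W] [Group Y] {M : CoxeterMatrix I}
  {cs : CoxeterSystem M W} {A : I → I → ℤ} {h : IsCartan M A} {p : ℕ} {T : Subgroup Y} {n : I → Y}
  {X : (I → ℤ) → Subgroup Y}

theorem pairing_sr0 (i j : I) : pairing A i (sr j) = A i j := by
  unfold sr
  rw [pairing_single, mul_one]

/-- Two different positive roots are separated by a functional. -/
theorem exists_between [Finite W] {x y : I → ℤ} (hx : IsRoot cs h x) (hx0 : 0 ≤ x) (hy : IsRoot cs h y)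
    (hy0 : 0 ≤ y) (hxy : x ≠ y) : ∃ f : (I → ℤ) →+ ℤ, f x < 0 ∧ 0 < f y := by
  have hfin := Fintype.ofFinite W
  have hxy' : x ≠ -y := by
    rintro rfl
    exact hy.ne_zero (le_antisymm (neg_nonneg.1 hx0) hy0)
  have h1 := gram_pos cs h hx hy hxy hxy'
  have h2 := form_pos cs h hx.ne_zero
  have h3 := form_pos cs h hy.ne_zero
  have h4 : form cs h y x = form cs h x y := form_comm cs h _ _
  let F : (I → ℤ) → ((I → ℤ) →+ ℤ) := fun v =>
    { toFun := fun z => form cs h z v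
      map_zero' := by
        have := form_smul_left cs h 0 0 v
        rwa [zero_smul, zero_mul] at this
      map_add' := fun z z' => form_add_left cs h z z' v }
  by_cases h5 : form cs h x y ≤ 0
  · refine ⟨F (y - x), ?_, ?_⟩
    · show form cs h x (y - x) < 0
      rw [form_sub_right]; linarith
    · show 0 < form cs h y (y - x)
      rw [form_sub_right]; linarith
  · push Not at h5
    set a := form cs h x y
    set b := form cs h x x
    set c := form cs h y y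
    refine ⟨F ((a * a + b * c) • y - (2 * a * c) • x), ?_, ?_⟩
    · show form cs h x ((a * a + b * c) • y - (2 * a * c) • x) < 0
      rw [form_sub_right, form_smul_right, form_smul_right]
      show (a * a + b * c) * a - 2 * a * c * b < 0
      nlinarith
    · show 0 < form cs h y ((a * a + b * c) • y - (2 * a * c) • x)
      rw [form_sub_right, form_smul_right, form_smul_right, h4]
      show 0 < (a * a + b * c) * c - 2 * a * c * a
      nlinarith

theorem pos_of_pos [Finite W] : ∀ x ∈ RGD.Pos cs h, 0 < (AddMonoidHom.mk' ht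
    (fun x y => RGD.ht_add x y) : (I → ℤ) →+ ℤ) x := fun _ hx => RGD.ht_pos hx.1 hx.2

section Gen

variable (R : RGD cs h p T n X)

include R

/-- Elements of different positive root groups are not conjugate in `B`. -/
theorem eq_one_of_conj_X [Finite W] {b : Y} (hb : b ∈ RGD.B cs h T X) {x y : I → ℤ} (hx : IsRoot cs h x)
    (hx0 : 0 ≤ x) (hy : IsRoot cs h y) (hy0 : 0 ≤ y) (hxy : x ≠ y) {v : Y} (hv : v ∈ X x)
    (hc : b * v * b⁻¹ ∈ X y) : v = 1 := by
  obtain ⟨t, ht, u, hu, rfl⟩ := R.mem_B.1 hb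
  have h1 : u * v * u⁻¹ ∈ X y := by
    have h2 : t⁻¹ * (t * u * v * (t * u)⁻¹) * t ∈ X y := by
      have h3 : cj t (X y) = X y := R.tor y hy t ht
      rw [← mem_cj, h3]
      exact hc
    have h3 : t⁻¹ * (t * u * v * (t * u)⁻¹) * t = u * v * u⁻¹ := by group
    rwa [h3] at h2
  obtain ⟨f, hfx, hfy⟩ := exists_between hx hx0 hy hy0 hxy
  have hcl : Nodes.Slope.Closed cs h (RGD.Pos cs h) :=
    ⟨fun z hz => hz.1, fun z hz z' hz' w hw => Nodes.Unique.closed_pos z hz z' hz' w hw⟩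
  obtain ⟨a, ha, c, hc', rfl⟩ := Nodes.Slope.split R hcl _ f pos_of_pos hu
  have h2 : c * v * c⁻¹ ∈ RGD.Sup X {x | x ∈ RGD.Pos cs h ∧ f x ≤ 0} := by
    refine mul_mem (mul_mem hc' (RGD.le_Sup (S := {x | x ∈ RGD.Pos cs h ∧ f x ≤ 0}) ?_ hv)) (inv_mem hc')
    exact ⟨⟨hx, hx0⟩, hfx.le⟩
  have h3 : c * v * c⁻¹ ∈ RGD.Sup X {x | x ∈ RGD.Pos cs h ∧ 0 < f x} := by
    have h4 : c * v * c⁻¹ = a⁻¹ * (a * c * v * (a * c)⁻¹) * a := by group
    rw [h4]
    exact mul_mem (mul_mem (inv_mem ha) (RGD.le_Sup (S := {x | x ∈ RGD.Pos cs h ∧ 0 < f x})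
      ⟨⟨hy, hy0⟩, hfy⟩ h1)) ha
  have h4 : c * v * c⁻¹ ∈ RGD.Sup X ({x | x ∈ RGD.Pos cs h ∧ f x ≤ 0} ∩ {x | x ∈ RGD.Pos cs h ∧ 0 < f x}) := by
    rw [← Nodes.Unique.inf_eq R (fun z hz => hz.1) (fun z hz => hz.1)
      (fun z hz z' hz' w hw => (hcl.nonpos f).btw z hz z' hz' w hw)
      (fun z hz z' hz' w hw => (hcl.pos f).btw z hz z' hz' w hw)]
    exact ⟨h2, h3⟩
  have h5 : ({x | x ∈ RGD.Pos cs h ∧ f x ≤ 0} ∩ {x | x ∈ RGD.Pos cs h ∧ 0 < f x} : Set (I → ℤ)) = ∅ := by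
    ext z
    simp only [Set.mem_inter_iff, Set.mem_ofPred_eq, Set.mem_empty_iff_false, iff_false]
    rintro ⟨⟨-, h6⟩, -, h7⟩
    omega
  rw [h5, Sup_empty, Subgroup.mem_bot] at h4
  have h6 : v = c⁻¹ * (c * v * c⁻¹) * c := by group
  rw [h6, h4]; group

/-- **The normaliser of `V_J`.** -/
theorem normalizer_VJ [Finite W] (J : Set I) :
    Subgroup.normalizer (VJ cs h X J : Set Y) ⊓ GG cs h T X = PJ cs h T X J := by
  have hB : RGD.B cs h T X ≤ Subgroup.normalizer (VJ cs h X J : Set Y) :=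
    le_trans B_le_PJ (PJ_le_normalizer_VJ R J)
  rw [inf_eq_PJ R hB]
  have hJ : {i | n i ∈ Subgroup.normalizer (VJ cs h X J : Set Y)} = J := by
    ext i
    constructor
    · intro hi
      by_contra hiJ
      have h1 : cj (n i) (VJ cs h X J) = VJ cs h X J := mem_normalizer_iff_cj.1 hi
      have h2 : X (-sr i) ≤ VJ cs h X J := by
        rw [← h1]
        have h3 : X (-sr i) = cj (n i) (X (sr i)) := by
          rw [R.conj i _ (isRoot_sr cs h i), rep_simple_sr]
        rw [h3]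
        exact cj_mono _ (RGD.le_Sup (sr_mem_NotJ hiJ))
      exact R.not_neg_le_B i (le_trans h2 (VJ_le_B J))
    · intro hi
      exact PJ_le_normalizer_VJ R J (LJ_le_PJ (n_mem_LJ R hi))
  rw [hJ]

theorem PJ_empty [Finite W] : PJ cs h T X ∅ = RGD.B cs h T X := by
  refine le_antisymm (fun g hg => ?_) B_le_PJ
  obtain ⟨w, hw, hc⟩ := (mem_PJ_iff_cell R).1 hg
  have h1 : w = 1 := by
    have h2 : WJ cs (∅ : Set I) = ⊥ := by
      unfold WJ
      rw [Set.image_empty, Subgroup.closure_empty]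
    rw [h2, Subgroup.mem_bot] at hw
    exact hw
  rw [h1] at hc
  exact hc.mem_of_one

omit R in
/-- In a connected diagram no simple root is orthogonal to all roots outside `Φ_J`. -/
theorem exists_NotJ [Finite W]
    (hconn : ∀ J : Set I, J.Nonempty → J ≠ Set.univ → ∃ a ∈ J, ∃ b, b ∉ J ∧ M a b ≠ 2) {J : Set I}
    (hJ : J ≠ Set.univ) (i : I) : ∃ a ∈ NotJ cs h J, pairing A i a ≠ 0 := by
  by_contra hcon
  push Not at hcon
  let D : Set I := {i | ∀ a ∈ NotJ cs h J, pairing A i a = 0}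
  have hDJ : D ⊆ J := by
    intro k hk
    by_contra hkJ
    have h1 := hk (sr k) (sr_mem_NotJ hkJ)
    rw [pairing_sr0, h.diag] at h1
    omega
  obtain ⟨a, ha, b, hb, hM⟩ := hconn D ⟨i, hcon⟩ (fun h1 => hJ (Set.eq_univ_iff_forall.2 fun k =>
    hDJ (h1 ▸ Set.mem_univ k)))
  have hab : a ≠ b := by
    rintro rfl
    exact hb ha
  have hA : A a b ≠ 0 := by
    rcases h.rel a b hab with h1 | h1 | h1 | h1 <;> omega
  by_cases hbJ : b ∈ J
  · have h1 : ∃ z ∈ NotJ cs h J, pairing A b z ≠ 0 := by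
      by_contra h2
      push Not at h2
      exact hb h2
    obtain ⟨z, hz, hz0⟩ := h1
    have h2 := ha z hz
    have h3 := ha (rep cs h (cs.simple b) z) (NotJ.act (Subgroup.subset_closure ⟨b, hbJ, rfl⟩) hz)
    rw [rep_simple_eq, sub_eq_add_neg, pairing_add, ← neg_smul, pairing_smul, pairing_sr0, h2,
      zero_add] at h3
    rcases mul_eq_zero.1 h3 with h4 | h4
    · exact hz0 (neg_eq_zero.1 h4)
    · exact hA h4
  · have h1 := ha (sr b) (sr_mem_NotJ hbJ)
    rw [pairing_sr0] at h1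
    exact hA h1

/-- Elements of `GG` centralising `V_J` lie in `B`. -/
theorem cent_le_B [Finite W]
    (hconn : ∀ J : Set I, J.Nonempty → J ≠ Set.univ → ∃ a ∈ J, ∃ b, b ∉ J ∧ M a b ≠ 2) {J : Set I}
    (hJ : J ≠ Set.univ) {c : Y} (hcG : c ∈ GG cs h T X) (hc : ∀ v ∈ VJ cs h X J, c * v = v * c) :
    c ∈ RGD.B cs h T X := by
  let C : Subgroup Y := Subgroup.centralizer (VJ cs h X J : Set Y) ⊓ GG cs h T X
  have hCP : C ≤ PJ cs h T X J := by
    rw [← normalizer_VJ R J]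
    exact inf_le_inf_right _ (Subgroup.centralizer_le_normalizer _)
  have hBC : RGD.B cs h T X ≤ Subgroup.normalizer (C : Set Y) := by
    intro b hb
    rw [Subgroup.mem_normalizer_iff]
    have hbN : b ∈ Subgroup.normalizer (VJ cs h X J : Set Y) := PJ_le_normalizer_VJ R J (B_le_PJ hb)
    have key : ∀ b ∈ RGD.B cs h T X, ∀ x ∈ C, b * x * b⁻¹ ∈ C := by
      intro b hb x hx
      have hbN : b ∈ Subgroup.normalizer (VJ cs h X J : Set Y) := PJ_le_normalizer_VJ R J (B_le_PJ hb)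
      refine Subgroup.mem_inf.2 ⟨?_, mul_mem (mul_mem (B_le_GG hb) hx.2) (inv_mem (B_le_GG hb))⟩
      rw [Subgroup.mem_centralizer_iff]
      intro v hv
      have h1 : b⁻¹ * v * b ∈ VJ cs h X J := by
        have := (Subgroup.mem_normalizer_iff.1 (inv_mem hbN) v).1 hv
        rwa [inv_inv] at this
      have h2 := Subgroup.mem_centralizer_iff.1 hx.1 _ h1
      calc v * (b * x * b⁻¹) = b * (b⁻¹ * v * b * x) * b⁻¹ := by group
        _ = b * (x * (b⁻¹ * v * b)) * b⁻¹ := by rw [h2]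
        _ = _ := by group
    intro x
    refine ⟨fun hx => key b hb x hx, fun hx => ?_⟩
    have h1 := key b⁻¹ (inv_mem hb) _ hx
    have h2 : b⁻¹ * (b * x * b⁻¹) * b⁻¹⁻¹ = x := by group
    rwa [h2] at h1
  have hmem : ∀ {g : Y}, g ∈ C ⊔ RGD.B cs h T X → ∃ c ∈ C, ∃ b ∈ RGD.B cs h T X, g = c * b := by
    intro g hg
    have h1 : g ∈ ((C ⊔ RGD.B cs h T X : Subgroup Y) : Set Y) := hg
    rw [Subgroup.coe_mul_of_right_le_normalizer_left _ _ hBC, Set.mem_mul] at h1
    obtain ⟨c, hc, b, hb, e⟩ := h1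
    exact ⟨c, hc, b, hb, e.symm⟩
  have hle : C ⊔ RGD.B cs h T X ≤ PJ cs h T X J := sup_le hCP B_le_PJ
  have h1 := inf_eq_PJ R (P := C ⊔ RGD.B cs h T X) le_sup_right
  have h2 : {i | n i ∈ C ⊔ RGD.B cs h T X} = (∅ : Set I) := by
    ext i
    simp only [Set.mem_ofPred_eq, Set.mem_empty_iff_false, iff_false]
    intro hi
    have hiJ : i ∈ J := by
      have h3 := (cell_mem_PJ_iff R (cell_of_rp (rp_simple cs R.nsys i))).1 (hle hi)
      by_contra hiJ
      have h4 := NotJ.act h3 (sr_mem_NotJ (cs := cs) (h := h) hiJ)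
      rw [rep_simple_sr] at h4
      exact h4.1.ne_zero (le_antisymm (neg_nonpos.2 (sr_nonneg i)) h4.2.1)
    obtain ⟨c, hc, b, hb, e⟩ := hmem hi
    obtain ⟨a, ha, ha0⟩ := exists_NotJ (cs := cs) (h := h) hconn hJ i
    have ha' : rep cs h (cs.simple i) a ∈ NotJ cs h J := NotJ.act (Subgroup.subset_closure ⟨i, hiJ, rfl⟩) ha
    have hne : a ≠ rep cs h (cs.simple i) a := by
      rw [rep_simple_eq]
      intro h4
      have h5 : pairing A i a • (sr i : I → ℤ) = 0 := by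
        have : a - (a - pairing A i a • sr i) = 0 := sub_eq_zero.2 h4
        rwa [sub_sub_cancel] at this
      rcases smul_eq_zero.1 h5 with h6 | h6
      · exact ha0 h6
      · exact (isRoot_sr cs h i).ne_zero h6
    refine X_ne_bot R ha.1 ((Subgroup.eq_bot_iff_forall _).2 fun v hv => ?_)
    refine eq_one_of_conj_X R hb ha.1 ha.2.1 ha'.1 ha'.2.1 hne hv ?_
    have h4 : n i * v * (n i)⁻¹ ∈ X (rep cs h (cs.simple i) a) := by
      rw [← R.conj i a ha.1]
      exact conj_mem_cj.2 hv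
    have h5 : c⁻¹ * (n i * v * (n i)⁻¹) * c = b * v * b⁻¹ := by rw [e]; group
    rw [← h5]
    have h6 := Subgroup.mem_centralizer_iff.1 hc.1 _ (RGD.le_Sup (X := X) ha' h4)
    have h7 : c⁻¹ * (n i * v * (n i)⁻¹) * c = n i * v * (n i)⁻¹ := by
      calc c⁻¹ * (n i * v * (n i)⁻¹) * c = c⁻¹ * (n i * v * (n i)⁻¹ * c) := by group
        _ = c⁻¹ * (c * (n i * v * (n i)⁻¹)) := by rw [h6]
        _ = _ := by group
    rw [h7]
    exact h4
  rw [h2, PJ_empty R] at h1
  have h3 : c ∈ (C ⊔ RGD.B cs h T X) ⊓ GG cs h T X := by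
    refine ⟨Subgroup.mem_sup_left (Subgroup.mem_inf.2 ⟨?_, hcG⟩), hcG⟩
    rw [Subgroup.mem_centralizer_iff]
    exact fun v hv => (hc v hv).symm
  rwa [h1] at h3

/-- The core of `B` in `P_J` is `T V_J`. -/
theorem mem_TV [Finite W] {J : Set I} {c : Y} (hc : ∀ g ∈ PJ cs h T X J, g * c * g⁻¹ ∈ RGD.B cs h T X) :
    ∃ t ∈ T, ∃ v ∈ VJ cs h X J, c = t * v := by
  have h0 : c ∈ RGD.B cs h T X := by
    have := hc 1 (one_mem _)
    rwa [one_mul, inv_one, mul_one] at this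
  obtain ⟨t, ht, u, hu, rfl⟩ := R.mem_B.1 h0
  obtain ⟨a, ha, v, hv, rfl⟩ := (mem_U_iff R (J := J)).1 hu
  have hw := isLongest_wJ cs J
  obtain ⟨k, hk⟩ := exists_rp cs R.nsys (wJ cs J)
  have hkP : k ∈ PJ cs h T X J := LJ_le_PJ (rp_mem_LJ R hw.1 hk)
  have h1 := hc k hkP
  have h2 : k * t * k⁻¹ ∈ RGD.B cs h T X := by
    have h3 : cj k T = T := cj_T R hk
    refine RGD.T_le_B ?_
    rw [← h3]
    exact conj_mem_cj.2 ht
  have h3 : k * v * k⁻¹ ∈ RGD.B cs h T X :=
    VJ_le_B J ((Subgroup.mem_normalizer_iff.1 (PJ_le_normalizer_VJ R J hkP) v).1 hv)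
  have h4 : k * a * k⁻¹ ∈ RGD.B cs h T X := by
    have h5 : k * a * k⁻¹ = (k * t * k⁻¹)⁻¹ * (k * (t * (a * v)) * k⁻¹) * (k * v * k⁻¹)⁻¹ := by group
    rw [h5]
    exact mul_mem (mul_mem (inv_mem h2) h1) (inv_mem h3)
  have h5 : k * a * k⁻¹ ∈ UN cs h X := by
    refine cj_Sup_le R hk (S := PosJ cs h J) (S' := Neg cs h) (fun x hx => hx.1) (fun x hx => ?_)
      (conj_mem_cj.2 ha)
    exact ⟨hx.1.act _, rep_longest_nonpos hw hx⟩
  have h6 := eq_one_of_mem_UN_of_mem_B R h5 h4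
  have h7 : a = 1 := by
    have : a = k⁻¹ * (k * a * k⁻¹) * k := by group
    rw [this, h6]; group
  rw [h7, one_mul]
  exact ⟨t, ht, v, hv, rfl⟩

/-- If `t v` centralises `V_J`, so does `t`. -/
theorem tor_cent [Finite W] {J : Set I} {t v : Y} (ht : t ∈ T) (hv : v ∈ VJ cs h X J)
    (hc : ∀ x ∈ VJ cs h X J, t * v * x = x * (t * v)) : ∀ x ∈ VJ cs h X J, t * x = x * t := by
  obtain ⟨k, hk⟩ := (R.isPGroup_of_pos (S := NotJ cs h J) fun x hx => ⟨hx.1, hx.2.1⟩) ⟨v, hv⟩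
  have hk' : v ^ p ^ k = 1 := by
    have := congrArg Subtype.val hk
    exact this
  have key : ∀ j : ℕ, ∀ x ∈ VJ cs h X J, t ^ j * (v ^ j * x * (v ^ j)⁻¹) = x * t ^ j := by
    intro j
    induction j with
    | zero => intro x _; simp
    | succ j ih =>
      intro x hx
      have h1 : v * x * v⁻¹ ∈ VJ cs h X J := mul_mem (mul_mem hv hx) (inv_mem hv)
      have h2 := ih _ h1
      have h3 : t * (v * x * v⁻¹) = x * t := by
        have h4 := hc x hx
        calc t * (v * x * v⁻¹) = t * v * x * v⁻¹ := by group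
          _ = x * (t * v) * v⁻¹ := by rw [h4]
          _ = _ := by group
      calc t ^ (j + 1) * (v ^ (j + 1) * x * (v ^ (j + 1))⁻¹)
          = t * (t ^ j * (v ^ j * (v * x * v⁻¹) * (v ^ j)⁻¹)) := by
            rw [pow_succ' t, pow_succ v]; group
        _ = t * ((v * x * v⁻¹) * t ^ j) := by rw [h2]
        _ = t * (v * x * v⁻¹) * t ^ j := by group
        _ = x * t * t ^ j := by rw [h3]
        _ = _ := by rw [pow_succ' t]; group
  have hcop : Nat.Coprime (p ^ k) (orderOf t) := by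
    have h1 : orderOf t ∣ Nat.card T := by
      have := orderOf_dvd_natCard (⟨t, ht⟩ : T)
      rwa [Subgroup.orderOf_mk] at this
    exact (Nat.Coprime.pow_left k (Nat.Coprime.coprime_dvd_left h1 R.tcop).symm)
  obtain ⟨m, hm⟩ := exists_pow_eq_self_of_coprime hcop
  intro x hx
  have h1 := key (p ^ k) x hx
  rw [hk', one_mul, inv_one, mul_one] at h1
  have h2 : Commute (t ^ p ^ k) x := h1
  have h3 := h2.pow_left m
  rw [hm] at h3
  exact h3

theorem cen_refl [Finite W] {t : Y} (ht : t ∈ T) {a b : I → ℤ} (ha : a ∈ Cen cs h X t) (hb : b ∈ Cen cs h X t) :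
    b - cpr cs h b a • a ∈ Cen cs h X t := by
  have hna := cen_neg R ht ha
  obtain ⟨u, hu, hu1⟩ : ∃ u ∈ X a, u ≠ 1 := by
    obtain ⟨u, hu⟩ := Subgroup.ne_bot_iff_exists_ne_one.1 (X_ne_bot R ha.1)
    exact ⟨u.1, u.2, fun h1 => hu (Subtype.ext h1)⟩
  obtain ⟨s, hs, x, hx, y, hy, m, hm, he⟩ := exists_mu R ha.1 hu hu1
  have htm : t * m = m * t := by
    rw [he]
    have e1 := hna.2 x hx
    have e2 := ha.2 u hu
    have e3 := hna.2 y hy
    calc t * (x * u * y) = (t * x) * u * y := by group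
      _ = x * (t * u) * y := by rw [e1]; group
      _ = x * u * (t * y) := by rw [e2]; group
      _ = _ := by rw [e3]; group
  refine ⟨isRoot_refl cs h hb.1 ha.1, fun v hv => ?_⟩
  rw [← hs b, ← R.conj_rp hm hb.1, mem_cj] at hv
  have h1 := hb.2 _ hv
  have h2 : t * m⁻¹ = m⁻¹ * t := by
    calc t * m⁻¹ = m⁻¹ * (m * t) * m⁻¹ := by group
      _ = m⁻¹ * (t * m) * m⁻¹ := by rw [htm]
      _ = _ := by group
  calc t * v = m * (t * (m⁻¹ * v * m)) * m⁻¹ := by
        have : m * (t * (m⁻¹ * v * m)) * m⁻¹ = m * (t * m⁻¹) * v := by group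
        rw [this, h2]; group
    _ = m * ((m⁻¹ * v * m) * t) * m⁻¹ := by rw [h1]
    _ = v * (m * (t * m⁻¹)) := by group
    _ = v * t := by rw [h2]; group

/-- An element of `T` centralising `V_J` centralises all root groups. -/
theorem cen_all [Finite W]
    (hconn : ∀ J : Set I, J.Nonempty → J ≠ Set.univ → ∃ a ∈ J, ∃ b, b ∉ J ∧ M a b ≠ 2) {J : Set I}
    (hJ : J ≠ Set.univ) {t : Y} (ht : t ∈ T) (hc : ∀ x ∈ VJ cs h X J, t * x = x * t) {b : I → ℤ}
    (hb : IsRoot cs h b) : b ∈ Cen cs h X t := by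
  have hNot : NotJ cs h J ⊆ Cen cs h X t := fun a ha => ⟨ha.1, fun v hv => hc v (RGD.le_Sup ha hv)⟩
  have hsimple : ∀ i, (sr i : I → ℤ) ∈ Cen cs h X t := by
    intro i
    obtain ⟨a, ha, ha0⟩ := exists_NotJ (cs := cs) (h := h) hconn hJ i
    have hi := isRoot_sr cs h i
    have h1 : cpr cs h (sr i) a ≠ 0 := by
      intro h2
      rw [cpr_zero_comm cs h hi ha.1, cpr_sr] at h2
      exact ha0 h2
    by_cases hiJ : i ∈ J
    · set c := cpr cs h (sr i) a with hcdef
      have h2 : IsRoot cs h (sr i - c • a) := isRoot_refl cs h hi ha.1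
      obtain ⟨k, hkJ, hk⟩ := ha.2.2
      have hki : k ≠ i := fun h3 => hkJ (h3 ▸ hiJ)
      have h3 : (sr i - c • a) k = -(c * a k) := by
        show (sr i : I → ℤ) k - c * a k = _
        rw [sr, Pi.single_eq_of_ne hki, zero_sub]
      have h4 : sr i - c • a ∈ Cen cs h X t := by
        rcases lt_or_gt_of_ne h1 with h5 | h5
        · refine hNot ⟨h2, ?_, k, hkJ, ?_⟩
          · refine nonneg_of_pos_apply h2 (k := k) ?_
            rw [h3]; nlinarith
          · rw [h3]; nlinarith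
        · have h6 : -(sr i - c • a) ∈ Cen cs h X t := by
            refine hNot ⟨h2.neg, ?_, k, hkJ, ?_⟩
            · refine nonneg_of_pos_apply h2.neg (k := k) ?_
              rw [Pi.neg_apply, h3]; nlinarith
            · rw [Pi.neg_apply, h3]; nlinarith
          have h7 := cen_neg R ht h6
          rwa [neg_neg] at h7
      have h5 := cen_refl R ht (hNot ha) h4
      have h6 : cpr cs h (sr i - c • a) a = -c := by
        rw [sub_eq_add_neg, cpr_add cs h _ _ ha.1, ← neg_smul, cpr_smul cs h _ _ ha.1, cpr_self cs h ha.1,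
          ← hcdef]
        ring
      rw [h6] at h5
      have h7 : sr i - c • a - -c • a = sr i := by
        rw [neg_smul]; abel
      rwa [h7] at h5
    · exact hNot (sr_mem_NotJ hiJ)
  have hW : ∀ ω : List I, ∀ b ∈ Cen cs h X t, rep cs h (cs.wordProd ω) b ∈ Cen cs h X t := by
    intro ω
    induction ω with
    | nil => intro b hb; rwa [wordProd_nil, map_one, Module.End.one_apply]
    | cons i ω ih =>
      intro b hb
      rw [wordProd_cons, rep_mul_apply, rep_simple_eq, ← cpr_sr cs h]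
      exact cen_refl R ht (hsimple i) (ih b hb)
  obtain ⟨w, i, rfl⟩ := hb
  obtain ⟨ω, rfl⟩ := cs.wordProd_surjective w
  exact hW ω _ (hsimple i)

/-- **(K3) The centraliser of a unipotent radical.** -/
theorem cent_VJ [Finite W]
    (hconn : ∀ J : Set I, J.Nonempty → J ≠ Set.univ → ∃ a ∈ J, ∃ b, b ∉ J ∧ M a b ≠ 2) {J : Set I}
    (hJ : J ≠ Set.univ) {c : Y} (hcG : c ∈ GG cs h T X) (hc : ∀ v ∈ VJ cs h X J, c * v = v * c) :
    ∃ t ∈ T, ∃ v ∈ VJ cs h X J, c = t * v ∧ (∀ x, IsRoot cs h x → ∀ u ∈ X x, t * u = u * t) ∧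
      ∀ u ∈ VJ cs h X J, v * u = u * v := by
  obtain ⟨t, ht, v, hv, rfl⟩ := mem_TV R (J := J) (c := c) (by
    intro g hg
    refine cent_le_B R hconn hJ (mul_mem (mul_mem (PJ_le_GG hg) hcG) (inv_mem (PJ_le_GG hg))) fun v hv => ?_
    have hgN := PJ_le_normalizer_VJ R J hg
    have h1 : g⁻¹ * v * g ∈ VJ cs h X J := by
      have := (Subgroup.mem_normalizer_iff.1 (inv_mem hgN) v).1 hv
      rwa [inv_inv] at this
    have h2 := hc _ h1
    calc g * c * g⁻¹ * v = g * (c * (g⁻¹ * v * g)) * g⁻¹ := by group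
      _ = g * ((g⁻¹ * v * g) * c) * g⁻¹ := by rw [h2]
      _ = _ := by group)
  have h1 := tor_cent R ht hv hc
  refine ⟨t, ht, v, hv, rfl, fun x hx u hu => (cen_all R hconn hJ ht h1 hx).2 u hu, fun u hu => ?_⟩
  have h2 := hc u hu
  have h3 := h1 u hu
  have h4 : t * (v * u) = t * (u * v) := by
    calc t * (v * u) = t * v * u := by group
      _ = u * (t * v) := h2
      _ = u * t * v := by group
      _ = t * u * v := by rw [h3]
      _ = _ := by group
  exact mul_left_cancel h4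

/-- **(K3)** `C(V_J) ⊓ GG ≤ V_J` when no element of `T` centralises all root groups. -/
theorem cent_VJ_le [Finite W] (hN : NoCent cs h T X)
    (hconn : ∀ J : Set I, J.Nonempty → J ≠ Set.univ → ∃ a ∈ J, ∃ b, b ∉ J ∧ M a b ≠ 2) {J : Set I}
    (hJ : J ≠ Set.univ) : Subgroup.centralizer (VJ cs h X J : Set Y) ⊓ GG cs h T X ≤ VJ cs h X J := by
  intro c hc
  obtain ⟨t, ht, v, hv, rfl, h1, -⟩ := cent_VJ R hconn hJ hc.2 fun v hv =>
    (Subgroup.mem_centralizer_iff.1 hc.1 v hv).symm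
  rw [hN t ht h1, one_mul]
  exact hv

end Gen

end Cfsg.Agent.KFacts.RgdVJ
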