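import Mathlib
import Cfsg.Agent.KFacts.RgdRigid

/-!
# Automorphisms trivial on `U`

* `eq_conj_of_fix_U` : if the simple root groups are abelian, an automorphism trivial on `U` is conjugation by an
  element of `Z(U)`;
* `eq_one_of_fix_B` : an automorphism trivial on `U` and on `T` is trivial, if `C_U(T) = 1`;
* `exists_mem_centralizer` : the same for an element normalising a subgroup with a root group datum.
-/

set_option autoImplicit false
set_option linter.unusedSectionVars false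

namespace Cfsg.Agent.KFacts.RgdFixU

open CoxeterSystem Cfsg.Agent.ChevalleyStructure.CoxeterGeom Cfsg.Agent.Tits.Roots Cfsg.Agent.Tits.Core
  Cfsg.Agent.Tits.Exchange Cfsg.Agent.Nodes.Reps Cfsg.Agent.Nodes.BNOf Cfsg.Agent.Nodes.StabComb
  Cfsg.Agent.Nodes.Bruhat Cfsg.Agent.Nodes.OppDec Cfsg.Agent.Nodes.LeviDec Cfsg.Agent.Nodes.NormalForm
  Cfsg.Agent.KFacts.RgdOpp Cfsg.Agent.KFacts.RgdAut Cfsg.Agent.KFacts.RgdDiag Cfsg.Agent.KFacts.RgdRigid
open scoped commutatorElement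

variable {I W Y : Type*} [Fintype I] [DecidableEq I] [Group W] [Group Y] {M : CoxeterMatrix I}
  {cs : CoxeterSystem M W} {A : I → I → ℤ} {h : IsCartan M A} {p : ℕ} {T : Subgroup Y} {n : I → Y}
  {X : (I → ℤ) → Subgroup Y}

variable (R : RGD cs h p T n X)

include R

/-- `U` normalises the join of the positive root groups other than `X_i`. -/
theorem U_le_normalizer_V (i : I) :
    RGD.Sup X (RGD.Pos cs h) ≤ Subgroup.normalizer (RGD.Sup X (RGD.PosNe cs h i) : Set Y) := by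
  rw [R.Upos_eq i]
  exact sup_le (R.X_le_normalizer_V i) Subgroup.le_normalizer

/-- `U = X_i V_i`. -/
theorem exists_mul_V (i : I) {u : Y} (hu : u ∈ RGD.Sup X (RGD.Pos cs h)) :
    ∃ a ∈ X (sr i), ∃ v ∈ RGD.Sup X (RGD.PosNe cs h i), u = a * v := by
  have h1 : u ∈ ((X (sr i) ⊔ RGD.Sup X (RGD.PosNe cs h i) : Subgroup Y) : Set Y) := by
    rw [← R.Upos_eq i]; exact hu
  rw [Subgroup.coe_mul_of_left_le_normalizer_right _ _ (R.X_le_normalizer_V i), Set.mem_mul] at h1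
  obtain ⟨a, ha, v, hv, e⟩ := h1
  exact ⟨a, ha, v, hv, e.symm⟩

theorem V_le_U (i : I) : RGD.Sup X (RGD.PosNe cs h i) ≤ RGD.Sup X (RGD.Pos cs h) :=
  RGD.Sup_mono fun _ hx => ⟨hx.1, hx.2.1⟩

/-- Conjugation by `v ∈ V_i` is trivial modulo `V_i`. -/
theorem conj_mul_inv_mem (i : I) {u v : Y} (hu : u ∈ RGD.Sup X (RGD.Pos cs h))
    (hv : v ∈ RGD.Sup X (RGD.PosNe cs h i)) : v * u * v⁻¹ * u⁻¹ ∈ RGD.Sup X (RGD.PosNe cs h i) := by
  have h1 : u * v⁻¹ * u⁻¹ ∈ RGD.Sup X (RGD.PosNe cs h i) :=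
    (Subgroup.mem_normalizer_iff.1 (U_le_normalizer_V R i hu) _).1 (inv_mem hv)
  have e : v * u * v⁻¹ * u⁻¹ = v * (u * v⁻¹ * u⁻¹) := by group
  rw [e]
  exact mul_mem hv h1

/-- **An automorphism trivial on `U` is conjugation by an element of `Z(U)`.** -/
theorem eq_conj_of_fix_U [Finite W] (hG1 : RGD.Sup X {x | IsRoot cs h x} = ⊤)
    (hab : ∀ i, ∀ a ∈ X (sr i), ∀ b ∈ X (sr i), a * b = b * a) {α : MulAut Y}
    (hα : ∀ x ∈ RGD.Sup X (RGD.Pos cs h), α x = x) :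
    ∃ z ∈ RGD.Sup X (RGD.Pos cs h), (∀ x ∈ RGD.Sup X (RGD.Pos cs h), z * x = x * z) ∧ α = MulAut.conj z := by
  have hG := GG_eq_top (T := T) hG1
  have hfix : Fix α (RGD.Sup X (RGD.Pos cs h)) := by
    intro x
    constructor
    · intro hx
      have h1 := hα _ hx
      rw [← α.injective h1]
      exact hx
    · intro hx
      rw [hα x hx]; exact hx
  obtain ⟨u, hu, hU, -, hUN, -, -⟩ := exists_frame R hG hfix
  obtain ⟨σ, D⟩ := exists_diag R hG hU hUN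
  have hX : ∀ i, X (sr i) ≤ RGD.Sup X (RGD.Pos cs h) := fun i =>
    RGD.le_Sup (S := RGD.Pos cs h) ⟨isRoot_sr cs h i, sr_nonneg i⟩
  have hβ : ∀ x ∈ RGD.Sup X (RGD.Pos cs h), (MulAut.conj u * α) x = u * x * u⁻¹ := by
    intro x hx
    rw [MulAut.mul_apply, hα x hx, MulAut.conj_apply]
  -- `σ = 1`
  have hσ : ∀ i, σ i = i := by
    intro i
    by_contra hne
    obtain ⟨x, hx, hx1⟩ := exists_ne_one R i
    have h1 := (D.pos i x).2 hx
    rw [hβ x (hX i hx)] at h1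
    have h2 : u * x * u⁻¹ ∈ RGD.Sup X (RGD.PosNe cs h i) := by
      refine RGD.le_Sup (S := RGD.PosNe cs h i) ⟨isRoot_sr cs h (σ i), sr_nonneg _, ?_⟩ h1
      intro h3
      have h4 := congrFun h3 (σ i)
      rw [sr_self, sr_ne hne] at h4
      exact one_ne_zero h4
    have h3 : x ∈ RGD.Sup X (RGD.PosNe cs h i) :=
      (Subgroup.mem_normalizer_iff.1 (U_le_normalizer_V R i hu) x).2 h2
    exact hx1 (eq_one_of_mem_PosNe R hx h3)
  -- `β` is trivial on the simple root groups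
  have hpos : ∀ i, ∀ x ∈ X (sr i), (MulAut.conj u * α) x = x := by
    intro i x hx
    have h1 := (D.pos i x).2 hx
    rw [hσ i, hβ x (hX i hx)] at h1
    rw [hβ x (hX i hx)]
    obtain ⟨a, ha, v, hv, rfl⟩ := exists_mul_V R i hu
    have h2 : a * v * x * (a * v)⁻¹ * x⁻¹ ∈ X (sr i) := mul_mem h1 (inv_mem hx)
    have h3 : a * v * x * (a * v)⁻¹ * x⁻¹ = a * (v * x * v⁻¹ * x⁻¹) * a⁻¹ := by
      have h4 : x * a⁻¹ = a⁻¹ * x := hab i x hx a⁻¹ (inv_mem ha)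
      have h5 : x⁻¹ * a⁻¹ = a⁻¹ * x⁻¹ := hab i x⁻¹ (inv_mem hx) a⁻¹ (inv_mem ha)
      calc a * v * x * (a * v)⁻¹ * x⁻¹ = a * v * x * v⁻¹ * (a⁻¹ * x⁻¹) := by group
        _ = a * v * x * v⁻¹ * (x⁻¹ * a⁻¹) := by rw [h5]
        _ = _ := by group
    have h4 : a * (v * x * v⁻¹ * x⁻¹) * a⁻¹ ∈ RGD.Sup X (RGD.PosNe cs h i) :=
      (Subgroup.mem_normalizer_iff.1 (U_le_normalizer_V R i (hX i ha)) _).1 (conj_mul_inv_mem R i (hX i hx) hv)
    have h5 := eq_one_of_mem_PosNe R h2 (by rw [h3]; exact h4)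
    exact mul_inv_eq_one.1 h5
  have hσ1 : σ = 1 := Equiv.ext hσ
  subst hσ1
  have h1 := Diag.eq_one R hG1 D hpos
  have h2 : α = MulAut.conj u⁻¹ := by
    rw [map_inv]
    exact eq_inv_of_mul_eq_one_right h1
  refine ⟨u⁻¹, inv_mem hu, fun x hx => ?_, h2⟩
  have h3 := hα x hx
  rw [h2, MulAut.conj_apply, inv_inv] at h3
  calc u⁻¹ * x = u⁻¹ * x * u * u⁻¹ := by group
    _ = x * u⁻¹ := by rw [h3]

/-- An automorphism trivial on `U` and on `T` is trivial, if `C_U(T) = 1`. -/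
theorem eq_one_of_fix_B [Finite W] (hG1 : RGD.Sup X {x | IsRoot cs h x} = ⊤)
    (hab : ∀ i, ∀ a ∈ X (sr i), ∀ b ∈ X (sr i), a * b = b * a)
    (hCT : ∀ z ∈ RGD.Sup X (RGD.Pos cs h), (∀ t ∈ T, z * t = t * z) → z = 1) {α : MulAut Y}
    (hα : ∀ x ∈ RGD.Sup X (RGD.Pos cs h), α x = x) (hαT : ∀ t ∈ T, α t = t) : α = 1 := by
  obtain ⟨z, hz, -, e⟩ := eq_conj_of_fix_U R hG1 hab hα
  have h1 : z = 1 := by
    apply hCT z hz
    intro t ht
    have h2 := hαT t ht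
    rw [e, MulAut.conj_apply] at h2
    calc z * t = z * t * z⁻¹ * z := by group
      _ = t * z := by rw [h2]
  rw [e, h1, map_one]

omit R in
/-- The version for an element normalising a subgroup `K` with a root group datum. -/
theorem exists_mem_centralizer {G : Type*} [Group G] {K : Subgroup G} {T : Subgroup ↥K} {n : I → ↥K}
    {X : (I → ℤ) → Subgroup ↥K} (R : RGD cs h p T n X) [Finite W] (hG1 : RGD.Sup X {x | IsRoot cs h x} = ⊤)
    (hab : ∀ i, ∀ a ∈ X (sr i), ∀ b ∈ X (sr i), a * b = b * a) {g : G}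
    (hg : g ∈ Subgroup.normalizer (K : Set G))
    (hgU : ∀ x ∈ RGD.Sup X (RGD.Pos cs h), g * (x : G) = (x : G) * g) :
    ∃ z ∈ RGD.Sup X (RGD.Pos cs h), (∀ x ∈ RGD.Sup X (RGD.Pos cs h), z * x = x * z) ∧
      ∀ k ∈ K, (z : G)⁻¹ * g * k = k * ((z : G)⁻¹ * g) := by
  obtain ⟨α, hα⟩ : ∃ α : MulAut ↥K, ∀ k : ↥K, ((α k : ↥K) : G) = g * k * g⁻¹ :=
    ⟨Subgroup.normalizerMonoidHom K ⟨g, hg⟩, fun k => rfl⟩
  obtain ⟨z, hz, hzU, e⟩ := eq_conj_of_fix_U R hG1 hab (α := α) (fun x hx => Subtype.ext (by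
    rw [hα, hgU x hx, mul_inv_cancel_right]))
  refine ⟨z, hz, hzU, fun k hk => ?_⟩
  have h1 := hα ⟨k, hk⟩
  rw [e, MulAut.conj_apply] at h1
  have h2 : (z : G) * k * (z : G)⁻¹ = g * k * g⁻¹ := h1
  calc (z : G)⁻¹ * g * k = (z : G)⁻¹ * (g * k * g⁻¹) * g := by group
    _ = (z : G)⁻¹ * ((z : G) * k * (z : G)⁻¹) * g := by rw [h2]
    _ = _ := by group

end Cfsg.Agent.KFacts.RgdFixU
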