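import Mathlib
import Cfsg.Agent.Nodes.NormalForm

/-!
# Sylow subgroups of groups with a root group datum (K-facts for S1765, D7)

* `not_dvd_relIndex` : `U = ⟨X a : a > 0⟩` has index prime to `p` in `GG = T ⟨X a⟩`;
* `odd_relIndex_sup` : `t` an involution centralising `K ∌ t`, `U ≤ K` of odd index, `K ⊔ ⟨t⟩ ≤ C` of odd index: then
  `U ⊔ ⟨t⟩` has odd index in `C`;
* `odd_relIndex_centralizer` : the case `C = C(t)`, `K = GG`.
-/

set_option autoImplicit false
set_option linter.unusedSectionVars false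

namespace Cfsg.Agent.KFacts.RgdSyl

open CoxeterSystem Cfsg.Agent.ChevalleyStructure.CoxeterGeom Cfsg.Agent.Tits.Roots Cfsg.Agent.Tits.Core
  Cfsg.Agent.Tits.Exchange Cfsg.Agent.Nodes.Reps Cfsg.Agent.Nodes.BNOf Cfsg.Agent.Nodes.StabComb
  Cfsg.Agent.Nodes.Bruhat Cfsg.Agent.Nodes.NormalForm

section General

variable {G : Type*} [Group G] {t : G} {A U K C : Subgroup G}

theorem mem_sup_zpowers (htt : t * t = 1) (hA : ∀ a ∈ A, t * a = a * t) {g : G} :
    g ∈ A ⊔ Subgroup.zpowers t ↔ g ∈ A ∨ t * g ∈ A := by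
  constructor
  · intro hg
    let S : Subgroup G :=
      { carrier := {g | g ∈ A ∨ t * g ∈ A}
        one_mem' := Or.inl (one_mem _)
        mul_mem' := by
          rintro a b (ha | ha) (hb | hb)
          · exact Or.inl (mul_mem ha hb)
          · right
            have e : t * (a * b) = a * (t * b) := by rw [← mul_assoc, hA a ha, mul_assoc]
            rw [e]; exact mul_mem ha hb
          · right
            rw [← mul_assoc]; exact mul_mem ha hb
          · left
            have h1 := mul_mem ha hb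
            have e : t * a * (t * b) = a * b := by
              have h2 : t * (t * a) = t * a * t := hA _ ha
              calc t * a * (t * b) = t * a * t * b := by group
                _ = t * (t * a) * b := by rw [h2]
                _ = t * t * a * b := by group
                _ = a * b := by rw [htt, one_mul]
            rwa [e] at h1
        inv_mem' := by
          rintro a (ha | ha)
          · exact Or.inl (inv_mem ha)
          · right
            have h1 := inv_mem ha
            have hti : t⁻¹ = t := inv_eq_of_mul_eq_one_left htt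
            have h2 : t * (t * a)⁻¹ = (t * a)⁻¹ * t := hA _ h1
            have e : t * a⁻¹ = (t * a)⁻¹ := by
              rw [mul_inv_rev, hti] at h2 ⊢
              have h3 : t * (a⁻¹ * t) = a⁻¹ := by rw [h2, mul_assoc, htt, mul_one]
              calc t * a⁻¹ = t * (t * (a⁻¹ * t)) := by rw [h3]
                _ = t * t * a⁻¹ * t := by group
                _ = a⁻¹ * t := by rw [htt, one_mul]
            rwa [e] }
    have h1 : A ⊔ Subgroup.zpowers t ≤ S := by
      refine sup_le (fun a ha => Or.inl ha) ?_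
      rw [Subgroup.zpowers_le]
      right
      rw [htt]; exact one_mem _
    exact h1 hg
  · rintro (h1 | h1)
    · exact (le_sup_left : A ≤ _) h1
    · have h2 : g = t * (t * g) := by rw [← mul_assoc, htt, one_mul]
      rw [h2]
      exact mul_mem ((le_sup_right : Subgroup.zpowers t ≤ A ⊔ _) (Subgroup.mem_zpowers t)) ((le_sup_left : A ≤ _) h1)

theorem relIndex_sup_zpowers (htt : t * t = 1) (hA : ∀ a ∈ A, t * a = a * t) (ht : t ∉ A) :
    A.relIndex (A ⊔ Subgroup.zpowers t) = 2 := by
  rw [Subgroup.relIndex_eq_two_iff]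
  refine ⟨t, (le_sup_right : Subgroup.zpowers t ≤ A ⊔ _) (Subgroup.mem_zpowers t), fun b hb => ?_⟩
  rcases (mem_sup_zpowers htt hA).1 hb with h1 | h1
  · right
    refine ⟨h1, fun h2 => ht ?_⟩
    have h3 := mul_mem (inv_mem h1) h2
    rwa [inv_mul_cancel_left] at h3
  · left
    have hbt : b * t ∈ A := by
      have h2 := hA _ h1
      have e : t * (t * b) * t = b * t := by rw [← mul_assoc, htt, one_mul]
      have h3 : t * b = b * t := by
        have h4 : t * (t * b) = b := by rw [← mul_assoc, htt, one_mul]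
        rw [h4] at h2
        calc t * b = t * (t * b * t) := by rw [← h2]
          _ = t * t * (b * t) := by group
          _ = b * t := by rw [htt, one_mul]
      rwa [← h3]
    refine ⟨hbt, fun h2 => ht ?_⟩
    have h3 := mul_mem (inv_mem h2) hbt
    rwa [inv_mul_cancel_left] at h3

theorem odd_relIndex_sup (htt : t * t = 1) (htK : ∀ k ∈ K, t * k = k * t) (ht : t ∉ K) (hUK : U ≤ K)
    (hU : Odd (U.relIndex K)) (hC : K ⊔ Subgroup.zpowers t ≤ C) (hK : Odd ((K ⊔ Subgroup.zpowers t).relIndex C)) :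
    Odd ((U ⊔ Subgroup.zpowers t).relIndex C) := by
  have h1 : U ⊔ Subgroup.zpowers t ≤ K ⊔ Subgroup.zpowers t := sup_le_sup_right hUK _
  rw [← Subgroup.relIndex_mul_relIndex _ _ _ h1 hC]
  refine Odd.mul ?_ hK
  have h2 := Subgroup.relIndex_mul_relIndex U (U ⊔ Subgroup.zpowers t) _ le_sup_left h1
  have h3 := Subgroup.relIndex_mul_relIndex U K (K ⊔ Subgroup.zpowers t) hUK le_sup_left
  rw [relIndex_sup_zpowers htt (fun a ha => htK a (hUK ha)) (fun h => ht (hUK h))] at h2
  rw [relIndex_sup_zpowers htt htK ht] at h3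
  have h4 : (U ⊔ Subgroup.zpowers t).relIndex (K ⊔ Subgroup.zpowers t) = U.relIndex K := by omega
  rw [h4]; exact hU

end General

section RGD

variable {I W Y : Type*} [Fintype I] [DecidableEq I] [Group W] [Group Y] {M : CoxeterMatrix I}
  {cs : CoxeterSystem M W} {A : I → I → ℤ} {h : IsCartan M A} {p : ℕ} {T : Subgroup Y} {n : I → Y}
  {X : (I → ℤ) → Subgroup Y}

theorem Sup_le_GG {S : Set (I → ℤ)} (hS : ∀ x ∈ S, IsRoot cs h x) : RGD.Sup X S ≤ GG cs h T X :=
  le_trans (RGD.Sup_mono fun x hx => hS x hx) le_sup_right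

theorem U_le_GG : RGD.Sup X (RGD.Pos cs h) ≤ GG cs h T X := Sup_le_GG fun _ hx => hx.1

variable (R : RGD cs h p T n X)

include R

/-- **`U` is a Sylow `p`-subgroup of `GG`.** -/
theorem not_dvd_relIndex [Finite W] [Finite Y] [Fact p.Prime] :
    ¬ p ∣ (RGD.Sup X (RGD.Pos cs h)).relIndex (GG cs h T X) := by
  have hU : IsPGroup p ↥((RGD.Sup X (RGD.Pos cs h)).subgroupOf (GG cs h T X)) :=
    R.isPGroup_Upos.comap_of_injective (GG cs h T X).subtype (Subgroup.subtype_injective _)
  obtain ⟨P, hP⟩ := hU.exists_le_sylow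
  have hPp : IsPGroup p ↥((P : Subgroup ↥(GG cs h T X)).map (GG cs h T X).subtype) := P.isPGroup'.map _
  have h1 : RGD.Sup X (RGD.Pos cs h) ≤ (P : Subgroup ↥(GG cs h T X)).map (GG cs h T X).subtype := by
    intro u hu
    exact ⟨⟨u, U_le_GG hu⟩, hP hu, rfl⟩
  have h2 := eq_U_of_isPGroup R hPp h1 (Subgroup.map_subtype_le _)
  have h3 : (RGD.Sup X (RGD.Pos cs h)).subgroupOf (GG cs h T X) = P := by
    refine le_antisymm hP fun g hg => ?_
    rw [Subgroup.mem_subgroupOf, ← h2]
    exact ⟨g, hg, rfl⟩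
  rw [Subgroup.relIndex, h3]
  exact P.not_dvd_index

theorem odd_relIndex [Finite W] [Finite Y] (hp : p = 2) :
    Odd ((RGD.Sup X (RGD.Pos cs h)).relIndex (GG cs h T X)) := by
  subst hp
  have := Fact.mk Nat.prime_two
  rw [← Nat.not_even_iff_odd, even_iff_two_dvd]
  exact not_dvd_relIndex R

/-- `U ⊔ ⟨t⟩` has odd index in `C(t)`, if `GG ⊔ ⟨t⟩` has. -/
theorem odd_relIndex_centralizer [Finite W] [Finite Y] (hp : p = 2) {t : Y} (htt : t * t = 1)
    (htK : ∀ k ∈ GG cs h T X, t * k = k * t) (ht : t ∉ GG cs h T X)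
    (hK : Odd ((GG cs h T X ⊔ Subgroup.zpowers t).relIndex (Subgroup.centralizer {t}))) :
    Odd ((RGD.Sup X (RGD.Pos cs h) ⊔ Subgroup.zpowers t).relIndex (Subgroup.centralizer {t})) := by
  refine odd_relIndex_sup htt htK ht U_le_GG (odd_relIndex R hp) ?_ hK
  refine sup_le ?_ ?_
  · intro k hk
    rw [Subgroup.mem_centralizer_singleton_iff]
    exact (htK k hk).symm
  · rw [Subgroup.zpowers_le]
    rw [Subgroup.mem_centralizer_singleton_iff]

end RGD

end Cfsg.Agent.KFacts.RgdSyl
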