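import Mathlib
import Cfsg.Agent.KFacts.RgdCharP
import Cfsg.Agent.KFacts.RgdFixU
import Cfsg.Agent.KFacts.RgdSyl
import Cfsg.Agent.OddHalf.D4.Facts

/-!
The facts of ODD, D4 over a root group datum of characteristic 2.

* `char_two_type`; `core_two` (`O(C(a)) = 1`); `not_stronglyEmbedded` (rank `≥ 2`); `inner`;
* `center_U` (simply laced): `C(U) = X_ρ`, `ρ` the dominant root;
* `autFacts`, `autFacts_SL`.
-/

set_option autoImplicit false
set_option linter.unusedSectionVars false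

namespace Cfsg.Agent.KFacts.RgdAutFacts

open CoxeterSystem Cfsg.Agent.ChevalleyStructure.CoxeterGeom Cfsg.Agent.Tits.Roots Cfsg.Agent.Tits.Core
  Cfsg.Agent.Tits.RootComb Cfsg.Agent.Tits.Exchange Cfsg.Agent.Nodes.Reps Cfsg.Agent.Nodes.BNOf
  Cfsg.Agent.Nodes.StabComb Cfsg.Agent.Nodes.Bruhat Cfsg.Agent.Nodes.OppDec Cfsg.Agent.Nodes.LeviDec
  Cfsg.Agent.Nodes.NormX Cfsg.Agent.Nodes.Coroot Cfsg.Agent.KFacts.RgdPar Cfsg.Agent.KFacts.RgdSL
  Cfsg.Agent.KFacts.RgdTI Cfsg.Agent.KFacts.RgdCent Cfsg.Agent.KFacts.RgdOdd Cfsg.Agent.KFacts.RgdEx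
  Cfsg.Agent.KFacts.RgdVJ Cfsg.Agent.KFacts.RgdCharP
open scoped commutatorElement

variable {I W Y : Type*} [Fintype I] [DecidableEq I] [Group W] [Group Y] {M : CoxeterMatrix I}
  {cs : CoxeterSystem M W} {A : I → I → ℤ} {h : IsCartan M A} {p : ℕ} {T : Subgroup Y} {n : I → Y}
  {X : (I → ℤ) → Subgroup Y}

section Gen

variable (R : RGD cs h p T n X) [Finite W] [Finite Y] [Fact p.Prime] (hG : GG cs h T X = ⊤)

include R hG

/-- `U` is a Sylow `p`-subgroup. -/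
theorem exists_sylow : ∃ S : Sylow p Y, (S : Subgroup Y) = RGD.Sup X (RGD.Pos cs h) := by
  have hU : IsPGroup p (RGD.Sup X (RGD.Pos cs h)) := R.isPGroup_Upos
  obtain ⟨S, hS⟩ := hU.exists_le_sylow
  exact ⟨S, eq_U R hS (by rw [hG]; exact le_top) S.isPGroup'⟩

/-- Every Sylow `p`-subgroup is conjugate to `U`. -/
theorem sylow_eq_cj (S : Sylow p Y) : ∃ g : Y, (S : Subgroup Y) = cj g (RGD.Sup X (RGD.Pos cs h)) := by
  obtain ⟨S₀, hS₀⟩ := exists_sylow R hG
  obtain ⟨g, hg⟩ := MulAction.exists_smul_eq Y S₀ S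
  refine ⟨g, ?_⟩
  rw [← hg, ← hS₀]
  rfl

theorem GG_le {P : Subgroup Y} (hB : RGD.B cs h T X ≤ P) (hn : ∀ i, n i ∈ P) : P = ⊤ := by
  have h1 := inf_eq_PJ R hB
  have h2 : {i | n i ∈ P} = Set.univ := Set.eq_univ_iff_forall.2 hn
  rw [h2, hG, inf_top_eq] at h1
  rw [h1, eq_top_iff, ← hG, ← LJ_univ]
  exact LJ_le_PJ

end Gen

section Two

variable (R : RGD cs h 2 T n X) [Finite W] [Finite Y] (hG : GG cs h T X = ⊤)

include R hG

/-- No strongly embedded subgroup in rank `≥ 2`. -/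
theorem not_stronglyEmbedded (h2 : ∀ i : I, ∃ j : I, j ≠ i) [Nonempty I] (H : Subgroup Y) : ¬ IsStronglyEmbedded H := by
  rintro ⟨hne, hev, hodd⟩
  have : Fact (Nat.Prime 2) := ⟨Nat.prime_two⟩
  -- normalisers of nontrivial 2-subgroups
  have hnorm : ∀ Q : Subgroup Y, IsPGroup 2 Q → Q ≠ ⊥ → Q ≤ H → Subgroup.normalizer (Q : Set Y) ≤ H := by
    intro Q hQ hQ1 hQH g hg
    by_contra hgH
    have h1 : Q ≤ H ⊓ H.map (MulAut.conj g).toMonoidHom := by
      refine le_inf hQH fun q hq => ?_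
      refine ⟨g⁻¹ * q * g, hQH ?_, ?_⟩
      · have := (Subgroup.mem_normalizer_iff.1 (inv_mem hg) q).1 hq
        rwa [inv_inv] at this
      · show g * (g⁻¹ * q * g) * g⁻¹ = q
        group
    have h3 := Subgroup.card_dvd_of_le h1
    obtain ⟨k, hk⟩ := IsPGroup.iff_card.1 hQ
    have h4 : k = 0 := by
      by_contra hk0
      have h5 : 2 ∣ Nat.card Q := by rw [hk]; exact dvd_pow_self 2 hk0
      have h6 := hodd g hgH
      rw [← Nat.not_even_iff_odd] at h6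
      exact h6 (even_iff_two_dvd.2 (h5.trans h3))
    rw [h4, pow_zero] at hk
    exact hQ1 (Subgroup.card_eq_one.1 hk)
  have hinv : ∀ z : Y, orderOf z = 2 → z ∈ H → ∀ g, g * z = z * g → g ∈ H := by
    intro z hz hzH g hg
    refine hnorm (Subgroup.zpowers z) ?_ ?_ (Subgroup.zpowers_le.2 hzH) ?_
    · rw [IsPGroup.iff_card]
      exact ⟨1, by rw [Nat.card_zpowers, hz, pow_one]⟩
    · rw [Ne, Subgroup.zpowers_eq_bot]
      rintro rfl
      rw [orderOf_one] at hz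
      omega
    · refine Subgroup.centralizer_le_normalizer _ ?_
      rw [Subgroup.mem_centralizer_iff]
      intro y hy
      obtain ⟨k, rfl⟩ := Subgroup.mem_zpowers_iff.1 hy
      have : Commute z g := hg.symm
      exact this.zpow_left k
  -- a Sylow subgroup in `H`
  obtain ⟨⟨z, hzH⟩, hz⟩ := exists_prime_orderOf_dvd_card' (G := ↥H) 2 (even_iff_two_dvd.1 hev)
  rw [Subgroup.orderOf_mk] at hz
  have hzp : IsPGroup 2 (Subgroup.zpowers z) := by
    rw [IsPGroup.iff_card]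
    exact ⟨1, by rw [Nat.card_zpowers, hz, pow_one]⟩
  obtain ⟨S, hS⟩ := hzp.exists_le_sylow
  have hzS : z ∈ (S : Subgroup Y) := hS (Subgroup.mem_zpowers z)
  have hS1 : Nontrivial (S : Subgroup Y) := by
    refine ⟨⟨⟨z, hzS⟩, 1, fun h1 => ?_⟩⟩
    have : z = 1 := congrArg Subtype.val h1
    rw [this, orderOf_one] at hz
    omega
  have hc : ∃ c : Y, orderOf c = 2 ∧ c ∈ (S : Subgroup Y) ∧ ∀ s ∈ (S : Subgroup Y), s * c = c * s := by
    have h3 := S.isPGroup'.center_nontrivial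
    have h4 : 2 ∣ Nat.card (Subgroup.center (S : Subgroup Y)) := by
      obtain ⟨k, hk⟩ := IsPGroup.iff_card.1 (S.isPGroup'.to_subgroup (Subgroup.center (S : Subgroup Y)))
      rcases Nat.eq_zero_or_pos k with h5 | h5
      · rw [h5, pow_zero] at hk
        exact absurd hk (Finite.one_lt_card (α := Subgroup.center (S : Subgroup Y))).ne'
      · rw [hk]; exact dvd_pow_self 2 h5.ne'
    obtain ⟨c, hc⟩ := exists_prime_orderOf_dvd_card' (G := Subgroup.center (S : Subgroup Y)) 2 h4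
    refine ⟨c, ?_, c.1.2, fun s hs => ?_⟩
    · exact (Subgroup.orderOf_coe c.1).trans ((Subgroup.orderOf_coe c).trans hc)
    · exact congrArg Subtype.val (Subgroup.mem_center_iff.1 c.2 ⟨s, hs⟩)
  obtain ⟨c, hc2, hcS, hcc⟩ := hc
  have hcH : c ∈ H := hinv z hz hzH c (hcc z hzS).symm
  have hSH : (S : Subgroup Y) ≤ H := fun s hs => hinv c hc2 hcH s (hcc s hs)
  obtain ⟨g, hg⟩ := sylow_eq_cj R hG S
  -- parabolic subgroups lie in `H`
  have hPJ : ∀ J : Set I, J ≠ Set.univ → PJ cs h T X J ≤ cj g⁻¹ H := by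
    intro J hJ y hy
    rw [mem_cj, inv_inv]
    have hV : cj g (VJ cs h X J) ≤ H := by
      refine le_trans (cj_mono g (VJ_le_U J)) ?_
      rw [← hg]; exact hSH
    refine hnorm (cj g (VJ cs h X J)) ?_ ?_ hV ?_
    · unfold cj
      exact (isPGroup_VJ R J).map _
    · intro h3
      obtain ⟨j, hj⟩ : ∃ j, j ∉ J := by
        by_contra h4
        push Not at h4
        exact hJ (Set.eq_univ_iff_forall.2 h4)
      have h4 : VJ cs h X J = ⊥ := by
        have h5 := congrArg (cj g⁻¹) h3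
        rw [cj_inv_cj] at h5
        rw [h5]
        exact Subgroup.map_bot _
      exact X_ne_bot R (isRoot_sr cs h j) (eq_bot_iff.2 (h4 ▸ RGD.le_Sup (sr_mem_NotJ hj)))
    · rw [normalizer_cj]
      exact conj_mem_cj.2 (PJ_le_normalizer_VJ R J hy)
  have htop : cj g⁻¹ H = ⊤ := by
    refine GG_le R hG ?_ fun i => ?_
    · obtain ⟨i⟩ := (inferInstance : Nonempty I)
      obtain ⟨j, hj⟩ := h2 i
      exact le_trans B_le_PJ (hPJ {i} fun h3 => hj (by
        have : j ∈ ({i} : Set I) := by rw [h3]; trivial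
        exact this))
    · obtain ⟨j, hj⟩ := h2 i
      exact hPJ {i} (fun h3 => hj (by
        have : j ∈ ({i} : Set I) := by rw [h3]; trivial
        exact this)) (LJ_le_PJ (n_mem_LJ R (Set.mem_singleton i)))
  refine hne ?_
  have h3 := congrArg (cj g) htop
  rw [cj_cj_inv] at h3
  rw [h3]
  exact eq_top_iff.2 fun y _ => mem_cj.2 trivial

/-- **(F1)** -/
theorem inner (hab : ∀ i, ∀ a ∈ X (sr i), ∀ b ∈ X (sr i), a * b = b * a)
    (hG1 : RGD.Sup X {x | IsRoot cs h x} = ⊤) (S : Sylow 2 Y) (φ : MulAut Y) (hφ : ∀ s ∈ S, φ s = s) :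
    ∃ s ∈ S, φ = MulAut.conj s := by
  have : Fact (Nat.Prime 2) := ⟨Nat.prime_two⟩
  obtain ⟨g, hg⟩ := sylow_eq_cj R hG S
  have hmem : ∀ {u}, u ∈ RGD.Sup X (RGD.Pos cs h) → g * u * g⁻¹ ∈ S := by
    intro u hu
    show g * u * g⁻¹ ∈ (S : Subgroup Y)
    rw [hg]
    exact conj_mem_cj.2 hu
  obtain ⟨z, hz, -, he⟩ := RgdFixU.eq_conj_of_fix_U R hG1 hab (α := MulAut.conj g⁻¹ * φ * MulAut.conj g) (by
    intro u hu
    show g⁻¹ * φ (g * u * g⁻¹) * g⁻¹⁻¹ = u
    rw [hφ _ (hmem hu)]; group)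
  refine ⟨g * z * g⁻¹, hmem hz, ?_⟩
  have h1 : φ = MulAut.conj g * (MulAut.conj g⁻¹ * φ * MulAut.conj g) * MulAut.conj g⁻¹ := by
    rw [map_inv]; group
  rw [h1, he, ← map_mul, ← map_mul]

/-- **Characteristic 2 type.** -/
theorem char_two_type [Nonempty I] (hBT : BT cs h 2 T X) (hN : NoCent cs h T X) (hconn : Conn M) :
    IsCharacteristicTwoType Y := by
  have : Fact (Nat.Prime 2) := ⟨Nat.prime_two⟩
  refine ⟨?_, fun K hK hK1 => local_char R hBT hG hN hconn hK hK1⟩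
  obtain ⟨i⟩ := (inferInstance : Nonempty I)
  obtain ⟨u, hu, hu1⟩ := exists_ne_one R i
  obtain ⟨k, hk⟩ := (IsPGroup.iff_orderOf.1 (R.pgrp i)) ⟨u, hu⟩
  rw [Subgroup.orderOf_mk] at hk
  have h1 : k ≠ 0 := by
    rintro rfl
    rw [pow_zero, orderOf_eq_one_iff] at hk
    exact hu1 hk
  rw [even_iff_two_dvd]
  exact (dvd_pow_self 2 h1).trans (hk ▸ orderOf_dvd_natCard u)

/-- **(F0)** `O(C(a)) = 1`. -/
theorem core_two (hBT : BT cs h 2 T X) (hN : NoCent cs h T X) (hconn : Conn M) {a : Y} (ha : orderOf a = 2) :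
    centralizerPPrimeCore 2 a = ⊥ := by
  have : Fact (Nat.Prime 2) := ⟨Nat.prime_two⟩
  have hmem : ∀ {g : Y}, g ∈ Subgroup.normalizer ((Subgroup.zpowers a : Subgroup Y) : Set Y) →
      g ∈ Subgroup.centralizer ({a} : Set Y) := by
    intro g hg
    have h1 := (Subgroup.mem_normalizer_iff.1 hg a).1 (Subgroup.mem_zpowers a)
    obtain ⟨k, hk⟩ := Subgroup.mem_zpowers_iff.1 h1
    have haa : a * a = 1 := by rw [← pow_two, ← ha, pow_orderOf_eq_one]
    rw [Subgroup.mem_centralizer_singleton_iff]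
    rcases Int.even_or_odd' k with ⟨m, h2 | h2⟩
    · rw [h2, zpow_mul, zpow_two, haa, one_zpow] at hk
      have h3 : a = 1 := by
        have : a = g⁻¹ * (g * a * g⁻¹) * g := by group
        rw [this, ← hk]; group
      rw [h3, orderOf_one] at ha
      omega
    · rw [h2, zpow_add, zpow_mul, zpow_two, haa, one_zpow, one_mul, zpow_one] at hk
      calc g * a = g * a * g⁻¹ * g := by group
        _ = a * g := by rw [← hk]
  have hK : IsPGroup 2 (Subgroup.zpowers a) := by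
    rw [IsPGroup.iff_card]
    exact ⟨1, by rw [Nat.card_zpowers, ha, pow_one]⟩
  have hle : Subgroup.centralizer ({a} : Set Y) ≤ Subgroup.normalizer ((Subgroup.zpowers a : Subgroup Y) : Set Y) := by
    intro g hg
    refine Subgroup.centralizer_le_normalizer _ ?_
    rw [Subgroup.mem_centralizer_iff]
    intro y hy
    obtain ⟨k, rfl⟩ := Subgroup.mem_zpowers_iff.1 hy
    have : Commute a g := (Subgroup.mem_centralizer_singleton_iff.1 hg).symm
    exact this.zpow_left k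
  have hn : (pPrimeCore 2 ↥(Subgroup.centralizer ({a} : Set Y))).Normal := Lib.Cores.pPrimeCore_normal 2
  refine local_core R hBT hG hN hconn hK ?_ ?_ ?_ ?_
  · rw [Ne, Subgroup.zpowers_eq_bot]
    rintro rfl
    rw [orderOf_one] at ha
    omega
  · rintro _ ⟨e, -, rfl⟩
    exact hle e.2
  · rintro g hg _ ⟨e, he, rfl⟩
    exact ⟨_, hn.conj_mem e he ⟨g, hmem hg⟩, rfl⟩
  · unfold centralizerPPrimeCore
    rw [Nat.card_congr ((pPrimeCore 2 ↥(Subgroup.centralizer ({a} : Set Y))).equivMapOfInjective _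
      (Subgroup.subtype_injective _)).toEquiv.symm]
    exact Lib.Cores.pPrimeCore_coprime 2

/-- **The facts of D4.** -/
theorem autFacts [Nonempty I] (h2 : ∀ i : I, ∃ j : I, j ≠ i) (hBT : BT cs h 2 T X) (hN : NoCent cs h T X)
    (hconn : Conn M) (hab : ∀ i, ∀ a ∈ X (sr i), ∀ b ∈ X (sr i), a * b = b * a)
    (hG1 : RGD.Sup X {x | IsRoot cs h x} = ⊤)
    (huniq : ∀ a ∈ RGD.Sup X (RGD.Pos cs h), ∀ b ∈ RGD.Sup X (RGD.Pos cs h), a ≠ 1 → b ≠ 1 → a * a = 1 → b * b = 1 →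
      (∀ u ∈ RGD.Sup X (RGD.Pos cs h), u * a = a * u) → (∀ u ∈ RGD.Sup X (RGD.Pos cs h), u * b = b * u) → a = b) :
    OddHalf.D4.AutFacts Y where
  inner S φ _ hφ := inner R hG hab hG1 S φ hφ
  uniq S s hs hs2 hsc s' hs' hs2' hsc' := by
    have : Fact (Nat.Prime 2) := ⟨Nat.prime_two⟩
    obtain ⟨g, hg⟩ := sylow_eq_cj R hG S
    have h1 : ∀ {s}, s ∈ S → g⁻¹ * s * g ∈ RGD.Sup X (RGD.Pos cs h) := by
      intro s hs
      have : s ∈ (S : Subgroup Y) := hs
      rw [hg] at this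
      exact mem_cj.1 this
    have h3 : ∀ {s : Y}, orderOf s = 2 → g⁻¹ * s * g ≠ 1 ∧ g⁻¹ * s * g * (g⁻¹ * s * g) = 1 := by
      intro s hs2
      have h4 : s * s = 1 := by rw [← pow_two, ← hs2, pow_orderOf_eq_one]
      refine ⟨fun h5 => ?_, ?_⟩
      · have h6 : s = 1 := by
          have : s = g * (g⁻¹ * s * g) * g⁻¹ := by group
          rw [this, h5]; group
        rw [h6, orderOf_one] at hs2
        omega
      · have : g⁻¹ * s * g * (g⁻¹ * s * g) = g⁻¹ * (s * s) * g := by group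
        rw [this, h4]; group
    have h4 : ∀ {s : Y}, (∀ u ∈ S, u * s = s * u) → ∀ u ∈ RGD.Sup X (RGD.Pos cs h),
        u * (g⁻¹ * s * g) = g⁻¹ * s * g * u := by
      intro s hsc u hu
      have h5 : g * u * g⁻¹ ∈ S := by
        show g * u * g⁻¹ ∈ (S : Subgroup Y)
        rw [hg]
        exact conj_mem_cj.2 hu
      have h6 := hsc _ h5
      calc u * (g⁻¹ * s * g) = g⁻¹ * (g * u * g⁻¹ * s) * g := by group
        _ = g⁻¹ * (s * (g * u * g⁻¹)) * g := by rw [h6]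
        _ = _ := by group
    have h5 := huniq _ (h1 hs) _ (h1 hs') (h3 hs2).1 (h3 hs2').1 (h3 hs2).2 (h3 hs2').2 (h4 hsc) (h4 hsc')
    have h6 := congrArg (fun y => g * y * g⁻¹) h5
    have h7 : ∀ y : Y, g * (g⁻¹ * y * g) * g⁻¹ = y := fun y => by group
    simp only [h7] at h6
    exact h6
  bal a ha := core_two R hG hBT hN hconn ha
  se H := not_stronglyEmbedded R hG h2 H

end Two

/-! ### Simply laced -/

section SL

/-- Dominant roots are unique in the simply laced case. -/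
theorem dom_unique [Finite W] (hs : SL cs h) (hO : ∀ r, IsRoot cs h r → Orth cs h r) {r s : I → ℤ}
    (hr : r ∈ Star cs h (RGD.Pos cs h)) (hs' : s ∈ Star cs h (RGD.Pos cs h)) : r = s := by
  have hpos : ∀ {r}, r ∈ Star cs h (RGD.Pos cs h) → 0 ≤ r := by
    intro r hr
    rcases hr.1.pos_or_neg with h1 | h1
    · exact h1
    · have h2 := hr.2 (-r) ⟨hr.1.neg, neg_nonneg.2 h1⟩
      rw [cpr_neg_right cs h _ hr.1, cpr_self cs h hr.1] at h2
      omega
  have h1 := hr.2 s ⟨hs'.1, hpos hs'⟩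
  have hsym := hs r s hr.1 hs'.1
  rcases hs.cases hr.1 hs'.1 with ⟨h2, -⟩ | ⟨-, h2⟩ | ⟨h2, h3, h4, h5⟩
  · exact h2
  · omega
  · exfalso
    rcases (by omega : cpr cs h r s = 0 ∨ cpr cs h r s = 1) with h6 | h6
    · obtain ⟨a, ha, h7, h8⟩ := hO r hr.1 s hs'.1 (by rw [← hsym]; exact h6)
      rcases ha.pos_or_neg with h9 | h9
      · have := hs'.2 a ⟨ha, h9⟩
        rw [← hs a s ha hs'.1, h8] at this
        omega
      · have := hr.2 (-a) ⟨ha.neg, neg_nonneg.2 h9⟩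
        rw [cpr_neg_right cs h _ ha, ← hs a r ha hr.1, h7] at this
        omega
    · have hd := isRoot_sub hr.1 hs'.1 h6
      rcases hd.pos_or_neg with h9 | h9
      · have := hs'.2 (r - s) ⟨hd, h9⟩
        rw [hs s (r - s) hs'.1 hd, sub_eq_add_neg, cpr_add cs h _ _ hs'.1, cpr_neg cs h _ hs'.1, h6,
          cpr_self cs h hs'.1] at this
        omega
      · have h10 : s - r = -(r - s) := by abel
        have := hr.2 (s - r) ⟨h10 ▸ hd.neg, by rw [h10]; exact neg_nonneg.2 h9⟩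
        rw [hs r (s - r) hr.1 (h10 ▸ hd.neg), sub_eq_add_neg, cpr_add cs h _ _ hr.1, cpr_neg cs h _ hr.1, ← hsym, h6,
          cpr_self cs h hr.1] at this
        omega

variable (R : RGD cs h p T n X) [Finite W]

include R

/-- `C(U) ≤ ⟨X_ρ⟩`, `ρ` the dominant root. -/
theorem center_U (hL : ∀ a, IsRoot cs h a → LR R a) (hN : NoCent cs h T X) (hconn : Conn M) [Nonempty I] {c : Y}
    (hcG : c ∈ GG cs h T X) (hc : ∀ a ∈ RGD.Pos cs h, ∀ v ∈ X a, c * v = v * c) :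
    c ∈ RGD.Sup X (Star cs h (RGD.Pos cs h)) := by
  have hL' : ∀ a ∈ RGD.Pos cs h, LR R a := fun a ha => hL a ha.1
  obtain ⟨t, ht, hP, q, hq, rfl⟩ := cent_eq R hL' (star_comm hL') hcG hc
  have hJ : (∅ : Set I) ≠ Set.univ := by
    obtain ⟨i⟩ := (inferInstance : Nonempty I)
    intro h1
    exact (h1 ▸ Set.mem_univ i : i ∈ (∅ : Set I))
  have h1 : t = 1 := by
    refine hN t ht fun b hb => (cen_all R hconn hJ ht (fun x hx => ?_) hb).2
    have h2 : VJ cs h X ∅ ≤ Subgroup.centralizer {t} := by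
      refine RGD.Sup_le fun a ha v hv => ?_
      rw [Subgroup.mem_centralizer_singleton_iff]
      exact ((hP ⟨ha.1, ha.2.1⟩).2 v hv).symm
    exact (Subgroup.mem_centralizer_singleton_iff.1 (h2 hx)).symm
  rw [h1, one_mul]
  exact hq

theorem card_X {i : I} (w : W) : Nat.card (X (rep cs h w (sr i))) = Nat.card (X (sr i)) := by
  obtain ⟨k, hk⟩ := exists_rp cs R.nsys w
  rw [← R.conj_rp hk (isRoot_sr cs h i)]
  unfold cj
  exact Nat.card_congr ((X (sr i)).equivMapOfInjective _ (MulAut.conj k).injective).toEquiv.symm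

/-- Uniqueness of the central involution of `U` over `𝔽₂`. -/
theorem uniq_SL (hs : SL cs h) (hO : ∀ r, IsRoot cs h r → Orth cs h r) (hL : ∀ a, IsRoot cs h a → LR R a)
    (hN : NoCent cs h T X) (hconn : Conn M) [Nonempty I] (hG : GG cs h T X = ⊤)
    (hcard : ∀ i, Nat.card (X (sr i)) = 2) :
    ∀ a ∈ RGD.Sup X (RGD.Pos cs h), ∀ b ∈ RGD.Sup X (RGD.Pos cs h), a ≠ 1 → b ≠ 1 → a * a = 1 → b * b = 1 →
      (∀ u ∈ RGD.Sup X (RGD.Pos cs h), u * a = a * u) → (∀ u ∈ RGD.Sup X (RGD.Pos cs h), u * b = b * u) →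
        a = b := by
  intro a _ b _ ha1 hb1 _ _ hca hcb
  have key : ∀ c : Y, c ≠ 1 → (∀ u ∈ RGD.Sup X (RGD.Pos cs h), u * c = c * u) →
      ∃ r ∈ Star cs h (RGD.Pos cs h), c ∈ X r := by
    intro c hc1 hc
    have h1 := center_U R hL hN hconn (c := c) (by rw [hG]; trivial) fun a ha v hv => (hc v (RGD.le_Sup ha hv)).symm
    by_cases hne : (Star cs h (RGD.Pos cs h)).Nonempty
    · obtain ⟨r, hr⟩ := hne
      refine ⟨r, hr, ?_⟩
      have h2 : RGD.Sup X (Star cs h (RGD.Pos cs h)) ≤ X r := by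
        refine RGD.Sup_le fun s hs' => ?_
        rw [dom_unique hs hO hs' hr]
      exact h2 h1
    · rw [Set.not_nonempty_iff_eq_empty] at hne
      rw [hne, Sup_empty, Subgroup.mem_bot] at h1
      exact absurd h1 hc1
  obtain ⟨r, hr, har⟩ := key a ha1 hca
  obtain ⟨s, hs', hbs⟩ := key b hb1 hcb
  rw [← dom_unique hs hO hr hs'] at hbs
  obtain ⟨w, i, rfl⟩ := hr.1
  have h2 : Nat.card (X (rep cs h w (sr i))) = 2 := by rw [card_X R, hcard]
  obtain ⟨x, y, hxy, hall⟩ := Nat.card_eq_two_iff.1 h2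
  have h3 : ∀ z : ↥(X (rep cs h w (sr i))), z = x ∨ z = y := by
    intro z
    have : z ∈ ({x, y} : Set _) := by rw [hall]; trivial
    exact this
  by_contra hab
  have h4 := h3 1
  have h5 := h3 ⟨a, har⟩
  have h6 := h3 ⟨b, hbs⟩
  have e1 : (⟨a, har⟩ : ↥(X (rep cs h w (sr i)))) ≠ 1 := fun h7 => ha1 (congrArg Subtype.val h7)
  have e2 : (⟨b, hbs⟩ : ↥(X (rep cs h w (sr i)))) ≠ 1 := fun h7 => hb1 (congrArg Subtype.val h7)
  have e3 : (⟨a, har⟩ : ↥(X (rep cs h w (sr i)))) ≠ ⟨b, hbs⟩ := fun h7 => hab (congrArg Subtype.val h7)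
  rcases h4 with h4 | h4 <;> rcases h5 with h5 | h5 <;> rcases h6 with h6 | h6 <;>
    simp_all

end SL

/-- **The facts of D4 for the simply laced groups over `𝔽₂`.** -/
theorem autFacts_SL (R : RGD cs h 2 T n X) [Finite W] [Finite Y] (hG : GG cs h T X = ⊤) [Nonempty I]
    (h2 : ∀ i : I, ∃ j : I, j ≠ i) (hBT : BT cs h 2 T X) (hN : NoCent cs h T X)
    (hconn : Conn M) (hG1 : RGD.Sup X {x | IsRoot cs h x} = ⊤) (hs : SL cs h)
    (hO : ∀ r, IsRoot cs h r → Orth cs h r) (hL : ∀ a, IsRoot cs h a → LR R a)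
    (hcard : ∀ i, Nat.card (X (sr i)) = 2) : OddHalf.D4.AutFacts Y := by
  refine autFacts R hG h2 hBT hN hconn (fun i a ha b hb => ?_) hG1 (uniq_SL R hs hO hL hN hconn hG hcard)
  obtain ⟨x, y, hxy, hall⟩ := Nat.card_eq_two_iff.1 (hcard i)
  have h3 : ∀ z : ↥(X (sr i)), z = x ∨ z = y := by
    intro z
    have : z ∈ ({x, y} : Set _) := by rw [hall]; trivial
    exact this
  have h4 := h3 1
  have h5 := h3 ⟨a, ha⟩
  have h6 := h3 ⟨b, hb⟩
  have h7 : (⟨a, ha⟩ : ↥(X (sr i))) * ⟨b, hb⟩ = ⟨b, hb⟩ * ⟨a, ha⟩ := by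
    rcases h4 with h4 | h4 <;> rcases h5 with h5 | h5 <;> rcases h6 with h6 | h6 <;> rw [h5, h6] <;>
      first
        | rfl
        | (rw [← h4]; simp)
  exact congrArg Subtype.val h7

end Cfsg.Agent.KFacts.RgdAutFacts
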