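import Cfsg.Agent.KFacts.ChevTwo
import Cfsg.Agent.KFacts.RgdTI
import Cfsg.Agent.Nodes.RGDLib

/-!
Chevalley groups of characteristic two: centralisers of sets of root elements (K-group facts for S1765, node D10).

* `Sys R e` : the root group datum `R` and the root elements `e` belong together;
* `Sys.lr` : `X a` is centralised by all `X b` with `⟨b, a^∨⟩ ≥ 0` (long AND short roots);
* `Sys.centralizer` : an element centralising a nontrivial element of `X a` for every `a ∈ Ψ` is `t q` with `t` in the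
  torus centralising them and `q ∈ ⟨X b : ⟨b, a^∨⟩ ≥ 0 for all a ∈ Ψ⟩`;
* `Sys.mem_sup` : no torus part if `Ψ` spans the root lattice and the centre is trivial.
-/

set_option autoImplicit false
set_option linter.unusedSectionVars false

namespace Cfsg.Agent.KFacts.ChevTwo

open CoxeterSystem Cfsg.Agent.ChevalleyStructure.CoxeterGeom Cfsg.Agent.Tits.Roots Cfsg.Agent.Tits.Core
  Cfsg.Agent.Tits.RootComb Cfsg.Agent.Nodes.Comb Cfsg.Agent.Nodes.Coroot
open Cfsg.Agent.Nodes.Reps Cfsg.Agent.Nodes.BNOf Cfsg.Agent.Nodes.Bruhat Cfsg.Agent.KFacts.RgdPar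
  Cfsg.Agent.KFacts.RgdTI Cfsg.Agent.Nodes
open scoped commutatorElement

variable {I W Y K : Type*} [Fintype I] [DecidableEq I] [Group W] [Group Y] [Field K] {M : CoxeterMatrix I}
variable {cs : CoxeterSystem M W} {A : I → I → ℤ} {h : IsCartan M A} {e : (I → ℤ) → K → Y}
  {p : ℕ} {T : Subgroup Y} {n : I → Y} {X : (I → ℤ) → Subgroup Y}

/-! ### Elementary consequences of the data -/

namespace Data

variable (D : Data cs h e)

include D

theorem zero {x : I → ℤ} (hx : IsRoot cs h x) : e x 0 = 1 := by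
  have h1 := D.add x hx 0 0
  rw [add_zero] at h1
  exact (mul_eq_left.1 h1.symm)

theorem sq {x : I → ℤ} (hx : IsRoot cs h x) (t : K) : e x t * e x t = 1 := by
  rw [← D.add x hx, D.two, D.zero hx]

theorem inv {x : I → ℤ} (hx : IsRoot cs h x) (t : K) : (e x t)⁻¹ = e x t := inv_eq_of_mul_eq_one_right (D.sq hx t)

theorem injective {x : I → ℤ} (hx : IsRoot cs h x) : Function.Injective (e x) := by
  intro t u htu
  have h1 : e x (t + u) = 1 := by rw [D.add x hx, htu, D.sq hx]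
  have h2 := D.inj x hx _ h1
  have h3 := D.two u
  exact add_right_cancel (h2.trans h3.symm)

theorem ne_one {x : I → ℤ} (hx : IsRoot cs h x) {t : K} (ht : t ≠ 0) : e x t ≠ 1 := fun h0 => ht (D.inj x hx t h0)

theorem comm_same {x : I → ℤ} (hx : IsRoot cs h x) (t u : K) : e x t * e x u = e x u * e x t := by
  rw [← D.add x hx, ← D.add x hx, add_comm]

theorem comm_of_nonneg {x y : I → ℤ} [Finite W] (hx : IsRoot cs h x) (hy : IsRoot cs h y) (hc : 0 ≤ cpr cs h x y)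
    (t u : K) : e x t * e y u = e y u * e x t := by
  by_cases hxy : x = y
  · subst hxy; exact D.comm_same hx t u
  · have hxy' : x ≠ -y := by
      rintro rfl
      rw [cpr_neg cs h _ hy, cpr_self cs h hy] at hc
      omega
    have h1 := D.comm0 x y hx hy hxy hxy' hc t u
    rwa [commutatorElement_eq_one_iff_mul_comm] at h1

/-- The commutator with the second argument conjugated by a Weyl representative. -/
theorem exists_rep' (w : W) : ∃ m : Y, ∀ x, IsRoot cs h x → ∀ t, m * e x t * m⁻¹ = e (rep cs h w x) t := by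
  obtain ⟨m, -, hm⟩ := exists_rep D.refl w
  exact ⟨m, hm⟩

/-- **The element `n_y`** acts as the reflection in `y`, without signs. -/
theorem nel_conj [Finite W] {x y : I → ℤ} (hx : IsRoot cs h x) (hy : IsRoot cs h y) (t : K) :
    nel e y * e x t * (nel e y)⁻¹ = e (x - cpr cs h x y • y) t := by
  obtain ⟨w, i, rfl⟩ := hy
  obtain ⟨m, hm⟩ := D.exists_rep' w
  have h1 : nel e (rep cs h w (sr i)) = m * nel e (sr i) * m⁻¹ := by
    rw [nel_def, nel_def, ← hm _ (isRoot_sr cs h i), ← map_neg, ← hm _ (isRoot_sr cs h i).neg]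
    group
  have h2 : e x t = m * e (rep cs h w⁻¹ x) t * m⁻¹ := by rw [hm _ (hx.act _), rep_apply_inv]
  have h3 : m * nel e (sr i) * m⁻¹ * (m * e (rep cs h w⁻¹ x) t * m⁻¹) * (m * nel e (sr i) * m⁻¹)⁻¹ =
      m * (nel e (sr i) * e (rep cs h w⁻¹ x) t * (nel e (sr i))⁻¹) * m⁻¹ := by group
  rw [h1, h2, h3, D.refl _ _ (hx.act _), hm _ ((hx.act _).act _), rep_simple_eq, map_sub, map_smul, rep_apply_inv,
    cpr_rep_sr]

/-- **The element `h_y(c)`** acts on the root group of `x` by `c ^ ⟨x, y^∨⟩`. -/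
theorem hel_conj [Finite W] {x y : I → ℤ} (hx : IsRoot cs h x) (hy : IsRoot cs h y) {c : K} (hc : c ≠ 0) (t : K) :
    hel e y c * e x t * (hel e y c)⁻¹ = e x (c ^ cpr cs h x y * t) := by
  obtain ⟨w, i, rfl⟩ := hy
  obtain ⟨m, hm⟩ := D.exists_rep' w
  have h0 : ∀ c : K, nc e (rep cs h w (sr i)) c = m * nc e (sr i) c * m⁻¹ := by
    intro c
    rw [nc_def, nc_def, ← hm _ (isRoot_sr cs h i), ← map_neg, ← hm _ (isRoot_sr cs h i).neg]
    group
  have h1 : hel e (rep cs h w (sr i)) c = m * hel e (sr i) c * m⁻¹ := by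
    rw [hel_def, hel_def]
    unfold nel
    rw [h0, h0]; group
  have h2 : e x t = m * e (rep cs h w⁻¹ x) t * m⁻¹ := by rw [hm _ (hx.act _), rep_apply_inv]
  have h3 : m * hel e (sr i) c * m⁻¹ * (m * e (rep cs h w⁻¹ x) t * m⁻¹) * (m * hel e (sr i) c * m⁻¹)⁻¹ =
      m * (hel e (sr i) c * e (rep cs h w⁻¹ x) t * (hel e (sr i) c)⁻¹) * m⁻¹ := by group
  rw [h1, h2, h3, D.tor _ _ (hx.act _) c hc, hm _ (hx.act _), rep_apply_inv, cpr_rep_sr]

/-- The subgroup generated by the `h_y(c)` acts by characters of the root lattice. -/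
theorem exists_chi [Finite W] {t : Y}
    (ht : t ∈ Subgroup.closure {g | ∃ y c, IsRoot cs h y ∧ c ≠ 0 ∧ g = hel e y c}) :
    ∃ χ : (I → ℤ) →+ Additive Kˣ, ∀ x, IsRoot cs h x → ∀ u, t * e x u * t⁻¹ = e x (((χ x).toMul : Kˣ) * u) := by
  induction ht using Subgroup.closure_induction with
  | mem g hg =>
    obtain ⟨y, c, hy, hc, rfl⟩ := hg
    refine ⟨((zmultiplesHom (Additive Kˣ)) (Additive.ofMul (Units.mk0 c hc))).comp (ell cs h hy), fun x hx u => ?_⟩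
    rw [D.hel_conj hx hy hc]
    congr 2
    rw [AddMonoidHom.comp_apply, ell_apply, zmultiplesHom_apply, toMul_zsmul, toMul_ofMul, Units.val_zpow_eq_zpow_val,
      Units.val_mk0]
  | one =>
    refine ⟨0, fun x hx u => ?_⟩
    rw [AddMonoidHom.zero_apply, toMul_zero, Units.val_one, one_mul, one_mul, inv_one, mul_one]
  | mul a b _ _ iha ihb =>
    obtain ⟨χ, hχ⟩ := iha
    obtain ⟨χ', hχ'⟩ := ihb
    refine ⟨χ + χ', fun x hx u => ?_⟩
    have h1 : a * b * e x u * (a * b)⁻¹ = a * (b * e x u * b⁻¹) * a⁻¹ := by group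
    rw [h1, hχ' x hx, hχ x hx, AddMonoidHom.add_apply, toMul_add, Units.val_mul, mul_assoc]
  | inv a _ iha =>
    obtain ⟨χ, hχ⟩ := iha
    refine ⟨-χ, fun x hx u => ?_⟩
    have h1 := hχ x hx ((((-χ) x).toMul : Kˣ) * u)
    rw [AddMonoidHom.neg_apply, toMul_neg, Units.mul_inv_cancel_left] at h1
    rw [AddMonoidHom.neg_apply, toMul_neg, ← h1]
    group

end Data

/-! ### The root group datum -/

/-- The root group datum `R` and the root elements `e` belong together. -/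
structure Sys (R : RGD cs h p T n X) (e : (I → ℤ) → K → Y) : Prop where
  data : Data cs h e
  mem_X : ∀ x, IsRoot cs h x → ∀ g, g ∈ X x ↔ ∃ t, e x t = g
  n_eq : ∀ i, n i = nel e (sr i)
  chi : ∀ t ∈ T, ∃ χ : (I → ℤ) →+ Additive Kˣ, ∀ x, IsRoot cs h x → ∀ u,
    t * e x u * t⁻¹ = e x (((χ x).toMul : Kˣ) * u)

/-- the roots `b` with `⟨b, a^∨⟩ ≥ 0` for all `a ∈ Ψ` -/
def star (cs : CoxeterSystem M W) (h : IsCartan M A) (Ψ : Set (I → ℤ)) : Set (I → ℤ) :=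
  {b | IsRoot cs h b ∧ ∀ a ∈ Ψ, 0 ≤ cpr cs h b a}

theorem star_subset_Ge {Ψ : Set (I → ℤ)} {a : I → ℤ} (ha : a ∈ Ψ) : star cs h Ψ ⊆ Ge cs h a :=
  fun _ hb => ⟨hb.1, hb.2 a ha⟩

namespace Sys

variable [Finite W] {R : RGD cs h p T n X} (S : Sys R e)

include S

theorem mem {x : I → ℤ} (hx : IsRoot cs h x) (t : K) : e x t ∈ X x := (S.mem_X x hx _).2 ⟨t, rfl⟩

theorem lr {a : I → ℤ} (ha : IsRoot cs h a) : LR R a := by
  refine ⟨ha, fun x hx hc u hu v hv => ?_⟩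
  obtain ⟨t, rfl⟩ := (S.mem_X x hx u).1 hu
  obtain ⟨s, rfl⟩ := (S.mem_X a ha v).1 hv
  exact S.data.comm_of_nonneg hx ha hc t s

theorem exists_e {x : I → ℤ} (hx : IsRoot cs h x) {z : Y} (hz : z ∈ X x) (hz1 : z ≠ 1) : ∃ u : K, u ≠ 0 ∧ e x u = z := by
  obtain ⟨u, rfl⟩ := (S.mem_X x hx z).1 hz
  refine ⟨u, ?_, rfl⟩
  rintro rfl
  exact hz1 (S.data.zero hx)

/-- the elements between and the centraliser, list version -/
theorem centralizer_list (Ψ : List (I → ℤ)) (hΨ : ∀ a ∈ Ψ, IsRoot cs h a) {g : Y} (hg : g ∈ GG cs h T X)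
    (hz : ∀ a ∈ Ψ, ∃ z ∈ X a, z ≠ 1 ∧ g * z = z * g) :
    g ∈ PS T X (star cs h {a | a ∈ Ψ}) := by
  let F : List ((I → ℤ) →+ ℤ) := Ψ.attach.map fun a => ell cs h (hΨ a.1 a.2)
  have hF : ∀ f ∈ F, g ∈ PS T X (Half cs h f) := by
    intro f hf
    obtain ⟨⟨a, ha⟩, -, rfl⟩ := List.mem_map.1 hf
    obtain ⟨z, hz1, hz2, hz3⟩ := hz a ha
    exact (S.lr (hΨ a ha)).le_PS_of_comm hg hz1 hz2 hz3
  have h1 := (inter R F hg hF).1
  have h2 : {x | IsRoot cs h x ∧ ∀ f ∈ F, 0 ≤ f x} ⊆ star cs h {a | a ∈ Ψ} := fun x hx =>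
    ⟨hx.1, fun a ha => hx.2 (ell cs h (hΨ a ha)) (List.mem_map.2 ⟨⟨a, ha⟩, List.mem_attach _ _, rfl⟩)⟩
  exact PS_mono h2 h1

/-- **Centralisers of sets of root elements.** -/
theorem centralizer {Ψ : Set (I → ℤ)} (hΨ : ∀ a ∈ Ψ, IsRoot cs h a) {g : Y} (hg : g ∈ GG cs h T X) {z : (I → ℤ) → Y}
    (hz : ∀ a ∈ Ψ, z a ∈ X a ∧ z a ≠ 1 ∧ g * z a = z a * g) :
    ∃ t ∈ T, (∀ a ∈ Ψ, t * z a = z a * t) ∧ ∃ q ∈ RGD.Sup X (star cs h Ψ),
      g = t * q := by
  have hfin : Ψ.Finite := (RGD.finite_roots (cs := cs) (h := h)).subset fun x hx => hΨ x hx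
  have h1 := S.centralizer_list hfin.toFinset.toList (fun a ha => hΨ a (by simpa using ha)) hg
    (fun a ha => ⟨z a, hz a (by simpa using ha)⟩)
  have h2 : {a | a ∈ hfin.toFinset.toList} = Ψ := by
    ext b
    simp
  rw [h2] at h1
  have hT : T ≤ Subgroup.normalizer (RGD.Sup X (star cs h Ψ) : Set Y) := R.T_le_normalizer fun x hx => hx.1
  have h3 : g ∈ ((PS T X (star cs h Ψ) : Subgroup Y) : Set Y) := h1
  unfold PS at h3
  rw [Subgroup.coe_mul_of_left_le_normalizer_right _ _ hT, Set.mem_mul] at h3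
  obtain ⟨t, ht, q, hq, rfl⟩ := h3
  refine ⟨t, ht, fun a ha => ?_, q, hq, rfl⟩
  obtain ⟨h4, -, h5⟩ := hz a ha
  have h6 : q * z a = z a * q := (S.lr (hΨ a ha)).comm' (RGD.Sup_mono (star_subset_Ge ha) hq) h4
  have h7 : t * z a * q = z a * t * q := by rw [mul_assoc, ← h6, ← mul_assoc, h5, mul_assoc]
  exact mul_right_cancel h7

/-- the elements of `⟨X b : ⟨b, a^∨⟩ ≥ 0 for all a ∈ Ψ⟩` centralise `X a`, `a ∈ Ψ` -/
theorem comm_of_star {Ψ : Set (I → ℤ)} (hΨ : ∀ a ∈ Ψ, IsRoot cs h a) {q : Y}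
    (hq : q ∈ RGD.Sup X (star cs h Ψ)) {a : I → ℤ} (ha : a ∈ Ψ) {z : Y}
    (hz : z ∈ X a) : q * z = z * q :=
  (S.lr (hΨ a ha)).comm' (RGD.Sup_mono (star_subset_Ge ha) hq) hz

/-- A torus element centralising root elements for a spanning set of roots centralises every root element. -/
theorem torus' {Ψ : Set (I → ℤ)} (hΨ : ∀ a ∈ Ψ, IsRoot cs h a)
    (hs : ∀ χ : (I → ℤ) →+ Additive Kˣ, (∀ a ∈ Ψ, χ a = 0) → χ = 0) {t : Y} (ht : t ∈ T)
    (hz : ∀ a ∈ Ψ, ∃ z ∈ X a, z ≠ 1 ∧ t * z = z * t) {x : I → ℤ} (hx : IsRoot cs h x) (u : K) :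
    t * e x u = e x u * t := by
  obtain ⟨χ, hχ⟩ := S.chi t ht
  have h1 : ∀ a ∈ Ψ, χ a = 0 := by
    intro a ha
    obtain ⟨z, hz1, hz2, hz3⟩ := hz a ha
    obtain ⟨v, hv, rfl⟩ := S.exists_e (hΨ a ha) hz1 hz2
    have h2 := hχ a (hΨ a ha) v
    rw [hz3, mul_inv_cancel_right] at h2
    have h3 := S.data.injective (hΨ a ha) h2
    have h4 : ((χ a).toMul : Kˣ) = (1 : Kˣ) := by
      apply Units.ext
      rw [Units.val_one]
      exact mul_right_cancel₀ hv (by rw [one_mul]; exact h3.symm)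
    exact Additive.toMul.injective h4
  have h2 : ∀ a, χ a = 0 := fun a => by rw [hs χ h1]; rfl
  have h3 := hχ x hx u
  rw [h2 x] at h3
  have h4 : t * e x u * t⁻¹ = e x u := by
    rw [h3]
    congr 1
    exact one_mul u
  calc t * e x u = t * e x u * t⁻¹ * t := by group
    _ = e x u * t := by rw [h4]

omit S in
theorem span_of_closure {Ψ : Set (I → ℤ)} (hs : AddSubgroup.closure Ψ = ⊤) (χ : (I → ℤ) →+ Additive Kˣ)
    (h1 : ∀ a ∈ Ψ, χ a = 0) : χ = 0 := by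
  refine AddMonoidHom.ext fun a => ?_
  have h3 : a ∈ AddSubgroup.closure Ψ := by rw [hs]; exact AddSubgroup.mem_top a
  have h4 : AddSubgroup.closure Ψ ≤ χ.ker := (AddSubgroup.closure_le _).2 fun b hb => h1 b hb
  exact h4 h3

theorem torus_eq_one {Ψ : Set (I → ℤ)} (hΨ : ∀ a ∈ Ψ, IsRoot cs h a)
    (hs : ∀ χ : (I → ℤ) →+ Additive Kˣ, (∀ a ∈ Ψ, χ a = 0) → χ = 0)
    (hG : RGDLib.G1 cs h X = ⊤) (hZ : Subgroup.center Y = ⊥) {t : Y} (ht : t ∈ T)
    (hz : ∀ a ∈ Ψ, ∃ z ∈ X a, z ≠ 1 ∧ t * z = z * t) : t = 1 := by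
  have h1 : t ∈ Subgroup.center Y := by
    rw [Subgroup.mem_center_iff]
    intro g
    have h2 : RGDLib.G1 cs h X ≤ Subgroup.centralizer ({t} : Set Y) := by
      refine RGD.Sup_le fun x hx v hv => ?_
      rw [Subgroup.mem_centralizer_singleton_iff]
      obtain ⟨u, rfl⟩ := (S.mem_X x hx v).1 hv
      exact (S.torus' hΨ hs ht hz hx u).symm
    have h3 : g ∈ Subgroup.centralizer ({t} : Set Y) := h2 (by rw [hG]; exact Subgroup.mem_top g)
    exact Subgroup.mem_centralizer_singleton_iff.1 h3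
  rw [hZ] at h1
  exact Subgroup.mem_bot.1 h1

/-- **Centralisers of sets of root elements, spanning case.** -/
theorem mem_sup {Ψ : Set (I → ℤ)} (hΨ : ∀ a ∈ Ψ, IsRoot cs h a)
    (hs : ∀ χ : (I → ℤ) →+ Additive Kˣ, (∀ a ∈ Ψ, χ a = 0) → χ = 0)
    (hG : RGDLib.G1 cs h X = ⊤) (hZ : Subgroup.center Y = ⊥) {g : Y}
    (hz : ∀ a ∈ Ψ, ∃ z ∈ X a, z ≠ 1 ∧ g * z = z * g) :
    g ∈ RGD.Sup X (star cs h Ψ) := by
  classical
  have hgG : g ∈ GG cs h T X := by
    have h1 : RGDLib.G1 cs h X ≤ GG cs h T X := RGD.Sup_le fun x hx => X_le_GG hx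
    exact h1 (by rw [hG]; exact Subgroup.mem_top g)
  have hz' : ∀ a, ∃ z, a ∈ Ψ → z ∈ X a ∧ z ≠ 1 ∧ g * z = z * g := by
    intro a
    by_cases ha : a ∈ Ψ
    · obtain ⟨z, h1, h2, h3⟩ := hz a ha
      exact ⟨z, fun _ => ⟨h1, h2, h3⟩⟩
    · exact ⟨1, fun h0 => absurd h0 ha⟩
  choose z hz'' using hz'
  obtain ⟨t, ht, h1, q, hq, rfl⟩ := S.centralizer hΨ hgG hz''
  have h2 := S.torus_eq_one hΨ hs hG hZ ht fun a ha => ⟨z a, (hz'' a ha).1, (hz'' a ha).2.1, h1 a ha⟩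
  rw [h2, one_mul]
  exact hq

end Sys

end Cfsg.Agent.KFacts.ChevTwo
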