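import Mathlib
import Cfsg.Agent.KFacts.RgdField

/-!
# The `p`-part of the outer automorphism group of a group with a root group datum

* `Tau T X χ A β σ τ` : `β` has the diagram symmetry `σ` (preserving the Cartan matrix `A`) and the field automorphism
  `τ`; `exists_tau`, `Tau.root`, `Tau.mul`, `Tau.unique`;
* `Tau.eq_one` : a `p`-element with `σ = 1`, `τ = 1` is trivial; `Tau.pure` : pure field automorphism on a root group;
* `exists_toFrame` : the projection of the stabiliser of `U` to the frame group;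
* `exists_outer` : a `p`-group of automorphisms fixing `U` modulo inner automorphisms embeds in `Sym I × Aut F`.
-/

set_option autoImplicit false
set_option linter.unusedSectionVars false

namespace Cfsg.Agent.KFacts.RgdTau

open CoxeterSystem Cfsg.Agent.ChevalleyStructure.CoxeterGeom Cfsg.Agent.Tits.Roots Cfsg.Agent.Tits.Core
  Cfsg.Agent.Tits.Exchange Cfsg.Agent.Nodes.Reps Cfsg.Agent.Nodes.BNOf Cfsg.Agent.Nodes.StabComb
  Cfsg.Agent.Nodes.Bruhat Cfsg.Agent.Nodes.OppDec Cfsg.Agent.Nodes.LeviDec Cfsg.Agent.Nodes.NormalForm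
  Cfsg.Agent.KFacts.RgdOpp Cfsg.Agent.KFacts.RgdAut Cfsg.Agent.KFacts.RgdDiag Cfsg.Agent.KFacts.RgdRigid
  Cfsg.Agent.KFacts.RgdField
open scoped commutatorElement

variable {I W Y : Type*} [Fintype I] [DecidableEq I] [Group W] [Group Y] {M : CoxeterMatrix I}
  {cs : CoxeterSystem M W} {A : I → I → ℤ} {h : IsCartan M A} {p : ℕ} {T : Subgroup Y} {n : I → Y}
  {X : (I → ℤ) → Subgroup Y} {F : Type*} [Field F] {x : (I → ℤ) → F → Y} {χ : (I → ℤ) → Y → F} {hh : I → F → Y}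

/-- `β` has the diagram symmetry `σ`, preserving the Cartan matrix, and the field automorphism `τ`. -/
structure Tau (T : Subgroup Y) (X : (I → ℤ) → Subgroup Y) (χ : (I → ℤ) → Y → F) (A : I → I → ℤ)
    (β : MulAut Y) (σ : Equiv.Perm I) (τ : F ≃+* F) : Prop where
  diag : Diag T X β σ
  cartan : ∀ i j, A (σ i) (σ j) = A i j
  char : ∀ i, ∀ t ∈ T, χ (sr (σ i)) (β t) = τ (χ (sr i) t)

theorem Tau.one : Tau T X χ A (1 : MulAut Y) (1 : Equiv.Perm I) (1 : F ≃+* F) where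
  diag := Diag.one
  cartan _ _ := rfl
  char _ _ _ := rfl

theorem Tau.mul {β β' : MulAut Y} {σ σ' : Equiv.Perm I} {τ τ' : F ≃+* F} (S : Tau T X χ A β σ τ)
    (S' : Tau T X χ A β' σ' τ') : Tau T X χ A (β * β') (σ * σ') (τ * τ') where
  diag := S.diag.mul S'.diag
  cartan i j := by rw [Equiv.Perm.mul_apply, Equiv.Perm.mul_apply, S.cartan, S'.cartan]
  char i t ht := by
    rw [Equiv.Perm.mul_apply, MulAut.mul_apply, S.char _ _ ((S'.diag.tor t).2 ht), S'.char i t ht]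
    rfl

theorem Tau.inv {β : MulAut Y} {σ : Equiv.Perm I} {τ : F ≃+* F} (S : Tau T X χ A β σ τ) :
    Tau T X χ A β⁻¹ σ⁻¹ τ⁻¹ where
  diag := S.diag.inv
  cartan i j := by
    have h1 : ∀ k, σ (σ⁻¹ k) = k := fun k => σ.apply_symm_apply k
    rw [← S.cartan, h1, h1]
  char i t ht := by
    have h1 : ∀ k, σ (σ⁻¹ k) = k := fun k => σ.apply_symm_apply k
    have h2 := S.char (σ⁻¹ i) (β⁻¹ t) ((S.diag.tor.inv t).2 ht)
    rw [h1, MulAut.apply_inv_self] at h2
    rw [h2]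
    exact (τ.symm_apply_apply _).symm

theorem Tau.pow {β : MulAut Y} {σ : Equiv.Perm I} {τ : F ≃+* F} (S : Tau T X χ A β σ τ) (k : ℕ) :
    Tau T X χ A (β ^ k) (σ ^ k) (τ ^ k) := by
  induction k with
  | zero => rw [pow_zero, pow_zero, pow_zero]; exact Tau.one
  | succ k ih => rw [pow_succ, pow_succ, pow_succ]; exact ih.mul S

/-- In the simply laced case every diagram symmetry preserves the Cartan matrix. -/
theorem cartan_of_laced (h : IsCartan M A) (hl : ∀ i j, i ≠ j → M i j = 2 ∨ M i j = 3) {σ : Equiv.Perm I}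
    (hσ : ∀ i j, M (σ i) (σ j) = M i j) (i j : I) : A (σ i) (σ j) = A i j := by
  by_cases hij : i = j
  · subst hij
    rw [h.diag, h.diag]
  have hij' : σ i ≠ σ j := fun h1 => hij (σ.injective h1)
  rcases hl i j hij with h1 | h1
  · have h2 := hσ i j
    rw [h1] at h2
    rcases h.rel i j hij with ⟨-, h3, -⟩ | ⟨h3, -⟩ | ⟨h3, -⟩ | ⟨h3, -⟩
    · rcases h.rel _ _ hij' with ⟨-, h4, -⟩ | ⟨h4, -⟩ | ⟨h4, -⟩ | ⟨h4, -⟩
      · rw [h3, h4]
      all_goals omega
    all_goals omega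
  · have h2 := hσ i j
    rw [h1] at h2
    rcases h.rel i j hij with ⟨h3, -⟩ | ⟨-, h3, -⟩ | ⟨h3, -⟩ | ⟨h3, -⟩
    · omega
    · rcases h.rel _ _ hij' with ⟨h4, -⟩ | ⟨-, h4, -⟩ | ⟨h4, -⟩ | ⟨h4, -⟩
      · omega
      · rw [h3, h4]
      all_goals omega
    all_goals omega

section

variable (R : RGD cs h p T n X)

include R

/-- **The field automorphism of a frame automorphism.** -/
theorem exists_tau [Finite W] [Nonempty I] (C : Coords cs h T n X x χ) (H : Coroots A T X χ hh)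
    (hconn : ∀ J : Set I, J.Nonempty → J ≠ Set.univ → ∃ a ∈ J, ∃ b, b ∉ J ∧ M a b ≠ 2)
    {β : MulAut Y} {σ : Equiv.Perm I} (D : Diag T X β σ) (hA : ∀ i j, A (σ i) (σ j) = A i j) :
    ∃ τ : F ≃+* F, Tau T X χ A β σ τ := by
  obtain ⟨τ, S⟩ := exists_semi R C D (D.matrix R)
  obtain ⟨i₀⟩ := ‹Nonempty I›
  refine ⟨τ i₀, D, hA, fun i t ht => ?_⟩
  rw [S.char i t ht, S.eq_all H D hA hconn i i₀]

theorem Tau.semi [Finite W] (C : Coords cs h T n X x χ) {β : MulAut Y} {σ : Equiv.Perm I} {τ : F ≃+* F}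
    (S : Tau T X χ A β σ τ) {w : W} {i : I} : ∃ c, c ≠ 0 ∧
      ∀ a, β (x (rep cs h w (sr i)) a) = x (rep cs h w (sr i) ∘ σ.symm) (c * τ a) := by
  obtain ⟨τ', S'⟩ := exists_semi R C S.diag (S.diag.matrix R)
  have h1 : τ' i = τ := by
    apply (C.coord _ (isRoot_sr cs h i)).ext
    intro t ht
    rw [← S.char i t ht, S'.char i t ht]
  obtain ⟨c, hc, e⟩ := S'.root w i
  refine ⟨c, hc, fun a => ?_⟩
  rw [e a, h1, ← rep_hat (S.diag.matrix R) S.cartan, sr_comp]

/-- **Semilinearity on all root groups.** -/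
theorem Tau.root [Finite W] (C : Coords cs h T n X x χ) {β : MulAut Y} {σ : Equiv.Perm I} {τ : F ≃+* F}
    (S : Tau T X χ A β σ τ) {r : I → ℤ} (hr : IsRoot cs h r) : ∃ c, c ≠ 0 ∧
      ∀ a, β (x r a) = x (r ∘ σ.symm) (c * τ a) := by
  obtain ⟨w, i, rfl⟩ := hr
  exact Tau.semi R C S

/-- The scalars of all roots. -/
theorem Tau.char_root [Finite W] (C : Coords cs h T n X x χ) {β : MulAut Y} {σ : Equiv.Perm I} {τ : F ≃+* F}
    (S : Tau T X χ A β σ τ) {r : I → ℤ} (hr : IsRoot cs h r) {t : Y} (ht : t ∈ T) :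
    χ (r ∘ σ.symm) (β t) = τ (χ r t) := by
  obtain ⟨c, hc, e⟩ := Tau.root R C S hr
  have hr' : IsRoot cs h (r ∘ σ.symm) := by
    obtain ⟨w, i, rfl⟩ := hr
    rw [← rep_hat (S.diag.matrix R) S.cartan, sr_comp]
    exact ⟨_, _, rfl⟩
  have h1 := (C.coord r hr).act t ht 1
  have h2 := congrArg β h1
  rw [map_mul, map_mul, map_inv, e, e, (C.coord _ hr').act _ ((S.diag.tor t).2 ht), mul_one, map_one, mul_one] at h2
  have h3 := (C.coord _ hr').inj h2
  rw [mul_comm] at h3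
  exact mul_left_cancel₀ hc h3

theorem Tau.unique [Finite W] [Nonempty I] (C : Coords cs h T n X x χ) {β : MulAut Y} {σ σ' : Equiv.Perm I}
    {τ τ' : F ≃+* F} (S : Tau T X χ A β σ τ) (S' : Tau T X χ A β σ' τ') : σ = σ' ∧ τ = τ' := by
  have h1 : σ = σ' := by
    ext i
    by_contra hne
    obtain ⟨u, hu, hu1⟩ := exists_ne_one R i
    have h2 := (S.diag.pos i u).2 hu
    have h3 := (S'.diag.pos i u).2 hu
    have h4 : sr (σ i) ≠ (sr (σ' i) : I → ℤ) := by
      intro h5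
      have h6 := congrFun h5 (σ i)
      rw [sr_self, sr_ne hne] at h6
      exact one_ne_zero h6
    have h5 := X_inf_X R (isRoot_sr cs h (σ i)) (isRoot_sr cs h (σ' i)) h4
    rw [Subgroup.eq_bot_iff_forall] at h5
    exact hu1 (β.injective (by rw [h5 _ ⟨h2, h3⟩, map_one]))
  subst h1
  refine ⟨rfl, ?_⟩
  obtain ⟨i⟩ := ‹Nonempty I›
  apply (C.coord _ (isRoot_sr cs h i)).ext
  intro t ht
  rw [← S.char i t ht, S'.char i t ht]

/-- **A `p`-element of the frame with trivial diagram symmetry and trivial field automorphism is trivial.** -/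
theorem Tau.eq_one [Finite W] [CharP F p] [Fact p.Prime] (hG1 : RGD.Sup X {x | IsRoot cs h x} = ⊤)
    (C : Coords cs h T n X x χ) {β : MulAut Y} (S : Tau T X χ A β 1 1) {k : ℕ} (hβ : β ^ p ^ k = 1) : β = 1 := by
  apply Diag.eq_one R hG1 S.diag
  intro i y hy
  obtain ⟨c, hc, e⟩ := Tau.root R C S (isRoot_sr cs h i)
  have e' : ∀ a, β (x (sr i) a) = x (sr i) (c * a) := fun a => e a
  have h1 : ∀ m a, (β ^ m) (x (sr i) a) = x (sr i) (c ^ m * a) := by
    intro m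
    induction m with
    | zero => intro a; rw [pow_zero, pow_zero, one_mul]; rfl
    | succ m ih =>
      intro a
      rw [pow_succ, MulAut.mul_apply, e', ih, pow_succ, mul_assoc]
  have h2 := h1 (p ^ k) 1
  rw [hβ, MulAut.one_apply, mul_one] at h2
  have h3 := (C.coord _ (isRoot_sr cs h i)).inj h2
  have h4 : c = 1 := by
    haveI : ExpChar F p := ExpChar.prime Fact.out
    have h5 : (c - 1) ^ p ^ k = 0 := by rw [sub_pow_expChar_pow, ← h3, one_pow, sub_self]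
    exact sub_eq_zero.1 (pow_eq_zero_iff (pow_ne_zero _ (Fact.out : p.Prime).ne_zero) |>.1 h5)
  obtain ⟨a, rfl⟩ := ((C.coord _ (isRoot_sr cs h i)).mem y).1 hy
  rw [e', h4, one_mul]

/-- Two elements of a `p`-group with the same `σ`, `τ` are equal. -/
theorem Tau.eq_of_isPGroup [Finite W] [CharP F p] [Fact p.Prime] (hG1 : RGD.Sup X {x | IsRoot cs h x} = ⊤)
    (C : Coords cs h T n X x χ) {E : Subgroup (MulAut Y)} (hE : IsPGroup p ↥E) {β γ : MulAut Y} (hβ : β ∈ E)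
    (hγ : γ ∈ E) {σ : Equiv.Perm I} {τ : F ≃+* F} (S : Tau T X χ A β σ τ) (S' : Tau T X χ A γ σ τ) : β = γ := by
  have h1 : Tau T X χ A (β * γ⁻¹) 1 1 := by
    have := S.mul S'.inv
    rwa [mul_inv_cancel, mul_inv_cancel] at this
  obtain ⟨k, hk⟩ := hE ⟨β * γ⁻¹, mul_mem hβ (inv_mem hγ)⟩
  have h2 : (β * γ⁻¹) ^ p ^ k = 1 := by simpa using congrArg Subtype.val hk
  exact mul_inv_eq_one.1 (Tau.eq_one R hG1 C h1 h2)

/-- **A `p`-element with field automorphism `τ` acts on a root group fixed by it as the pure field automorphism.** -/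
theorem Tau.pure [Finite W] [Finite Y] [Fact p.Prime] (C : Coords cs h T n X x χ) {β : MulAut Y}
    {σ : Equiv.Perm I} {τ : F ≃+* F} (S : Tau T X χ A β σ τ) {k : ℕ} (hβ : β ^ p ^ k = 1) {r : I → ℤ}
    (hr : IsRoot cs h r) (hrσ : r ∘ σ.symm = r) : ∃ a₀, a₀ ≠ 0 ∧ ∀ a, β (x r (a₀ * a)) = x r (a₀ * τ a) := by
  have hP : Fix β (X r) := by
    have := Diag.root_comp R S.diag S.cartan hr
    rw [hrσ] at this
    exact this
  obtain ⟨y, hy, hy1, hyf⟩ := exists_fixed hβ hP (R.pgrp' hr) (X_ne_bot R hr)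
  obtain ⟨a₀, rfl⟩ := ((C.coord r hr).mem y).1 hy
  have ha : a₀ ≠ 0 := by
    rintro rfl
    exact hy1 (C.coord r hr).zero
  obtain ⟨c, hc, e⟩ := Tau.root R C S hr
  rw [hrσ] at e
  rw [e] at hyf
  have h1 := (C.coord r hr).inj hyf
  refine ⟨a₀, ha, fun a => ?_⟩
  rw [e, map_mul, ← mul_assoc, h1]

/-! ### the projection to the frame -/

/-- The projection of the stabiliser of `U` to the frame group. -/
theorem exists_toFrame [Finite W] (hG : GG cs h T X = ⊤) (S : Subgroup (MulAut Y))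
    (hS : ∀ α ∈ S, Fix α (RGD.Sup X (RGD.Pos cs h))) :
    ∃ f : ↥S →* MulAut Y, ∀ α : ↥S, f α ∈ Frame cs h X ∧
      (∃ u ∈ RGD.Sup X (RGD.Pos cs h), f α = MulAut.conj u * α.1) ∧
      (∀ k : ℕ, α ^ k = 1 → (f α) ^ k = 1) ∧
      (f α = 1 ↔ ∃ u ∈ RGD.Sup X (RGD.Pos cs h), α.1 = MulAut.conj u) ∧
      (α.1 ∈ Frame cs h X → f α = α.1) := by
  have h1 : ∀ α : ↥S, ∃ u, u ∈ RGD.Sup X (RGD.Pos cs h) ∧ MulAut.conj u * α.1 ∈ Frame cs h X := by
    intro α
    obtain ⟨u, hu, hU, -, hUN, -, -⟩ := exists_frame R hG (hS α.1 α.2)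
    exact ⟨u, hu, hU, hUN⟩
  choose u hu hF using h1
  have huniq : ∀ (α : ↥S) (v : Y), v ∈ RGD.Sup X (RGD.Pos cs h) → Fix (MulAut.conj v * α.1) (UN cs h X) → u α = v :=
    fun α v hv hN => frame_unique R hG (hu α) hv (hF α).2 hN
  have hmul : ∀ α γ : ↥S, MulAut.conj (u (α * γ)) * (α * γ).1 =
      (MulAut.conj (u α) * α.1) * (MulAut.conj (u γ) * γ.1) := by
    intro α γ
    have e : (MulAut.conj (u α) * α.1) * (MulAut.conj (u γ) * γ.1) =
        MulAut.conj (u α * α.1 (u γ)) * (α * γ).1 := by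
      ext y
      simp only [MulAut.mul_apply, MulAut.conj_apply, map_mul, map_inv, mul_inv_rev, mul_assoc, Subgroup.coe_mul]
    rw [e]
    congr 2
    apply huniq
    · exact mul_mem (hu α) ((hS α.1 α.2 _).2 (hu γ))
    · rw [← e]
      exact (hF α).2.mul (hF γ).2
  refine ⟨MonoidHom.mk' (fun α => MulAut.conj (u α) * α.1) hmul, fun α => ⟨hF α, ⟨u α, hu α, rfl⟩, ?_, ?_, ?_⟩⟩
  · intro k hk
    exact pow_eq_one_of_frame R hG (hS α.1 α.2) (hu α) (hF α).2 (by
      have := congrArg Subtype.val hk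
      rwa [SubmonoidClass.coe_pow] at this)
  · constructor
    · intro h2
      refine ⟨(u α)⁻¹, inv_mem (hu α), ?_⟩
      rw [map_inv]
      exact eq_inv_of_mul_eq_one_right h2
    · rintro ⟨v, hv, e⟩
      have h2 : u α = v⁻¹ := by
        apply huniq α _ (inv_mem hv)
        rw [e, map_inv, inv_mul_cancel]
        exact fun _ => Iff.rfl
      show MulAut.conj (u α) * α.1 = 1
      rw [h2, e, map_inv, inv_mul_cancel]
  · intro h2
    have h3 : u α = 1 := by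
      apply huniq α _ (one_mem _)
      rw [map_one, one_mul]
      exact h2.2
    show MulAut.conj (u α) * α.1 = α.1
    rw [h3, map_one, one_mul]

/-- **The `p`-part of the outer automorphism group**: a `p`-group of automorphisms fixing `U` embeds, modulo the inner
automorphisms from `U`, in `Sym I × Aut F`. -/
theorem exists_outer [Finite W] [Nonempty I] [CharP F p] [Fact p.Prime]
    (hG1 : RGD.Sup X {x | IsRoot cs h x} = ⊤)
    (C : Coords cs h T n X x χ) (H : Coroots A T X χ hh)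
    (hconn : ∀ J : Set I, J.Nonempty → J ≠ Set.univ → ∃ a ∈ J, ∃ b, b ∉ J ∧ M a b ≠ 2)
    (hA : ∀ σ : Equiv.Perm I, (∀ i j, M (σ i) (σ j) = M i j) → ∀ i j, A (σ i) (σ j) = A i j)
    {S : Subgroup (MulAut Y)} (hSp : IsPGroup p ↥S) (hS : ∀ α ∈ S, Fix α (RGD.Sup X (RGD.Pos cs h))) :
    ∃ f : ↥S →* Equiv.Perm I × (F ≃+* F), ∀ α : ↥S,
      (∃ u ∈ RGD.Sup X (RGD.Pos cs h), Tau T X χ A (MulAut.conj u * α.1) (f α).1 (f α).2) ∧
      (f α = 1 ↔ ∃ u ∈ RGD.Sup X (RGD.Pos cs h), α.1 = MulAut.conj u) := by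
  have hG := GG_eq_top (T := T) hG1
  obtain ⟨g, hg⟩ := exists_toFrame R hG S hS
  have h1 : ∀ α : ↥S, ∃ q : Equiv.Perm I × (F ≃+* F), Tau T X χ A (g α) q.1 q.2 := by
    intro α
    obtain ⟨σ, D⟩ := exists_diag R hG (hg α).1.1 (hg α).1.2
    obtain ⟨τ, hτ⟩ := exists_tau R C H hconn D (hA σ (D.matrix R))
    exact ⟨(σ, τ), hτ⟩
  choose q hq using h1
  have hq1 : ∀ (α : ↥S) (q' : Equiv.Perm I × (F ≃+* F)), Tau T X χ A (g α) q'.1 q'.2 → q α = q' := by
    intro α q' h2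
    obtain ⟨h3, h4⟩ := Tau.unique R C (hq α) h2
    exact Prod.ext h3 h4
  refine ⟨MonoidHom.mk' q fun α γ => hq1 _ _ ?_, fun α => ⟨?_, ?_⟩⟩
  · rw [map_mul]
    exact (hq α).mul (hq γ)
  · obtain ⟨u, hu, e⟩ := (hg α).2.1
    refine ⟨u, hu, ?_⟩
    rw [← e]
    exact hq α
  · rw [← (hg α).2.2.2.1]
    constructor
    · intro h2
      have h3 : q α = 1 := h2
      have h4 := hq α
      rw [h3] at h4
      obtain ⟨k, hk⟩ := hSp α
      exact Tau.eq_one R hG1 C h4 ((hg α).2.2.1 _ hk)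
    · intro h2
      show q α = 1
      apply hq1
      rw [h2]
      exact Tau.one

end

end Cfsg.Agent.KFacts.RgdTau
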