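import Cfsg.Agent.Nodes.RGDChev
import Cfsg.Agent.KFacts.RgdTau
import Cfsg.Agent.ChevalleyStructure.BNChev

/-!
# Coordinates of the root group datum of the Chevalley groups

For a tabulated datum `D` and a finite field `K`: `coords : Coords ..`, `coroots : Coroots ..` for the root group datum
`Nodes.RGDChev.rgd` of `D.group K`.
-/

set_option autoImplicit false
set_option linter.unusedSectionVars false

namespace Cfsg.Agent.KFacts.RgdChevCoord

open CoxeterSystem Cfsg.Agent.ChevalleyStructure.CoxeterGeom Cfsg.Agent.Tits.Roots Cfsg.Agent.Tits.Core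
  Cfsg.Agent.Nodes.Reps Cfsg.Agent.Nodes.BNOf
  Cfsg.Agent.Nodes.OppDec Cfsg.Agent.Nodes.RGDChev
  Cfsg.Agent.KFacts.RgdAut Cfsg.Agent.KFacts.RgdDiag Cfsg.Agent.KFacts.RgdRigid
  Cfsg.Agent.KFacts.RgdField Cfsg.Agent.KFacts.RgdTau
open Cfsg.Lie Cfsg.Agent.ChevalleyStructure Cfsg.Agent.ChevalleyStructure.Elts
  Cfsg.Agent.ChevalleyStructure.NPerm Cfsg.Agent.ChevalleyStructure.CoxeterGeomTypes
open scoped commutatorElement

universe u

/-- The additive closure of the squares of a finite field is everything. -/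
theorem closure_sq {K : Type*} [Field K] [Finite K] {S : AddSubgroup K} (hS : ∀ c : K, c ≠ 0 → c ^ 2 ∈ S) :
    S = ⊤ := by
  have hS' : ∀ c : K, c ^ 2 ∈ S := by
    intro c
    by_cases hc : c = 0
    · rw [hc, zero_pow two_ne_zero]; exact S.zero_mem
    · exact hS c hc
  rw [AddSubgroup.eq_top_iff']
  intro a
  by_cases h2 : (2 : K) = 0
  · have hinj : Function.Injective (fun b : K => b ^ 2) := by
      intro b c hbc
      have h3 : (b - c) ^ 2 = 0 := by
        have h4 : b ^ 2 = c ^ 2 := hbc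
        have : (b - c) ^ 2 = b ^ 2 - c ^ 2 + 2 * (c ^ 2 - b * c) := by ring
        rw [this, h4, h2]; ring
      exact sub_eq_zero.1 (pow_eq_zero_iff (two_ne_zero) |>.1 h3)
    obtain ⟨b, hb⟩ := Finite.surjective_of_injective hinj a
    rw [← hb]
    exact hS' b
  · have h4 : (4 : K) ≠ 0 := by
      have : (4 : K) = 2 * 2 := by norm_num
      rw [this]; exact mul_ne_zero h2 h2
    have h5 : a = (a / 4 + 1) ^ 2 - (a / 4 - 1) ^ 2 := by
      have : (a / 4 + 1) ^ 2 - (a / 4 - 1) ^ 2 = 4 * (a / 4) := by ring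
      rw [this, mul_div_cancel₀ a h4]
    rw [h5]
    exact S.sub_mem (hS' _) (hS' _)

section

variable {D : ChevalleyDatum} {l : ℕ} {M : CoxeterMatrix (Fin l)} (hp : IsType D l M) {K : Type u} [Field K]

open Classical in
/-- The number of a root vector. -/
noncomputable def idx (D : ChevalleyDatum) (l : ℕ) (v : Fin l → ℤ) : ℕ :=
  if h : ∃ r, r < D.nroots ∧ vec D l r = v then h.choose else 0

include hp in
theorem idx_vec {r : ℕ} (hr : r < D.nroots) : idx D l (vec D l r) = r := by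
  have h : ∃ s, s < D.nroots ∧ vec D l s = vec D l r := ⟨r, hr, rfl⟩
  unfold idx
  rw [dif_pos h]
  exact vec_inj hp h.choose_spec.1 hr h.choose_spec.2

/-- The root elements of `D.group K`. -/
noncomputable def xc (hp : IsType D l M) (v : Fin l → ℤ) (a : K) : ↥(D.group K) :=
  ⟨xG hp.inList (idx D l v) a, xG_mem_group hp.inList _ a⟩

theorem coe_xc {r : ℕ} (hr : r < D.nroots) (a : K) :
    ((xc hp (vec D l r) a : ↥(D.group K)) : GL D.Idx K) = xG hp.inList r a := by
  show xG hp.inList (idx D l (vec D l r)) a = _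
  rw [idx_vec hp hr]

theorem xc_inj {r : ℕ} (hr : r < D.nroots) : Function.Injective (xc (K := K) hp (vec D l r)) := by
  intro a b hab
  have h1 := congrArg (fun g : ↥(D.group K) => (g : GL D.Idx K)) hab
  simp only [coe_xc hp hr] at h1
  exact xG_injective hp.inList hr h1

open Classical in
/-- The scalar of a torus element on a root group. -/
noncomputable def ch (hp : IsType D l M) (v : Fin l → ℤ) (t : ↥(D.group K)) : K :=
  if h : ∃ c : K, c ≠ 0 ∧ ∀ a, t * xc hp v a * t⁻¹ = xc hp v (c * a) then h.choose else 1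

/-- The torus of `D.group K`. -/
abbrev TT (D : ChevalleyDatum) (K : Type u) [Field K] : Subgroup ↥(D.group K) :=
  (D.diagonalSubgroup K).subgroupOf (D.group K)

/-- The root groups of `D.group K`. -/
abbrev XX (D : ChevalleyDatum) (l : ℕ) (K : Type u) [Field K] (x : Fin l → ℤ) : Subgroup ↥(D.group K) :=
  (XV D l K x).subgroupOf (D.group K)

/-- The reflections of `D.group K`. -/
abbrev nc (hp : IsType D l M) (K : Type u) [Field K] (i : Fin l) : ↥(D.group K) :=
  ⟨nn hp K i, nn_mem_group hp i⟩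

/-- The coroot elements of `D.group K`. -/
noncomputable def hc (hp : IsType D l M) (j : Fin l) (a : K) : ↥(D.group K) :=
  ⟨hG hp.inList (D.simple j) a, hG_mem_group hp.inList _ a⟩

theorem act {r : ℕ} (hr : r < D.nroots) {t : ↥(D.group K)} (ht : t ∈ TT D K) :
    ch hp (vec D l r) t ≠ 0 ∧ ∀ a, t * xc hp (vec D l r) a * t⁻¹ = xc hp (vec D l r) (ch hp (vec D l r) t * a) := by
  have h : ∃ c : K, c ≠ 0 ∧ ∀ a, t * xc hp (vec D l r) a * t⁻¹ = xc hp (vec D l r) (c * a) := by
    obtain ⟨c, hc0, hct⟩ := BNChev.diagonal_conj hp.inList (F := K) (h := t) ht hr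
    refine ⟨c, hc0, fun a => Subtype.ext ?_⟩
    rw [Subgroup.coe_mul, Subgroup.coe_mul, Subgroup.coe_inv, coe_xc hp hr, coe_xc hp hr]
    exact hct a
  unfold ch
  rw [dif_pos h]
  exact h.choose_spec

theorem ch_eq {r : ℕ} (hr : r < D.nroots) {t : ↥(D.group K)} (ht : t ∈ TT D K) {c : K}
    (hct : t * xc hp (vec D l r) 1 * t⁻¹ = xc hp (vec D l r) c) : ch hp (vec D l r) t = c := by
  have h1 := (act hp hr ht).2 1
  rw [hct, mul_one] at h1
  exact (xc_inj hp hr h1).symm

theorem hc_mem (j : Fin l) {a : K} (ha : a ≠ 0) : hc hp j a ∈ TT D K :=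
  hG_mem_diagonal hp.inList (simple_lt hp.inList (lt_rank hp j)) ha

theorem ch_hc (j : Fin l) {a : K} (ha : a ≠ 0) {r : ℕ} (hr : r < D.nroots) :
    ch hp (vec D l r) (hc hp j a) = a ^ D.cartan j r := by
  apply ch_eq hp hr (hc_mem hp j ha)
  apply Subtype.ext
  rw [Subgroup.coe_mul, Subgroup.coe_mul, Subgroup.coe_inv, coe_xc hp hr, coe_xc hp hr]
  show hG hp.inList (D.simple j) a * xG hp.inList r 1 * (hG hp.inList (D.simple j) a)⁻¹ = _
  rw [mul_inv_eq_iff_eq_mul]
  apply Units.ext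
  have h1 := Cfsg.Agent.S1032.result D hp.inList j r (lt_rank hp j) hr a ha 1
  rw [mul_one] at h1
  simpa only [Units.val_mul, coe_hG, coe_xG] using h1

theorem nact {i : Fin l} {r : ℕ} (hr : r < D.nroots) : ∃ c : K, c ≠ 0 ∧ ∀ a,
    nc hp K i * xc hp (vec D l r) a * (nc hp K i)⁻¹ = xc hp (vec D l (D.reflectRoot i r)) (c * a) := by
  obtain ⟨η, hη, h⟩ := Cfsg.Agent.S1031.result (F := K) D hp.inList i r (lt_rank hp i) hr
  refine ⟨(η : K), ?_, fun a => Subtype.ext ?_⟩
  · rcases hη with rfl | rfl <;> simp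
  · rw [Subgroup.coe_mul, Subgroup.coe_mul, Subgroup.coe_inv, coe_xc hp hr,
      coe_xc hp (reflectRoot_lt hp.inList (lt_rank hp i) hr)]
    show nG hp.inList (D.simple i) 1 * _ * (nG hp.inList (D.simple i) 1)⁻¹ = _
    rw [mul_inv_eq_iff_eq_mul]
    apply Units.ext
    rw [Units.val_mul, Units.val_mul, coe_nG, coe_xG, coe_xG]
    exact h a

variable {W : Type*} [Group W] (cs : CoxeterSystem M W)

theorem chi_n {i : Fin l} {r : ℕ} (hr : r < D.nroots) {t : ↥(D.group K)} (ht : t ∈ TT D K)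
    (ht' : nc hp K i * t * (nc hp K i)⁻¹ ∈ TT D K) :
    ch hp (vec D l (D.reflectRoot i r)) (nc hp K i * t * (nc hp K i)⁻¹) = ch hp (vec D l r) t := by
  obtain ⟨c, hc0, e⟩ := nact hp (K := K) (i := i) hr
  have hr' := reflectRoot_lt hp.inList (lt_rank hp i) hr
  have h1 := (act hp hr' ht').2 (c * 1)
  rw [← e 1] at h1
  have h2 : nc hp K i * t * (nc hp K i)⁻¹ * (nc hp K i * xc hp (vec D l r) 1 * (nc hp K i)⁻¹) *
      (nc hp K i * t * (nc hp K i)⁻¹)⁻¹ = nc hp K i * (t * xc hp (vec D l r) 1 * t⁻¹) * (nc hp K i)⁻¹ := by group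
  rw [h2, (act hp hr ht).2, e] at h1
  have h3 := xc_inj hp hr' h1
  rw [mul_one, mul_one, mul_comm c] at h3
  exact (mul_right_cancel₀ hc0 h3).symm

include cs in
theorem span [Finite K] (p : ℕ) [Fact p.Prime] [CharP K p] {x : Fin l → ℤ} (hx : IsRoot cs hp.isCartan x) :
    AddSubgroup.closure (ch (K := K) hp x '' (TT D K : Set ↥(D.group K))) = ⊤ := by
  have R := rgd (K := K) hp cs p
  obtain ⟨w, i, rfl⟩ := hx
  obtain ⟨ω, rfl⟩ := cs.wordProd_surjective w
  induction ω with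
  | nil =>
    rw [wordProd_nil, map_one, Module.End.one_apply, ← vec_simple hp i]
    apply closure_sq
    intro c hc0
    apply AddSubgroup.subset_closure
    refine ⟨hc hp i c, hc_mem hp i hc0, ?_⟩
    rw [ch_hc hp i hc0 (simple_lt hp.inList (lt_rank hp i)), ← cartanOf_def D l i i, hp.isCartan.diag]
    exact zpow_natCast c 2
  | cons j ω ih =>
    have hroot : IsRoot cs hp.isCartan (rep cs hp.isCartan (cs.wordProd ω) (sr i)) := ⟨_, i, rfl⟩
    obtain ⟨r, hr, e⟩ := (isRoot_iff hp cs _).1 hroot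
    rw [wordProd_cons, rep_mul_apply, ← e, rep_vec hp cs j hr]
    rw [← e] at ih
    rw [← top_le_iff, ← ih]
    rw [AddSubgroup.closure_le]
    rintro _ ⟨t, ht, rfl⟩
    apply AddSubgroup.subset_closure
    have ht' : nc hp K j * t * (nc hp K j)⁻¹ ∈ TT D K :=
      (Subgroup.mem_normalizer_iff.1 (R.nsys.norm j) t).1 ht
    exact ⟨_, ht', chi_n hp hr ht ht'⟩

/-- **The coordinates of `D.group K`.** -/
theorem coords [Finite K] (p : ℕ) [Fact p.Prime] [CharP K p] :
    Coords cs hp.isCartan (TT D K) (nc hp K) (XX D l K) (xc hp) (ch hp) where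
  coord x hx := by
    have hspan := span (K := K) hp cs p hx
    obtain ⟨r, hr, rfl⟩ := (isRoot_iff hp cs x).1 hx
    refine ⟨fun y => ?_, xc_inj hp hr, fun a b => ?_, fun t ht a => (act hp hr ht).2 a, hspan⟩
    · rw [Subgroup.mem_subgroupOf, XV_vec hp K hr, mem_rootSubgroup_iff hp.inList]
      constructor
      · rintro ⟨a, ha⟩
        exact ⟨a, Subtype.ext (by rw [coe_xc hp hr, ha])⟩
      · rintro ⟨a, rfl⟩
        exact ⟨a, coe_xc hp hr a⟩
    · apply Subtype.ext
      rw [Subgroup.coe_mul, coe_xc hp hr, coe_xc hp hr, coe_xc hp hr, xG_add]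
  nact i x hx := by
    obtain ⟨r, hr, rfl⟩ := (isRoot_iff hp cs x).1 hx
    rw [rep_vec hp cs i hr]
    exact nact hp hr

end

/-! ### the rank one groups -/

section SL2

variable {K : Type u} [Field K]

/-- upper unitriangular -/
def sx (t : K) : Matrix.SpecialLinearGroup (Fin 2) K := ⟨!![1, t; 0, 1], by simp [Matrix.det_fin_two]⟩

/-- lower unitriangular -/
def sy (t : K) : Matrix.SpecialLinearGroup (Fin 2) K := ⟨!![1, 0; t, 1], by simp [Matrix.det_fin_two]⟩

theorem key_zero (α b : K) (h : α ≠ 0) : (!![α, b; 0, α⁻¹] : Matrix (Fin 2) (Fin 2) K) =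
    !![1, α; 0, 1] * (!![1, 0; -α⁻¹, 1] * !![1, α; 0, 1]) *
    (!![1, -1; 0, 1] * (!![1, 0; 1, 1] * !![1, -1; 0, 1])) * !![1, b / α; 0, 1] := by
  have e0 : (-1 : K) + 1 = 0 := neg_add_cancel 1
  have e1 : -(α⁻¹ * α) + 1 = 0 := by rw [inv_mul_cancel₀ h]; exact e0
  ext i j
  fin_cases i <;> fin_cases j
  · simp [e0, e1]
  · simp
    field_simp
    ring
  · simp [e0, e1]
  · simp [e0, e1]

theorem key_ne (α δ γ : K) (h : γ ≠ 0) : (!![α, (α * δ - 1) / γ; γ, δ] : Matrix (Fin 2) (Fin 2) K) =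
    !![1, α / γ; 0, 1] * (!![1, -γ⁻¹; 0, 1] * (!![1, 0; γ, 1] * !![1, -γ⁻¹; 0, 1])) * !![1, δ / γ; 0, 1] := by
  ext i j
  fin_cases i <;> fin_cases j
  · simp
    field_simp
    ring
  · simp
    field_simp
    ring
  · simp
  · simp
    field_simp
    ring

theorem eq_of_zero {A : Matrix.SpecialLinearGroup (Fin 2) K} (hA : A.1 1 0 = 0) :
    A.1 0 0 ≠ 0 ∧ A = (sx (A.1 0 0) * (sy (-(A.1 0 0)⁻¹) * sx (A.1 0 0))) * (sx (-1) * (sy (-(-1 : K)⁻¹) * sx (-1))) *
      sx (A.1 0 1 / A.1 0 0) := by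
  have hd := A.2
  rw [Matrix.det_fin_two, hA, mul_zero, sub_zero] at hd
  have h0 : A.1 0 0 ≠ 0 := left_ne_zero_of_mul_eq_one hd
  have h1 : A.1 1 1 = (A.1 0 0)⁻¹ := eq_inv_of_mul_eq_one_right hd
  refine ⟨h0, ?_⟩
  apply Subtype.ext
  have e1 : (-(-1 : K)⁻¹) = 1 := by rw [inv_neg, inv_one, neg_neg]
  rw [e1]
  refine Eq.trans ?_ (key_zero (A.1 0 0) (A.1 0 1) h0)
  rw [← hA, ← h1]
  exact Matrix.eta_fin_two A.1

theorem eq_of_ne_zero {A : Matrix.SpecialLinearGroup (Fin 2) K} (hA : A.1 1 0 ≠ 0) :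
    A = sx (A.1 0 0 / A.1 1 0) * (sx (-(A.1 1 0)⁻¹) * (sy (-(-(A.1 1 0)⁻¹)⁻¹) * sx (-(A.1 1 0)⁻¹))) *
      sx (A.1 1 1 / A.1 1 0) := by
  have hd := A.2
  rw [Matrix.det_fin_two] at hd
  apply Subtype.ext
  have e1 : -(-(A.1 1 0)⁻¹)⁻¹ = A.1 1 0 := by rw [inv_neg, inv_inv, neg_neg]
  have hb : A.1 0 1 = (A.1 0 0 * A.1 1 1 - 1) / A.1 1 0 := by
    rw [eq_div_iff hA]
    linear_combination (-1 : K) * hd
  rw [e1]
  refine Eq.trans ?_ (key_ne (A.1 0 0) (A.1 1 1) (A.1 1 0) hA)
  rw [← hb]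
  exact Matrix.eta_fin_two A.1

end SL2

section

variable {D : ChevalleyDatum} {l : ℕ} {M : CoxeterMatrix (Fin l)} (hp : IsType D l M) {K : Type u} [Field K]
variable {W : Type*} [Group W] (cs : CoxeterSystem M W)

include hp in
theorem nG_eq (r : ℕ) (u : K) : nG hp.inList r u = hG hp.inList r u * nG hp.inList r 1 := by
  have h2 : nG hp.inList r (-1 : K) * nG hp.inList r 1 = 1 := by
    rw [nG_def, nG_def]
    have e1 : xG hp.inList r (-1 : K) * xG hp.inList r 1 = 1 := by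
      rw [xG_add, neg_add_cancel, xG_zero]
    have e2 : xG hp.inList (D.neg r) (-(-1 : K)⁻¹) * xG hp.inList (D.neg r) (-(1 : K)⁻¹) = 1 := by
      rw [xG_add, inv_neg, inv_one, _root_.neg_neg, add_neg_cancel, xG_zero]
    calc _ = xG hp.inList r (-1) * xG hp.inList (D.neg r) (-(-1 : K)⁻¹) *
          (xG hp.inList r (-1) * xG hp.inList r 1) *
          xG hp.inList (D.neg r) (-(1 : K)⁻¹) * xG hp.inList r 1 := by group
      _ = xG hp.inList r (-1) * (xG hp.inList (D.neg r) (-(-1 : K)⁻¹) *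
          xG hp.inList (D.neg r) (-(1 : K)⁻¹)) * xG hp.inList r 1 := by
        rw [e1]; group
      _ = 1 := by rw [e2, mul_one, e1]
  rw [hG_def, mul_assoc, h2, mul_one]

include cs in
/-- `T ∩ ⟨X_j, X_{-j}⟩` consists of the `h_j(a)`. -/
theorem coroot_mem [Finite K] (p : ℕ) [Fact p.Prime] [CharP K p] (j : Fin l) (t : ↥(D.group K)) :
    t ∈ TT D K ⊓ (XX D l K (sr j) ⊔ XX D l K (-sr j)) ↔ ∃ a, a ≠ 0 ∧ hc hp j a = t := by
  have hj := simple_lt hp.inList (lt_rank hp j)
  have := finite_W hp cs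
  have R := rgd_GL (K := K) hp cs p
  constructor
  · rintro ⟨ht, ht'⟩
    have h1 : (t : GL D.Idx K) ∈ D.rootSubgroup K (D.simple j) ⊔ D.rootSubgroup K (D.neg (D.simple j)) := by
      have h2 : XX D l K (sr j) ⊔ XX D l K (-sr j) ≤
          (D.rootSubgroup K (D.simple j) ⊔ D.rootSubgroup K (D.neg (D.simple j))).subgroupOf (D.group K) := by
        refine sup_le (fun y hy => ?_) (fun y hy => ?_)
        · rw [Subgroup.mem_subgroupOf, XV_sr hp] at hy
          exact Subgroup.mem_sup_left hy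
        · rw [Subgroup.mem_subgroupOf, XV_neg_sr hp] at hy
          exact Subgroup.mem_sup_right hy
      exact h2 ht'
    obtain ⟨φ, hφ, hxy⟩ := Cfsg.Agent.S1030.result (F := K) D hp.inList (D.simple j) hj
    have hsx : ∀ u : K, φ (sx u) = xG hp.inList (D.simple j) u := fun u =>
      Units.ext (by rw [(hxy (sx u) u).1 rfl, coe_xG])
    have hsy : ∀ u : K, φ (sy u) = xG hp.inList (D.neg (D.simple j)) u := fun u =>
      Units.ext (by rw [(hxy (sy u) u).2 rfl, coe_xG])
    rw [← hφ] at h1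
    obtain ⟨A, hA⟩ := h1
    by_cases h0 : A.1 1 0 = 0
    · obtain ⟨ha, e⟩ := eq_of_zero h0
      refine ⟨A.1 0 0, ha, Subtype.ext ?_⟩
      have e2 : (t : GL D.Idx K) = hG hp.inList (D.simple j) (A.1 0 0) *
          xG hp.inList (D.simple j) (A.1 0 1 / A.1 0 0) := by
        rw [← hA]
        conv_lhs => rw [e]
        simp only [map_mul, hsx, hsy]
        rw [hG_def, nG_def, nG_def]
      have h3 : xG hp.inList (D.simple j) (A.1 0 1 / A.1 0 0) ∈ D.diagonalSubgroup K := by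
        have h4 : xG hp.inList (D.simple j) (A.1 0 1 / A.1 0 0) =
            (hG hp.inList (D.simple j) (A.1 0 0))⁻¹ * (t : GL D.Idx K) := by rw [e2]; group
        rw [h4]
        exact mul_mem (inv_mem (hG_mem_diagonal hp.inList hj ha)) ht
      have h5 : xG hp.inList (D.simple j) (A.1 0 1 / A.1 0 0) = 1 := by
        have h6 := X_inf_T R (isRoot_sr cs hp.isCartan j)
        rw [Subgroup.eq_bot_iff_forall] at h6
        exact h6 _ ⟨by rw [XV_sr hp]; exact xG_mem_rootSubgroup _ _ _, h3⟩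
      show hG hp.inList (D.simple j) (A.1 0 0) = _
      rw [e2, h5, mul_one]
    · exfalso
      have e := eq_of_ne_zero h0
      have e2 : (t : GL D.Idx K) = xG hp.inList (D.simple j) (A.1 0 0 / A.1 1 0) *
          nG hp.inList (D.simple j) (-(A.1 1 0)⁻¹) * xG hp.inList (D.simple j) (A.1 1 1 / A.1 1 0) := by
        rw [← hA]
        conv_lhs => rw [e]
        simp only [map_mul, hsx, hsy]
        rw [nG_def]
      have hX : ∀ u : K, xG hp.inList (D.simple j) u ∈ RGD.B cs hp.isCartan (D.diagonalSubgroup K) (XV D l K) :=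
        fun u => RGD.X_le_B (isRoot_sr cs hp.isCartan j) (sr_nonneg j) (by
          rw [XV_sr hp]; exact xG_mem_rootSubgroup _ _ _)
      have h3 : nn hp K j ∈ RGD.B cs hp.isCartan (D.diagonalSubgroup K) (XV D l K) := by
        have h4 : nn hp K j = (hG hp.inList (D.simple j) (-(A.1 1 0)⁻¹))⁻¹ *
            ((xG hp.inList (D.simple j) (A.1 0 0 / A.1 1 0))⁻¹ * (t : GL D.Idx K) *
              (xG hp.inList (D.simple j) (A.1 1 1 / A.1 1 0))⁻¹) := by
          rw [e2, nG_eq hp]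
          show nG hp.inList (D.simple j) 1 = _
          group
        rw [h4]
        exact mul_mem (inv_mem (RGD.T_le_B (hG_mem_diagonal hp.inList hj (neg_ne_zero.2 (inv_ne_zero h0)))))
          (mul_mem (mul_mem (inv_mem (hX _)) (RGD.T_le_B ht)) (inv_mem (hX _)))
      exact simple_ne_one j (R.eq_one_of_mem_B (rp_simple cs R.nsys j) h3)
  · rintro ⟨a, ha, rfl⟩
    refine ⟨hc_mem hp j ha, ?_⟩
    have hx : ∀ u : K, (⟨xG hp.inList (D.simple j) u, xG_mem_group hp.inList _ u⟩ : ↥(D.group K)) ∈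
        XX D l K (sr j) ⊔ XX D l K (-sr j) := fun u => Subgroup.mem_sup_left (by
      rw [Subgroup.mem_subgroupOf, XV_sr hp]; exact xG_mem_rootSubgroup hp.inList _ u)
    have hy : ∀ u : K, (⟨xG hp.inList (D.neg (D.simple j)) u, xG_mem_group hp.inList _ u⟩ : ↥(D.group K)) ∈
        XX D l K (sr j) ⊔ XX D l K (-sr j) := fun u => Subgroup.mem_sup_right (by
      rw [Subgroup.mem_subgroupOf, XV_neg_sr hp]; exact xG_mem_rootSubgroup hp.inList _ u)
    have e : hc hp j a =
        (⟨xG hp.inList (D.simple j) a, xG_mem_group hp.inList _ a⟩ *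
          (⟨xG hp.inList (D.neg (D.simple j)) (-a⁻¹), xG_mem_group hp.inList _ _⟩ *
            ⟨xG hp.inList (D.simple j) a, xG_mem_group hp.inList _ a⟩)) *
        (⟨xG hp.inList (D.simple j) (-1), xG_mem_group hp.inList _ _⟩ *
          (⟨xG hp.inList (D.neg (D.simple j)) (-(-1 : K)⁻¹), xG_mem_group hp.inList _ _⟩ *
            ⟨xG hp.inList (D.simple j) (-1), xG_mem_group hp.inList _ _⟩)) := by
      apply Subtype.ext
      show hG hp.inList (D.simple j) a = _
      rw [hG_def, nG_def, nG_def]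
      rfl
    rw [e]
    exact mul_mem (mul_mem (hx _) (mul_mem (hy _) (hx _))) (mul_mem (hx _) (mul_mem (hy _) (hx _)))

include cs in
/-- **The coroot elements of `D.group K`.** -/
theorem coroots [Finite K] (p : ℕ) [Fact p.Prime] [CharP K p] :
    Coroots (cartanOf D l) (TT D K) (XX D l K) (ch (K := K) hp) (hc hp) where
  mem j t := coroot_mem hp cs p j t
  char i j a ha := by
    rw [← vec_simple hp i, ch_hc hp j ha (simple_lt hp.inList (lt_rank hp i)), cartanOf_def]

end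

end Cfsg.Agent.KFacts.RgdChevCoord
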