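import Mathlib
import Cfsg.Agent.KFacts.RgdFixU
import Cfsg.Agent.KFacts.RgdOdd

/-!
# Automorphisms trivial on unipotent radicals (automorphism forms of (K1), (K2))

* `exists_conj_trivial` : `H¹(T, Z) = 0` for coprime orders, in elementary form;
* `aut_core` : the kappa trick;
* `k1_aut` : an automorphism trivial on all `X_a`, `⟨a, r^∨⟩ ≥ 1`, is conjugation by an element of `X_r`;
* `k2_aut` : an automorphism trivial on all `X_a`, `⟨a, r^∨⟩ ≥ 0`, `⟨a, s^∨⟩ ≥ 0`, `⟨r, s⟩ = 1`, is conjugation by an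
  element of `X_r X_s`.
-/

set_option autoImplicit false
set_option linter.unusedSectionVars false

namespace Cfsg.Agent.KFacts.RgdAutCent

open CoxeterSystem Cfsg.Agent.ChevalleyStructure.CoxeterGeom Cfsg.Agent.Tits.Roots Cfsg.Agent.Tits.Core
  Cfsg.Agent.Tits.Exchange Cfsg.Agent.Nodes.Reps Cfsg.Agent.Nodes.BNOf Cfsg.Agent.Nodes.StabComb
  Cfsg.Agent.Nodes.Bruhat Cfsg.Agent.Nodes.OppDec Cfsg.Agent.Nodes.LeviDec Cfsg.Agent.Nodes.NormalForm
  Cfsg.Agent.Nodes.Coroot Cfsg.Agent.Nodes.PosPair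
  Cfsg.Agent.KFacts.RgdOpp Cfsg.Agent.KFacts.RgdAut Cfsg.Agent.KFacts.RgdDiag Cfsg.Agent.KFacts.RgdRigid
  Cfsg.Agent.KFacts.RgdFixU Cfsg.Agent.KFacts.RgdPar Cfsg.Agent.KFacts.RgdSL Cfsg.Agent.KFacts.RgdTI
  Cfsg.Agent.KFacts.RgdCent Cfsg.Agent.KFacts.RgdOdd
open scoped commutatorElement

/-- `H¹(T, Z) = 0`: an automorphism which is trivial on `T` modulo the abelian group `Z` of coprime order becomes
trivial on `T` after conjugation by an element of `Z`. -/
theorem exists_conj_trivial {Y : Type*} [Group Y] {T Z : Subgroup Y} [Finite T]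
    (hcop : (Nat.card ↥Z).Coprime (Nat.card ↥T)) (hZ : ∀ a ∈ Z, ∀ b ∈ Z, a * b = b * a)
    (hTZ : ∀ t ∈ T, ∀ z ∈ Z, t * z * t⁻¹ ∈ Z) {α : MulAut Y} (hα : ∀ t ∈ T, t⁻¹ * α t ∈ Z) :
    ∃ z ∈ Z, ∀ t ∈ T, z * α t * z⁻¹ = t := by
  have := Fintype.ofFinite ↥T
  let _ : CommGroup ↥Z := { (inferInstance : Group ↥Z) with mul_comm := fun a b => Subtype.ext (hZ a a.2 b b.2) }
  have hTZ' : ∀ t ∈ T, ∀ z ∈ Z, t⁻¹ * z * t ∈ Z := by
    intro t ht z hz
    have := hTZ t⁻¹ (inv_mem ht) z hz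
    rwa [inv_inv] at this
  obtain ⟨c, hc⟩ : ∃ c : ↥T → (↥Z →* ↥Z), ∀ t z, ((c t z : ↥Z) : Y) = (t : Y)⁻¹ * z * t :=
    ⟨fun t => { toFun := fun z => ⟨(t : Y)⁻¹ * z * t, hTZ' t t.2 z z.2⟩
                map_one' := Subtype.ext (by simp)
                map_mul' := fun a b => Subtype.ext (by simp [mul_assoc]) }, fun _ _ => rfl⟩
  obtain ⟨δ, hδ⟩ : ∃ δ : ↥T → ↥Z, ∀ t, ((δ t : ↥Z) : Y) = (t : Y)⁻¹ * α t :=
    ⟨fun t => ⟨(t : Y)⁻¹ * α t, hα t t.2⟩, fun _ => rfl⟩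
  have hmul : ∀ s t : ↥T, δ (s * t) = c t (δ s) * δ t := by
    intro s t
    apply Subtype.ext
    rw [Subgroup.coe_mul, hc, hδ, hδ, hδ, Subgroup.coe_mul, map_mul]
    group
  obtain ⟨P, hP⟩ : ∃ P : ↥Z, P = ∏ s : ↥T, δ s := ⟨_, rfl⟩
  have hPt : ∀ t : ↥T, P = c t P * δ t ^ Nat.card ↥T := by
    intro t
    have h1 : ∏ s : ↥T, δ (s * t) = P := by
      rw [hP]
      exact Fintype.prod_equiv (Equiv.mulRight t) _ _ (fun s => rfl)
    conv_lhs => rw [← h1]
    simp only [hmul, Finset.prod_mul_distrib, Finset.prod_const, Finset.card_univ]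
    rw [← map_prod, ← hP, Nat.card_eq_fintype_card]
  obtain ⟨Q, hQ⟩ : ∃ Q : ↥Z, Q ^ Nat.card ↥T = P := (powCoprime hcop).surjective P
  have hQt : ∀ t : ↥T, Q = c t Q * δ t := by
    intro t
    apply (powCoprime hcop).injective
    show Q ^ Nat.card ↥T = (c t Q * δ t) ^ Nat.card ↥T
    rw [mul_pow, ← map_pow, hQ]
    exact hPt t
  refine ⟨Q, Q.2, fun t ht => ?_⟩
  have h1 := congrArg (fun z : ↥Z => (z : Y)) (hQt ⟨t, ht⟩)
  simp only [Subgroup.coe_mul, hc, hδ] at h1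
  have h2 : t * (Q : Y) = Q * α t := by
    conv_lhs => rw [h1]
    group
  rw [← h2, mul_inv_cancel_right]


variable {I W Y : Type*} [Fintype I] [DecidableEq I] [Group W] [Group Y] {M : CoxeterMatrix I}
  {cs : CoxeterSystem M W} {A : I → I → ℤ} {h : IsCartan M A} {p : ℕ} {T : Subgroup Y} {n : I → Y}
  {X : (I → ℤ) → Subgroup Y}

/-- An automorphism trivial on `P` is trivial on the normaliser of `P` modulo the centraliser. -/
theorem inv_mul_comm {P : Subgroup Y} {α : MulAut Y} (hα : ∀ x ∈ P, α x = x) {g : Y}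
    (hg : g ∈ Subgroup.normalizer (P : Set Y)) {v : Y} (hv : v ∈ P) : g⁻¹ * α g * v = v * (g⁻¹ * α g) := by
  have h1 : g * v * g⁻¹ ∈ P := (Subgroup.mem_normalizer_iff.1 hg v).1 hv
  have h2 := hα _ h1
  rw [map_mul, map_mul, map_inv, hα v hv] at h2
  calc g⁻¹ * α g * v = g⁻¹ * (α g * v * (α g)⁻¹) * α g := by group
    _ = g⁻¹ * (g * v * g⁻¹) * α g := by rw [h2]
    _ = _ := by group

section

variable (R : RGD cs h p T n X)

include R

/-- `C_U(T) = 1` from `C_{X_x}(T) = 1`. -/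
theorem cent_U_T [Finite W] (hCT : ∀ x, IsRoot cs h x → ∀ z ∈ X x, (∀ t ∈ T, t * z = z * t) → z = 1) {z : Y}
    (hz : z ∈ RGD.Sup X (RGD.Pos cs h)) (hzT : ∀ t ∈ T, z * t = t * z) : z = 1 := by
  have h1 := centralizer_U R (S := (T : Set Y)) le_rfl
  have h2 : z ∈ RGD.Sup X (RGD.Pos cs h) ⊓ Subgroup.centralizer (T : Set Y) :=
    ⟨hz, Subgroup.mem_centralizer_iff.2 fun t ht => (hzT t ht).symm⟩
  rw [h1] at h2
  have h3 : RGD.Sup (fun x => X x ⊓ Subgroup.centralizer (T : Set Y)) (RGD.Pos cs h) ≤ ⊥ := by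
    refine RGD.Sup_le fun x hx v hv => ?_
    rw [Subgroup.mem_bot]
    exact hCT x hx.1 v hv.1 (fun t ht => Subgroup.mem_centralizer_iff.1 hv.2 t ht)
  exact Subgroup.mem_bot.1 (h3 h2)

/-- **The kappa trick.** -/
theorem aut_core [Finite W] [Finite Y] [Fact p.Prime] (hG1 : RGD.Sup X {x | IsRoot cs h x} = ⊤)
    (hab : ∀ i, ∀ a ∈ X (sr i), ∀ b ∈ X (sr i), a * b = b * a)
    (hCT : ∀ x, IsRoot cs h x → ∀ z ∈ X x, (∀ t ∈ T, t * z = z * t) → z = 1)
    {Psi : Set (I → ℤ)} (hPsi : ∀ x ∈ Psi, IsRoot cs h x) {Z : Subgroup Y} (hZp : IsPGroup p ↥Z)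
    (hZab : ∀ a ∈ Z, ∀ b ∈ Z, a * b = b * a) (hTZ : ∀ t ∈ T, ∀ z ∈ Z, t * z * t⁻¹ ∈ Z)
    (hcent : ∀ g, (∀ a ∈ Psi, ∀ v ∈ X a, g * v = v * g) → g ∈ Z)
    (hZc : ∀ z ∈ Z, ∀ a ∈ Psi, ∀ v ∈ X a, z * v = v * z)
    (hpos : ∀ b, IsRoot cs h b → 0 ≤ b → b ∈ Psi ∨
      (X b ≤ Subgroup.normalizer (RGD.Sup X Psi : Set Y) ∧
        ∃ t ∈ T, (∀ x ∈ X b, t * x = x * t) ∧ ∀ z ∈ Z, t * z = z * t → z = 1))
    {α : MulAut Y} (hα : ∀ a ∈ Psi, ∀ x ∈ X a, α x = x) : ∃ z ∈ Z, α = MulAut.conj z := by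
  -- `α` is trivial on `Sup X Psi`
  have hsup : ∀ γ : MulAut Y, (∀ a ∈ Psi, ∀ x ∈ X a, γ x = x) → ∀ x ∈ RGD.Sup X Psi, γ x = x := by
    intro γ hγ x hx
    have h1 : RGD.Sup X Psi ≤ γ.toMonoidHom.eqLocus (MonoidHom.id Y) := RGD.Sup_le fun a ha x hx => hγ a ha x hx
    exact h1 hx
  have hmem : ∀ γ : MulAut Y, (∀ a ∈ Psi, ∀ x ∈ X a, γ x = x) → ∀ g ∈ Subgroup.normalizer (RGD.Sup X Psi : Set Y),
      g⁻¹ * γ g ∈ Z := by
    intro γ hγ g hg
    exact hcent _ fun a ha v hv => inv_mul_comm (hsup γ hγ) hg (RGD.le_Sup ha hv)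
  have hTn : T ≤ Subgroup.normalizer (RGD.Sup X Psi : Set Y) := R.T_le_normalizer hPsi
  have hcop : (Nat.card ↥Z).Coprime (Nat.card ↥T) := by
    obtain ⟨k, hk⟩ := (IsPGroup.iff_card (p := p)).1 hZp
    rw [hk]
    exact Nat.Coprime.pow_left k R.tcop.symm
  obtain ⟨z, hz, hzT⟩ := exists_conj_trivial hcop hZab hTZ (fun t ht => hmem α hα t (hTn ht))
  -- `β = conj z * α`
  have hβ : ∀ a ∈ Psi, ∀ x ∈ X a, (MulAut.conj z * α) x = x := by
    intro a ha x hx
    rw [MulAut.mul_apply, hα a ha x hx, MulAut.conj_apply, hZc z hz a ha x hx, mul_inv_cancel_right]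
  have hβT : ∀ t ∈ T, (MulAut.conj z * α) t = t := by
    intro t ht
    rw [MulAut.mul_apply, MulAut.conj_apply]
    exact hzT t ht
  have hβb : ∀ b, IsRoot cs h b → 0 ≤ b → ∀ x ∈ X b, (MulAut.conj z * α) x = x := by
    intro b hb hb0 x hx
    rcases hpos b hb hb0 with h1 | ⟨h1, t, ht, htx, htz⟩
    · exact hβ b h1 x hx
    · have h2 := hmem (MulAut.conj z * α) hβ x (h1 hx)
      have h3 : t * (MulAut.conj z * α) x = (MulAut.conj z * α) x * t := by
        have h4 := congrArg (MulAut.conj z * α) (htx x hx)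
        rwa [map_mul, map_mul, hβT t ht] at h4
      have h4 := htz _ h2 (by
        have h5 : Commute t x := htx x hx
        have h6 : Commute t ((MulAut.conj z * α) x) := h3
        exact (h5.inv_right.mul_right h6))
      exact (inv_mul_eq_one.1 h4).symm
  have hβU : ∀ x ∈ RGD.Sup X (RGD.Pos cs h), (MulAut.conj z * α) x = x := by
    intro x hx
    have h1 : RGD.Sup X (RGD.Pos cs h) ≤ (MulAut.conj z * α).toMonoidHom.eqLocus (MonoidHom.id Y) :=
      RGD.Sup_le fun a ha x hx => hβb a ha.1 ha.2 x hx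
    exact h1 hx
  have h1 := eq_one_of_fix_B R hG1 hab (fun z hz hzT => cent_U_T R hCT hz hzT) hβU hβT
  refine ⟨z⁻¹, inv_mem hz, ?_⟩
  rw [map_inv]
  exact eq_inv_of_mul_eq_one_right h1

/-- conjugation of the fixed root groups by an element of `N` -/
theorem fix_conj {w : W} {k : Y} (hk : Rp cs R.nsys w k) {Psi Psi' : Set (I → ℤ)} (hPsi : ∀ x ∈ Psi, IsRoot cs h x)
    (hP' : ∀ a ∈ Psi', rep cs h w⁻¹ a ∈ Psi) {α : MulAut Y} (hα : ∀ a ∈ Psi, ∀ x ∈ X a, α x = x) :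
    ∀ a ∈ Psi', ∀ x ∈ X a, (MulAut.conj k * α * (MulAut.conj k)⁻¹) x = x := by
  intro a ha x hx
  have h1 : k⁻¹ * x * k ∈ X (rep cs h w⁻¹ a) := by
    have h2 := R.conj_rp hk (hPsi _ (hP' a ha))
    rw [rep_apply_inv] at h2
    rw [← mem_cj, h2]
    exact hx
  rw [MulAut.mul_apply, MulAut.mul_apply, MulAut.conj_inv_apply, hα _ (hP' a ha) _ h1, MulAut.conj_apply]
  group

omit R in
/-- transport of the conclusion -/
theorem conj_transport {k : Y} {α : MulAut Y} {Z Z' : Subgroup Y} (hZ : cj k Z = Z')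
    (hα : ∃ z ∈ Z', MulAut.conj k * α * (MulAut.conj k)⁻¹ = MulAut.conj z) : ∃ z ∈ Z, α = MulAut.conj z := by
  obtain ⟨z, hz, h1⟩ := hα
  refine ⟨k⁻¹ * z * k, ?_, ?_⟩
  · rw [← hZ] at hz
    exact mem_cj.1 hz
  · rw [map_mul, map_mul, map_inv, ← h1]
    group

end

theorem le_normalizer_of_comm {G : Type*} [Group G] {A B : Subgroup G} (hAB : ∀ a ∈ A, ∀ b ∈ B, a * b = b * a) :
    A ≤ Subgroup.normalizer (B : Set G) := by
  intro a ha
  rw [Subgroup.mem_normalizer_iff]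
  intro b
  constructor
  · intro hb
    rw [hAB a ha b hb, mul_inv_cancel_right]
    exact hb
  · intro hb
    have h1 := hAB a⁻¹ (inv_mem ha) _ hb
    have h2 : b = a * b * a⁻¹ := by
      calc b = a⁻¹ * (a * b * a⁻¹) * a := by group
        _ = a * b * a⁻¹ * a⁻¹ * a := by rw [h1]
        _ = _ := by group
    rw [h2]
    exact hb

theorem mem_sup_comm {G : Type*} [Group G] {A B : Subgroup G} (hAB : ∀ a ∈ A, ∀ b ∈ B, a * b = b * a) {z : G} :
    z ∈ A ⊔ B ↔ ∃ a ∈ A, ∃ b ∈ B, z = a * b := by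
  constructor
  · intro hz
    have hle := le_normalizer_of_comm hAB
    have h1 : z ∈ ((A ⊔ B : Subgroup G) : Set G) := hz
    rw [Subgroup.coe_mul_of_left_le_normalizer_right _ _ hle, Set.mem_mul] at h1
    obtain ⟨a, ha, b, hb, h2⟩ := h1
    exact ⟨a, ha, b, hb, h2.symm⟩
  · rintro ⟨a, ha, b, hb, rfl⟩
    exact mul_mem (Subgroup.mem_sup_left ha) (Subgroup.mem_sup_right hb)

/-- the torus separates `b` from `S` -/
def Kap (T : Subgroup Y) (X : (I → ℤ) → Subgroup Y) (b : I → ℤ) (S : Set (I → ℤ)) : Prop :=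
  ∃ t ∈ T, (∀ x ∈ X b, t * x = x * t) ∧ ∀ a ∈ S, ∀ z ∈ X a, t * z = z * t → z = 1

theorem conj_tor (R : RGD cs h p T n X) {x : I → ℤ} (hx : IsRoot cs h x) {t z : Y} (ht : t ∈ T) (hz : z ∈ X x) :
    t * z * t⁻¹ ∈ X x := by
  rw [← R.tor x hx t ht]
  exact conj_mem_cj.2 hz

theorem ab_of_LR [Finite W] {R : RGD cs h p T n X} {x : I → ℤ} (L : LR R x) : ∀ a ∈ X x, ∀ b ∈ X x, a * b = b * a := by
  intro a ha b hb
  exact L.comm x L.root (by rw [cpr_self cs h L.root]; norm_num) a ha b hb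

section

variable (R : RGD cs h p T n X) [Finite W] [Finite Y] [Fact p.Prime] (hG1 : RGD.Sup X {x | IsRoot cs h x} = ⊤)
  (hs : SL cs h) (hL : ∀ a, IsRoot cs h a → LR R a) (hN : NoCent cs h T X)
  (hCT : ∀ x, IsRoot cs h x → ∀ z ∈ X x, (∀ t ∈ T, t * z = z * t) → z = 1)

include R hG1 hs hL hN hCT

/-- **(K1), automorphism form.** -/
theorem k1_aut (hO : ∀ r, IsRoot cs h r → Orth cs h r)
    (hK : ∀ r b, IsRoot cs h r → IsRoot cs h b → cpr cs h b r = 0 → Kap T X b {r})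
    {r : I → ℤ} (hr : IsRoot cs h r) {α : MulAut Y} (hα : ∀ a ∈ Rad cs h r, ∀ x ∈ X a, α x = x) :
    ∃ z ∈ X r, α = MulAut.conj z := by
  -- the dominant case
  have key : ∀ {r : I → ℤ}, IsRoot cs h r → (∀ i, 0 ≤ cpr cs h (sr i) r) → ∀ {α : MulAut Y},
      (∀ a ∈ Rad cs h r, ∀ x ∈ X a, α x = x) → ∃ z ∈ X r, α = MulAut.conj z := by
    intro r hr hd α hα
    refine aut_core R hG1 (fun i => ab_of_LR (hL _ (isRoot_sr cs h i))) hCT (Psi := Rad cs h r) (fun x hx => hx.1)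
      (R.pgrp' hr) (ab_of_LR (hL r hr)) (fun t ht z hz => conj_tor R hr ht hz) ?_ ?_ ?_ hα
    · intro g hg
      exact f3_rad hs hr (hO r hr) R hL hN (by rw [GG_eq_top hG1]; exact Subgroup.mem_top _) hg
    · intro z hz a ha v hv
      exact ((hL r hr).comm a ha.1 (by linarith [ha.2]) v hv z hz).symm
    · intro b hb hb0
      have h1 : 0 ≤ cpr cs h b r := dom_nonneg (f := ell cs h hr) hd hb0
      rcases h1.lt_or_eq with h2 | h2
      · exact Or.inl ⟨hb, h2⟩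
      · refine Or.inr ⟨?_, ?_⟩
        · refine R.le_normalizer hb fun y hy => ⟨hy.1, Or.inr ⟨?_, ?_⟩⟩
          · rintro rfl
            rw [cpr_neg_left _ hr] at h2
            have := hy.2
            omega
          · intro z hz
            have hby : b ≠ y := by
              rintro rfl
              have := hy.2
              omega
            have hby' : b ≠ -y := by
              rintro rfl
              rw [cpr_neg_left _ hr] at h2
              have := hy.2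
              omega
            obtain ⟨h3, h4⟩ := hs.btwn hb hy.1 hby hby' hz
            refine ⟨hz.1, ?_⟩
            rw [h4, cpr_add cs h _ _ hr, ← h2, zero_add]
            exact hy.2
        · obtain ⟨t, ht, h3, h4⟩ := hK r b hr hb h2.symm
          exact ⟨t, ht, h3, h4 r rfl⟩
  obtain ⟨w, hw⟩ := (hL r hr).exists_dominant
  obtain ⟨k, hk⟩ := exists_rp cs R.nsys w
  refine conj_transport (R.conj_rp hk hr) (key (hr.act w) hw ?_)
  refine fix_conj R hk (Psi := Rad cs h r) (fun x hx => hx.1) ?_ hα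
  intro a ha
  refine ⟨ha.1.act _, ?_⟩
  rw [cpr_rep_left _ _ hr, inv_inv]
  exact ha.2

/-- **(K2), automorphism form.** -/
theorem k2_aut (hK : ∀ r s, IsRoot cs h r → IsRoot cs h s → cpr cs h r s = 1 → Kap T X (r - s) {r, s})
    {r s : I → ℤ} (hr : IsRoot cs h r) (hsr : IsRoot cs h s) (hrs : cpr cs h r s = 1) {α : MulAut Y}
    (hα : ∀ a ∈ Psi cs h r s, ∀ x ∈ X a, α x = x) : ∃ z ∈ X r ⊔ X s, α = MulAut.conj z := by
  -- the dominant case
  have key : ∀ {r s : I → ℤ} (hr : IsRoot cs h r) (hsr : IsRoot cs h s), cpr cs h r s = 1 →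
      (∀ i, 0 ≤ (ell cs h hr + ell cs h hsr) (sr i)) → ∀ {α : MulAut Y},
      (∀ a ∈ Psi cs h r s, ∀ x ∈ X a, α x = x) → ∃ z ∈ X r ⊔ X s, α = MulAut.conj z := by
    intro r s hr hsr hrs hd α hα
    have hsr' : cpr cs h s r = 1 := by rw [hs s r hsr hr, hrs]
    have hrsne : r ≠ s := by
      rintro rfl
      rw [cpr_self cs h hr] at hrs
      norm_num at hrs
    have hcomm : ∀ a ∈ X r, ∀ b ∈ X s, a * b = b * a := fun a ha b hb =>
      (hL s hsr).comm r hr (by rw [hrs]; norm_num) a ha b hb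
    have hrab := ab_of_LR (hL r hr)
    have hsab := ab_of_LR (hL s hsr)
    have hinf := X_inf_X R hr hsr hrsne
    -- the exceptional roots
    have hnorm : ∀ {r s : I → ℤ}, IsRoot cs h r → IsRoot cs h s → cpr cs h r s = 1 → cpr cs h s r = 1 →
        X (r - s) ≤ Subgroup.normalizer (RGD.Sup X (Psi cs h r s) : Set Y) := by
      intro r s hr hsr hrs hsr'
      have hd : IsRoot cs h (r - s) := isRoot_sub hr hsr hrs
      have hdr : cpr cs h (r - s) r = 1 := by rw [cpr_sub_left hs hr hsr hr, cpr_self cs h hr, hsr']; norm_num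
      have hds : cpr cs h (r - s) s = -1 := by rw [cpr_sub_left hs hr hsr hsr, cpr_self cs h hsr, hrs]; norm_num
      refine R.le_normalizer hd fun y hy => ⟨hy.1, Or.inr ⟨?_, ?_⟩⟩
      · intro he
        have h1 := hy.2.1
        rw [he, cpr_neg_left _ hr] at hdr
        omega
      · intro z hz
        by_cases hby : r - s = y
        · exfalso
          have h1 := hy.2.2
          rw [← hby] at h1
          omega
        by_cases hby' : r - s = -y
        · exfalso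
          have h1 := hy.2.1
          rw [hby', cpr_neg_left _ hr] at hdr
          omega
        obtain ⟨h3, h4⟩ := hs.btwn hd hy.1 hby hby' hz
        have h5 : cpr cs h y r - cpr cs h y s = -1 := by
          rw [← h3, cpr_sub_left hs hr hsr hy.1, hs r y hr hy.1, hs s y hsr hy.1]
        have h6 := hy.2.1
        have h7 := hy.2.2
        refine ⟨hz.1, ?_, ?_⟩
        · rw [h4, cpr_add cs h _ _ hr, hdr]
          omega
        · rw [h4, cpr_add cs h _ _ hsr, hds]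
          omega
    refine aut_core R hG1 (fun i => ab_of_LR (hL _ (isRoot_sr cs h i))) hCT (Psi := Psi cs h r s) (fun x hx => hx.1)
      ?_ ?_ ?_ ?_ ?_ ?_ hα
    · exact IsPGroup.to_sup_of_normal_right' (R.pgrp' hr) (R.pgrp' hsr) (le_normalizer_of_comm hcomm)
    · intro a ha b hb
      obtain ⟨a1, ha1, a2, ha2, rfl⟩ := (mem_sup_comm hcomm).1 ha
      obtain ⟨b1, hb1, b2, hb2, rfl⟩ := (mem_sup_comm hcomm).1 hb
      calc a1 * a2 * (b1 * b2) = a1 * (a2 * b1) * b2 := by group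
        _ = a1 * (b1 * a2) * b2 := by rw [hcomm b1 hb1 a2 ha2]
        _ = (a1 * b1) * (a2 * b2) := by group
        _ = (b1 * a1) * (b2 * a2) := by rw [hrab a1 ha1 b1 hb1, hsab a2 ha2 b2 hb2]
        _ = b1 * (a1 * b2) * a2 := by group
        _ = b1 * (b2 * a1) * a2 := by rw [hcomm a1 ha1 b2 hb2]
        _ = _ := by group
    · intro t ht z hz
      obtain ⟨z1, hz1, z2, hz2, rfl⟩ := (mem_sup_comm hcomm).1 hz
      refine (mem_sup_comm hcomm).2 ⟨_, conj_tor R hr ht hz1, _, conj_tor R hsr ht hz2, by group⟩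
    · intro g hg
      exact f3_one R hs hL hN hr hsr (by rw [GG_eq_top hG1]; exact Subgroup.mem_top _) hrs hg
    · intro z hz a ha v hv
      obtain ⟨z1, hz1, z2, hz2, rfl⟩ := (mem_sup_comm hcomm).1 hz
      have h1 := (hL r hr).comm a ha.1 ha.2.1 v hv z1 hz1
      have h2 := (hL s hsr).comm a ha.1 ha.2.2 v hv z2 hz2
      rw [mul_assoc, ← h2, ← mul_assoc, ← h1, mul_assoc]
    · intro b hb hb0
      have h1 : 0 ≤ cpr cs h b r + cpr cs h b s :=
        dom_nonneg (f := ell cs h hr + ell cs h hsr) hd hb0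
      by_cases h2 : b ∈ Psi cs h r s
      · exact Or.inl h2
      right
      have hd : IsRoot cs h (r - s) := isRoot_sub hr hsr hrs
      have hb' : b = r - s ∨ b = s - r := by
        have h3 : cpr cs h b (r - s) = cpr cs h b r - cpr cs h b s := by
          rw [hs b _ hb hd, cpr_sub_left hs hr hsr hb, hs r b hr hb, hs s b hsr hb]
        have h4 : ¬ (0 ≤ cpr cs h b r ∧ 0 ≤ cpr cs h b s) := fun h5 => h2 ⟨hb, h5⟩
        rcases hs.cases hb hd with h5 | h5 | h5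
        · exact Or.inl h5.1
        · right
          rw [h5.1, neg_sub]
        · exfalso
          rcases hs.cases hb hr with h6 | h6 | h6
          · rw [h6.1, cpr_self cs h hr, hrs] at h4
            omega
          · rw [h6.1, cpr_neg_left _ hr, cpr_neg_left _ hsr, cpr_self cs h hr, hrs] at h1
            omega
          · rcases hs.cases hb hsr with h7 | h7 | h7
            · rw [h7.1, cpr_self cs h hsr, hsr'] at h4
              omega
            · rw [h7.1, cpr_neg_left _ hr, cpr_neg_left _ hsr, cpr_self cs h hsr, hsr'] at h1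
              omega
            · omega
      have hsep : ∀ {t : Y}, t ∈ T → (∀ a ∈ ({r, s} : Set (I → ℤ)), ∀ z ∈ X a, t * z = z * t → z = 1) →
          ∀ z ∈ X r ⊔ X s, t * z = z * t → z = 1 := by
        intro t ht h3 z hz h4
        obtain ⟨z1, hz1, z2, hz2, rfl⟩ := (mem_sup_comm hcomm).1 hz
        have h5 : z1⁻¹ * (t * z1 * t⁻¹) ∈ X r := mul_mem (inv_mem hz1) (conj_tor R hr ht hz1)
        have h6 : z1⁻¹ * (t * z1 * t⁻¹) = z2 * (t * z2 * t⁻¹)⁻¹ := by
          have h7 : (t * z1 * t⁻¹) * (t * z2 * t⁻¹) = z1 * z2 := by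
            calc (t * z1 * t⁻¹) * (t * z2 * t⁻¹) = t * (z1 * z2) * t⁻¹ := by group
              _ = z1 * z2 := by rw [h4, mul_inv_cancel_right]
          rw [eq_mul_inv_iff_mul_eq, mul_assoc, h7]
          group
        have h7 : z1⁻¹ * (t * z1 * t⁻¹) ∈ X r ⊓ X s :=
          ⟨h5, h6 ▸ (mul_mem hz2 (inv_mem (conj_tor R hsr ht hz2)) : z2 * (t * z2 * t⁻¹)⁻¹ ∈ X s)⟩
        rw [hinf, Subgroup.mem_bot] at h7
        have h8 : z1 = 1 := h3 r (Or.inl rfl) z1 hz1 (by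
          have h9 : t * z1 * t⁻¹ = z1 := (inv_mul_eq_one.1 h7).symm
          calc t * z1 = (t * z1 * t⁻¹) * t := by group
            _ = z1 * t := by rw [h9])
        have h9 : z2 = 1 := h3 s (Or.inr rfl) z2 hz2 (by rwa [h8, one_mul] at h4)
        rw [h8, h9, one_mul]
      rcases hb' with rfl | rfl
      · obtain ⟨t, ht, h3, h4⟩ := hK r s hr hsr hrs
        exact ⟨hnorm hr hsr hrs hsr', t, ht, h3, hsep ht h4⟩
      · obtain ⟨t, ht, h3, h4⟩ := hK s r hsr hr hsr'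
        refine ⟨?_, t, ht, h3, hsep ht ?_⟩
        · rw [psi_comm]
          exact hnorm hsr hr hsr' hrs
        · intro a ha
          exact h4 a (by rwa [Set.pair_comm])
  obtain ⟨w, hw⟩ := exists_dom (cs := cs) (h := h) (ell cs h hr + ell cs h hsr)
  obtain ⟨k, hk⟩ := exists_rp cs R.nsys w⁻¹
  have hrs' : cpr cs h (rep cs h w⁻¹ r) (rep cs h w⁻¹ s) = 1 := by
    rw [cpr_rep cs h _ _ hsr, hrs]
  have hZ : cj k (X r ⊔ X s) = X (rep cs h w⁻¹ r) ⊔ X (rep cs h w⁻¹ s) := by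
    rw [cj_sup, R.conj_rp hk hr, R.conj_rp hk hsr]
  refine conj_transport hZ (key (hr.act w⁻¹) (hsr.act w⁻¹) hrs' ?_ ?_)
  · intro i
    have h1 : 0 ≤ cpr cs h (rep cs h w (sr i)) r + cpr cs h (rep cs h w (sr i)) s := hw i
    show 0 ≤ cpr cs h (sr i) (rep cs h w⁻¹ r) + cpr cs h (sr i) (rep cs h w⁻¹ s)
    rwa [← cpr_rep_left w _ hr, ← cpr_rep_left w _ hsr]
  · refine fix_conj R hk (Psi := Psi cs h r s) (fun x hx => hx.1) ?_ hα
    intro a ha
    rw [inv_inv]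
    refine ⟨ha.1.act _, ?_, ?_⟩
    · rw [cpr_rep_left _ _ hr]
      exact ha.2.1
    · rw [cpr_rep_left _ _ hsr]
      exact ha.2.2

end

end Cfsg.Agent.KFacts.RgdAutCent
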