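import Mathlib
import Cfsg.Agent.KFacts.RgdAutCent
import Cfsg.Agent.KFacts.RgdField
import Cfsg.Agent.KFacts.SLRow.Def
import Cfsg.Agent.OddHalf.SL.Index

/-!
# Torus elements separating root groups; automorphism forms of (K1), (K2) for simply laced groups, `|X_r| > 2`

* `FullChar` : `χ r (hh j a) = a ^ ⟨r, α_j^∨⟩` for all roots `r`;
* `exists_coroot` : the torus elements `h_c(a)` of an arbitrary root `c`;
* `kap1`, `kap2`, `cent_T`;
* `sl_of`, `orth_of`, `lr_of`, `three_of` : the simply laced connected case, rank `≥ 3`;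
* `k1_aut`, `k2_aut`.
-/

set_option autoImplicit false
set_option linter.unusedSectionVars false

namespace Cfsg.Agent.KFacts.RgdKap

open CoxeterSystem Cfsg.Agent.ChevalleyStructure.CoxeterGeom Cfsg.Agent.Tits.Roots Cfsg.Agent.Tits.Core
  Cfsg.Agent.Tits.Exchange Cfsg.Agent.Nodes.Reps Cfsg.Agent.Nodes.BNOf Cfsg.Agent.Nodes.StabComb
  Cfsg.Agent.Nodes.Bruhat Cfsg.Agent.Nodes.OppDec Cfsg.Agent.Nodes.LeviDec Cfsg.Agent.Nodes.NormalForm
  Cfsg.Agent.Nodes.Coroot Cfsg.Agent.Nodes.PosPair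
  Cfsg.Agent.KFacts.RgdOpp Cfsg.Agent.KFacts.RgdAut Cfsg.Agent.KFacts.RgdDiag Cfsg.Agent.KFacts.RgdRigid
  Cfsg.Agent.KFacts.RgdFixU Cfsg.Agent.KFacts.RgdPar Cfsg.Agent.KFacts.RgdSL Cfsg.Agent.KFacts.RgdTI
  Cfsg.Agent.KFacts.RgdCent Cfsg.Agent.KFacts.RgdOdd Cfsg.Agent.KFacts.RgdAutCent Cfsg.Agent.KFacts.RgdField
  Cfsg.Agent.KFacts.SLRow.Def Cfsg.Agent.OddHalf.SL.Index
open scoped commutatorElement

variable {I W Y : Type*} [Fintype I] [DecidableEq I] [Group W] [Group Y] {M : CoxeterMatrix I}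
  {cs : CoxeterSystem M W} {A : I → I → ℤ} {h : IsCartan M A} {p : ℕ} {T : Subgroup Y} {n : I → Y}
  {X : (I → ℤ) → Subgroup Y} {F : Type*} [Field F] {x : (I → ℤ) → F → Y} {χ : (I → ℤ) → Y → F} {hh : I → F → Y}

/-- The characters of all root groups on the torus elements of the simple coroots. -/
def FullChar (cs : CoxeterSystem M W) (h : IsCartan M A) (χ : (I → ℤ) → Y → F) (hh : I → F → Y) : Prop :=
  ∀ j r, IsRoot cs h r → ∀ a, a ≠ 0 → χ r (hh j a) = a ^ cpr cs h r (sr j)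

/-- The torus elements of an arbitrary root. -/
theorem exists_coroot [Finite W] (R : RGD cs h p T n X) (C : Coords cs h T n X x χ) (H : Coroots A T X χ hh)
    (Fu : FullChar cs h χ hh) {c : I → ℤ} (hc : IsRoot cs h c) {a : F} (ha : a ≠ 0) :
    ∃ t ∈ T ⊓ (X c ⊔ X (-c)), ∀ v, IsRoot cs h v → χ v t = a ^ cpr cs h v c := by
  obtain ⟨w, j, rfl⟩ := hc
  obtain ⟨k, hk⟩ := exists_rp cs R.nsys w
  have h1 : hh j a ∈ T ⊓ (X (sr j) ⊔ X (-sr j)) := (H.mem j _).2 ⟨a, ha, rfl⟩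
  refine ⟨k * hh j a * k⁻¹, ⟨(Subgroup.mem_normalizer_iff.1 (hk.mem_normalizer) _).1 h1.1, ?_⟩, ?_⟩
  · have h2 : cj k (X (sr j) ⊔ X (-sr j)) = X (rep cs h w (sr j)) ⊔ X (-rep cs h w (sr j)) := by
      rw [cj_sup, R.conj_rp hk (isRoot_sr cs h j), R.conj_rp hk (isRoot_sr cs h j).neg, map_neg]
    rw [← h2]
    exact conj_mem_cj.2 h1.2
  · intro v hv
    have h3 := C.chi_rp R.nsys hk (r := rep cs h w⁻¹ v) (hv.act _) h1.1
    rw [rep_apply_inv] at h3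
    rw [h3, Fu j _ (hv.act _) a ha, ← cpr_rep cs h w _ (isRoot_sr cs h j), rep_apply_inv]

theorem act_eq_one [Finite W] (C : Coords cs h T n X x χ) {b : I → ℤ} (hb : IsRoot cs h b) {t : Y} (ht : t ∈ T)
    (h1 : χ b t = 1) : ∀ z ∈ X b, t * z = z * t := by
  intro z hz
  obtain ⟨a, rfl⟩ := ((C.coord b hb).mem z).1 hz
  have h2 := (C.coord b hb).act t ht a
  rw [h1, one_mul] at h2
  calc t * x b a = (t * x b a * t⁻¹) * t := by group
    _ = x b a * t := by rw [h2]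

theorem act_ne_one [Finite W] (C : Coords cs h T n X x χ) {b : I → ℤ} (hb : IsRoot cs h b) {t : Y} (ht : t ∈ T)
    (h1 : χ b t ≠ 1) : ∀ z ∈ X b, t * z = z * t → z = 1 := by
  intro z hz hzt
  obtain ⟨a, rfl⟩ := ((C.coord b hb).mem z).1 hz
  have h2 := (C.coord b hb).act t ht a
  rw [hzt, mul_inv_cancel_right] at h2
  have h3 := (C.coord b hb).inj h2
  have h4 : a = 0 := by
    by_contra ha
    exact h1 (mul_right_cancel₀ ha (by rw [one_mul]; exact h3.symm))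
  rw [h4, (C.coord b hb).zero]

section

variable [Finite W] (R : RGD cs h p T n X) (C : Coords cs h T n X x χ) (H : Coroots A T X χ hh)
    (Fu : FullChar cs h χ hh)

include R C H Fu

theorem kap1 (hF : ∃ a : F, a ≠ 0 ∧ a ^ 2 ≠ 1) {r b : I → ℤ} (hr : IsRoot cs h r) (hb : IsRoot cs h b)
    (hbr : cpr cs h b r = 0) : Kap T X b {r} := by
  obtain ⟨a, ha, ha2⟩ := hF
  obtain ⟨t, ht, hch⟩ := exists_coroot R C H Fu hr ha
  refine ⟨t, ht.1, act_eq_one C hb ht.1 (by rw [hch b hb, hbr, zpow_zero]), ?_⟩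
  intro c hc
  rw [Set.mem_singleton_iff] at hc
  subst hc
  refine act_ne_one C hr ht.1 ?_
  rw [hch c hr, cpr_self cs h hr]
  exact_mod_cast ha2

/-- `C_{X_r}(T) = 1` -/
theorem cent_T (hF : ∃ a : F, a ≠ 0 ∧ a ^ 2 ≠ 1) {r : I → ℤ} (hr : IsRoot cs h r) :
    ∀ z ∈ X r, (∀ t ∈ T, t * z = z * t) → z = 1 := by
  obtain ⟨a, ha, ha2⟩ := hF
  obtain ⟨t, ht, hch⟩ := exists_coroot R C H Fu hr ha
  intro z hz hzT
  refine act_ne_one C hr ht.1 ?_ z hz (hzT t ht.1)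
  rw [hch r hr, cpr_self cs h hr]
  exact_mod_cast ha2

/-- `c` with `⟨c, r⟩ = ⟨c, s⟩ = 1` -/
theorem kap2 (hs : SL cs h) (hF : ∃ a : F, a ≠ 0 ∧ a ≠ 1) {r s c : I → ℤ} (hr : IsRoot cs h r)
    (hsr : IsRoot cs h s) (hrs : cpr cs h r s = 1) (hc : IsRoot cs h c) (hcr : cpr cs h c r = 1)
    (hcs : cpr cs h c s = 1) : Kap T X (r - s) {r, s} := by
  obtain ⟨a, ha, ha1⟩ := hF
  obtain ⟨t, ht, hch⟩ := exists_coroot R C H Fu hc ha
  have hrc : cpr cs h r c = 1 := by rw [hs r c hr hc, hcr]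
  have hsc : cpr cs h s c = 1 := by rw [hs s c hsr hc, hcs]
  refine ⟨t, ht.1, act_eq_one C (isRoot_sub hr hsr hrs) ht.1 (by
    rw [hch _ (isRoot_sub hr hsr hrs), cpr_sub_left hs hr hsr hc, hrc, hsc, sub_self, zpow_zero]), ?_⟩
  rintro b (hb | hb)
  · subst hb
    refine act_ne_one C hr ht.1 ?_
    rw [hch b hr, hrc, zpow_one]
    exact ha1
  · rw [Set.mem_singleton_iff] at hb
    subst hb
    refine act_ne_one C hsr ht.1 ?_
    rw [hch b hsr, hsc, zpow_one]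
    exact ha1

end

/-! ### The simply laced connected case of rank at least `3` -/

section Laced

variable [Finite W] (h4 : ∀ i j, M i j ≠ 4) (h6 : ∀ i j, M i j ≠ 6)

include h4 h6

theorem sl_of : SL cs h := fun _ _ hx hy => Cfsg.Agent.Nodes.SimplyLaced.cpr_symm cs h h4 h6 hx hy

variable (hirr : Conn M)

include hirr

theorem orth_of {r : I → ℤ} (hr : IsRoot cs h r) : Orth cs h r := by
  intro b hb hbr
  obtain ⟨a, ha, h1, h2⟩ := orth h4 h6 hirr r hr b hb (by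
    rw [bf_symm h h4 h6, bf_eq_cpr h4 h6 b hr, hbr])
  rw [bf_eq_cpr h4 h6 a hr] at h1
  rw [bf_eq_cpr h4 h6 a hb] at h2
  exact ⟨a, ha, h1, h2⟩

theorem three_of (h3 : 3 ≤ Fintype.card I) {r s : I → ℤ} (hr : IsRoot cs h r) (hsr : IsRoot cs h s)
    (hrs : cpr cs h r s = 1) : ∃ c, IsRoot cs h c ∧ cpr cs h c r = 1 ∧ cpr cs h c s = 1 := by
  obtain ⟨c, hc, h1, h2⟩ := three h4 h6 hirr h3 r hr s hsr (by rw [bf_eq_cpr h4 h6 r hsr, hrs])
  rw [bf_eq_cpr h4 h6 c hr] at h1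
  rw [bf_eq_cpr h4 h6 c hsr] at h2
  exact ⟨c, hc, h1, h2⟩

theorem nb_of (h3 : 3 ≤ Fintype.card I) {r : I → ℤ} (hr : IsRoot cs h r) :
    ∃ b, IsRoot cs h b ∧ cpr cs h r b = 1 := by
  obtain ⟨c, hc, h1, h2⟩ := exists_outside h4 h6 hirr h3 r hr
  have h5 : cpr cs h c r ≠ 0 := by
    rw [← bf_eq_cpr h4 h6 c hr]
    exact h1.elim id id
  have hs : SL cs h := sl_of h4 h6
  have h7 : c ≠ r := by
    rintro rfl
    exact h2 (Submodule.subset_span (Or.inl rfl))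
  have h8 : c ≠ -r := by
    rintro rfl
    exact h2 (neg_mem (Submodule.subset_span (Or.inl rfl)))
  have h9 := hs.abs_le hc hr h7 h8
  have h10 : cpr cs h c r = 1 ∨ cpr cs h c r = -1 := by omega
  rcases h10 with h10 | h10
  · exact ⟨c, hc, by rw [hs r c hr hc, h10]⟩
  · exact ⟨-c, hc.neg, by rw [hs r _ hr hc.neg, cpr_neg_left _ hr, h10]; norm_num⟩

theorem lr_of (h3 : 3 ≤ Fintype.card I) (R : RGD cs h p T n X) : ∀ a, IsRoot cs h a → LR R a :=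
  lr_all R (sl_of h4 h6) fun _ ha => nb_of h4 h6 hirr h3 ha

section

variable (h3 : 3 ≤ Fintype.card I) (R : RGD cs h p T n X) [Finite Y] [Fact p.Prime]
  (hG1 : RGD.Sup X {x | IsRoot cs h x} = ⊤) (hN : NoCent cs h T X) (C : Coords cs h T n X x χ)
  (H : Coroots A T X χ hh) (Fu : FullChar cs h χ hh) (hF : ∃ a : F, a ≠ 0 ∧ a ^ 2 ≠ 1)

include h3 R hG1 hN C H Fu hF

/-- **(K1), automorphism form**, simply laced, rank at least `3`. -/
theorem k1_aut {r : I → ℤ} (hr : IsRoot cs h r) {α : MulAut Y} (hα : ∀ a ∈ Rad cs h r, ∀ x ∈ X a, α x = x) :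
    ∃ z ∈ X r, α = MulAut.conj z :=
  RgdAutCent.k1_aut R hG1 (sl_of h4 h6) (lr_of h4 h6 hirr h3 R) hN (fun _ hx => cent_T R C H Fu hF hx)
    (fun _ hr => orth_of h4 h6 hirr hr) (fun _ _ hr hb hbr => kap1 R C H Fu hF hr hb hbr) hr hα

/-- **(K2), automorphism form**, simply laced, rank at least `3`. -/
theorem k2_aut {r s : I → ℤ} (hr : IsRoot cs h r) (hsr : IsRoot cs h s) (hrs : cpr cs h r s = 1) {α : MulAut Y}
    (hα : ∀ a ∈ Psi cs h r s, ∀ x ∈ X a, α x = x) : ∃ z ∈ X r ⊔ X s, α = MulAut.conj z := by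
  refine RgdAutCent.k2_aut R hG1 (sl_of h4 h6) (lr_of h4 h6 hirr h3 R) hN (fun _ hx => cent_T R C H Fu hF hx)
    ?_ hr hsr hrs hα
  intro r s hr hsr hrs
  obtain ⟨c, hc, hcr, hcs⟩ := three_of h4 h6 hirr h3 hr hsr hrs
  refine kap2 R C H Fu (sl_of h4 h6) ?_ hr hsr hrs hc hcr hcs
  obtain ⟨a, ha, ha2⟩ := hF
  exact ⟨a, ha, fun h1 => ha2 (by rw [h1, one_pow])⟩

end

end Laced

end Cfsg.Agent.KFacts.RgdKap
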