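import Mathlib
import Cfsg.Agent.KFacts.RgdKap
import Cfsg.Agent.KFacts.RgdTau
import Cfsg.Agent.KFacts.ChevTwoSys
import Cfsg.Agent.KFacts.RgdChevCoord

/-!
# Coordinates from `ChevTwo.Sys`

`Sys R e` (characteristic two, no triple bonds, root elements without signs) with `Y = ⟨X r⟩`, `NoCent`:

* `mem_T_of_norm` : an element normalising all root groups lies in `T`; `hel_mem` : `h_c(a) ∈ T`;
* `ext_T` : elements of `T` with the same characters are equal; `hel_mul`;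
* `coords : Coords ..`, `coroots : Coroots ..`, `fullChar : FullChar ..` with `x r = e r`, `hh j c = hel e (sr j) c`.
-/

set_option autoImplicit false
set_option linter.unusedSectionVars false

namespace Cfsg.Agent.KFacts.RgdSys

open CoxeterSystem Cfsg.Agent.ChevalleyStructure.CoxeterGeom Cfsg.Agent.Tits.Roots Cfsg.Agent.Tits.Core
  Cfsg.Agent.Tits.Exchange Cfsg.Agent.Nodes.Reps Cfsg.Agent.Nodes.BNOf Cfsg.Agent.Nodes.StabComb
  Cfsg.Agent.Nodes.Bruhat Cfsg.Agent.Nodes.OppDec Cfsg.Agent.Nodes.LeviDec Cfsg.Agent.Nodes.NormalForm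
  Cfsg.Agent.Nodes.Coroot Cfsg.Agent.Nodes.PosPair
  Cfsg.Agent.KFacts.RgdOpp Cfsg.Agent.KFacts.RgdAut Cfsg.Agent.KFacts.RgdDiag Cfsg.Agent.KFacts.RgdRigid
  Cfsg.Agent.KFacts.RgdCent Cfsg.Agent.KFacts.RgdKap Cfsg.Agent.KFacts.RgdField Cfsg.Agent.KFacts.ChevTwo
open scoped commutatorElement

variable {I W Y K : Type*} [Fintype I] [DecidableEq I] [Group W] [Group Y] [Field K] {M : CoxeterMatrix I}
variable {cs : CoxeterSystem M W} {A : I → I → ℤ} {h : IsCartan M A} {e : (I → ℤ) → K → Y}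
  {p : ℕ} {T : Subgroup Y} {n : I → Y} {X : (I → ℤ) → Subgroup Y}

open Classical in
/-- The scalar by which `t` acts on the root group of `r`. -/
noncomputable def chS (e : (I → ℤ) → K → Y) (r : I → ℤ) (t : Y) : K :=
  if h : ∃ c : K, ∀ a, t * e r a * t⁻¹ = e r (c * a) then h.choose else 1

section

variable {R : RGD cs h p T n X} (S : Sys R e)

include S

theorem chS_spec {r : I → ℤ} (hr : IsRoot cs h r) {t : Y} (ht : t ∈ T) :
    ∀ a, t * e r a * t⁻¹ = e r (chS e r t * a) := by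
  have h1 : ∃ c : K, ∀ a, t * e r a * t⁻¹ = e r (c * a) := by
    obtain ⟨χ, hχ⟩ := S.chi t ht
    exact ⟨_, hχ r hr⟩
  unfold chS
  rw [dif_pos h1]
  exact h1.choose_spec

theorem chS_eq {r : I → ℤ} (hr : IsRoot cs h r) {t : Y} (ht : t ∈ T) {c : K}
    (hc : ∀ a, t * e r a * t⁻¹ = e r (c * a)) : chS e r t = c := by
  have h1 := chS_spec S hr ht 1
  rw [hc, mul_one, mul_one] at h1
  exact (S.data.injective hr h1).symm

/-- Elements of `T` with the same characters are equal. -/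
theorem ext_T (hN : NoCent cs h T X) {s t : Y} (hs : s ∈ T) (ht : t ∈ T)
    (he : ∀ r, IsRoot cs h r → ∀ a, s * e r a * s⁻¹ = t * e r a * t⁻¹) : s = t := by
  have h1 : t⁻¹ * s = 1 := by
    refine hN _ (mul_mem (inv_mem ht) hs) fun b hb v hv => ?_
    obtain ⟨a, rfl⟩ := (S.mem_X b hb v).1 hv
    have h2 : t⁻¹ * s * e b a = t⁻¹ * (s * e b a * s⁻¹) * s := by group
    rw [h2, he b hb]
    group
  exact (inv_mul_eq_one.1 h1).symm

/-- An element normalising all root groups lies in `T`. -/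
theorem mem_T_of_norm [Finite W] (hG1 : RGD.Sup X {x | IsRoot cs h x} = ⊤) {g : Y}
    (hg : ∀ r, IsRoot cs h r → ∃ c : K, c ≠ 0 ∧ ∀ a, g * e r a * g⁻¹ = e r (c * a)) : g ∈ T := by
  have hfix : ∀ r, IsRoot cs h r → cj g (X r) = X r := by
    intro r hr
    obtain ⟨c, hc, hgc⟩ := hg r hr
    ext y
    rw [mem_cj]
    constructor
    · intro hy
      obtain ⟨a, ha⟩ := (S.mem_X r hr _).1 hy
      refine (S.mem_X r hr _).2 ⟨c * a, ?_⟩
      rw [← hgc, ha]; group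
    · intro hy
      obtain ⟨a, rfl⟩ := (S.mem_X r hr _).1 hy
      refine (S.mem_X r hr _).2 ⟨c⁻¹ * a, ?_⟩
      have h1 := hgc (c⁻¹ * a)
      rw [mul_inv_cancel_left₀ hc] at h1
      rw [← h1]; group
  have hsup : ∀ Ω : Set (I → ℤ), (∀ x ∈ Ω, IsRoot cs h x) → g ∈ Subgroup.normalizer (RGD.Sup X Ω : Set Y) := by
    intro Ω hΩ
    rw [mem_normalizer_iff_cj, RGD.cj_Sup]
    exact iSup_congr fun z => hfix z.1 (hΩ z.1 z.2)
  have hG := GG_eq_top (T := T) hG1
  rw [← B_inf_BN R]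
  refine ⟨?_, ?_⟩
  · rw [← normalizer_U' R hG]
    exact hsup _ fun x hx => hx.1
  · rw [← normalizer_UN R hG]
    exact hsup _ fun x hx => hx.1

theorem hel_mem [Finite W] (hG1 : RGD.Sup X {x | IsRoot cs h x} = ⊤) {y : I → ℤ} (hy : IsRoot cs h y) {c : K}
    (hc : c ≠ 0) : hel e y c ∈ T :=
  mem_T_of_norm S hG1 fun _ hr => ⟨_, zpow_ne_zero _ hc, S.data.hel_conj hr hy hc⟩

theorem chS_hel [Finite W] (hG1 : RGD.Sup X {x | IsRoot cs h x} = ⊤) {y r : I → ℤ} (hy : IsRoot cs h y)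
    (hr : IsRoot cs h r) {c : K} (hc : c ≠ 0) : chS e r (hel e y c) = c ^ cpr cs h r y :=
  chS_eq S hr (hel_mem S hG1 hy hc) (S.data.hel_conj hr hy hc)

theorem hel_mul [Finite W] (hG1 : RGD.Sup X {x | IsRoot cs h x} = ⊤) (hN : NoCent cs h T X) {y : I → ℤ}
    (hy : IsRoot cs h y) {c d : K} (hc : c ≠ 0) (hd : d ≠ 0) : hel e y c * hel e y d = hel e y (c * d) := by
  refine ext_T S hN (mul_mem (hel_mem S hG1 hy hc) (hel_mem S hG1 hy hd)) (hel_mem S hG1 hy (mul_ne_zero hc hd))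
    fun r hr a => ?_
  rw [S.data.hel_conj hr hy (mul_ne_zero hc hd), mul_zpow, mul_assoc (c ^ cpr cs h r y),
    ← S.data.hel_conj hr hy hc, ← S.data.hel_conj hr hy hd]
  group

theorem nel_mul_nel {y : I → ℤ} (hy : IsRoot cs h y) : nel e y * nel e y = 1 := by
  rw [nel_def]
  calc e y 1 * e (-y) 1 * e y 1 * (e y 1 * e (-y) 1 * e y 1) =
      e y 1 * (e (-y) 1 * (e y 1 * e y 1) * e (-y) 1) * e y 1 := by group
    _ = 1 := by rw [S.data.sq hy, mul_one, S.data.sq hy.neg, mul_one, S.data.sq hy]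

theorem nel_hel [Finite W] (hG1 : RGD.Sup X {x | IsRoot cs h x} = ⊤) (hN : NoCent cs h T X) {y : I → ℤ}
    (hy : IsRoot cs h y) {c : K} (hc : c ≠ 0) : nel e y * hel e y c = hel e y c⁻¹ * nel e y := by
  have hinv : (nel e y)⁻¹ = nel e y := inv_eq_of_mul_eq_one_right (nel_mul_nel S hy)
  have hact : ∀ r, IsRoot cs h r → ∀ a, nel e y * hel e y c * (nel e y)⁻¹ * e r a * (nel e y * hel e y c * (nel e y)⁻¹)⁻¹ =
      e r ((c ^ cpr cs h r y)⁻¹ * a) := by
    intro r hr a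
    have hr' := isRoot_refl cs h hr hy
    have h1 := S.data.nel_conj hr hy a
    have h2 := S.data.hel_conj hr' hy hc a
    have h3 := S.data.nel_conj hr' hy (c ^ cpr cs h (r - cpr cs h r y • y) y * a)
    have h4 : cpr cs h (r - cpr cs h r y • y) y = -cpr cs h r y := by
      have h5 : ell cs h hy (r - cpr cs h r y • y) = ell cs h hy r - cpr cs h r y * ell cs h hy y := by
        rw [map_sub, map_zsmul, smul_eq_mul]
      rw [ell_apply, ell_apply, ell_apply, cpr_self cs h hy] at h5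
      rw [h5]; ring
    rw [h4] at h2 h3
    rw [neg_smul, sub_neg_eq_add, sub_add_cancel, zpow_neg] at h3
    rw [zpow_neg] at h2
    calc _ = nel e y * (hel e y c * ((nel e y)⁻¹ * e r a * nel e y) * (hel e y c)⁻¹) * (nel e y)⁻¹ := by group
      _ = nel e y * (hel e y c * (nel e y * e r a * (nel e y)⁻¹) * (hel e y c)⁻¹) * (nel e y)⁻¹ := by
        rw [hinv]
      _ = _ := by rw [h1, h2, h3]
  have h1 : nel e y * hel e y c * (nel e y)⁻¹ = hel e y c⁻¹ := by
    refine ext_T S hN (mem_T_of_norm S hG1 fun r hr => ⟨_, inv_ne_zero (zpow_ne_zero _ hc), hact r hr⟩)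
      (hel_mem S hG1 hy (inv_ne_zero hc)) fun r hr a => ?_
    rw [hact r hr, S.data.hel_conj hr hy (inv_ne_zero hc), inv_zpow]
  rw [← h1]; group

/-- the rank one relation -/
theorem e_neg {y : I → ℤ} (hy : IsRoot cs h y) (a : K) :
    e (-y) a = e y a⁻¹ * hel e y a⁻¹ * nel e y * e y a⁻¹ := by
  rw [hel_def, mul_assoc, mul_assoc (e y a⁻¹), mul_assoc (nc e y a⁻¹), ← mul_assoc (nel e y) (nel e y),
    nel_mul_nel S hy, one_mul, nc_def, inv_inv]
  calc e (-y) a = (e y a⁻¹ * e y a⁻¹) * e (-y) a * (e y a⁻¹ * e y a⁻¹) := by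
        rw [S.data.sq hy, one_mul, mul_one]
    _ = _ := by group

/-- the normal form in rank one -/
theorem rank_one [Finite W] (hG1 : RGD.Sup X {x | IsRoot cs h x} = ⊤) (hN : NoCent cs h T X) {y : I → ℤ}
    (hy : IsRoot cs h y) {g : Y} (hg : g ∈ X y ⊔ X (-y)) :
    (∃ a c, c ≠ 0 ∧ g = e y a * hel e y c) ∨ (∃ a c b, c ≠ 0 ∧ g = e y a * hel e y c * nel e y * e y b) := by
  have hinv : (nel e y)⁻¹ = nel e y := inv_eq_of_mul_eq_one_right (nel_mul_nel S hy)
  have hhe : ∀ c a, c ≠ 0 → hel e y c * e y a = e y (c ^ (2 : ℤ) * a) * hel e y c := by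
    intro c a hc
    have := S.data.hel_conj hy hy hc a
    rw [cpr_self cs h hy] at this
    rw [← this]; group
  have heh : ∀ c a, c ≠ 0 → e y a * hel e y c = hel e y c * e y (c⁻¹ ^ (2 : ℤ) * a) := by
    intro c a hc
    rw [hhe c _ hc, ← mul_assoc, ← mul_zpow, mul_inv_cancel₀ hc, one_zpow, one_mul]
  have hnn : ∀ a, nel e y * e y a * nel e y = e (-y) a := by
    intro a
    have := S.data.nel_conj hy hy a
    rw [cpr_self cs h hy, hinv] at this
    rw [this]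
    congr 1
    rw [two_smul]; abel
  -- the set
  let L : Set Y := {g | (∃ a c, c ≠ 0 ∧ g = e y a * hel e y c) ∨
    (∃ a c b, c ≠ 0 ∧ g = e y a * hel e y c * nel e y * e y b)}
  have hL1 : ∀ t g, g ∈ L → e y t * g ∈ L := by
    rintro t g (⟨a, c, hc, rfl⟩ | ⟨a, c, b, hc, rfl⟩)
    · exact Or.inl ⟨t + a, c, hc, by rw [S.data.add y hy]; group⟩
    · exact Or.inr ⟨t + a, c, b, hc, by rw [S.data.add y hy]; group⟩
  have hLh : ∀ d g, d ≠ 0 → g ∈ L → hel e y d * g ∈ L := by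
    rintro d g hd (⟨a, c, hc, rfl⟩ | ⟨a, c, b, hc, rfl⟩)
    · exact Or.inl ⟨d ^ (2 : ℤ) * a, d * c, mul_ne_zero hd hc, by
        rw [← mul_assoc, hhe d a hd, mul_assoc, hel_mul S hG1 hN hy hd hc]⟩
    · exact Or.inr ⟨d ^ (2 : ℤ) * a, d * c, b, mul_ne_zero hd hc, by
        rw [← hel_mul S hG1 hN hy hd hc, ← mul_assoc, ← mul_assoc, ← mul_assoc, hhe d a hd]
        simp only [mul_assoc]⟩
  have hLn : ∀ g, g ∈ L → nel e y * g ∈ L := by
    rintro g (⟨a, c, hc, rfl⟩ | ⟨a, c, b, hc, rfl⟩)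
    · refine Or.inr ⟨0, c⁻¹, c⁻¹ ^ (2 : ℤ) * a, inv_ne_zero hc, ?_⟩
      rw [S.data.zero hy, one_mul, heh c a hc, ← mul_assoc, nel_hel S hG1 hN hy hc]
    · have e1 : nel e y * (e y a * hel e y c * nel e y * e y b) =
          hel e y c⁻¹ * (nel e y * e y (c⁻¹ ^ (2 : ℤ) * a) * nel e y * e y b) := by
        rw [heh c a hc]
        calc nel e y * (hel e y c * e y (c⁻¹ ^ (2 : ℤ) * a) * nel e y * e y b) =
            (nel e y * hel e y c) * (e y (c⁻¹ ^ (2 : ℤ) * a) * nel e y * e y b) := by group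
          _ = _ := by rw [nel_hel S hG1 hN hy hc]; group
      rw [e1, hnn]
      by_cases ha : a = 0
      · rw [ha, mul_zero, S.data.zero hy.neg, one_mul]
        refine Or.inl ⟨c⁻¹ ^ (2 : ℤ) * b, c⁻¹, inv_ne_zero hc, ?_⟩
        rw [hhe _ _ (inv_ne_zero hc)]
      · have ha' : c⁻¹ ^ (2 : ℤ) * a ≠ 0 := mul_ne_zero (zpow_ne_zero _ (inv_ne_zero hc)) ha
        refine hLh _ _ (inv_ne_zero hc) (Or.inr ⟨(c⁻¹ ^ (2 : ℤ) * a)⁻¹, (c⁻¹ ^ (2 : ℤ) * a)⁻¹,
          (c⁻¹ ^ (2 : ℤ) * a)⁻¹ + b, inv_ne_zero ha', ?_⟩)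
        rw [e_neg S hy, S.data.add y hy]
        simp only [mul_assoc]
  have hLneg : ∀ t g, g ∈ L → e (-y) t * g ∈ L := by
    intro t g hg
    rw [← hnn t]
    have := hLn _ (hL1 t _ (hLn _ hg))
    rwa [← mul_assoc, ← mul_assoc] at this
  have h1 : (1 : Y) ∈ L := Or.inl ⟨0, 1, one_ne_zero, by
    rw [S.data.zero hy, one_mul, hel_def]
    exact (nel_mul_nel S hy).symm⟩
  rw [Subgroup.sup_eq_closure] at hg
  have h2 : ∀ z ∈ ((X y : Set Y) ∪ (X (-y) : Set Y)), ∀ g ∈ L, z * g ∈ L := by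
    rintro z (hz | hz) g hg
    · obtain ⟨a, rfl⟩ := (S.mem_X y hy z).1 hz
      exact hL1 a g hg
    · obtain ⟨a, rfl⟩ := (S.mem_X (-y) hy.neg z).1 hz
      exact hLneg a g hg
  have h3 : ∀ z ∈ ((X y : Set Y) ∪ (X (-y) : Set Y)), ∀ g ∈ L, z⁻¹ * g ∈ L := by
    rintro z hz g hg
    refine h2 z⁻¹ ?_ g hg
    rcases hz with hz | hz
    · exact Or.inl (inv_mem (S := Subgroup Y) hz)
    · exact Or.inr (inv_mem (S := Subgroup Y) hz)
  have h4 : g ∈ L := by
    induction hg using Subgroup.closure_induction_left with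
    | one => exact h1
    | mul_left z hz g _ ih => exact h2 z hz g ih
    | inv_mul_cancel z hz g _ ih => exact h3 z hz g ih
  exact h4

/-- `T ∩ ⟨X_j, X_{-j}⟩` -/
theorem mem_T_rank_one [Finite W] (hG1 : RGD.Sup X {x | IsRoot cs h x} = ⊤) (hN : NoCent cs h T X) (j : I) (t : Y) :
    t ∈ T ⊓ (X (sr j) ⊔ X (-sr j)) ↔ ∃ a, a ≠ 0 ∧ hel e (sr j) a = t := by
  have hj := isRoot_sr cs h j
  constructor
  · rintro ⟨ht, ht'⟩
    rcases rank_one S hG1 hN hj ht' with ⟨a, c, hc, he⟩ | ⟨a, c, b, hc, he⟩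
    · refine ⟨c, hc, ?_⟩
      have h1 : e (sr j) a ∈ X (sr j) ⊓ T := by
        refine ⟨S.mem hj a, ?_⟩
        have h2 : e (sr j) a = t * (hel e (sr j) c)⁻¹ := by rw [he]; group
        exact h2 ▸ (mul_mem ht (inv_mem (hel_mem S hG1 hj hc)) : t * (hel e (sr j) c)⁻¹ ∈ T)
      rw [X_inf_T R hj, Subgroup.mem_bot] at h1
      rw [he, h1, one_mul]
    · exfalso
      have hX : ∀ a, e (sr j) a ∈ RGD.B cs h T X := fun a => RGD.X_le_B hj (sr_nonneg j) (S.mem hj a)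
      have h3 : n j ∈ RGD.B cs h T X := by
        have h4 : n j = (hel e (sr j) c)⁻¹ * ((e (sr j) a)⁻¹ * t * (e (sr j) b)⁻¹) := by
          rw [he, S.n_eq j]; group
        rw [h4]
        exact mul_mem (inv_mem (RGD.T_le_B (hel_mem S hG1 hj hc)))
          (mul_mem (mul_mem (inv_mem (hX _)) (RGD.T_le_B ht)) (inv_mem (hX _)))
      exact simple_ne_one j (R.eq_one_of_mem_B (rp_simple cs R.nsys j) h3)
  · rintro ⟨a, ha, rfl⟩
    refine ⟨hel_mem S hG1 hj ha, ?_⟩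
    have hx : ∀ u, e (sr j) u ∈ X (sr j) ⊔ X (-sr j) := fun u => Subgroup.mem_sup_left (S.mem hj u)
    have hy : ∀ u, e (-sr j) u ∈ X (sr j) ⊔ X (-sr j) := fun u => Subgroup.mem_sup_right (S.mem hj.neg u)
    rw [hel_def]
    unfold nel
    rw [nc_def, nc_def]
    exact mul_mem (mul_mem (mul_mem (hx _) (hy _)) (hx _)) (mul_mem (mul_mem (hx _) (hy _)) (hx _))

/-- **Coordinates.** -/
theorem coords [Finite W] [Finite K] (hG1 : RGD.Sup X {x | IsRoot cs h x} = ⊤) : Coords cs h T n X e (chS e) where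
  coord r hr := {
    mem := fun y => S.mem_X r hr y
    inj := S.data.injective hr
    add := S.data.add r hr
    act := fun t ht a => chS_spec S hr ht a
    span := by
      apply RgdChevCoord.closure_sq
      intro c hc
      apply AddSubgroup.subset_closure
      refine ⟨hel e r c, hel_mem S hG1 hr hc, ?_⟩
      rw [chS_hel S hG1 hr hr hc, cpr_self cs h hr]
      exact zpow_natCast c 2 }
  nact i r hr := ⟨1, one_ne_zero, fun a => by rw [one_mul, S.n_eq i]; exact S.data.refl i r hr a⟩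

theorem fullChar [Finite W] (hG1 : RGD.Sup X {x | IsRoot cs h x} = ⊤) :
    FullChar cs h (chS e) (fun j c => hel e (sr j) c) := fun j _ hr _ ha =>
  chS_hel S hG1 (isRoot_sr cs h j) hr ha

/-- **The coroot elements.** -/
theorem coroots [Finite W] (hG1 : RGD.Sup X {x | IsRoot cs h x} = ⊤) (hN : NoCent cs h T X) :
    Coroots A T X (chS e) (fun j c => hel e (sr j) c) where
  mem j t := mem_T_rank_one S hG1 hN j t
  char i j a ha := by
    rw [chS_hel S hG1 (isRoot_sr cs h j) (isRoot_sr cs h i) ha, cpr_sr]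
    unfold pairing
    congr 1
    rw [Finset.sum_eq_single i]
    · rw [sr_self, mul_one]
    · intro k _ hk; rw [sr_ne hk, mul_zero]
    · intro hi; exact absurd (Finset.mem_univ i) hi

end

end Cfsg.Agent.KFacts.RgdSys
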