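import Mathlib
import Cfsg.Agent.KFacts.RgdSys

/-!
# Frame automorphisms of `p`-power order are standard in suitable coordinates

`Sys R e` (characteristic two, root elements without signs).

* `nc_conj`, `rp_nc` : the elements `n_y(c)`;
* `rgd_of_rp` : other representatives of the simple reflections; `Scale.sys` : the root elements `e (d r * a)` for a
  character `d` of the root lattice;
* `exists_equivariant` : `u i ∈ X_i#` with `β (u i) = u (σ i)` for a `p`-element `β` of the frame;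
* `exists_pure` : `β (e r (d r * a)) = e (σ r) (d (σ r) * τ a)` for all roots `r`;
* `exists_sys` : root elements `e'` with `β (e' r a) = e' (σ r) (τ a)` for all roots `r`.
-/

set_option autoImplicit false
set_option linter.unusedSectionVars false

namespace Cfsg.Agent.KFacts.RgdPure

open CoxeterSystem Cfsg.Agent.ChevalleyStructure.CoxeterGeom Cfsg.Agent.Tits.Roots Cfsg.Agent.Tits.Core
  Cfsg.Agent.Tits.Exchange Cfsg.Agent.Nodes.Reps Cfsg.Agent.Nodes.BNOf Cfsg.Agent.Nodes.StabComb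
  Cfsg.Agent.Nodes.Bruhat Cfsg.Agent.Nodes.OppDec Cfsg.Agent.Nodes.LeviDec Cfsg.Agent.Nodes.NormalForm
  Cfsg.Agent.Nodes.Coroot Cfsg.Agent.Nodes.PosPair
  Cfsg.Agent.KFacts.RgdOpp Cfsg.Agent.KFacts.RgdAut Cfsg.Agent.KFacts.RgdDiag Cfsg.Agent.KFacts.RgdRigid
  Cfsg.Agent.KFacts.RgdCent Cfsg.Agent.KFacts.RgdKap Cfsg.Agent.KFacts.RgdField Cfsg.Agent.KFacts.RgdTau
  Cfsg.Agent.KFacts.RgdSys Cfsg.Agent.KFacts.ChevTwo
open scoped commutatorElement

variable {I W Y K : Type*} [Fintype I] [DecidableEq I] [Group W] [Group Y] [Field K] {M : CoxeterMatrix I}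
variable {cs : CoxeterSystem M W} {A : I → I → ℤ} {h : IsCartan M A} {e : (I → ℤ) → K → Y}
  {p : ℕ} {T : Subgroup Y} {n : I → Y} {X : (I → ℤ) → Subgroup Y}

/-! ### Other representatives -/

/-- The root group datum with other representatives of the simple reflections. -/
theorem rgd_of_rp (R : RGD cs h p T n X) {n' : I → Y} (hn : ∀ i, Rp cs R.nsys (cs.simple i) (n' i)) :
    RGD cs h p T n' X where
  nsys := {
    norm := fun i => (hn i).mem_normalizer
    rel := fun i j => by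
      have h1 := rp_pow ((hn i).mul (hn j)) (M i j)
      rw [cs.simple_mul_simple_pow] at h1
      exact h1.mem_of_one }
  conj i x hx := R.conj_rp (hn i) hx
  tor := R.tor
  comm := R.comm
  rk1 i u hu hu1 := by
    obtain ⟨a, ha, t, ht, b, hb, he⟩ := R.rk1 i u hu hu1
    have h1 : n i * (n' i)⁻¹ ∈ T := by
      have h2 := (hn i).inv.unique (rp_simple cs R.nsys i).inv
      rw [inv_inv] at h2
      have h3 := inv_mem h2
      rwa [mul_inv_rev, inv_inv] at h3
    exact ⟨a, ha, t * (n i * (n' i)⁻¹), mul_mem ht h1, b, hb, by rw [he]; group⟩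
  pgrp := R.pgrp
  notp := R.notp
  tcop := R.tcop

section

variable {R : RGD cs h p T n X} (S : Sys R e)

include S

/-- `n_y(c)` acts on the root elements. -/
theorem nc_conj [Finite W] {x y : I → ℤ} (hx : IsRoot cs h x) (hy : IsRoot cs h y) {c : K} (hc : c ≠ 0) (t : K) :
    nc e y c * e x t * (nc e y c)⁻¹ = e (x - cpr cs h x y • y) (c ^ (-cpr cs h x y) * t) := by
  have h1 := S.data.nel_conj hx hy t
  have hr := isRoot_refl cs h hx hy
  have h2 := S.data.hel_conj hr hy hc t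
  have h4 : cpr cs h (x - cpr cs h x y • y) y = -cpr cs h x y := by
    have h5 : ell cs h hy (x - cpr cs h x y • y) = ell cs h hy x - cpr cs h x y * ell cs h hy y := by
      rw [map_sub, map_zsmul, smul_eq_mul]
    rw [ell_apply, ell_apply, ell_apply, cpr_self cs h hy] at h5
    rw [h5]; ring
  rw [h4] at h2
  have h3 : nc e y c = hel e y c * nel e y := by
    rw [hel_def, mul_assoc, nel_mul_nel S hy, mul_one]
  rw [h3, ← h2, ← h1]
  group

theorem rp_nc [Finite W] (hG1 : RGD.Sup X {x | IsRoot cs h x} = ⊤) (i : I) {c : K} (hc : c ≠ 0) :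
    Rp cs R.nsys (cs.simple i) (nc e (sr i) c) := by
  have h3 : nc e (sr i) c = hel e (sr i) c * nel e (sr i) := by
    rw [hel_def, mul_assoc, nel_mul_nel S (isRoot_sr cs h i), mul_one]
  have h4 := (rp_of_mem (cs := cs) (hN := R.nsys) (hel_mem S hG1 (isRoot_sr cs h i) hc)).mul
    (rp_simple cs R.nsys i)
  rw [one_mul, S.n_eq i, ← h3] at h4
  exact h4

end

/-! ### Scaling -/

/-- the scaled root elements -/
def sc (e : (I → ℤ) → K → Y) (d : (I → ℤ) →+ Additive Kˣ) (r : I → ℤ) (a : K) : Y := e r (((d r).toMul : Kˣ) * a)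

theorem sc_nc (e : (I → ℤ) → K → Y) (d : (I → ℤ) →+ Additive Kˣ) (y : I → ℤ) (c : K) :
    nc (sc e d) y c = nc e y (((d y).toMul : Kˣ) * c) := by
  rw [nc_def, nc_def, sc, sc, mul_inv]
  congr 3
  rw [map_neg, toMul_neg, Units.val_inv_eq_inv_val]

theorem sc_nel (e : (I → ℤ) → K → Y) (d : (I → ℤ) →+ Additive Kˣ) (y : I → ℤ) :
    nel (sc e d) y = nc e y ((d y).toMul : Kˣ) := by
  unfold nel
  rw [sc_nc, mul_one]

section

variable {R : RGD cs h p T n X} (S : Sys R e)

include S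

/-- **Scaling the root elements by a character of the root lattice.** -/
theorem sc_data [Finite W] (d : (I → ℤ) →+ Additive Kˣ) : Data cs h (sc e d) where
  two := S.data.two
  add x hx t u := by rw [sc, mul_add, S.data.add x hx]; rfl
  inj x hx t ht := by
    have := S.data.inj x hx _ ht
    exact (mul_eq_zero.1 this).resolve_left (Units.ne_zero _)
  refl i x hx t := by
    rw [sc_nel, sc, nc_conj S hx (isRoot_sr cs h i) (Units.ne_zero _), sc, rep_simple_eq, cpr_sr, map_sub, map_zsmul,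
      toMul_sub, toMul_zsmul, div_eq_mul_inv, ← zpow_neg, Units.val_mul, Units.val_zpow_eq_zpow_val]
    congr 1; ring
  tor i x hx c hc t := by
    have hi := isRoot_sr cs h i
    have hr := isRoot_refl cs h hx hi
    have h1 : ((d (sr i)).toMul : K) ≠ 0 := Units.ne_zero _
    have h4 : cpr cs h (x - cpr cs h x (sr i) • sr i) (sr i) = -cpr cs h x (sr i) := by
      have h5 : ell cs h hi (x - cpr cs h x (sr i) • sr i) = ell cs h hi x - cpr cs h x (sr i) * ell cs h hi (sr i) := by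
        rw [map_sub, map_zsmul, smul_eq_mul]
      rw [ell_apply, ell_apply, ell_apply, cpr_self cs h hi] at h5
      rw [h5]; ring
    rw [hel_def, sc_nc, sc_nel]
    calc nc e (sr i) (((d (sr i)).toMul : K) * c) * nc e (sr i) ((d (sr i)).toMul : K) * sc e d x t *
          (nc e (sr i) (((d (sr i)).toMul : K) * c) * nc e (sr i) ((d (sr i)).toMul : K))⁻¹ =
        nc e (sr i) (((d (sr i)).toMul : K) * c) * (nc e (sr i) ((d (sr i)).toMul : K) *
          e x (((d x).toMul : K) * t) * (nc e (sr i) ((d (sr i)).toMul : K))⁻¹) *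
          (nc e (sr i) (((d (sr i)).toMul : K) * c))⁻¹ := by rw [sc]; group
      _ = _ := by
        rw [nc_conj S hx hi h1, nc_conj S hr hi (mul_ne_zero h1 hc), h4, neg_smul, sub_neg_eq_add, sub_add_cancel,
          neg_neg, mul_zpow, sc, ← cpr_sr cs h x i]
        congr 1
        have h6 : ((d (sr i)).toMul : K) ^ cpr cs h x (sr i) * ((d (sr i)).toMul : K) ^ (-cpr cs h x (sr i)) = 1 := by
          rw [← zpow_add₀ h1, add_neg_cancel, zpow_zero]
        calc ((d (sr i)).toMul : K) ^ cpr cs h x (sr i) * c ^ cpr cs h x (sr i) *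
              (((d (sr i)).toMul : K) ^ (-cpr cs h x (sr i)) * (((d x).toMul : K) * t)) =
            (((d (sr i)).toMul : K) ^ cpr cs h x (sr i) * ((d (sr i)).toMul : K) ^ (-cpr cs h x (sr i))) *
              (((d x).toMul : K) * (c ^ cpr cs h x (sr i) * t)) := by ring
          _ = _ := by rw [h6, one_mul]
  lace := S.data.lace
  comm0 x y hx hy h1 h2 h3 t u := S.data.comm0 x y hx hy h1 h2 h3 _ _
  comm1 x y hx hy h1 h2 t u := by
    rw [sc, sc, S.data.comm1 x y hx hy h1 h2, sc, map_add, toMul_add, Units.val_mul]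
    congr 1; ring
  comm2 x y hx hy h1 h2 t u := by
    rw [sc, sc, S.data.comm2 x y hx hy h1 h2, sc, sc, map_add d x y, map_add d x ((2 : ℤ) • y), map_zsmul d,
      toMul_add, toMul_add, toMul_zsmul, Units.val_mul, Units.val_mul, Units.val_zpow_eq_zpow_val]
    congr 2
    · ring
    · have h3 : ((d y).toMul : K) ^ (2 : ℤ) = ((d y).toMul : K) ^ 2 := zpow_natCast _ 2
      rw [h3]; ring

theorem sc_mem [Finite W] (d : (I → ℤ) →+ Additive Kˣ) {x : I → ℤ} (hx : IsRoot cs h x) (g : Y) :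
    g ∈ X x ↔ ∃ t, sc e d x t = g := by
  rw [S.mem_X x hx]
  constructor
  · rintro ⟨t, rfl⟩
    exact ⟨(((d x).toMul : Kˣ) : K)⁻¹ * t, by rw [sc, mul_inv_cancel_left₀ (Units.ne_zero _)]⟩
  · rintro ⟨t, rfl⟩
    exact ⟨_, rfl⟩

theorem sc_rp [Finite W] (hG1 : RGD.Sup X {x | IsRoot cs h x} = ⊤) (d : (I → ℤ) →+ Additive Kˣ) (i : I) :
    Rp cs R.nsys (cs.simple i) (nel (sc e d) (sr i)) := by
  rw [sc_nel]
  exact rp_nc S hG1 i (Units.ne_zero _)

theorem sc_chi [Finite W] (d : (I → ℤ) →+ Additive Kˣ) {t : Y} (ht : t ∈ T) : ∃ χ : (I → ℤ) →+ Additive Kˣ,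
    ∀ x, IsRoot cs h x → ∀ u, t * sc e d x u * t⁻¹ = sc e d x (((χ x).toMul : Kˣ) * u) := by
  obtain ⟨χ, hχ⟩ := S.chi t ht
  refine ⟨χ, fun x hx u => ?_⟩
  rw [sc, hχ x hx, sc]
  congr 1; ring

/-- **The scaled system.** -/
theorem sc_sys [Finite W] (hG1 : RGD.Sup X {x | IsRoot cs h x} = ⊤) (d : (I → ℤ) →+ Additive Kˣ) :
    Sys (rgd_of_rp R (sc_rp S hG1 d)) (sc e d) where
  data := sc_data S d
  mem_X _ hx g := sc_mem S d hx g
  n_eq _ := rfl
  chi _ ht := sc_chi S d ht

end

/-! ### Equivariant families -/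

/-- A `p`-element of the frame permutes a family of nontrivial elements of the simple root groups. -/
theorem exists_equivariant [Finite W] [Finite Y] [Fact p.Prime] (R : RGD cs h p T n X) {β : MulAut Y}
    {σ : Equiv.Perm I} (D : Diag T X β σ) {k : ℕ} (hβ : β ^ p ^ k = 1) :
    ∃ u : I → Y, (∀ i, u i ∈ X (sr i) ∧ u i ≠ 1) ∧ ∀ i, β (u i) = u (σ i) := by
  classical
  -- fixed points
  have h1 : ∀ i, ∃ f ∈ X (sr i), f ≠ 1 ∧ (β ^ Function.minimalPeriod σ i) f = f := by
    intro i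
    have h2 : (σ ^ Function.minimalPeriod σ i) i = i := by
      have := Function.iterate_minimalPeriod (f := σ) (x := i)
      rwa [Equiv.Perm.iterate_eq_pow] at this
    have h3 : Fix (β ^ Function.minimalPeriod σ i) (X (sr i)) := by
      intro y
      have := (D.pow (Function.minimalPeriod σ i)).pos i y
      rwa [h2] at this
    refine exists_fixed (k := k) ?_ h3 (R.pgrp i) (X_ne_bot R (isRoot_sr cs h i))
    rw [← pow_mul, mul_comm, pow_mul, hβ, one_pow]
  choose f hfX hf1 hf using h1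
  have h2 : ∀ i m, (σ ^ m) i = i → (β ^ m) (f i) = f i := by
    intro i m hm
    have h3 : Function.minimalPeriod σ i ∣ m := by
      apply Function.IsPeriodicPt.minimalPeriod_dvd
      show (σ^[m]) i = i
      rw [Equiv.Perm.iterate_eq_pow]
      exact hm
    obtain ⟨c, rfl⟩ := h3
    have h4 : ∀ c : ℕ, ((β ^ Function.minimalPeriod σ i) ^ c) (f i) = f i := by
      intro c
      induction c with
      | zero => rw [pow_zero, MulAut.one_apply]
      | succ c ih => rw [pow_succ, MulAut.mul_apply, hf, ih]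
    rw [pow_mul]
    exact h4 c
  have h3 : ∀ i a b, (σ ^ a) i = (σ ^ b) i → (β ^ a) (f i) = (β ^ b) (f i) := by
    have key : ∀ i a b, a ≤ b → (σ ^ a) i = (σ ^ b) i → (β ^ a) (f i) = (β ^ b) (f i) := by
      intro i a b hab he
      obtain ⟨c, rfl⟩ := Nat.exists_eq_add_of_le hab
      rw [pow_add, Equiv.Perm.mul_apply] at he
      have h4 := (Equiv.injective _ he).symm
      rw [pow_add, MulAut.mul_apply, h2 i c h4]
    intro i a b he
    rcases le_total a b with h4 | h4
    · exact key i a b h4 he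
    · exact (key i b a h4 he.symm).symm
  -- representatives of the orbits
  obtain ⟨rep, hrep⟩ : ∃ rep : I → I, (∀ i, σ.SameCycle (rep i) i) ∧ ∀ i j, σ.SameCycle i j → rep i = rep j := by
    refine ⟨fun i => (Quotient.mk (Equiv.Perm.SameCycle.setoid σ) i).out, fun i => ?_, fun i j hij => ?_⟩
    · exact Quotient.exact (s := Equiv.Perm.SameCycle.setoid σ) (Quotient.out_eq _)
    · show (Quotient.mk (Equiv.Perm.SameCycle.setoid σ) i).out = (Quotient.mk (Equiv.Perm.SameCycle.setoid σ) j).out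
      rw [Quotient.sound (s := Equiv.Perm.SameCycle.setoid σ) hij]
  have h4 : ∀ i, ∃ m : ℕ, (σ ^ m) (rep i) = i := by
    intro i
    obtain ⟨m, -, hm⟩ := (hrep.1 i).exists_pow_eq'
    exact ⟨m, hm⟩
  choose κ hκ using h4
  refine ⟨fun i => (β ^ κ i) (f (rep i)), fun i => ⟨?_, ?_⟩, fun i => ?_⟩
  · have := ((D.pow (κ i)).pos (rep i) (f (rep i))).2 (hfX _)
    rwa [hκ] at this
  · intro he
    have h5 : (β ^ κ i) (f (rep i)) = (β ^ κ i) 1 := by
      rw [map_one]
      exact he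
    exact hf1 _ ((β ^ κ i).injective h5)
  · show β ((β ^ κ i) (f (rep i))) = (β ^ κ (σ i)) (f (rep (σ i)))
    have h5 : rep (σ i) = rep i := hrep.2 _ _ (Equiv.Perm.sameCycle_apply_left.2 (Equiv.Perm.SameCycle.refl σ i))
    rw [h5, ← MulAut.mul_apply, ← pow_succ']
    apply h3
    have h6 := hκ (σ i)
    rw [h5] at h6
    rw [h6, pow_succ', Equiv.Perm.mul_apply, hκ]

section

variable {R : RGD cs h p T n X} (S : Sys R e)

include S

/-- The image of `n_i(c)`. -/
theorem apply_nc [Finite W] (hG1 : RGD.Sup X {x | IsRoot cs h x} = ⊤) {β : MulAut Y} {σ : Equiv.Perm I}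
    (D : Diag T X β σ) {i : I} {c c' : K} (hc : c ≠ 0) (hc' : c' ≠ 0) (he : β (e (sr i) c) = e (sr (σ i)) c') :
    β (nc e (sr i) c) = nc e (sr (σ i)) c' := by
  have hj := isRoot_sr cs h (σ i)
  have h1 : Rp cs R.nsys (cs.simple (σ i)) (β (nc e (sr i) c)) := by
    have h2 : nc e (sr i) c = hel e (sr i) c * n i := by
      rw [hel_def, mul_assoc, S.n_eq i, nel_mul_nel S (isRoot_sr cs h i), mul_one]
    have h3 := (rp_of_mem (cs := cs) (hN := R.nsys) ((D.tor _).2 (hel_mem S hG1 (isRoot_sr cs h i) hc))).mul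
      (D.rp (R := R) i)
    rw [one_mul, ← map_mul, ← h2] at h3
    exact h3
  have h2 := (rp_nc S hG1 (σ i) hc').unique h1
  -- `β (nc c) = nc c' * t`
  have hv : β (e (-sr i) c⁻¹) ∈ X (-sr (σ i)) := (D.neg i _).2 (S.mem (isRoot_sr cs h i).neg _)
  have h3 : (e (-sr (σ i)) c'⁻¹)⁻¹ * β (e (-sr i) c⁻¹) =
      e (sr (σ i)) c' * ((nc e (sr (σ i)) c')⁻¹ * β (nc e (sr i) c)) * (e (sr (σ i)) c')⁻¹ := by
    rw [nc_def, nc_def, map_mul, map_mul, he]; group
  have h4 : (e (-sr (σ i)) c'⁻¹)⁻¹ * β (e (-sr i) c⁻¹) = 1 := by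
    refine eq_one_of_mem_UN_of_mem_B R (X_le_UN hj.neg (neg_nonpos.2 (sr_nonneg _))
      (mul_mem (inv_mem (S.mem hj.neg _)) hv)) ?_
    rw [h3]
    exact mul_mem (mul_mem (RGD.X_le_B hj (sr_nonneg _) (S.mem hj _)) (RGD.T_le_B h2))
      (inv_mem (RGD.X_le_B hj (sr_nonneg _) (S.mem hj _)))
  rw [nc_def, nc_def, map_mul, map_mul, he, ← inv_mul_eq_one.1 h4]

/-- **Frame automorphisms of `p`-power order are standard in suitable coordinates.** -/
theorem exists_pure [Finite W] [Finite Y] [Finite K] [Fact p.Prime] (hG1 : RGD.Sup X {x | IsRoot cs h x} = ⊤)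
    {β : MulAut Y} {σ : Equiv.Perm I} {τ : K ≃+* K} (B : Tau T X (chS e) A β σ τ) {k : ℕ} (hβ : β ^ p ^ k = 1) :
    ∃ d : (I → ℤ) →+ Additive Kˣ, ∀ r, IsRoot cs h r → ∀ a, β (sc e d r a) = sc e d (r ∘ σ.symm) (τ a) := by
  have C := coords S hG1
  obtain ⟨u, hu, hβu⟩ := exists_equivariant R B.diag hβ
  have h1 : ∀ i, ∃ c : Kˣ, e (sr i) (c : K) = u i := by
    intro i
    obtain ⟨c, hc, he⟩ := S.exists_e (isRoot_sr cs h i) (hu i).1 (hu i).2
    exact ⟨Units.mk0 c hc, he⟩
  choose dd hdd using h1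
  let d : (I → ℤ) →+ Additive Kˣ :=
    { toFun := fun x => ∑ i, x i • Additive.ofMul (dd i)
      map_zero' := Finset.sum_eq_zero fun i _ => by rw [Pi.zero_apply, zero_smul]
      map_add' := fun x y => by
        rw [← Finset.sum_add_distrib]
        exact Finset.sum_congr rfl fun i _ => by rw [Pi.add_apply]; exact add_zsmul _ _ _ }
  have hd : ∀ i, (d (sr i)).toMul = dd i := by
    intro i
    have : d (sr i) = Additive.ofMul (dd i) := by
      show ∑ j, (sr i : I → ℤ) j • _ = _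
      rw [Finset.sum_eq_single i]
      · rw [sr_self, one_smul]
      · intro j _ hj; rw [sr_ne hj, zero_smul]
      · intro hi; exact absurd (Finset.mem_univ i) hi
    rw [this, toMul_ofMul]
  refine ⟨d, ?_⟩
  rintro _ ⟨w, i, rfl⟩
  obtain ⟨ω, rfl⟩ := cs.wordProd_surjective w
  induction ω with
  | nil =>
    intro a
    rw [wordProd_nil, map_one, Module.End.one_apply, sr_comp, sc, sc, hd, hd]
    obtain ⟨c, hc, hs⟩ := Tau.semi R C B (w := 1) (i := i)
    rw [map_one, Module.End.one_apply, sr_comp] at hs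
    have h2 := hs (dd i : K)
    rw [hdd, hβu, ← hdd] at h2
    have h3 := S.data.injective (isRoot_sr cs h (σ i)) h2
    rw [hs, map_mul, h3, mul_assoc]
  | cons j ω ih =>
    intro a
    have hx : IsRoot cs h (rep cs h (cs.wordProd ω) (sr i)) := ⟨_, _, rfl⟩
    rw [wordProd_cons, rep_mul_apply]
    set x := rep cs h (cs.wordProd ω) (sr i) with hxdef
    have hj := isRoot_sr cs h j
    have hσj := isRoot_sr cs h (σ j)
    have hσx : IsRoot cs h (x ∘ σ.symm) := by
      rw [hxdef, ← rep_hat (cs := cs) (h := h) (B.diag.matrix R) B.cartan, sr_comp]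
      exact ⟨_, _, rfl⟩
    have h2 := (sc_data S d).refl j x hx a
    have h3 := (sc_data S d).refl (σ j) (x ∘ σ.symm) hσx (τ a)
    have h4 : β (nel (sc e d) (sr j)) = nel (sc e d) (sr (σ j)) := by
      rw [sc_nel, sc_nel, hd, hd]
      refine apply_nc S hG1 B.diag (Units.ne_zero _) (Units.ne_zero _) ?_
      rw [hdd, hβu, ← hdd]
    rw [← h2, map_mul, map_mul, map_inv, h4, ih, h3]
    congr 1
    rw [rep_simple_eq, rep_simple_eq, pairing_comp B.cartan, ← sr_comp]
    rfl

/-- **The standard form.** -/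
theorem exists_sys [Finite W] [Finite Y] [Finite K] [Fact p.Prime] (hG1 : RGD.Sup X {x | IsRoot cs h x} = ⊤)
    {β : MulAut Y} {σ : Equiv.Perm I} {τ : K ≃+* K} (B : Tau T X (chS e) A β σ τ) {k : ℕ} (hβ : β ^ p ^ k = 1) :
    ∃ (e' : (I → ℤ) → K → Y) (n' : I → Y) (R' : RGD cs h p T n' X), Sys R' e' ∧
      (∀ r, IsRoot cs h r → ∀ a, β (e' r a) = e' (r ∘ σ.symm) (τ a)) ∧
      ∀ r, IsRoot cs h r → ∀ t ∈ T, chS e' r t = chS e r t := by
  obtain ⟨d, hd⟩ := exists_pure S hG1 B hβ
  refine ⟨sc e d, _, _, sc_sys S hG1 d, hd, fun r hr t ht => ?_⟩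
  refine chS_eq (sc_sys S hG1 d) hr ht fun a => ?_
  rw [sc, chS_spec S hr ht, sc]
  congr 1; ring

end

end Cfsg.Agent.KFacts.RgdPure
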