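import Mathlib
import Cfsg.Agent.KFacts.RgdPure
import Cfsg.Agent.LieRecognition.FieldSemilinear

/-!
# The outer action in an overgroup

`f : Y →* G` injective, `R : RGD` of `Y`, `K = f Y`, `U = ⟨X r : r > 0⟩`.

* `act f hf : N_G(K) →* MulAut Y`, `act_apply`, `act_eq_one_iff` (kernel `C_G(K)`), `act_f`;
* `exists_outer_over` : for a `p`-subgroup `S` of `G` normalising `K` and `f U`: the homomorphism
  `S →* Sym(I) × Aut(F)` with kernel `S ∩ f(U) C_G(K)`, and the frame representatives;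
* `exists_gen` : `S = C_S(K) f(U) ⟨g⟩` for an element `g` of the frame, if there is no diagram symmetry.
-/

set_option autoImplicit false
set_option linter.unusedSectionVars false

namespace Cfsg.Agent.KFacts.RgdOver

open CoxeterSystem Cfsg.Agent.ChevalleyStructure.CoxeterGeom Cfsg.Agent.Tits.Roots Cfsg.Agent.Tits.Core
  Cfsg.Agent.Tits.Exchange Cfsg.Agent.Nodes.Reps Cfsg.Agent.Nodes.BNOf Cfsg.Agent.Nodes.StabComb
  Cfsg.Agent.Nodes.Bruhat Cfsg.Agent.Nodes.OppDec Cfsg.Agent.Nodes.LeviDec Cfsg.Agent.Nodes.NormalForm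
  Cfsg.Agent.Nodes.Coroot Cfsg.Agent.Nodes.PosPair
  Cfsg.Agent.KFacts.RgdOpp Cfsg.Agent.KFacts.RgdAut Cfsg.Agent.KFacts.RgdDiag Cfsg.Agent.KFacts.RgdRigid
  Cfsg.Agent.KFacts.RgdCent Cfsg.Agent.KFacts.RgdKap Cfsg.Agent.KFacts.RgdField Cfsg.Agent.KFacts.RgdTau
  Cfsg.Agent.KFacts.RgdSys Cfsg.Agent.KFacts.RgdPure Cfsg.Agent.KFacts.ChevTwo

/-! ### The action on an embedded group -/

section Act

variable {Y G : Type*} [Group Y] [Group G] (f : Y →* G) (hf : Function.Injective f)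

/-- The automorphism of `Y` induced by an element of `G` normalising `f Y`. -/
noncomputable def act : ↥(Subgroup.normalizer (f.range : Set G)) →* MulAut Y where
  toFun g := ((MonoidHom.ofInjective hf).trans (Subgroup.normalizerMonoidHom f.range g)).trans
    (MonoidHom.ofInjective hf).symm
  map_one' := by
    ext y
    show (MonoidHom.ofInjective hf).symm (Subgroup.normalizerMonoidHom f.range 1 (MonoidHom.ofInjective hf y)) = y
    rw [map_one, MulAut.one_apply, MulEquiv.symm_apply_apply]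
  map_mul' a b := by
    ext y
    show (MonoidHom.ofInjective hf).symm (Subgroup.normalizerMonoidHom f.range (a * b) (MonoidHom.ofInjective hf y)) =
      (MonoidHom.ofInjective hf).symm (Subgroup.normalizerMonoidHom f.range a (MonoidHom.ofInjective hf
        ((MonoidHom.ofInjective hf).symm (Subgroup.normalizerMonoidHom f.range b (MonoidHom.ofInjective hf y)))))
    rw [map_mul, MulAut.mul_apply, MulEquiv.apply_symm_apply]

theorem f_act (g : ↥(Subgroup.normalizer (f.range : Set G))) (y : Y) : f (act f hf g y) = g * f y * (g : G)⁻¹ := by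
  have h1 : ∀ k : ↥f.range, f ((MonoidHom.ofInjective hf).symm k) = k := by
    intro k
    exact congrArg Subtype.val (MulEquiv.apply_symm_apply (MonoidHom.ofInjective hf) k)
  show f ((MonoidHom.ofInjective hf).symm (Subgroup.normalizerMonoidHom f.range g (MonoidHom.ofInjective hf y))) = _
  rw [h1]
  rfl

theorem act_eq_one_iff (g : ↥(Subgroup.normalizer (f.range : Set G))) :
    act f hf g = 1 ↔ ∀ y, (g : G) * f y = f y * g := by
  constructor
  · intro h1 y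
    have h2 := f_act f hf g y
    rw [h1, MulAut.one_apply] at h2
    calc (g : G) * f y = (g * f y * (g : G)⁻¹) * g := by group
      _ = f y * g := by rw [← h2]
  · intro h1
    ext y
    apply hf
    rw [f_act, h1, mul_inv_cancel_right, MulAut.one_apply]

theorem f_mem (y : Y) : f y ∈ Subgroup.normalizer (f.range : Set G) := Subgroup.le_normalizer ⟨y, rfl⟩

theorem act_f (y : Y) : act f hf ⟨f y, f_mem f y⟩ = MulAut.conj y := by
  ext z
  apply hf
  rw [f_act, MulAut.conj_apply, map_mul, map_mul, map_inv]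

/-- the action of an element normalising `f H` -/
theorem fix_act {H : Subgroup Y} {g : ↥(Subgroup.normalizer (f.range : Set G))}
    (hg : (g : G) ∈ Subgroup.normalizer ((H.map f : Subgroup G) : Set G)) : Fix (act f hf g) H := by
  intro y
  have h1 := Subgroup.mem_normalizer_iff.1 hg (f y)
  have h2 : ∀ z, f z ∈ H.map f ↔ z ∈ H := fun z => ⟨fun ⟨w, hw, e⟩ => hf e ▸ hw, fun hz => ⟨z, hz, rfl⟩⟩
  rw [h2, ← f_act f hf, h2] at h1
  exact h1.symm

end Act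

variable {I W Y K G : Type*} [Fintype I] [DecidableEq I] [Group W] [Group Y] [Group G] [Field K] {M : CoxeterMatrix I}
variable {cs : CoxeterSystem M W} {A : I → I → ℤ} {h : IsCartan M A} {p : ℕ} {T : Subgroup Y} {n : I → Y}
  {X : (I → ℤ) → Subgroup Y} {x : (I → ℤ) → K → Y} {χ : (I → ℤ) → Y → K} {hh : I → K → Y}

/-- roots are permuted by diagram symmetries preserving the Cartan matrix -/
theorem isRoot_comp {σ : Equiv.Perm I} (hσ : ∀ i j, M (σ i) (σ j) = M i j) (hA : ∀ i j, A (σ i) (σ j) = A i j)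
    {r : I → ℤ} (hr : IsRoot cs h r) : IsRoot cs h (r ∘ σ.symm) := by
  obtain ⟨w, i, rfl⟩ := hr
  rw [← rep_hat (cs := cs) (h := h) hσ hA, sr_comp]
  exact ⟨_, _, rfl⟩

theorem fix_UN_of_tau (R : RGD cs h p T n X) [Finite W] {β : MulAut Y} {σ : Equiv.Perm I} {τ : K ≃+* K}
    (B : Tau T X χ A β σ τ) : Fix β (UN cs h X) := by
  have key : ∀ {β : MulAut Y} {σ : Equiv.Perm I} {τ : K ≃+* K}, Tau T X χ A β σ τ → ∀ y ∈ UN cs h X,
      β y ∈ UN cs h X := by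
    intro β σ τ B y hy
    have h1 : UN cs h X ≤ (UN cs h X).comap β.toMonoidHom := by
      refine RGD.Sup_le fun r hr z hz => ?_
      have h2 := (B.diag.root_comp R B.cartan hr.1 z).2 hz
      exact X_le_UN (isRoot_comp (B.diag.matrix (R := R)) B.cartan hr.1) (fun i => hr.2 _) h2
    exact h1 hy
  intro y
  refine ⟨fun hy => ?_, key B y⟩
  have := key B.inv _ hy
  rwa [MulAut.inv_apply_self] at this

section

variable (R : RGD cs h p T n X) [Finite W] [Nonempty I] [CharP K p] [Fact p.Prime] [Finite G]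
  (hG1 : RGD.Sup X {x | IsRoot cs h x} = ⊤)
  (C : Coords cs h T n X x χ) (H : Coroots A T X χ hh)
  (hconn : ∀ J : Set I, J.Nonempty → J ≠ Set.univ → ∃ a ∈ J, ∃ b, b ∉ J ∧ M a b ≠ 2)
  (hA : ∀ σ : Equiv.Perm I, (∀ i j, M (σ i) (σ j) = M i j) → ∀ i j, A (σ i) (σ j) = A i j)
  (f : Y →* G) (hf : Function.Injective f) {S : Subgroup G} (hSp : IsPGroup p ↥S)
  (hSK : S ≤ Subgroup.normalizer (f.range : Set G))
  (hSU : S ≤ Subgroup.normalizer (((RGD.Sup X (RGD.Pos cs h)).map f : Subgroup G) : Set G))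

include R hG1 C H hconn hA hf hSp hSK hSU

/-- **The outer action of a `p`-subgroup of an overgroup.** -/
theorem exists_outer_over :
    ∃ l : ↥S →* Equiv.Perm I × (K ≃+* K), ∀ g : ↥S,
      (∃ u ∈ RGD.Sup X (RGD.Pos cs h), ∃ β : MulAut Y, (∀ y, f (β y) = f u * g * f y * (f u * (g : G))⁻¹) ∧
        Tau T X χ A β (l g).1 (l g).2 ∧ ∃ k : ℕ, β ^ p ^ k = 1) ∧
      (l g = 1 ↔ ∃ u ∈ RGD.Sup X (RGD.Pos cs h), ∀ y, (f u * (g : G)) * f y = f y * (f u * (g : G))) := by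
  let ρ : ↥S →* MulAut Y := (act f hf).comp (Subgroup.inclusion hSK)
  have hρ : ∀ (g : ↥S) y, f (ρ g y) = g * f y * (g : G)⁻¹ := fun g y => f_act f hf _ y
  have hP : IsPGroup p ↥ρ.range := IsPGroup.of_surjective hSp ρ.rangeRestrict ρ.rangeRestrict_surjective
  have hfix : ∀ α ∈ ρ.range, Fix α (RGD.Sup X (RGD.Pos cs h)) := by
    rintro _ ⟨g, rfl⟩
    exact fix_act f hf (hSU g.2)
  obtain ⟨l, hl⟩ := exists_outer R hG1 C H hconn hA hP hfix
  refine ⟨l.comp ρ.rangeRestrict, fun g => ?_⟩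
  obtain ⟨⟨u, hu, B⟩, h2⟩ := hl (ρ.rangeRestrict g)
  have hconj : ∀ (u y : Y), f ((MulAut.conj u * ρ g) y) = f u * g * f y * (f u * (g : G))⁻¹ := by
    intro u y
    rw [MulAut.mul_apply, MulAut.conj_apply, map_mul, map_mul, map_inv, hρ]
    group
  refine ⟨⟨u, hu, MulAut.conj u * ρ g, hconj u, B, ?_⟩, ?_⟩
  · obtain ⟨k, hk⟩ := hSp g
    refine ⟨k, pow_eq_one_of_frame R (GG_eq_top hG1) (fix_act f hf (hSU g.2)) hu (fix_UN_of_tau R B) ?_⟩
    show (ρ g) ^ p ^ k = 1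
    rw [← map_pow, hk, map_one]
  · rw [MonoidHom.comp_apply, h2]
    constructor
    · rintro ⟨v, hv, he⟩
      refine ⟨v⁻¹, inv_mem hv, fun y => ?_⟩
      have h3 := hρ g y
      have h4 : ρ g = MulAut.conj v := he
      rw [h4, MulAut.conj_apply, map_mul, map_mul, map_inv] at h3
      rw [map_inv]
      calc (f v)⁻¹ * (g : G) * f y = (f v)⁻¹ * (g * f y * (g : G)⁻¹) * g := by group
        _ = (f v)⁻¹ * (f v * f y * (f v)⁻¹) * g := by rw [h3]
        _ = _ := by group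
    · rintro ⟨v, hv, he⟩
      refine ⟨v⁻¹, inv_mem hv, ?_⟩
      show ρ g = MulAut.conj v⁻¹
      ext y
      apply hf
      rw [hρ, MulAut.conj_apply, map_mul, map_mul, inv_inv, map_inv]
      have h3 := he y
      calc (g : G) * f y * (g : G)⁻¹ = (f v)⁻¹ * (f v * g * f y) * (g : G)⁻¹ := by group
        _ = (f v)⁻¹ * (f y * (f v * g)) * (g : G)⁻¹ := by rw [h3]
        _ = _ := by group

/-- **Without diagram symmetries** `S = f(U) C_S(K) ⟨g⟩` for an element `g` acting as a field automorphism. -/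
theorem exists_gen [Finite K] (hUS : (RGD.Sup X (RGD.Pos cs h)).map f ≤ S)
    (hone : ∀ (β : MulAut Y) (σ : Equiv.Perm I) (τ : K ≃+* K), Tau T X χ A β σ τ → (∃ k : ℕ, β ^ p ^ k = 1) →
      (∃ g ∈ S, ∀ y, f (β y) = g * f y * g⁻¹) → σ = 1) :
    ∃ g ∈ S, ∃ (β : MulAut Y) (τ : K ≃+* K), (∀ y, f (β y) = g * f y * g⁻¹) ∧ Tau T X χ A β 1 τ ∧
      (∃ k : ℕ, β ^ p ^ k = 1) ∧
      ∀ s ∈ S, ∃ m : ℤ, ∃ u ∈ RGD.Sup X (RGD.Pos cs h), ∃ c ∈ S, (∀ y, c * f y = f y * c) ∧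
        s = f u * c * g ^ m := by
  obtain ⟨l, hl⟩ := exists_outer_over R hG1 C H hconn hA f hf hSp hSK hSU
  have hl1 : ∀ g, (l g).1 = 1 := by
    intro g
    obtain ⟨⟨u, hu, β, hβ, B, hk⟩, -⟩ := hl g
    exact hone β _ _ B hk ⟨f u * g, mul_mem (hUS ⟨u, hu, rfl⟩) g.2, hβ⟩
  let l2 : ↥S →* (K ≃+* K) := (MonoidHom.snd _ _).comp l
  have hker : ∀ g, l2 g = 1 → l g = 1 := fun g hg => Prod.ext (hl1 g) hg
  have hcyc : IsCyclic (K ≃+* K) := LieRecognition.FieldSemilinear.isCyclic_ringAut K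
  have hcyc' : IsCyclic ↥l2.range := Subgroup.isCyclic _
  obtain ⟨⟨_, g0, rfl⟩, hg0⟩ := hcyc'.exists_generator
  obtain ⟨⟨u0, hu0, β, hβ, B, hk⟩, -⟩ := hl g0
  have hu0S : f u0 ∈ S := hUS ⟨u0, hu0, rfl⟩
  have hlu : l ⟨f u0, hu0S⟩ = 1 := by
    rw [(hl _).2]
    refine ⟨u0⁻¹, inv_mem hu0, fun y => ?_⟩
    rw [map_inv, inv_mul_cancel, one_mul, mul_one]
  refine ⟨f u0 * g0, mul_mem hu0S g0.2, β, (l g0).2, hβ, ?_, hk, ?_⟩
  · have h1 := hl1 g0
    rwa [h1] at B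
  · intro s hs
    obtain ⟨m, hm⟩ := hg0 ⟨l2 ⟨s, hs⟩, ⟨s, hs⟩, rfl⟩
    have hm' : l2 g0 ^ m = l2 ⟨s, hs⟩ := congrArg Subtype.val hm
    have h1 : l (⟨s, hs⟩ * ((⟨f u0, hu0S⟩ * g0) ^ m)⁻¹) = 1 := by
      apply hker
      have h2 : l2 (⟨f u0, hu0S⟩ * g0) = l2 g0 := by
        rw [map_mul]
        have : l2 ⟨f u0, hu0S⟩ = 1 := congrArg Prod.snd hlu
        rw [this, one_mul]
      rw [map_mul, map_inv, map_zpow, h2, hm', mul_inv_cancel]
    obtain ⟨u, hu, hc⟩ := (hl _).2.1 h1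
    have hgm : ((⟨s, hs⟩ * ((⟨f u0, hu0S⟩ * g0) ^ m)⁻¹ : ↥S) : G) = s * ((f u0 * g0) ^ m)⁻¹ := rfl
    rw [hgm] at hc
    refine ⟨m, u⁻¹, inv_mem hu, f u * (s * ((f u0 * (g0 : G)) ^ m)⁻¹), ?_, hc, ?_⟩
    · exact mul_mem (hUS ⟨u, hu, rfl⟩) (mul_mem hs (inv_mem (zpow_mem (mul_mem hu0S g0.2) m)))
    · rw [map_inv]; group

end

section Sys

variable {e : (I → ℤ) → K → Y} {R : RGD cs h p T n X} (S' : Sys R e) [Finite W] [Nonempty I] [CharP K p]
  [Fact p.Prime] [Finite G] [Finite K]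
  (hG1 : RGD.Sup X {x | IsRoot cs h x} = ⊤) (hN : NoCent cs h T X)
  (hconn : ∀ J : Set I, J.Nonempty → J ≠ Set.univ → ∃ a ∈ J, ∃ b, b ∉ J ∧ M a b ≠ 2)
  (hA : ∀ σ : Equiv.Perm I, (∀ i j, M (σ i) (σ j) = M i j) → ∀ i j, A (σ i) (σ j) = A i j)
  (f : Y →* G) (hf : Function.Injective f) {S : Subgroup G} (hSp : IsPGroup p ↥S)
  (hSK : S ≤ Subgroup.normalizer (f.range : Set G))
  (hSU : S ≤ Subgroup.normalizer (((RGD.Sup X (RGD.Pos cs h)).map f : Subgroup G) : Set G))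

include S' hG1 hN hconn hA hf hSp hSK hSU

/-- **Without diagram symmetries, standard coordinates**: `S = f(U) C_S(K) ⟨g⟩` and `g e'_r(a) g⁻¹ = e'_r(τ a)` for all
roots `r`. -/
theorem exists_gen_sys (hUS : (RGD.Sup X (RGD.Pos cs h)).map f ≤ S)
    (hone : ∀ (β : MulAut Y) (σ : Equiv.Perm I) (τ : K ≃+* K), Tau T X (chS e) A β σ τ → (∃ k : ℕ, β ^ p ^ k = 1) →
      (∃ g ∈ S, ∀ y, f (β y) = g * f y * g⁻¹) → σ = 1) :
    ∃ g ∈ S, ∃ (τ : K ≃+* K) (e' : (I → ℤ) → K → Y) (n' : I → Y) (R' : RGD cs h p T n' X), Sys R' e' ∧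
      (∀ r, IsRoot cs h r → ∀ a, g * f (e' r a) * g⁻¹ = f (e' r (τ a))) ∧
      ∀ s ∈ S, ∃ m : ℤ, ∃ u ∈ RGD.Sup X (RGD.Pos cs h), ∃ c ∈ S, (∀ y, c * f y = f y * c) ∧
        s = f u * c * g ^ m := by
  obtain ⟨g, hg, β, τ, hβ, B, ⟨k, hk⟩, hs⟩ := exists_gen R hG1 (coords S' hG1) (coroots S' hG1 hN) hconn hA f hf
    hSp hSK hSU hUS hone
  have hY : Finite Y := Finite.of_injective f hf
  obtain ⟨e', n', R', S'', h1, -⟩ := exists_sys S' hG1 B hk
  refine ⟨g, hg, τ, e', n', R', S'', fun r hr a => ?_, hs⟩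
  rw [← hβ, h1 r hr]
  rfl

end Sys

end Cfsg.Agent.KFacts.RgdOver
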