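import Cfsg.Agent.KFacts.RgdSys
import Cfsg.Agent.KFacts.RgdTau
import Cfsg.Agent.KFacts.RgdOver
import Cfsg.Agent.KFacts.RgdAutFacts

/-!
# Automorphisms trivial on a root group (any root group datum, characteristic 2 relations)

* `frame_of_fix` : an automorphism trivial on `X_a` (`a` dominant) is `conj g⁻¹ ∘ β`, `g ∈ C(X_a)`, `β` a frame
  automorphism trivial on `X_a`;
* `inner_of_fix` : for `ChevTwo.Sys` without diagram symmetries (types `C_n` (`n ≥ 3`), `E₇`, `E₈`) an automorphism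
  trivial on a root group is conjugation by an element of its centraliser;
* `exists_mul_of_fix` : the overgroup form.
-/

set_option autoImplicit false

namespace Cfsg.Agent.KFacts.ChevTwoAut

open CoxeterSystem Cfsg.Agent.ChevalleyStructure.CoxeterGeom Cfsg.Agent.Tits.Roots Cfsg.Agent.Tits.Core
  Cfsg.Agent.Tits.Exchange Cfsg.Agent.Nodes.Reps Cfsg.Agent.Nodes.BNOf Cfsg.Agent.Nodes.StabComb
  Cfsg.Agent.Nodes.Bruhat Cfsg.Agent.Nodes.OppDec Cfsg.Agent.Nodes.LeviDec Cfsg.Agent.Nodes.NormalForm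
  Cfsg.Agent.Nodes.Coroot Cfsg.Agent.Nodes.PosPair
  Cfsg.Agent.KFacts.RgdOpp Cfsg.Agent.KFacts.RgdAut Cfsg.Agent.KFacts.RgdDiag Cfsg.Agent.KFacts.RgdRigid
  Cfsg.Agent.KFacts.RgdCent Cfsg.Agent.KFacts.RgdField Cfsg.Agent.KFacts.RgdTau Cfsg.Agent.KFacts.RgdSys
  Cfsg.Agent.KFacts.RgdTI Cfsg.Agent.KFacts.RgdAutFacts Cfsg.Agent.KFacts.ChevTwo

variable {I W Y : Type*} [Fintype I] [DecidableEq I] [Group W] [Group Y] {M : CoxeterMatrix I}
  {cs : CoxeterSystem M W} {A : I → I → ℤ} {h : IsCartan M A} {p : ℕ} {T : Subgroup Y} {n : I → Y}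
  {X : (I → ℤ) → Subgroup Y}

theorem eq_sum_sr (x : I → ℤ) : x = ∑ i, x i • (sr i : I → ℤ) := by
  ext j
  rw [Finset.sum_apply, Finset.sum_eq_single j]
  · rw [Pi.smul_apply, sr_self, smul_eq_mul, mul_one]
  · intro i _ hi
    rw [Pi.smul_apply, sr_ne (Ne.symm hi), smul_zero]
  · intro hj; exact absurd (Finset.mem_univ j) hj

theorem fix_conj {H : Subgroup Y} {t : Y} (ht : t ∈ Subgroup.normalizer (H : Set Y)) :
    Fix (MulAut.conj t) H := fun x => (Subgroup.mem_normalizer_iff.1 ht x).symm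

/-- **Passing to the frame inside the centraliser of a root group.** -/
theorem frame_of_fix [Finite W] [Finite Y] [Fact p.Prime] {R : RGD cs h p T n X} (hG : GG cs h T X = ⊤)
    {a : I → ℤ} (hdom : ∀ u ∈ RGD.Sup X (RGD.Pos cs h), ∀ z ∈ X a, u * z = z * u) {α : MulAut Y}
    (hα : ∀ z ∈ X a, α z = z) :
    ∃ g : Y, (∀ z ∈ X a, g * z = z * g) ∧ Fix (MulAut.conj g * α) (RGD.Sup X (RGD.Pos cs h)) ∧
      Fix (MulAut.conj g * α) (UN cs h X) ∧ (∀ z ∈ X a, (MulAut.conj g * α) z = z) ∧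
      ∃ σ : Equiv.Perm I, Diag T X (MulAut.conj g * α) σ := by
  obtain ⟨P, hP⟩ : ∃ P : Subgroup Y, P = Subgroup.centralizer (X a : Set Y) := ⟨_, rfl⟩
  have hPc : ∀ g ∈ P, ∀ y ∈ X a, g * y = y * g := by
    intro g hg y hy
    rw [hP] at hg
    exact (Subgroup.mem_centralizer_iff.1 hg y hy).symm
  have hPi : ∀ g, (∀ y ∈ X a, g * y = y * g) → g ∈ P := by
    intro g hg
    rw [hP]
    exact Subgroup.mem_centralizer_iff.2 fun y hy => (hg y hy).symm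
  have hPU : RGD.Sup X (RGD.Pos cs h) ≤ P := fun u hu => hPi u (hdom u hu)
  have hαP : ∀ g ∈ P, α g ∈ P := by
    intro g hg
    apply hPi
    intro y hy
    rw [← hα y hy, ← map_mul, ← map_mul, hPc g hg y hy]
  obtain ⟨Q, hQ⟩ := exists_sylow R hG
  obtain ⟨Q', hQ'⟩ : ∃ Q' : Sylow p Y, (Q' : Subgroup Y) = (RGD.Sup X (RGD.Pos cs h)).map α.toMonoidHom :=
    ⟨α • Q, by rw [← hQ]; rfl⟩
  have hle : (Q : Subgroup Y) ≤ P := by rw [hQ]; exact hPU
  have hle' : (Q' : Subgroup Y) ≤ P := by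
    rw [hQ']
    rintro _ ⟨y, hy, rfl⟩
    exact hαP y (hPU hy)
  obtain ⟨q, hq⟩ := MulAction.exists_smul_eq ↥P (Q'.subtype hle') (Q.subtype hle)
  have hqU : ∀ x ∈ RGD.Sup X (RGD.Pos cs h), (q : Y) * α x * (q : Y)⁻¹ ∈ RGD.Sup X (RGD.Pos cs h) := by
    intro x hx
    have h1 : q * ⟨α x, hαP x (hPU hx)⟩ * q⁻¹ ∈ (Q.subtype hle : Subgroup ↥P) := by
      rw [← hq, Sylow.coe_subgroup_smul, Subgroup.mem_pointwise_smul_iff_inv_smul_mem]
      have h2 : (MulAut.conj q)⁻¹ • (q * ⟨α x, hαP x (hPU hx)⟩ * q⁻¹) = ⟨α x, hαP x (hPU hx)⟩ := by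
        rw [← map_inv]
        show q⁻¹ * (q * ⟨α x, hαP x (hPU hx)⟩ * q⁻¹) * q⁻¹⁻¹ = _
        group
      rw [h2, Sylow.coe_subtype, Subgroup.mem_subgroupOf, hQ']
      exact ⟨x, hx, rfl⟩
    rw [Sylow.coe_subtype, Subgroup.mem_subgroupOf, hQ] at h1
    exact h1
  have hfix : Fix (MulAut.conj (q : Y) * α) (RGD.Sup X (RGD.Pos cs h)) := by
    rw [fix_iff]
    refine Subgroup.eq_of_le_of_card_ge ?_ ?_
    · rintro _ ⟨y, hy, rfl⟩
      exact hqU y hy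
    · rw [Subgroup.card_map_of_injective (MulEquiv.injective _)]
  obtain ⟨u, hu, hU, hB, hUN, hBN, hT⟩ := exists_frame R hG hfix
  have e : MulAut.conj u * (MulAut.conj (q : Y) * α) = MulAut.conj (u * q) * α := by
    rw [map_mul, mul_assoc]
  rw [e] at hU hUN
  have hgP : u * (q : Y) ∈ P := mul_mem (hPU hu) q.2
  refine ⟨u * q, hPc _ hgP, hU, hUN, fun y hy => ?_, exists_diag R hG hU hUN⟩
  show (u * (q : Y)) * α y * (u * (q : Y))⁻¹ = y
  rw [hα y hy, hPc _ hgP y hy, mul_inv_cancel_right]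

variable {K : Type*} [Field K] {e : (I → ℤ) → K → Y}

/-- **An automorphism trivial on a root group is inner**, if there are no diagram symmetries fixing the root group and
the torus is the full torus. -/
theorem inner_of_fix_dom [Finite W] [Finite Y] [Finite K] [Nonempty I] {R : RGD cs h 2 T n X} (S : Sys R e)
    (hG1 : RGD.Sup X {x | IsRoot cs h x} = ⊤) (hN : NoCent cs h T X)
    (hconn : ∀ J : Set I, J.Nonempty → J ≠ Set.univ → ∃ a ∈ J, ∃ b, b ∉ J ∧ M a b ≠ 2)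
    (htor : ∀ c : I → Kˣ, ∃ t ∈ T, ∀ i u, t * e (sr i) u * t⁻¹ = e (sr i) (c i * u))
    {a : I → ℤ} (ha : IsRoot cs h a) (hdom : ∀ i, 0 ≤ cpr cs h (sr i) a)
    (hsym : ∀ (β : MulAut Y) (σ : Equiv.Perm I), Diag T X β σ → (∀ z ∈ X a, β z = z) → σ = 1)
    {α : MulAut Y} (hα : ∀ z ∈ X a, α z = z) : ∃ g : Y, (∀ z ∈ X a, g * z = z * g) ∧ α = MulAut.conj g := by
  have : Fact (Nat.Prime 2) := ⟨Nat.prime_two⟩
  have hG := GG_eq_top (T := T) hG1
  have hPos : RGD.Pos cs h ⊆ Ge cs h a := by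
    intro x hx
    refine ⟨hx.1, ?_⟩
    have h1 : ell cs h ha x = ∑ i, x i * ell cs h ha (sr i) := by
      conv_lhs => rw [eq_sum_sr x]
      rw [map_sum]
      refine Finset.sum_congr rfl fun i _ => ?_
      rw [map_zsmul, smul_eq_mul]
    rw [ell_apply] at h1
    rw [h1]
    exact Finset.sum_nonneg fun i _ => mul_nonneg (hx.2 i) (by rw [ell_apply]; exact hdom i)
  obtain ⟨g, hg, hU, hUN, hβz, σ, D⟩ := frame_of_fix (R := R) hG
    (fun u hu z hz => (S.lr ha).comm' (RGD.Sup_mono hPos hu) hz) hα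
  obtain ⟨β, hβ⟩ : ∃ β, β = MulAut.conj g * α := ⟨_, rfl⟩
  rw [← hβ] at hU hUN hβz D
  have hσ1 := hsym β σ D hβz
  subst hσ1
  have C := coords S hG1
  have H := coroots S hG1 hN
  obtain ⟨τ, B⟩ := exists_tau R C H hconn D fun _ _ => rfl
  have hτ : τ = 1 := by
    obtain ⟨c, hc, e1⟩ := Tau.root R C B ha
    have e' : ∀ b, c * τ b = b := by
      intro b
      have h1 := e1 b
      rw [hβz _ ((S.mem_X a ha _).2 ⟨b, rfl⟩)] at h1
      exact (S.data.injective ha h1).symm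
    have h1 := e' 1
    rw [map_one, mul_one] at h1
    ext b
    have h2 := e' b
    rw [h1, one_mul] at h2
    exact h2
  subst hτ
  have hc : ∀ i, ∃ c : Kˣ, ∀ b, β (e (sr i) b) = e (sr i) (c * b) := by
    intro i
    obtain ⟨c, hc, e1⟩ := Tau.root R C B (isRoot_sr cs h i)
    exact ⟨Units.mk0 c hc, e1⟩
  choose c hc using hc
  obtain ⟨t, ht, het⟩ := htor c
  have hsup : ∀ Ω : Set (I → ℤ), (∀ x ∈ Ω, IsRoot cs h x) → t⁻¹ ∈ Subgroup.normalizer (RGD.Sup X Ω : Set Y) := by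
    intro Ω hΩ
    rw [mem_normalizer_iff_cj, RGD.cj_Sup]
    exact iSup_congr fun z => R.tor z.1 (hΩ z.1 z.2) _ (inv_mem ht)
  have h1 : MulAut.conj t⁻¹ * β = 1 := by
    refine eq_one_of_fix R hG1 ((fix_conj (hsup _ fun x hx => hx.1)).mul hU)
      ((fix_conj (hsup _ fun x hx => hx.1)).mul hUN) fun i y hy => ?_
    obtain ⟨b, rfl⟩ := (S.mem_X _ (isRoot_sr cs h i) y).1 hy
    show t⁻¹ * β (e (sr i) b) * t⁻¹⁻¹ = _
    have h2 := het i b
    rw [← hc] at h2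
    rw [← h2]; group
  have h2 : α = MulAut.conj (g⁻¹ * t) := by
    have h3 : α = (MulAut.conj g)⁻¹ * MulAut.conj t * (MulAut.conj t⁻¹ * β) := by
      rw [hβ, map_inv]; group
    rw [h3, h1, mul_one, map_mul, map_inv]
  refine ⟨g⁻¹ * t, fun z hz => ?_, h2⟩
  have h3 := hα z hz
  rw [h2, MulAut.conj_apply] at h3
  calc g⁻¹ * t * z = (g⁻¹ * t) * z * (g⁻¹ * t)⁻¹ * (g⁻¹ * t) := by group
    _ = z * (g⁻¹ * t) := by rw [h3]

/-- **An automorphism trivial on a root group is inner** (no diagram symmetries: types `C_n`, `n ≥ 3`, `E₇`, `E₈`). -/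
theorem inner_of_fix [Finite W] [Finite Y] [Finite K] [Nonempty I] {R : RGD cs h 2 T n X} (S : Sys R e)
    (hG1 : RGD.Sup X {x | IsRoot cs h x} = ⊤) (hN : NoCent cs h T X)
    (hconn : ∀ J : Set I, J.Nonempty → J ≠ Set.univ → ∃ a ∈ J, ∃ b, b ∉ J ∧ M a b ≠ 2)
    (htor : ∀ c : I → Kˣ, ∃ t ∈ T, ∀ i u, t * e (sr i) u * t⁻¹ = e (sr i) (c i * u))
    (hsym : ∀ σ : Equiv.Perm I, (∀ i j, M (σ i) (σ j) = M i j) → σ = 1)
    {a : I → ℤ} (ha : IsRoot cs h a) {α : MulAut Y} (hα : ∀ z ∈ X a, α z = z) :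
    ∃ g : Y, (∀ z ∈ X a, g * z = z * g) ∧ α = MulAut.conj g := by
  obtain ⟨w, hw⟩ := (S.lr ha).exists_dominant
  obtain ⟨m, hm⟩ := exists_rp cs R.nsys w
  have hX : ∀ z ∈ X (rep cs h w a), m⁻¹ * z * m ∈ X a := by
    intro z hz
    rw [← R.conj_rp hm ha, mem_cj] at hz
    exact hz
  have h1 : ∀ z ∈ X (rep cs h w a), (MulAut.conj m * α * (MulAut.conj m)⁻¹) z = z := by
    intro z hz
    rw [← map_inv]
    show m * α (m⁻¹ * z * m⁻¹⁻¹) * m⁻¹ = z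
    rw [inv_inv, hα _ (hX z hz)]
    group
  obtain ⟨g, -, e1⟩ := inner_of_fix_dom S hG1 hN hconn htor (ha.act w) hw
    (fun β σ D _ => hsym σ (D.matrix R)) h1
  have h2 : α = MulAut.conj (m⁻¹ * g * m) := by
    rw [map_mul, map_mul, map_inv, ← e1]; group
  refine ⟨_, fun z hz => ?_, h2⟩
  have h3 := hα z hz
  rw [h2, MulAut.conj_apply] at h3
  calc m⁻¹ * g * m * z = (m⁻¹ * g * m) * z * (m⁻¹ * g * m)⁻¹ * (m⁻¹ * g * m) := by group
    _ = z * (m⁻¹ * g * m) := by rw [h3]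

/-- **Automorphisms trivial on the root groups of `Ψ`** (no diagram symmetries). -/
theorem inner_star [Finite W] [Finite Y] [Finite K] [Nonempty I] {R : RGD cs h 2 T n X} (S : Sys R e)
    (hG1 : RGD.Sup X {x | IsRoot cs h x} = ⊤) (hN : NoCent cs h T X)
    (hconn : ∀ J : Set I, J.Nonempty → J ≠ Set.univ → ∃ a ∈ J, ∃ b, b ∉ J ∧ M a b ≠ 2)
    (htor : ∀ c : I → Kˣ, ∃ t ∈ T, ∀ i u, t * e (sr i) u * t⁻¹ = e (sr i) (c i * u))
    (hsym : ∀ σ : Equiv.Perm I, (∀ i j, M (σ i) (σ j) = M i j) → σ = 1)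
    {Ψ : Set (I → ℤ)} (hΨ : ∀ a ∈ Ψ, IsRoot cs h a) (hne : Ψ.Nonempty)
    (hsup : ∀ g : Y, (∀ a ∈ Ψ, ∃ z ∈ X a, z ≠ 1 ∧ g * z = z * g) → g ∈ RGD.Sup X (star cs h Ψ))
    {α : MulAut Y} (hα : ∀ a ∈ Ψ, ∀ z ∈ X a, α z = z) : ∃ g ∈ RGD.Sup X (star cs h Ψ), α = MulAut.conj g := by
  obtain ⟨a, ha⟩ := hne
  obtain ⟨g, -, rfl⟩ := inner_of_fix S hG1 hN hconn htor hsym (hΨ a ha) (hα a ha)
  refine ⟨g, hsup g fun b hb => ?_, rfl⟩
  have h1 := X_ne_bot R (hΨ b hb)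
  rw [ne_eq, Subgroup.eq_bot_iff_forall] at h1
  push Not at h1
  obtain ⟨z, hz, hz1⟩ := h1
  refine ⟨z, hz, hz1, ?_⟩
  have h2 := hα b hb z hz
  rw [MulAut.conj_apply] at h2
  calc g * z = g * z * g⁻¹ * g := by group
    _ = z * g := by rw [h2]

/-- The overgroup form. -/
theorem exists_mul_of_fix {G : Type*} [Group G] {j : Y →* G} (hj : Function.Injective j) {Z : Set Y}
    (hin : ∀ α : MulAut Y, (∀ z ∈ Z, α z = z) → ∃ g : Y, (∀ z ∈ Z, g * z = z * g) ∧ α = MulAut.conj g) {g : G}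
    (hg : ∀ y, g * j y * g⁻¹ ∈ j.range) (hg' : ∀ y, g⁻¹ * j y * g ∈ j.range)
    (hgx : ∀ z ∈ Z, g * j z = j z * g) :
    ∃ y, (∀ z ∈ Z, y * z = z * y) ∧ ∃ c : G, (∀ x, c * j x = j x * c) ∧ g = j y * c := by
  have hn : g ∈ Subgroup.normalizer (j.range : Set G) := by
    rw [Subgroup.mem_normalizer_iff]
    intro x
    constructor
    · rintro ⟨y, rfl⟩
      exact hg y
    · rintro ⟨y, hy⟩
      have := hg' y
      rw [hy] at this
      have e : g⁻¹ * (g * x * g⁻¹) * g = x := by group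
      rwa [e] at this
  obtain ⟨y, hy, e⟩ := hin (RgdOver.act j hj ⟨g, hn⟩) (by
    intro z hz
    apply hj
    rw [RgdOver.f_act j hj]
    show g * j z * g⁻¹ = j z
    rw [hgx z hz, mul_inv_cancel_right])
  refine ⟨y, hy, (j y)⁻¹ * g, fun x => ?_, by group⟩
  have h1 := RgdOver.f_act j hj ⟨g, hn⟩ x
  rw [e, MulAut.conj_apply, map_mul, map_mul, map_inv] at h1
  change j y * j x * (j y)⁻¹ = g * j x * g⁻¹ at h1
  calc (j y)⁻¹ * g * j x = (j y)⁻¹ * (g * j x * g⁻¹) * g := by group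
    _ = j x * ((j y)⁻¹ * g) := by rw [← h1]; group

end Cfsg.Agent.KFacts.ChevTwoAut
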