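import Cfsg.Prelude.Def_LieTypeChar
import Cfsg.Prelude.Def_ChevStructure
import Cfsg.Prelude.Def_ChevB2
import Cfsg.Prelude.Def_ChevD4

/-!
Commutator terms of the Chevalley data modulo 2 (K-group facts, characteristic 2): kernel checks for the pairs
`(p_i, r)`, `p_i` a simple root.
-/

set_option autoImplicit false
set_option Elab.async false

namespace Cfsg.Agent.KFacts.ChevTwoTab

open Cfsg.Lie

/-- The exponents of the commutator word of `(s, r)` in characteristic 2, from `b = ⟨r, s^∨⟩` and `a = ⟨s, r^∨⟩`. -/
def shape (b a : ℤ) : List (ℕ × ℕ) :=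
  if 0 ≤ b then [] else if b = -1 ∧ a = -1 then [(1, 1)] else if b = -2 ∧ a = -1 then [(1, 1), (2, 1)]
  else if b = -1 ∧ a = -2 then [(1, 1), (1, 2)] else [(0, 0)]

/-- The general Cartan integer `⟨s, r^∨⟩`, as a computable sum. -/
def carB (D : ChevalleyDatum) (r s : ℕ) : ℤ :=
  ((List.range D.rank).map fun k => (D.coroot.getD r #[]).getD k 0 * D.cartan k s).sum

def pairOK (D : ChevalleyDatum) (i r : ℕ) : Bool :=
  decide (((D.commTerms (D.simple i) r).filter fun c => c.2.1 % 2 ≠ 0).map (fun c => c.2.2) =
    shape (D.cartan i r) (carB D r (D.simple i)) ∧ D.cartan i r ≤ 2 ∧ -2 ≤ D.cartan i r)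

def rowOK (D : ChevalleyDatum) (i : ℕ) : Bool :=
  (List.range D.nroots).all fun r => r == D.simple i || r == D.neg (D.simple i) || pairOK D i r

theorem okB2 : (List.range 2).all (rowOK chevB2) = true := by decide +kernel
theorem okD4 : (List.range 4).all (rowOK chevD4) = true := by decide +kernel
theorem okF4 : (List.range 4).all (rowOK chevF4) = true := by decide +kernel
theorem okE6 : (List.range 6).all (rowOK chevE6) = true := by decide +kernel

end Cfsg.Agent.KFacts.ChevTwoTab
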