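import Cfsg.Agent.KFacts.ChevTwo
import Cfsg.Agent.KFacts.ChevTwoTab
import Cfsg.Agent.Nodes.RGDChev
import Cfsg.Agent.ChevalleyStructure.RootWord
import Cfsg.Agent.ChevalleyStructure.Irreducible
import Cfsg.Agent.ChevalleyStructure.BruhatSplit

/-!
The Chevalley groups `D.group K`, `K` of characteristic two, `D` without triple bonds, as instances of
`ChevTwo.Data` (K-group facts for S1765, node D10).
-/

set_option autoImplicit false
set_option linter.unusedSectionVars false

namespace Cfsg.Agent.KFacts.ChevTwoInst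

open CoxeterSystem Cfsg.Agent.ChevalleyStructure.CoxeterGeom Cfsg.Agent.Tits.Roots Cfsg.Agent.Tits.Core
  Cfsg.Agent.Tits.RootComb Cfsg.Agent.Nodes.Comb Cfsg.Agent.Nodes.Reps Cfsg.Agent.Nodes.BNOf
open Cfsg.Lie Cfsg.Agent.ChevalleyStructure Cfsg.Agent.ChevalleyStructure.Elts
  Cfsg.Agent.ChevalleyStructure.RootVec Cfsg.Agent.ChevalleyStructure.RootVecTab
  Cfsg.Agent.ChevalleyStructure.NPerm Cfsg.Agent.ChevalleyStructure.CoxeterGeomTypes
open Cfsg.Agent.Nodes.RGDChev Cfsg.Agent.Nodes.Coroot Cfsg.Agent.KFacts.ChevTwo Cfsg.Agent.KFacts.ChevTwoTab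
open scoped commutatorElement

universe u

variable {D : ChevalleyDatum} {l : ℕ} {M : CoxeterMatrix (Fin l)} {K : Type u} [Field K]

/-- The root element of the vector `x` (`1` if `x` is not a root). -/
noncomputable def ev (hD : InList D) (l : ℕ) (x : Fin l → ℤ) (t : K) : GL D.Idx K := by
  classical
  exact if hx : ∃ r, r < D.nroots ∧ vec D l r = x then xG hD hx.choose t else 1

theorem ev_vec (hp : IsType D l M) {r : ℕ} (hr : r < D.nroots) (t : K) :
    ev hp.inList l (vec D l r) t = xG hp.inList r t := by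
  unfold ev
  have hx : ∃ s, s < D.nroots ∧ vec D l s = vec D l r := ⟨r, hr, rfl⟩
  rw [dif_pos hx, vec_inj hp hx.choose_spec.1 hr hx.choose_spec.2]

theorem ev_mem (hD : InList D) (l : ℕ) (x : Fin l → ℤ) (t : K) : ev hD l x t ∈ D.group K := by
  unfold ev
  split_ifs
  · exact xG_mem_group hD _ _
  · exact one_mem _

theorem good (hp : IsType D l M) : RootCombGood.Good D := RootComb.good_of_mem hp.inList

theorem cpr_vec (hp : IsType D l M) {W : Type*} [Group W] (cs : CoxeterSystem M W) {r : ℕ} (hr : r < D.nroots) :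
    ∀ s, s < D.nroots → cpr cs hp.isCartan (vec D l s) (vec D l r) = RootCombGood.car D r s := by
  have hW : Finite W := finite_W hp cs
  have G := good hp
  refine RootWord.root_induction G (P := fun r => ∀ s, s < D.nroots →
    cpr cs hp.isCartan (vec D l s) (vec D l r) = RootCombGood.car D r s) ?_ ?_ r hr
  · intro i hi s hs
    have hi' : i < l := by rw [← hp.rank_eq]; exact hi
    rw [show D.simple i = D.simple ((⟨i, hi'⟩ : Fin l) : ℕ) from rfl, vec_simple hp ⟨i, hi'⟩, cpr_sr,
      pairing_vec hp _ hs, RootWord.car_simple G hi]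
  · intro i hi r hr ih s hs
    have hi' : i < l := by rw [← hp.rank_eq]; exact hi
    have e1 : vec D l (D.reflectRoot i r) = rep cs hp.isCartan (cs.simple ⟨i, hi'⟩) (vec D l r) :=
      (rep_vec hp cs ⟨i, hi'⟩ hr).symm
    have e2 : vec D l s = rep cs hp.isCartan (cs.simple ⟨i, hi'⟩) (vec D l (D.reflectRoot i s)) := by
      rw [show D.reflectRoot i s = D.reflectRoot ((⟨i, hi'⟩ : Fin l) : ℕ) s from rfl, ← rep_vec hp cs ⟨i, hi'⟩ hs,
        ← rep_mul_apply, cs.simple_mul_simple_self, map_one, Module.End.one_apply]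
    have hs' := G.reflect_lt hi hs
    rw [e1, e2, cpr_rep cs _ _ _ (isRoot_vec hp cs hr), ih _ hs', ← RootWord.car_reflect G hi hr hs',
      G.reflect_reflect hi hs]

theorem sum_map_range (f : ℕ → ℤ) (n : ℕ) : ((List.range n).map f).sum = ∑ k ∈ Finset.range n, f k := by
  induction n with
  | zero => simp
  | succ n ih => rw [List.range_succ, List.map_append, List.sum_append, ih, Finset.sum_range_succ]; simp

theorem carB_eq (D : ChevalleyDatum) (r s : ℕ) : carB D r s = RootCombGood.car D r s := sum_map_range _ _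

/-- The characteristic two check of a datum. -/
def TwoOK (D : ChevalleyDatum) : Prop := (List.range D.rank).all (rowOK D) = true

theorem odd_cast (h2 : ∀ t : K, t + t = 0) {C : ℤ} (hC : C % 2 ≠ 0) : (C : K) = 1 := by
  obtain ⟨k, rfl⟩ : ∃ k, C = 2 * k + 1 := ⟨C / 2, by omega⟩
  have h3 : (2 : K) = 0 := by rw [← one_add_one_eq_two]; exact h2 1
  push_cast
  rw [h3, zero_mul, zero_add]

theorem even_cast (h2 : ∀ t : K, t + t = 0) {C : ℤ} (hC : C % 2 = 0) : (C : K) = 0 := by
  obtain ⟨k, rfl⟩ : ∃ k, C = 2 * k := ⟨C / 2, by omega⟩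
  have h3 : (2 : K) = 0 := by rw [← one_add_one_eq_two]; exact h2 1
  push_cast
  rw [h3, zero_mul]

theorem neg_eq_self (h2 : ∀ t : K, t + t = 0) (t : K) : -t = t := neg_eq_of_add_eq_zero_left (h2 t)

/-- The value of a word with the coefficients reduced modulo 2. -/
theorem wordG_terms (hD : InList D) (h2 : ∀ t : K, t + t = 0) (L : List (ℕ × ℤ × ℕ × ℕ)) (t u : K) :
    wordG hD (L.map fun c => (c.1, (c.2.1 : K) * (-t) ^ c.2.2.1 * u ^ c.2.2.2)) =
      wordG hD ((L.filter fun c => c.2.1 % 2 ≠ 0).map fun c => (c.1, t ^ c.2.2.1 * u ^ c.2.2.2)) := by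
  induction L with
  | nil => rfl
  | cons c L ih =>
    rw [List.map_cons, wordG_cons, ih, List.filter_cons]
    by_cases hc : c.2.1 % 2 = 0
    · rw [if_neg (by simpa using hc)]
      show xG hD c.1 ((c.2.1 : K) * _ * _) * _ = _
      rw [even_cast h2 hc, zero_mul, zero_mul, xG_zero, one_mul]
    · rw [if_pos (by simpa using hc), List.map_cons, wordG_cons]
      show xG hD c.1 ((c.2.1 : K) * _ * _) * _ = _
      rw [odd_cast h2 hc, one_mul, neg_eq_self h2]

theorem comm_word (hp : IsType D l M) (h2 : ∀ t : K, t + t = 0) {r s : ℕ} (hr : r < D.nroots) (hs : s < D.nroots)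
    (hrs : s ≠ r) (hneg : s ≠ D.neg r) (t u : K) :
    ⁅xG hp.inList s u, xG hp.inList r t⁆ =
      wordG hp.inList (((D.commTerms r s).filter fun c => c.2.1 % 2 ≠ 0).map
        fun c => (c.1, t ^ c.2.2.1 * u ^ c.2.2.2)) := by
  have h1 := comm_xG (K := K) hp hr hs hrs hneg t u
  rw [xG_inv, xG_inv, neg_eq_self h2, neg_eq_self h2] at h1
  rw [h1, ← wordG_terms hp.inList h2]
  rfl

/-- The three shapes. -/
theorem row (hp : IsType D l M) (hOK : TwoOK D) (i : Fin l) {r : ℕ} (hr : r < D.nroots) (h1 : r ≠ D.simple i)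
    (h2 : r ≠ D.neg (D.simple i)) :
    ((D.commTerms (D.simple i) r).filter fun c => c.2.1 % 2 ≠ 0).map (fun c => c.2.2) =
      shape (D.cartan i r) (RootCombGood.car D r (D.simple i)) ∧ D.cartan i r ≤ 2 ∧ -2 ≤ D.cartan i r := by
  have h3 := List.all_eq_true.1 hOK i (List.mem_range.2 (lt_rank hp i))
  have h4 := List.all_eq_true.1 h3 r (List.mem_range.2 hr)
  rw [Bool.or_eq_true, Bool.or_eq_true, beq_iff_eq, beq_iff_eq] at h4
  have h5 := (h4.resolve_left (by rintro (h | h); exacts [h1 h, h2 h]))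
  have h6 := of_decide_eq_true h5
  rwa [carB_eq] at h6

/-! ### The elements `n_i`, `h_i(c)` -/

theorem ev_sr (hp : IsType D l M) (i : Fin l) (t : K) : ev hp.inList l (sr i) t = xG hp.inList (D.simple i) t := by
  rw [← vec_simple hp i, ev_vec hp (simple_lt hp.inList (lt_rank hp i))]

theorem ev_neg_sr (hp : IsType D l M) (i : Fin l) (t : K) :
    ev hp.inList l (-sr i) t = xG hp.inList (D.neg (D.simple i)) t := by
  have h := simple_lt hp.inList (lt_rank hp i)
  rw [← vec_simple hp i, ← vec_neg hp h, ev_vec hp (neg_lt hp.inList h)]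

theorem nc_eq (hp : IsType D l M) (h2 : ∀ t : K, t + t = 0) (i : Fin l) (c : K) :
    nc (ev hp.inList l) (sr i) c = nG hp.inList (D.simple i) c := by
  rw [nc_def, nG_def, ev_sr hp, ev_neg_sr hp, neg_eq_self h2, mul_assoc]

theorem nel_eq (hp : IsType D l M) (h2 : ∀ t : K, t + t = 0) (i : Fin l) :
    nel (ev (K := K) hp.inList l) (sr i) = nG hp.inList (D.simple i) 1 := nc_eq hp h2 i 1

theorem hel_eq (hp : IsType D l M) (h2 : ∀ t : K, t + t = 0) (i : Fin l) (c : K) :
    hel (ev hp.inList l) (sr i) c = hG hp.inList (D.simple i) c := by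
  rw [hel_def, hG_def, nc_eq hp h2, nel_eq hp h2, neg_eq_self h2 (1 : K)]

theorem isRoot_add {W : Type*} [Group W] (cs : CoxeterSystem M W) (hp : IsType D l M) {v s r : ℕ} {i j : ℕ} {C : ℤ}
    (hv : (v, C, i, j) ∈ D.commTerms s r) :
    v < D.nroots ∧ vec D l v = (i : ℤ) • vec D l s + (j : ℤ) • vec D l r := by
  obtain ⟨h1, -, -, -, -, h2⟩ := commTerms_rt hp.checked hv
  refine ⟨h1, ?_⟩
  funext k
  rw [vec_apply, h2, Pi.add_apply, Pi.smul_apply, Pi.smul_apply, smul_eq_mul, smul_eq_mul, vec_apply, vec_apply]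

/-- **The Chevalley groups of characteristic two without triple bonds.** -/
theorem data (hp : IsType D l M) (hOK : TwoOK D) (h2 : ∀ t : K, t + t = 0) {W : Type*} [Group W]
    (cs : CoxeterSystem M W) : Data cs hp.isCartan (ev (K := K) hp.inList l) := by
  have hW : Finite W := finite_W hp cs
  have hsl : ∀ i : Fin l, D.simple i < D.nroots := fun i => simple_lt hp.inList (lt_rank hp i)
  -- the commutator with a simple root
  have key : ∀ (r : ℕ) (i : Fin l), r < D.nroots → vec D l r ≠ sr i → vec D l r ≠ -sr i → ∀ t u : K,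
      ∃ L : List (ℕ × ℤ × ℕ × ℕ), (∀ c ∈ L, c ∈ D.commTerms (D.simple i) r) ∧
        L.map (fun c => c.2.2) = shape (D.cartan i r) (RootCombGood.car D r (D.simple i)) ∧
        ⁅ev hp.inList l (vec D l r) t, ev hp.inList l (sr i) u⁆ =
          wordG hp.inList (L.map fun c => (c.1, u ^ c.2.2.1 * t ^ c.2.2.2)) := by
    intro r i hr h1 h2' t u
    have e1 : r ≠ D.simple i := by rintro rfl; exact h1 (vec_simple hp i)
    have e2 : r ≠ D.neg (D.simple i) := by
      rintro rfl
      exact h2' (by rw [vec_neg hp (hsl i), vec_simple hp])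
    refine ⟨_, fun c hc => (List.mem_filter.1 hc).1, (row hp hOK i hr e1 e2).1, ?_⟩
    rw [ev_vec hp hr, ev_sr hp, comm_word hp h2 (hsl i) hr e1 e2]
  refine Data.mk' h2 ?_ ?_ ?_ ?_ ?_ ?_ ?_ ?_
  · intro x hx t u
    obtain ⟨r, hr, rfl⟩ := (isRoot_iff hp cs x).1 hx
    rw [ev_vec hp hr, ev_vec hp hr, ev_vec hp hr, xG_add]
  · intro x hx t ht
    obtain ⟨r, hr, rfl⟩ := (isRoot_iff hp cs x).1 hx
    rw [ev_vec hp hr] at ht
    exact (xG_eq_one_iff hp.inList hr t).1 ht
  · intro i x hx t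
    obtain ⟨r, hr, rfl⟩ := (isRoot_iff hp cs x).1 hx
    rw [nel_eq hp h2, rep_vec hp cs i hr, ev_vec hp hr, ev_vec hp (reflectRoot_lt hp.inList (lt_rank hp i) hr)]
    obtain ⟨η, hη, he⟩ := Irreducible.nG_conj (F := K) hp.inList i r (lt_rank hp i) hr
    rw [he t, mul_inv_cancel_right]
    congr 1
    rcases hη with rfl | rfl
    · rw [Int.cast_one, one_mul]
    · rw [Int.cast_neg, Int.cast_one, neg_one_mul, neg_eq_self h2]
  · intro i x hx c hc t
    obtain ⟨r, hr, rfl⟩ := (isRoot_iff hp cs x).1 hx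
    rw [hel_eq hp h2, ev_vec hp hr, pairing_vec hp i hr, ev_vec hp hr]
    exact BruhatSplit.hG_simple_conj hp.inList (lt_rank hp i) hr hc t
  · intro x i hx h1 h2'
    obtain ⟨r, hr, rfl⟩ := (isRoot_iff hp cs x).1 hx
    rw [pairing_vec hp i hr]
    refine (row hp hOK i hr ?_ ?_).2
    · rintro rfl; exact h1 (vec_simple hp i)
    · rintro rfl
      exact h2' (by rw [vec_neg hp (hsl i), vec_simple hp])
  · intro x i hx h1 h2' h0 t u
    obtain ⟨r, hr, rfl⟩ := (isRoot_iff hp cs x).1 hx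
    obtain ⟨L, -, hL, he⟩ := key r i hr h1 h2' t u
    rw [pairing_vec hp i hr] at h0
    rw [shape, if_pos h0, List.map_eq_nil_iff] at hL
    rw [he, hL]
    rfl
  · intro x i hx h1 h2' t u
    obtain ⟨r, hr, rfl⟩ := (isRoot_iff hp cs x).1 hx
    have n1 : vec D l r ≠ sr i := by
      intro h0
      rw [h0, ← cpr_sr cs hp.isCartan, cpr_self cs _ (isRoot_sr cs _ i)] at h1
      omega
    have n2 : vec D l r ≠ -sr i := by
      intro h0
      rw [h0, ← cpr_sr cs hp.isCartan, cpr_neg cs _ _ (isRoot_sr cs _ i), cpr_self cs _ (isRoot_sr cs _ i)] at h1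
      omega
    obtain ⟨L, hL1, hL, he⟩ := key r i hr n1 n2 t u
    rw [pairing_vec hp i hr] at h1
    rw [← vec_simple hp i, cpr_vec hp cs hr _ (hsl i)] at h2'
    rw [shape, h1, h2', if_neg (by decide), if_pos (by decide)] at hL
    obtain ⟨⟨v, C, a, b⟩, rfl⟩ : ∃ c, L = [c] := by
      have := congrArg List.length hL
      rw [List.length_map] at this
      exact List.length_eq_one_iff.1 this
    rw [List.map_cons, List.map_nil, List.cons.injEq, Prod.mk.injEq] at hL
    obtain ⟨⟨rfl, rfl⟩, -⟩ := hL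
    obtain ⟨hv, hv'⟩ := isRoot_add cs hp (hL1 _ List.mem_cons_self)
    rw [he, List.map_cons, List.map_nil, wordG_cons, wordG_nil, mul_one]
    rw [← vec_simple hp i, show vec D l r + vec D l (D.simple i) = vec D l v by
      rw [hv', Nat.cast_one, one_smul, one_smul, add_comm], ev_vec hp hv]
    congr 1
    show u ^ 1 * t ^ 1 = t * u
    ring
  · intro x i hx h1 h2' t u
    obtain ⟨r, hr, rfl⟩ := (isRoot_iff hp cs x).1 hx
    have n1 : vec D l r ≠ sr i := by
      intro h0
      rw [h0, ← cpr_sr cs hp.isCartan, cpr_self cs _ (isRoot_sr cs _ i)] at h1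
      omega
    have n2 : vec D l r ≠ -sr i := by
      intro h0
      rw [h0, cpr_neg_right cs _ _ (isRoot_sr cs _ i), cpr_self cs _ (isRoot_sr cs _ i)] at h2'
      omega
    obtain ⟨L, hL1, hL, he⟩ := key r i hr n1 n2 t u
    rw [pairing_vec hp i hr] at h1
    rw [← vec_simple hp i, cpr_vec hp cs hr _ (hsl i)] at h2'
    rw [shape, h1, h2', if_neg (by decide), if_neg (by decide), if_pos (by decide)] at hL
    obtain ⟨⟨v, C, a, b⟩, ⟨v', C', a', b'⟩, rfl⟩ : ∃ c d, L = [c, d] := by
      have := congrArg List.length hL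
      rw [List.length_map] at this
      exact List.length_eq_two.1 this
    rw [List.map_cons, List.map_cons, List.map_nil, List.cons.injEq, List.cons.injEq, Prod.mk.injEq,
      Prod.mk.injEq] at hL
    obtain ⟨⟨rfl, rfl⟩, ⟨rfl, rfl⟩, -⟩ := hL
    obtain ⟨hv, hv'⟩ := isRoot_add cs hp (hL1 _ List.mem_cons_self)
    obtain ⟨hw, hw'⟩ := isRoot_add cs hp (hL1 _ (List.mem_cons_of_mem _ List.mem_cons_self))
    rw [he, List.map_cons, List.map_cons, List.map_nil, wordG_cons, wordG_cons, wordG_nil, mul_one]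
    rw [← vec_simple hp i, show vec D l r + vec D l (D.simple i) = vec D l v by
      rw [hv', Nat.cast_one, one_smul, one_smul, add_comm],
      show vec D l r + (2 : ℤ) • vec D l (D.simple i) = vec D l v' by
      rw [hw', Nat.cast_one, one_smul, add_comm]; rfl, ev_vec hp hv, ev_vec hp hw]
    congr 2
    · show u ^ 1 * t ^ 1 = t * u
      ring
    · show u ^ 2 * t ^ 1 = t * u ^ 2
      ring

theorem twoOK_B2 : TwoOK chevB2 := okB2
theorem twoOK_D4 : TwoOK chevD4 := okD4
theorem twoOK_F4 : TwoOK chevF4 := okF4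
theorem twoOK_E6 : TwoOK chevE6 := okE6

end Cfsg.Agent.KFacts.ChevTwoInst
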