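import Cfsg.Agent.KFacts.ChevTwoTab

/-! The kernel checks of `ChevTwoTab` for `E₇` and `E₈`. -/

set_option autoImplicit false
set_option Elab.async false

namespace Cfsg.Agent.KFacts.ChevTwoTab

open Cfsg.Lie

theorem okE7 : (List.range 7).all (rowOK chevE7) = true := by decide +kernel

theorem okE8_0 : rowOK chevE8 0 = true := by decide +kernel
theorem okE8_1 : rowOK chevE8 1 = true := by decide +kernel
theorem okE8_2 : rowOK chevE8 2 = true := by decide +kernel
theorem okE8_3 : rowOK chevE8 3 = true := by decide +kernel
theorem okE8_4 : rowOK chevE8 4 = true := by decide +kernel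
theorem okE8_5 : rowOK chevE8 5 = true := by decide +kernel
theorem okE8_6 : rowOK chevE8 6 = true := by decide +kernel
theorem okE8_7 : rowOK chevE8 7 = true := by decide +kernel

theorem okE8 : (List.range 8).all (rowOK chevE8) = true := by
  have h : List.range 8 = [0, 1, 2, 3, 4, 5, 6, 7] := by decide
  rw [h, List.all_cons, List.all_cons, List.all_cons, List.all_cons, List.all_cons, List.all_cons, List.all_cons,
    List.all_cons, List.all_nil, okE8_0, okE8_1, okE8_2, okE8_3, okE8_4, okE8_5, okE8_6, okE8_7]
  decide

end Cfsg.Agent.KFacts.ChevTwoTab
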