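import Cfsg.Agent.KFacts.ChevTwoInst
import Cfsg.Agent.KFacts.ChevTwoTabE

/-! `TwoOK` for `E₇` and `E₈`. -/

set_option autoImplicit false

namespace Cfsg.Agent.KFacts.ChevTwoInst

open Cfsg.Lie Cfsg.Agent.KFacts.ChevTwoTab

theorem twoOK_E7 : TwoOK chevE7 := okE7
theorem twoOK_E8 : TwoOK chevE8 := okE8

end Cfsg.Agent.KFacts.ChevTwoInst
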