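import Cfsg.Agent.KFacts.ChevTwoSys
import Cfsg.Agent.KFacts.ChevTwoInst

/-!
The Chevalley groups `D.group K` (characteristic two, no triple bonds) as instances of `ChevTwo.Sys`
(K-group facts for S1765, node D10).
-/

set_option autoImplicit false
set_option linter.unusedSectionVars false

namespace Cfsg.Agent.KFacts.ChevTwoInst

open CoxeterSystem Cfsg.Agent.ChevalleyStructure.CoxeterGeom Cfsg.Agent.Tits.Roots Cfsg.Agent.Tits.Core
  Cfsg.Agent.Tits.RootComb Cfsg.Agent.Nodes.Comb Cfsg.Agent.Nodes.Reps Cfsg.Agent.Nodes.BNOf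
open Cfsg.Lie Cfsg.Agent.ChevalleyStructure Cfsg.Agent.ChevalleyStructure.Elts
  Cfsg.Agent.ChevalleyStructure.RootVec Cfsg.Agent.ChevalleyStructure.RootVecTab
  Cfsg.Agent.ChevalleyStructure.NPerm Cfsg.Agent.ChevalleyStructure.CoxeterGeomTypes
open Cfsg.Agent.Nodes Cfsg.Agent.Nodes.RGDChev Cfsg.Agent.Nodes.Coroot Cfsg.Agent.KFacts.ChevTwo
  Cfsg.Agent.KFacts.ChevTwoTab
open scoped commutatorElement

universe u

variable {D : ChevalleyDatum} {l : ℕ} {M : CoxeterMatrix (Fin l)} {K : Type u} [Field K]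

/-- The root elements inside `D.group K`. -/
noncomputable def eg (hp : IsType D l M) (K : Type u) [Field K] (x : Fin l → ℤ) (t : K) : ↥(D.group K) :=
  ⟨ev hp.inList l x t, ev_mem hp.inList l x t⟩

theorem coe_eg (hp : IsType D l M) (x : Fin l → ℤ) (t : K) :
    ((eg hp K x t : ↥(D.group K)) : GL D.Idx K) = ev hp.inList l x t := rfl

theorem coe_nc (hp : IsType D l M) (x : Fin l → ℤ) (c : K) :
    ((nc (eg hp K) x c : ↥(D.group K)) : GL D.Idx K) = nc (ev hp.inList l) x c := rfl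

theorem coe_nel (hp : IsType D l M) (x : Fin l → ℤ) :
    ((nel (eg hp K) x : ↥(D.group K)) : GL D.Idx K) = nel (ev hp.inList l) x := rfl

theorem coe_hel (hp : IsType D l M) (x : Fin l → ℤ) (c : K) :
    ((hel (eg hp K) x c : ↥(D.group K)) : GL D.Idx K) = hel (ev hp.inList l) x c := rfl

theorem data_group (hp : IsType D l M) (hOK : TwoOK D) (h2 : ∀ t : K, t + t = 0) {W : Type*} [Group W]
    (cs : CoxeterSystem M W) : Data cs hp.isCartan (eg hp K) := by
  have d := data hp hOK h2 cs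
  refine ⟨d.two, ?_, ?_, ?_, ?_, d.lace, ?_, ?_, ?_⟩
  · intro x hx t u; exact Subtype.ext (d.add x hx t u)
  · intro x hx t ht; exact d.inj x hx t (congrArg Subtype.val ht)
  · intro i x hx t; exact Subtype.ext (d.refl i x hx t)
  · intro i x hx c hc t; exact Subtype.ext (d.tor i x hx c hc t)
  · intro x y hx hy h1 h2 h3 t u; exact Subtype.ext (d.comm0 x y hx hy h1 h2 h3 t u)
  · intro x y hx hy h1 h2 t u; exact Subtype.ext (d.comm1 x y hx hy h1 h2 t u)
  · intro x y hx hy h1 h2 t u; exact Subtype.ext (d.comm2 x y hx hy h1 h2 t u)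

theorem nG_eq (hp : IsType D l M) (h2 : ∀ t : K, t + t = 0) {r : ℕ} (hr : r < D.nroots) (c : K) :
    nc (ev hp.inList l) (vec D l r) c = nG hp.inList r c := by
  rw [nc_def, nG_def, ev_vec hp hr, ← vec_neg hp hr, ev_vec hp (neg_lt hp.inList hr), neg_eq_self h2, mul_assoc]

theorem hG_eq (hp : IsType D l M) (h2 : ∀ t : K, t + t = 0) {r : ℕ} (hr : r < D.nroots) (c : K) :
    hel (ev hp.inList l) (vec D l r) c = hG hp.inList r c := by
  rw [hel_def, hG_def, nG_eq hp h2 hr, neg_eq_self h2 (1 : K)]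
  unfold nel
  rw [nG_eq hp h2 hr]

theorem sys (hp : IsType D l M) (hOK : TwoOK D) [CharP K 2] [Finite K] {W : Type*} [Group W]
    (cs : CoxeterSystem M W) : Sys (rgd (K := K) hp cs 2) (eg hp K) := by
  have hW : Finite W := finite_W hp cs
  have h2 : ∀ t : K, t + t = 0 := fun t => CharTwo.add_self_eq_zero t
  have d := data_group hp hOK h2 cs
  refine ⟨d, ?_, ?_, ?_⟩
  · intro x hx g
    obtain ⟨r, hr, rfl⟩ := (isRoot_iff hp cs x).1 hx
    rw [Subgroup.mem_subgroupOf, XV_vec hp K hr, mem_rootSubgroup_iff hp.inList]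
    constructor
    · rintro ⟨t, ht⟩
      refine ⟨t, Subtype.ext ?_⟩
      rw [coe_eg, ev_vec hp hr, ht]
    · rintro ⟨t, rfl⟩
      exact ⟨t, by rw [coe_eg, ev_vec hp hr]⟩
  · intro i
    refine Subtype.ext ?_
    rw [coe_nel, nel_eq hp h2]
    rfl
  · intro t ht
    refine d.exists_chi ?_
    rw [Subgroup.mem_subgroupOf] at ht
    have h1 : D.diagonalSubgroup K ≤ (Subgroup.closure {g : ↥(D.group K) | ∃ y c, IsRoot cs hp.isCartan y ∧ c ≠ 0 ∧
        g = hel (eg hp K) y c}).map (D.group K).subtype := by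
      rw [diagonal_le_iff hp.inList]
      intro r hr c hc
      refine ⟨hel (eg hp K) (vec D l r) c, Subgroup.subset_closure ⟨_, c, isRoot_vec hp cs hr, hc, rfl⟩, ?_⟩
      show ((hel (eg hp K) (vec D l r) c : ↥(D.group K)) : GL D.Idx K) = _
      rw [coe_hel, hG_eq hp h2 hr]
    obtain ⟨g, hg, hgt⟩ := h1 ht
    have : g = t := Subtype.ext hgt
    rw [← this]
    exact hg

end Cfsg.Agent.KFacts.ChevTwoInst
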