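import Cfsg.Agent.KFacts.LargeE
import Cfsg.Agent.KFacts.OutQ
import Cfsg.Agent.OddHalf.D8.Sheet

/-!
# The sheet of type (E) from a large extraspecial subgroup (helper756)

`sheet`: let `Large Q z`, `C_K(z)/Q` simple non-abelian, irreducible on `Q/⟨z⟩`, `|K : C_K(z)|` odd, and suppose that
every automorphism of `C_K(z)` acts on `Q/⟨z⟩` like an element of `C_K(z)`; suppose that `K = ⟨C_K(z), n₀⟩` with
`z ≠ n₀ z n₀⁻¹ ∈ Q` and that some conjugate of `z` lies in `C_K(z) - Q`. Then helper915's `SheetE z (C_K(z)) Q` holds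
(and every automorphism of `K` is inner: `inner`).
-/

set_option autoImplicit false

namespace Cfsg.Agent.KFacts.LargeSheet

open Cfsg.Agent.Co2Type.Quad Cfsg.Agent.LargeExtra.Base
open scoped commutatorElement

variable {K : Type*} [Group K] {Q : Subgroup K} {z : K}

/-- a normal 2-subgroup of `C_K(z)` lies in `Q` -/
theorem le_of_normal [Finite K] {L : Type*} [Group L] [IsSimpleGroup L] {π : Subgroup.centralizer ({z} : Set K) →* L} (hnab : ∃ a b : L, a * b ≠ b * a) (hsurj : Function.Surjective π)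
    (hker : ∀ c : Subgroup.centralizer ({z} : Set K), π c = 1 ↔ (c : K) ∈ Q) {B : Subgroup K}
    (hB : B ≤ Subgroup.centralizer ({z} : Set K)) (hB2 : IsPGroup 2 B)
    (hBn : ∀ x ∈ Subgroup.centralizer ({z} : Set K), ∀ b ∈ B, x * b * x⁻¹ ∈ B) : B ≤ Q := by
  have : Fact (Nat.Prime 2) := ⟨Nat.prime_two⟩
  have hn : (B.subgroupOf (Subgroup.centralizer ({z} : Set K))).Normal :=
    ⟨fun b hb g => hBn g g.2 b hb⟩
  have h1 : ((B.subgroupOf (Subgroup.centralizer ({z} : Set K))).map π).Normal := hn.map π hsurj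
  have hB2' : IsPGroup 2 (B.subgroupOf (Subgroup.centralizer ({z} : Set K))) :=
    hB2.of_injective (Subgroup.subgroupOfEquivOfLe hB).toMonoidHom (Subgroup.subgroupOfEquivOfLe hB).injective
  rcases h1.eq_bot_or_eq_top with h2 | h2
  · intro b hb
    have h3 : π ⟨b, hB hb⟩ ∈ (B.subgroupOf (Subgroup.centralizer ({z} : Set K))).map π := ⟨_, hb, rfl⟩
    rw [h2, Subgroup.mem_bot] at h3
    exact (hker _).1 h3
  · exfalso
    have h3 : IsPGroup 2 L := by
      have h4 := hB2'.map π
      rw [h2] at h4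
      exact h4.of_equiv Subgroup.topEquiv
    have hfin : Finite L := Finite.of_surjective π hsurj
    obtain ⟨a, b, hab⟩ := hnab
    have hnil := h3.isNilpotent
    have hsol : Group.IsSolvable L := inferInstance
    exact hab (IsSimpleGroup.comm_iff_isSolvable.2 hsol a b)

/-- the hypotheses -/
structure Data (Q : Subgroup K) (z : K) (L : Type*) [Group L] (π : Subgroup.centralizer ({z} : Set K) →* L) : Prop where
  large : Large Q z
  nab : ∃ a b : L, a * b ≠ b * a
  surj : Function.Surjective π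
  ker : ∀ c : Subgroup.centralizer ({z} : Set K), π c = 1 ↔ (c : K) ∈ Q
  irr : ∀ N : Subgroup K, N ≤ Q → (∀ g : K, g * z = z * g → ∀ n ∈ N, g * n * g⁻¹ ∈ N) →
    (∀ n ∈ N, n = 1 ∨ n = z) ∨ N = Q
  ex : ∃ x ∈ Q, x ≠ 1 ∧ x ≠ z
  odd : Odd (Subgroup.centralizer ({z} : Set K)).index
  /-- every automorphism of `C_K(z)` acts on `Q/⟨z⟩` like an element of `C_K(z)` -/
  nor : ∀ β : MulAut (Subgroup.centralizer ({z} : Set K)), ∃ c₀ : Subgroup.centralizer ({z} : Set K),
    ∀ q : Subgroup.centralizer ({z} : Set K), (q : K) ∈ Q →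
      (β q : K) = c₀ * q * (c₀ : K)⁻¹ ∨ (β q : K) = c₀ * q * (c₀ : K)⁻¹ * z
  gen : ∃ n₀ : K, n₀ * z * n₀⁻¹ ∈ Q ∧ n₀ * z * n₀⁻¹ ≠ z ∧
    Subgroup.closure ({c : K | c * z = z * c} ∪ {n₀}) = ⊤
  out : ∃ k : K, (k * z * k⁻¹) * z = z * (k * z * k⁻¹) ∧ k * z * k⁻¹ ∉ Q

namespace Data

variable {L : Type*} [Group L] {π : Subgroup.centralizer ({z} : Set K) →* L}

theorem perfect [IsSimpleGroup L] (D : Data Q z L π) : commutator (Subgroup.centralizer ({z} : Set K)) = ⊤ :=
  LargeE.perfect D.large D.nab π D.surj D.ker D.irr D.ex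

/-- `z` in `C_K(z)` -/
def zC (z : K) : Subgroup.centralizer ({z} : Set K) := ⟨z, Subgroup.mem_centralizer_singleton_iff.2 rfl⟩

theorem mem_center (D : Data Q z L π) {c : Subgroup.centralizer ({z} : Set K)}
    (hc : ∀ d, c * d = d * c) : c = 1 ∨ c = zC z := by
  rcases LargeE.cent_eq D.large (y := c) (Subgroup.mem_centralizer_singleton_iff.1 c.2) (fun x hx => by
    exact congrArg Subtype.val (hc ⟨x, Subgroup.mem_centralizer_singleton_iff.2 (D.large.comm_z x hx)⟩)) with h | h
  · exact Or.inl (Subtype.ext h)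
  · exact Or.inr (Subtype.ext h)

theorem fix_z (D : Data Q z L π) (β : MulAut (Subgroup.centralizer ({z} : Set K))) : β (zC z) = zC z := by
  rcases D.mem_center (c := β (zC z)) (fun d => by
    obtain ⟨d, rfl⟩ := β.surjective d
    rw [← map_mul, ← map_mul]
    congr 1
    exact Subtype.ext (Subgroup.mem_centralizer_singleton_iff.1 d.2).symm) with h | h
  · exfalso
    apply D.large.z_ne
    have h1 : zC z = 1 := β.injective (by rw [h, map_one])
    exact congrArg Subtype.val h1
  · exact h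

/-- no subgroup of index 2 -/
theorem index_ne_two {G : Type*} [Group G] (hG : commutator G = ⊤) (N : Subgroup G) : N.index ≠ 2 := by
  intro h2
  have hn : N.Normal := Subgroup.normal_of_index_eq_two h2
  have h3 : Nat.card (G ⧸ N) = 2 := h2
  have h4 : IsCyclic (G ⧸ N) := by
    have : Fact (Nat.Prime 2) := ⟨Nat.prime_two⟩
    exact isCyclic_of_prime_card h3
  have h5 : commutator G ≤ N := by
    rw [commutator_def, Subgroup.commutator_le]
    intro a _ b _
    rw [← QuotientGroup.eq_one_iff, ← QuotientGroup.mk'_apply, map_commutatorElement, commutatorElement_eq_one_iff_mul_comm]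
    exact (isMulCommutative_iff.1 h4.isMulCommutative) _ _
  rw [hG, top_le_iff] at h5
  rw [h5, Subgroup.index_top] at h2
  omega

/-- **every automorphism of `C_K(z)` is inner** -/
theorem inner_cent [Finite K] [IsSimpleGroup L] (D : Data Q z L π) (β : MulAut (Subgroup.centralizer ({z} : Set K))) :
    ∃ p : Subgroup.centralizer ({z} : Set K), β = MulAut.conj p := by
  have h := D.large
  obtain ⟨c₀, hc₀⟩ := D.nor β
  obtain ⟨x₀, hx₀, hx1, hxz⟩ := D.ex
  have hcard : Nat.card Q ≠ 2 := by
    intro h2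
    have h3 : ({1, z, x₀} : Set K) ⊆ (Q : Set K) := by
      rintro y (rfl | rfl | hy)
      · exact Q.one_mem
      · exact h.z_mem
      · rw [Set.mem_singleton_iff.1 hy]; exact hx₀
    have h4 : ({1, z, x₀} : Set K).ncard = 3 := by
      rw [Set.ncard_insert_of_notMem, Set.ncard_pair (Ne.symm hxz)]
      rintro (h5 | h5)
      · exact h.z_ne h5.symm
      · exact hx1 (Set.mem_singleton_iff.1 h5).symm
    have h5 := Set.ncard_le_ncard h3 (Set.toFinite _)
    rw [h4] at h5
    have h6 : (Q : Set K).ncard = 2 := h2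
    omega
  have hperf := D.perfect
  have hzc : ∀ c : Subgroup.centralizer ({z} : Set K), c * zC z = zC z * c := fun c =>
    Subtype.ext (Subgroup.mem_centralizer_singleton_iff.1 c.2)
  have htop : Subgroup.centralizer ({zC z} : Set (Subgroup.centralizer ({z} : Set K))) = ⊤ := by
    rw [eq_top_iff]
    intro c _
    exact Subgroup.mem_centralizer_singleton_iff.2 (hzc c)
  have hno : ∀ N : Subgroup (Subgroup.centralizer ({zC z} : Set (Subgroup.centralizer ({z} : Set K)))), N.index ≠ 2 := by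
    rw [htop]
    intro N
    have e : (⊤ : Subgroup (Subgroup.centralizer ({z} : Set K))) ≃* Subgroup.centralizer ({z} : Set K) :=
      Subgroup.topEquiv
    have h1 : commutator (⊤ : Subgroup (Subgroup.centralizer ({z} : Set K))) = ⊤ := by
      have h2 : (commutator (⊤ : Subgroup (Subgroup.centralizer ({z} : Set K)))).map e.toMonoidHom = ⊤ := by
        rw [commutator_def, Subgroup.map_commutator]
        have h3 : (⊤ : Subgroup (⊤ : Subgroup (Subgroup.centralizer ({z} : Set K)))).map e.toMonoidHom = ⊤ := by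
          rw [← MonoidHom.range_eq_map]
          exact MonoidHom.range_eq_top.2 e.surjective
        rw [h3, ← commutator_def, hperf]
      rw [eq_top_iff]
      intro c _
      have h3 : e c ∈ (commutator (⊤ : Subgroup (Subgroup.centralizer ({z} : Set K)))).map e.toMonoidHom := by
        rw [h2]; trivial
      obtain ⟨d, hd, hde⟩ := h3
      rwa [← e.injective hde]
    exact index_ne_two h1 N
  obtain ⟨x, hx, hβ⟩ := OutQ.exists_conj_mul (K := Subgroup.centralizer ({z} : Set K)) (z := zC z)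
    (fun h1 => h.z_ne (congrArg Subtype.val h1)) (Subtype.ext h.z_sq)
    (Q.subgroupOf (Subgroup.centralizer ({z} : Set K))) (LargeExtra.Nine.ToCent.isExtraspecial h hcard)
    (Subgroup.mem_subgroupOf.2 h.z_mem) (fun q _ => hzc q)
    (fun c _ q hq => (LargeExtra.Nine.ToCent.normal h).conj_mem q hq c)
    (by
      intro c hc
      rcases LargeE.cent_eq h (y := c) (Subgroup.mem_centralizer_singleton_iff.1 c.2) (fun y hy =>
        congrArg Subtype.val (hc ⟨y, Subgroup.mem_centralizer_singleton_iff.2 (h.comm_z y hy)⟩ hy)) with h1 | h1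
      · exact Or.inl (Subtype.ext h1)
      · exact Or.inr (Subtype.ext h1))
    hno β (D.fix_z β) (c₀ := c₀) (hzc c₀) (by
      intro q hq
      rcases hc₀ q (Subgroup.mem_subgroupOf.1 hq) with h1 | h1
      · exact Or.inl (Subtype.ext h1)
      · exact Or.inr (Subtype.ext h1))
  refine ⟨c₀ * x, MulEquiv.ext fun c => ?_⟩
  rw [hβ c (hzc c)]; rfl

/-- **automorphisms fixing `z` are inner, by elements of `C_K(z)`** -/
theorem inner_of_fix [Finite K] [IsSimpleGroup L] (D : Data Q z L π) {α : MulAut K} (hα : α z = z) :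
    ∃ p : K, p * z = z * p ∧ α = MulAut.conj p := by
  have h := D.large
  have hmem : ∀ c : K, c ∈ Subgroup.centralizer ({z} : Set K) ↔ α c ∈ Subgroup.centralizer ({z} : Set K) := by
    intro c
    rw [Subgroup.mem_centralizer_singleton_iff, Subgroup.mem_centralizer_singleton_iff]
    constructor
    · intro h1
      have h2 := congrArg α h1
      rw [map_mul, map_mul, hα] at h2
      exact h2
    · intro h1
      apply α.injective
      rw [map_mul, map_mul, hα]
      exact h1
  let β : MulAut (Subgroup.centralizer ({z} : Set K)) :=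
    { toFun := fun c => ⟨α c, (hmem c).1 c.2⟩
      invFun := fun c => ⟨α.symm c, (hmem _).2 (by rw [MulEquiv.apply_symm_apply]; exact c.2)⟩
      left_inv := fun c => Subtype.ext (α.symm_apply_apply _)
      right_inv := fun c => Subtype.ext (α.apply_symm_apply _)
      map_mul' := fun a b => Subtype.ext (map_mul α _ _) }
  obtain ⟨p, hp⟩ := D.inner_cent β
  have hpz : (p : K) * z = z * p := Subgroup.mem_centralizer_singleton_iff.1 p.2
  have hβ : ∀ c : K, c * z = z * c → α c = p * c * (p : K)⁻¹ := by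
    intro c hc
    have h1 : β ⟨c, Subgroup.mem_centralizer_singleton_iff.2 hc⟩ =
        MulAut.conj p ⟨c, Subgroup.mem_centralizer_singleton_iff.2 hc⟩ := by rw [hp]
    exact congrArg Subtype.val h1
  obtain ⟨n₀, hin, hne, hgen⟩ := D.gen
  rcases LargeE.eq_one_or_conj h hin hne hgen ((MulAut.conj (p : K))⁻¹ * α) (by
    intro c hc
    rw [OutQ.conj_inv_mul_apply, hβ c hc]; group) with h1 | h1
  · exact ⟨p, hpz, (inv_mul_eq_one.1 h1).symm⟩
  · refine ⟨p * z, by rw [hpz, mul_assoc, hpz], ?_⟩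
    rw [map_mul, ← h1, mul_inv_cancel_left]

theorem exists_sylow [Finite K] (D : Data Q z L π) : ∃ S : Sylow 2 K, z ∈ S ∧ Q ≤ S ∧ ∀ x ∈ S, x * z = z * x := by
  have h := D.large
  have : Fact (Nat.Prime 2) := ⟨Nat.prime_two⟩
  obtain ⟨T⟩ : Nonempty (Sylow 2 (Subgroup.centralizer ({z} : Set K))) := inferInstance
  have hQT : Q.subgroupOf (Subgroup.centralizer ({z} : Set K)) ≤ T := by
    have hn := LargeExtra.Nine.ToCent.normal h
    have hQ2 : IsPGroup 2 (Q.subgroupOf (Subgroup.centralizer ({z} : Set K))) :=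
      (isPGroup h).of_injective
        (Subgroup.subgroupOfEquivOfLe (LargeExtra.Nine.ToCent.le_cent h)).toMonoidHom
        (Subgroup.subgroupOfEquivOfLe (LargeExtra.Nine.ToCent.le_cent h)).injective
    have h1 : IsPGroup 2 ((T : Subgroup _) ⊔ Q.subgroupOf (Subgroup.centralizer ({z} : Set K)) : Subgroup _) :=
      T.isPGroup'.to_sup_of_normal_right hQ2
    have h2 := T.is_maximal' h1 le_sup_left
    exact le_sup_right.trans h2.le
  let S₀ : Subgroup K := (T : Subgroup _).map (Subgroup.centralizer ({z} : Set K)).subtype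
  have hS2 : IsPGroup 2 S₀ := T.isPGroup'.map _
  have hS₀ : S₀.index = (T : Subgroup (Subgroup.centralizer ({z} : Set K))).index *
      (Subgroup.centralizer ({z} : Set K)).index := by
    rw [Subgroup.index_map, (Subgroup.ker_subtype _), sup_bot_eq, Subgroup.range_subtype]
  have hidx : ¬ 2 ∣ S₀.index := by
    rw [hS₀, Nat.prime_two.dvd_mul]
    rintro (h1 | h1)
    · exact T.not_dvd_index h1
    · exact (Nat.not_even_iff_odd.2 D.odd) (even_iff_two_dvd.2 h1)
  refine ⟨hS2.toSylow hidx, ?_, ?_, ?_⟩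
  · exact ⟨zC z, hQT (Subgroup.mem_subgroupOf.2 h.z_mem), rfl⟩
  · intro x hx
    exact ⟨⟨x, LargeExtra.Nine.ToCent.le_cent h hx⟩, hQT (Subgroup.mem_subgroupOf.2 hx), rfl⟩
  · rintro x ⟨y, _, rfl⟩
    exact Subgroup.mem_centralizer_singleton_iff.1 y.2

theorem sylow_center (D : Data Q z L π) {S : Sylow 2 K} (hzS : z ∈ S) (hQS : Q ≤ S) {y : K}
    (hy : ∀ x ∈ S, x * y = y * x) : y = 1 ∨ y = z :=
  LargeE.cent_eq D.large (hy z hzS).symm fun x hx => (hy x (hQS hx)).symm

/-- **every automorphism is inner** -/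
theorem inner [Finite K] [IsSimpleGroup L] (D : Data Q z L π) (α : MulAut K) : ∃ p : K, α = MulAut.conj p := by
  have : Fact (Nat.Prime 2) := ⟨Nat.prime_two⟩
  obtain ⟨S, hzS, hQS, hS⟩ := D.exists_sylow
  have hcard : Nat.card ((S : Subgroup K).map α.toMonoidHom) = Nat.card S :=
    (Nat.card_congr ((S : Subgroup K).equivMapOfInjective α.toMonoidHom α.injective).toEquiv).symm
  let T : Sylow 2 K := Sylow.ofCard ((S : Subgroup K).map α.toMonoidHom) (by
    rw [hcard, ← Sylow.card_eq_multiplicity S])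
  obtain ⟨g, hg⟩ := MulAction.exists_smul_eq K T S
  have hT : ∀ x ∈ S, g * α x * g⁻¹ ∈ S := by
    intro x hx
    have h1 : α x ∈ T := ⟨x, hx, rfl⟩
    have h2 : g * α x * g⁻¹ ∈ (g • T : Sylow 2 K) := by
      rw [Sylow.smul_def]
      exact ⟨α x, h1, rfl⟩
    rwa [hg] at h2
  have hT' : ∀ y ∈ S, ∃ x ∈ S, y = g * α x * g⁻¹ := by
    intro y hy
    have h1 : y ∈ (g • T : Sylow 2 K) := by rw [hg]; exact hy
    rw [Sylow.smul_def] at h1
    obtain ⟨t, ⟨x, hx, rfl⟩, rfl⟩ := h1
    exact ⟨x, hx, rfl⟩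
  have hfix : (MulAut.conj g * α) z = z := by
    rw [MulAut.mul_apply, MulAut.conj_apply]
    rcases D.sylow_center hzS hQS (y := g * α z * g⁻¹) (by
      intro y hy
      obtain ⟨x, hx, rfl⟩ := hT' y hy
      have h1 : α x * α z = α z * α x := by rw [← map_mul, ← map_mul, hS x hx]
      calc g * α x * g⁻¹ * (g * α z * g⁻¹) = g * (α x * α z) * g⁻¹ := by group
        _ = g * (α z * α x) * g⁻¹ := by rw [h1]
        _ = g * α z * g⁻¹ * (g * α x * g⁻¹) := by group) with h1 | h1
    · exfalso
      apply D.large.z_ne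
      apply α.injective
      rw [map_one]
      calc α z = g⁻¹ * (g * α z * g⁻¹) * g := by group
        _ = 1 := by rw [h1]; group
    · exact h1
  obtain ⟨p, -, hp⟩ := D.inner_of_fix hfix
  refine ⟨g⁻¹ * p, ?_⟩
  rw [map_mul, ← hp, map_inv, inv_mul_cancel_left]

/-- **The sheet of type (E).** -/
theorem sheet [Finite K] [IsSimpleGroup L] (D : Data Q z L π) :
    OddHalf.D8.Sheet.SheetE z (Subgroup.centralizer ({z} : Set K)) Q := by
  have h := D.large
  have : Fact (Nat.Prime 2) := ⟨Nat.prime_two⟩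
  have hrange : (MulAut.conj : K →* MulAut K).range = ⊤ := by
    rw [eq_top_iff]
    intro α _
    obtain ⟨p, hp⟩ := D.inner α
    exact ⟨p, hp.symm⟩
  have hcen : ∀ x ∈ Subgroup.centralizer ({z} : Set K), x * z = z * x := fun x hx =>
    Subgroup.mem_centralizer_singleton_iff.1 hx
  refine
    { zz := h.z_sq
      z1 := h.z_ne
      syl := ?_
      cen := hcen
      perf := ?_
      der := ⟨0, le_refl _⟩
      out := by rw [hrange, Subgroup.index_top]; decide
      schreier := ⟨0, by rw [hrange]; exact le_top⟩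
      zR := h.z_mem
      RP := LargeExtra.Nine.ToCent.le_cent h
      R2 := isPGroup h
      Rn := fun x hx r hr => h.conj_mem x (hcen x hx) r hr
      Rmax := ?_
      Rmin := fun B hB hinv => D.irr B hB fun g hg => hinv g (Subgroup.mem_centralizer_singleton_iff.2 hg)
      Rna := ?_
      cR := fun x hx hr => h.self x (hcen x hx) hr
      aut := ?_
      ytrick := ?_ }
  · obtain ⟨S, hzS, hQS, hS⟩ := D.exists_sylow
    exact ⟨S, hzS, hS, fun y _ hy => D.sylow_center hzS hQS hy⟩
  · have h1 := D.perfect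
    have h2 : (commutator (Subgroup.centralizer ({z} : Set K))).map (Subgroup.centralizer ({z} : Set K)).subtype =
        Subgroup.centralizer ({z} : Set K) := by
      rw [h1, ← MonoidHom.range_eq_map, Subgroup.range_subtype]
    rw [commutator_def, Subgroup.map_commutator, ← MonoidHom.range_eq_map, Subgroup.range_subtype] at h2
    exact h2
  · -- a normal 2-subgroup
    intro B hB hB2 hBn
    exact le_of_normal D.nab D.surj D.ker hB hB2 hBn
  · obtain ⟨x, hx, hx1, hxz⟩ := D.ex
    obtain ⟨y, hy, hxy⟩ := exists_not_comm h hx hx1 hxz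
    refine ⟨x, hx, y, hy, fun h1 => h.z_ne ?_⟩
    rw [← h1] at hxy
    have h2 : x * y * 1 = x * y * z := by rw [mul_one]; exact hxy
    exact (mul_left_cancel h2).symm
  · -- 2-elements of `Aut(K)` trivial on `P / R`
    intro α _ hαz hα
    obtain ⟨p, hpz, rfl⟩ := D.inner_of_fix hαz
    refine ⟨p, ?_, rfl⟩
    have hpC : p ∈ Subgroup.centralizer ({z} : Set K) := Subgroup.mem_centralizer_singleton_iff.2 hpz
    rw [← D.ker ⟨p, hpC⟩]
    -- `π p` is central
    have hcent : ∀ l : L, π ⟨p, hpC⟩ * l = l * π ⟨p, hpC⟩ := by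
      intro l
      obtain ⟨x, rfl⟩ := D.surj l
      have h1 : (x : K)⁻¹ * (p * x * p⁻¹) ∈ Q := hα x x.2
      have h2 : π (x⁻¹ * (⟨p, hpC⟩ * x * ⟨p, hpC⟩⁻¹)) = 1 := (D.ker _).2 h1
      rw [map_mul, map_mul, map_mul, map_inv, map_inv, inv_mul_eq_one] at h2
      exact (mul_inv_eq_iff_eq_mul.1 h2.symm)
    by_contra hne
    have hZ : (Subgroup.center L).Normal := inferInstance
    rcases hZ.eq_bot_or_eq_top with h1 | h1
    · apply hne
      have h2 : π ⟨p, hpC⟩ ∈ Subgroup.center L := Subgroup.mem_center_iff.2 fun l => (hcent l).symm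
      rwa [h1, Subgroup.mem_bot] at h2
    · obtain ⟨a, b, hab⟩ := D.nab
      have h2 : a ∈ Subgroup.center L := by rw [h1]; trivial
      exact hab ((Subgroup.mem_center_iff.1 h2 b).symm)
  · obtain ⟨k, hk, hkQ⟩ := D.out
    have hw : k⁻¹ * z * k ∈ Subgroup.centralizer ({z} : Set K) := by
      rw [Subgroup.mem_centralizer_singleton_iff]
      calc k⁻¹ * z * k * z = k⁻¹ * (z * (k * z * k⁻¹)) * k := by group
        _ = k⁻¹ * (k * z * k⁻¹ * z) * k := by rw [hk]
        _ = z * (k⁻¹ * z * k) := by group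
    refine ⟨k, Subgroup.mem_centralizer_singleton_iff.2 hk, hkQ, hw, fun β _ => ?_⟩
    obtain ⟨p, rfl⟩ := D.inner_cent β
    exact ⟨p, hcen p p.2, rfl⟩

end Data

end Cfsg.Agent.KFacts.LargeSheet
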