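import Cfsg.Agent.KFacts.MulBound

/-!
# One double cover from one commutator

`oneCover_of`: let `s, w` be commuting elements of `X`, `s * s = 1`, and suppose that in every perfect double cover of
`X` the lifts of `s` and `w` do not commute.  Then `OneCover X` (uniqueness of the double cover by the Baer sum, and no
cyclic 4), hence the 2-part of the multiplier is at most 2.
-/

set_option autoImplicit false
set_option linter.style.haveILetI false

namespace Cfsg.Agent.KFacts.MulBaer

open Subgroup Cfsg.Agent.KFacts.MulTwo Cfsg.Agent.KFacts.MulDef Cfsg.Agent.KFacts.MulBound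
open scoped commutatorElement

universe u v

section

variable {L M X : Type*} [Group L] [Group M] [Group X]

/-- the fibre product -/
def fib (π : L →* X) (ρ : M →* X) : Subgroup (L × M) where
  carrier := {p | π p.1 = ρ p.2}
  one_mem' := by simp
  mul_mem' := by
    rintro ⟨a, b⟩ ⟨a', b'⟩ h h'
    simp only [Set.mem_setOf_eq] at h h'
    simp only [Set.mem_setOf_eq, Prod.mk_mul_mk, map_mul, h, h']
  inv_mem' := by
    rintro ⟨a, b⟩ h
    simp only [Set.mem_setOf_eq] at h
    simp only [Set.mem_setOf_eq, Prod.inv_mk, map_inv, h]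

theorem mem_fib {π : L →* X} {ρ : M →* X} {p : L × M} : p ∈ fib π ρ ↔ π p.1 = ρ p.2 := Iff.rfl

end

/-- **Uniqueness of the double cover** from an invariant commutator. -/
theorem exists_equiv {L M X : Type} [Group L] [Group M] [Group X] [Finite L] [Finite M] {s w : X}
    (h : ∀ (K : Type) [Group K] [Finite K] (π : K →* X) (c : K), Dbl π c →
      ∀ x y, π x = s → π y = w → ⁅x, y⁆ = c)
    {π : L →* X} {ρ : M →* X} {c : L} {d : M} (h1 : Dbl π c) (h2 : Dbl ρ d) :
    ∃ θ : L ≃* M, ∀ x, ρ (θ x) = π x := by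
  classical
  have hπc : π c = 1 := (h1.ker c).2 (Or.inr rfl)
  have hρd : ρ d = 1 := (h2.ker d).2 (Or.inr rfl)
  let Y := fib π ρ
  have hsurj1 : ∀ a : L, ∃ b : M, π a = ρ b := fun a => by
    obtain ⟨b, hb⟩ := h2.surj (π a); exact ⟨b, hb.symm⟩
  have hsurj2 : ∀ b : M, ∃ a : L, π a = ρ b := fun b => h1.surj (ρ b)
  let e0 : Y := ⟨(c, d), by rw [mem_fib]; show π c = ρ d; rw [hπc, hρd]⟩
  let e1 : Y := ⟨(c, 1), by rw [mem_fib]; show π c = ρ 1; rw [hπc, map_one]⟩
  let e2 : Y := ⟨(1, d), by rw [mem_fib]; show π 1 = ρ d; rw [hρd, map_one]⟩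
  have e00 : e0 * e0 = 1 := by
    apply Subtype.ext
    show (c * c, d * d) = 1
    rw [h1.sq, h2.sq]; rfl
  have e11 : e1 * e1 = 1 := by
    apply Subtype.ext
    show (c * c, (1 : M) * 1) = 1
    rw [h1.sq, mul_one]; rfl
  have e01 : e0 * e1 = e2 := by
    apply Subtype.ext
    show (c * c, d * 1) = (1, d)
    rw [h1.sq, mul_one]
  have e0c : ∀ y : Y, e0 * y = y * e0 := fun y => Subtype.ext (Prod.ext (h1.cen y.1.1) (h2.cen y.1.2))
  have e1c : ∀ y : Y, e1 * y = y * e1 := fun y => Subtype.ext (Prod.ext (h1.cen y.1.1) (by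
    show (1 : M) * y.1.2 = y.1.2 * 1
    rw [one_mul, mul_one]))
  let N : Subgroup Y :=
    { carrier := {x | x = 1 ∨ x = e0}
      one_mem' := Or.inl rfl
      mul_mem' := by
        rintro a b (rfl | rfl) (rfl | rfl)
        · left; rw [one_mul]
        · right; rw [one_mul]
        · right; rw [mul_one]
        · left; exact e00
      inv_mem' := by
        rintro a (rfl | rfl)
        · left; rw [inv_one]
        · right; exact inv_eq_of_mul_eq_one_left e00 }
  have hmem : ∀ x, x ∈ N ↔ x = 1 ∨ x = e0 := fun x => Iff.rfl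
  have hn : N.Normal := ⟨fun n hn g => by
    have : g * n * g⁻¹ = n := by
      rcases (hmem n).1 hn with rfl | rfl
      · group
      · rw [← e0c g, mul_inv_cancel_right]
    rwa [this]⟩
  let q := QuotientGroup.mk' N
  have hq : Function.Surjective q := QuotientGroup.mk'_surjective _
  have hq1 : ∀ x, q x = 1 ↔ x = 1 ∨ x = e0 := fun x => QuotientGroup.eq_one_iff x
  let ψ0 : Y →* X := (π.comp (MonoidHom.fst L M)).comp Y.subtype
  have hψ0 : ∀ y : Y, ψ0 y = π y.1.1 := fun _ => rfl
  have hψ0' : ∀ y : Y, ψ0 y = ρ y.1.2 := fun y => y.2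
  have hle : N ≤ ψ0.ker := by
    intro x hx
    rcases (hmem x).1 hx with rfl | rfl
    · exact map_one _
    · exact hπc
  let ψ : Y ⧸ N →* X := QuotientGroup.lift N ψ0 hle
  have hψ : ∀ y : Y, ψ (q y) = ψ0 y := fun _ => rfl
  have hψs : Function.Surjective ψ := by
    intro p
    obtain ⟨a, ha⟩ := h1.surj p
    obtain ⟨b, hb⟩ := hsurj1 a
    exact ⟨q ⟨(a, b), hb⟩, ha⟩
  have hker : ∀ y : Y, ψ0 y = 1 → y = 1 ∨ y = e0 ∨ y = e1 ∨ y = e2 := by
    intro y hy
    have ha := (h1.ker y.1.1).1 hy
    have hb := (h2.ker y.1.2).1 ((hψ0' y).symm.trans hy)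
    rcases ha with ha | ha <;> rcases hb with hb | hb
    · left; exact Subtype.ext (Prod.ext ha hb)
    · right; right; right; exact Subtype.ext (Prod.ext ha hb)
    · right; right; left; exact Subtype.ext (Prod.ext ha hb)
    · right; left; exact Subtype.ext (Prod.ext ha hb)
  have hq12 : q e2 = q e1 := by
    rw [← e01, map_mul, (hq1 e0).2 (Or.inr rfl), one_mul]
  have hkerψ : ∀ y, ψ y = 1 → y = 1 ∨ y = q e1 := by
    intro y hy
    obtain ⟨y, rfl⟩ := hq y
    rcases hker y hy with rfl | rfl | rfl | rfl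
    · left; exact map_one _
    · left; exact (hq1 _).2 (Or.inr rfl)
    · right; rfl
    · right; exact hq12
  have hc1 : q e1 ≠ 1 := by
    intro hcon
    rcases (hq1 e1).1 hcon with h3 | h3
    · exact h1.ne (congrArg (fun y : Y => y.1.1) h3)
    · exact h2.ne (congrArg (fun y : Y => y.1.2) h3).symm
  -- the quotient is not perfect
  have hnp : commutator (Y ⧸ N) ≠ ⊤ := by
    intro hperf
    have hfY : Finite Y := inferInstance
    have hfq : Finite (Y ⧸ N) := inferInstance
    have hd : Dbl ψ (q e1) := by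
      refine ⟨⟨hc1, by rw [← map_mul, e11, map_one], fun x => ?_, hperf⟩, hψs, fun x => ⟨hkerψ x, ?_⟩⟩
      · obtain ⟨x, rfl⟩ := hq x
        rw [← map_mul, ← map_mul, e1c]
      · rintro (rfl | rfl)
        · exact map_one _
        · exact hπc
    obtain ⟨x1, hx1⟩ := h1.surj s
    obtain ⟨x2, hx2⟩ := h2.surj s
    obtain ⟨w1, hw1⟩ := h1.surj w
    obtain ⟨w2, hw2⟩ := h2.surj w
    have k1 := h L π c h1 x1 w1 hx1 hw1
    have k2 := h M ρ d h2 x2 w2 hx2 hw2
    let xx : Y := ⟨(x1, x2), by rw [mem_fib]; show π x1 = ρ x2; rw [hx1, hx2]⟩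
    let ww : Y := ⟨(w1, w2), by rw [mem_fib]; show π w1 = ρ w2; rw [hw1, hw2]⟩
    have k3 := h (Y ⧸ N) ψ (q e1) hd (q xx) (q ww) hx1 hw1
    rw [← map_commutatorElement] at k3
    have k4 : ⁅xx, ww⁆ = e0 := by
      apply Subtype.ext
      apply Prod.ext
      · exact k1
      · exact k2
    rw [k4, (hq1 e0).2 (Or.inr rfl)] at k3
    exact hc1 k3.symm
  -- the derived subgroup of the quotient does not contain the central involution
  have hXp : commutator X = ⊤ := commutator_top_of_surj π h1.surj h1.perf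
  have hc2 : q e1 ∉ commutator (Y ⧸ N) := by
    intro hcon
    apply hnp
    rw [eq_top_iff]
    intro y _
    have hmap : (commutator (Y ⧸ N)).map ψ = ⊤ := by
      rw [commutator_def, Subgroup.map_commutator, Subgroup.map_top_of_surjective ψ hψs, ← commutator_def, hXp]
    have : ψ y ∈ (commutator (Y ⧸ N)).map ψ := by rw [hmap]; trivial
    obtain ⟨y', hy', hyy⟩ := this
    rcases hkerψ (y * y'⁻¹) (by rw [map_mul, map_inv, hyy, mul_inv_cancel]) with h3 | h3
    · rw [mul_inv_eq_one.1 h3]; exact hy'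
    · have : y = q e1 * y' := by rw [← h3]; group
      rw [this]; exact mul_mem hcon hy'
  let Y1 : Subgroup Y := (commutator (Y ⧸ N)).comap q
  let p1 : Y1 →* L := ((MonoidHom.fst L M).comp Y.subtype).comp Y1.subtype
  let p2 : Y1 →* M := ((MonoidHom.snd L M).comp Y.subtype).comp Y1.subtype
  have hcomm : commutator Y ≤ Y1 := by
    rw [← Subgroup.map_le_iff_le_comap, commutator_def, Subgroup.map_commutator, commutator_def]
    exact Subgroup.commutator_mono le_top le_top
  have hp1s : Function.Surjective p1 := by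
    let f1 : Y →* L := (MonoidHom.fst L M).comp Y.subtype
    have hf1 : Function.Surjective f1 := fun a => by
      obtain ⟨b, hb⟩ := hsurj1 a
      exact ⟨⟨(a, b), hb⟩, rfl⟩
    have : (commutator Y).map f1 = ⊤ := by
      rw [commutator_def, Subgroup.map_commutator, Subgroup.map_top_of_surjective f1 hf1, ← commutator_def,
        h1.perf]
    intro a
    have ha : a ∈ (commutator Y).map f1 := by rw [this]; trivial
    obtain ⟨y, hy, rfl⟩ := ha
    exact ⟨⟨y, hcomm hy⟩, rfl⟩
  have hp2s : Function.Surjective p2 := by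
    let f2 : Y →* M := (MonoidHom.snd L M).comp Y.subtype
    have hf2 : Function.Surjective f2 := fun b => by
      obtain ⟨a, ha⟩ := hsurj2 b
      exact ⟨⟨(a, b), ha⟩, rfl⟩
    have : (commutator Y).map f2 = ⊤ := by
      rw [commutator_def, Subgroup.map_commutator, Subgroup.map_top_of_surjective f2 hf2, ← commutator_def,
        h2.perf]
    intro b
    have hb : b ∈ (commutator Y).map f2 := by rw [this]; trivial
    obtain ⟨y, hy, rfl⟩ := hb
    exact ⟨⟨y, hcomm hy⟩, rfl⟩
  have hp1i : Function.Injective p1 := by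
    rw [injective_iff_map_eq_one]
    intro y hy
    have hy1 : (y : Y).1.1 = 1 := hy
    rcases hker y (by rw [hψ0, hy1, map_one]) with h3 | h3 | h3 | h3
    · exact Subtype.ext h3
    · exfalso; rw [h3] at hy1; exact h1.ne hy1
    · exfalso; rw [h3] at hy1; exact h1.ne hy1
    · exfalso
      apply hc2
      rw [← hq12, ← h3]
      exact y.2
  have hp2i : Function.Injective p2 := by
    rw [injective_iff_map_eq_one]
    intro y hy
    have hy1 : (y : Y).1.2 = 1 := hy
    rcases hker y (by rw [hψ0', hy1, map_one]) with h3 | h3 | h3 | h3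
    · exact Subtype.ext h3
    · exfalso; rw [h3] at hy1; exact h2.ne hy1
    · exfalso
      apply hc2
      rw [← h3]
      exact y.2
    · exfalso; rw [h3] at hy1; exact h2.ne hy1
  let E1 : Y1 ≃* L := MulEquiv.ofBijective p1 ⟨hp1i, hp1s⟩
  let E2 : Y1 ≃* M := MulEquiv.ofBijective p2 ⟨hp2i, hp2s⟩
  refine ⟨E1.symm.trans E2, fun x => ?_⟩
  obtain ⟨y, rfl⟩ := E1.surjective x
  rw [MulEquiv.trans_apply, E1.symm_apply_apply]
  exact (y : Y).2.symm

/-- The criterion, for a group in `Type`. -/
theorem oneCover_of {X : Type} [Group X] {s w : X} (hs : s * s = 1)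
    (h : ∀ (K : Type) [Group K] [Finite K] (π : K →* X) (c : K), Dbl π c →
      ∀ x y, π x = s → π y = w → ⁅x, y⁆ = c) : OneCover X where
  uniq := fun L M _ _ _ _ _ _ _ _ h1 h2 => exists_equiv h h1 h2
  real := fun L _ _ π c hd => by
    obtain ⟨x, hx⟩ := hd.surj s
    obtain ⟨y, hy⟩ := hd.surj w
    exact ⟨x, y, by rw [map_mul, hx, hs], h L π c hd x y hx hy⟩

/-- transport -/
theorem OneCover.congr {X : Type u} {Y : Type v} [Group X] [Group Y] (h : OneCover X) (e : X ≃* Y) :
    OneCover Y where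
  uniq := fun L M _ _ _ _ π ρ c d h1 h2 => by
    obtain ⟨θ, hθ⟩ := h.uniq L M _ _ _ _ (h1.of_equiv (MulEquiv.refl L) e.symm)
      (h2.of_equiv (MulEquiv.refl M) e.symm)
    exact ⟨θ, fun x => e.symm.injective (hθ x)⟩
  real := fun L _ _ π c hd => by
    obtain ⟨x, w, hx, hw⟩ := h.real L _ _ (hd.of_equiv (MulEquiv.refl L) e.symm)
    refine ⟨x, w, ?_, hw⟩
    apply e.symm.injective
    rw [map_one]
    exact hx

end Cfsg.Agent.KFacts.MulBaer
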