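import Cfsg.Agent.KFacts.MulCov
import Cfsg.Agent.J4.M24Invol
import Cfsg.Agent.J4.M24Hom
import Cfsg.Prelude.Def_Spor_Mathieu

/-!
# The 2-part of the Schur multiplier of `M24` is trivial

`exists_section`: every central extension of `M24` by a group of order two splits.

All involutions lift to involutions; the lifts of the generators `x`, `y` (with `y ^ 3 = 1`, `(x y) ^ 23 = 1`) satisfy
the relations of the presentation `Cfsg.Agent.J4.M24Hom.exists_hom`.
-/

set_option autoImplicit false

namespace Cfsg.Agent.KFacts.MulM24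

open Cfsg Cfsg.Agent.SporadicA.GolayPerm
open Cfsg.Agent.SporadicStructure.M24El
open Cfsg.Agent.J4.M24InvolData Cfsg.Agent.J4.M24Invol
open Cfsg.Agent.J4.M24Hom Cfsg.Agent.J4.M24Pres
open Cfsg.Agent.KFacts.MulCov

/-! ### Packed elements -/

theorem mulEl {P Q P' Q' : ℕ} (h1 : ok P = true) (h2 : ok Q = true) (h3 : ok P' = true) (h4 : ok Q' = true)
    (h : pcomp P Q = pcomp P' Q') : el P * el Q = el P' * el Q' := by
  rw [← el_pcomp h1 h2, ← el_pcomp h3 h4, h]

theorem mulEl1 {P Q R : ℕ} (h1 : ok P = true) (h2 : ok Q = true) (h : pcomp P Q = R) : el P * el Q = el R := by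
  rw [← el_pcomp h1 h2, h]

/-! ### Elements of order seven permuting seven involutions -/

def K1 : ℕ := 924774685384737275886511207345276079
def S1 : List ℕ := [726176561355509729351469681034231842, 944374842416253166213913948406784038,
  93974130427553109175385456644316209, 645614869987656370470554226242197544, 335700086377704563362114232836544559,
  249621223182186138953600576436419638, 8219904618265178018076044327765047]
def K2 : ℕ := 979087986891287029591199724166883507
def S2 : List ℕ := [521366414552910786153029034648536137, 132866273778894335010994853822315987,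
  884937027543309343628221019837546833, 341935162019892990246814452445231602, 480419996504735040022485990248190119,
  564991498139553714815917281276204166, 831283677859506441799297846064097814]

/-- the checks for `good_of_singer` -/
def chk (K : ℕ) (S : List ℕ) : Bool :=
  ok K && (S.all fun P => ok P) && ((List.range 6).all fun i =>
    Nat.beq (pcomp K (S.getD i idP)) (pcomp (S.getD (i + 1) idP) K)) &&
  Nat.beq (pcomp (S.getD 0 idP) (S.getD 0 idP)) idP && Nat.beq (pcomp (S.getD 0 idP) (S.getD 1 idP)) (S.getD 3 idP) &&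
  Nat.beq (pcomp (S.getD 0 idP) (S.getD 2 idP)) (S.getD 6 idP) &&
  Nat.beq (pcomp (S.getD 1 idP) (S.getD 2 idP)) (S.getD 4 idP) &&
  Nat.beq (pcomp (S.getD 0 idP) (S.getD 4 idP)) (S.getD 5 idP)

theorem chk1 : chk K1 S1 = true := by decide +kernel
theorem chk2 : chk K2 S2 = true := by decide +kernel

section

variable {L : Type*} [Group L] {π : L →* M24} {c : L}

theorem good_of_chk (h : Ext π c) {K : ℕ} {S : List ℕ} (hk : chk K S = true) : Good π (el (S.getD 0 idP)) := by
  unfold chk at hk
  simp only [Bool.and_eq_true, List.all_eq_true, List.mem_range] at hk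
  obtain ⟨⟨⟨⟨⟨⟨⟨hK, hS⟩, hc⟩, h0⟩, h1⟩, h2⟩, h3⟩, h4⟩ := hk
  have hok := fun i => ok_getD hS i
  refine h.good_of_singer (g := el K) (fun i => el (S.getD i idP)) ?_ ?_ ?_ ?_ ?_ ?_
  · intro i hi
    exact mulEl hK (hok i) (hok (i + 1)) hK (Nat.eq_of_beq_eq_true (hc i hi))
  · rw [mulEl1 (hok 0) (hok 0) (Nat.eq_of_beq_eq_true h0), el_idP]
  · exact mulEl1 (hok 0) (hok 1) (Nat.eq_of_beq_eq_true h1)
  · exact mulEl1 (hok 0) (hok 2) (Nat.eq_of_beq_eq_true h2)
  · exact mulEl1 (hok 1) (hok 2) (Nat.eq_of_beq_eq_true h3)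
  · exact mulEl1 (hok 0) (hok 4) (Nat.eq_of_beq_eq_true h4)

theorem P1_sq : el P1 * el P1 = 1 := by
  rw [mulEl1 ok_P1 ok_P1 (R := idP) (by decide +kernel), el_idP]

theorem P2_sq : el P2 * el P2 = 1 := by
  rw [mulEl1 ok_P2 ok_P2 (R := idP) (by decide +kernel), el_idP]

/-- every involution of `M24` lifts to an involution -/
theorem noSq (h : Ext π c) : NoSq c := by
  have e1 : S1.getD 0 idP = P1 := by decide +kernel
  have e2 : S2.getD 0 idP = P2 := by decide +kernel
  have g1 : Good π (el P1) := by rw [← e1]; exact good_of_chk h chk1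
  have g2 : Good π (el P2) := by rw [← e2]; exact good_of_chk h chk2
  apply h.noSq
  intro a ha ha1
  obtain ⟨g, hg | hg⟩ := invol_conj a ha ha1
  · exact Good.of_isConj h g1 P1_sq (isConj_iff.2 ⟨g, hg⟩).symm
  · exact Good.of_isConj h g2 P2_sq (isConj_iff.2 ⟨g, hg⟩).symm

end

/-! ### The generators -/

def PY : ℕ := 525297441932761576910024532220217649
def PYI : ℕ := 564244736107816087341282620692793450

def gl : List ℕ := [P2, PY, PYI]

theorem gl_ok : ∀ P ∈ gl, ok P = true := by decide +kernel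

theorem ok_PY : ok PY = true := gl_ok _ (by simp [gl])
theorem ok_PYI : ok PYI = true := gl_ok _ (by simp [gl])

theorem XM_eq : XM = el P2 := by
  apply Subtype.ext
  rw [coe_el ok_P2]
  ext1 p
  rw [permOf_apply]
  show fn tx p = _
  revert p
  decide +kernel

theorem YM_eq : YM = el PY := by
  apply Subtype.ext
  rw [coe_el ok_PY]
  ext1 p
  rw [permOf_apply]
  show fn ty p = _
  revert p
  decide +kernel

theorem YMI_eq : YM⁻¹ = el PYI := by
  rw [YM_eq]
  apply inv_eq_of_mul_eq_one_left
  rw [mulEl1 ok_PYI ok_PY (R := idP) (by decide +kernel), el_idP]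

/-- evaluation of a word -/
theorem word_eq (w : List ℕ) {R : ℕ} (h : prodW gl w = R) :
    (w.map fun i => el (gl.getD i idP)).prod = el R := by
  rw [← el_prodW gl_ok, h]

def G1 : ℕ := 887532933855417817003024235334158949
def G2 : ℕ := 231140308907035246840200908612589190
def U1 : ℕ := 527856785438765362511053776421750825
def U2 : ℕ := 421202585773056519038564895879142603

theorem ok_GU : ok G1 = true ∧ ok G2 = true ∧ ok U1 = true ∧ ok U2 = true := by decide +kernel

/-- involutions commuting with `x` -/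
theorem mem_set {H : ℕ} (hH : ok H = true) (h1 : pcomp H P2 = pcomp P2 H) (h2 : pcomp H H = idP) :
    el H ∈ {u : M24 | u * XM = XM * u ∧ (u * u = 1 ∨ ∃ n : ℕ, Odd n ∧ u ^ n = 1)} := by
  refine ⟨?_, Or.inl ?_⟩
  · rw [XM_eq]; exact mulEl hH ok_P2 ok_P2 hH h1
  · rw [mulEl1 hH hH h2, el_idP]

theorem g_mem : YM * XM * YM * (YM⁻¹ * XM * YM⁻¹ * XM * YM * XM * YM * XM) ^ 3 ∈
    Subgroup.closure {u : M24 | u * XM = XM * u ∧ (u * u = 1 ∨ ∃ n : ℕ, Odd n ∧ u ^ n = 1)} := by
  have h : YM * XM * YM * (YM⁻¹ * XM * YM⁻¹ * XM * YM * XM * YM * XM) ^ 3 = el G1 * el G2 := by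
    rw [mulEl1 ok_GU.1 ok_GU.2.1 rfl, ← word_eq [1, 0, 1, 2, 0, 2, 0, 1, 0, 1, 0, 2, 0, 2, 0, 1, 0, 1, 0, 2, 0, 2, 0,
      1, 0, 1, 0] (R := pcomp G1 G2) (by decide +kernel)]
    simp only [gl, List.map_cons, List.map_nil, List.prod_cons, List.prod_nil, List.getD_cons_zero,
      List.getD_cons_succ, mul_one]
    rw [← XM_eq, ← YM_eq, ← YMI_eq]
    simp only [pow_succ, pow_zero, one_mul, mul_assoc, mul_inv_cancel_left, inv_mul_cancel_left]
  rw [h]
  exact mul_mem (Subgroup.subset_closure (mem_set ok_GU.1 (by decide +kernel) (by decide +kernel)))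
    (Subgroup.subset_closure (mem_set ok_GU.2.1 (by decide +kernel) (by decide +kernel)))

theorem u_mem : (XM * YM * XM * YM * XM * YM⁻¹) ^ 3 ∈
    Subgroup.closure {u : M24 | u * XM = XM * u ∧ (u * u = 1 ∨ ∃ n : ℕ, Odd n ∧ u ^ n = 1)} := by
  have h : (XM * YM * XM * YM * XM * YM⁻¹) ^ 3 = el U1 * el U2 := by
    rw [mulEl1 ok_GU.2.2.1 ok_GU.2.2.2 rfl, ← word_eq [0, 1, 0, 1, 0, 2, 0, 1, 0, 1, 0, 2, 0, 1, 0, 1, 0, 2]
      (R := pcomp U1 U2) (by decide +kernel)]
    simp only [gl, List.map_cons, List.map_nil, List.prod_cons, List.prod_nil, List.getD_cons_zero,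
      List.getD_cons_succ, mul_one]
    rw [← XM_eq, ← YM_eq, ← YMI_eq]
    simp only [pow_succ, pow_zero, one_mul, mul_assoc, mul_inv_cancel_left, inv_mul_cancel_left]
  rw [h]
  exact mul_mem (Subgroup.subset_closure (mem_set ok_GU.2.2.1 (by decide +kernel) (by decide +kernel)))
    (Subgroup.subset_closure (mem_set ok_GU.2.2.2 (by decide +kernel) (by decide +kernel)))

/-! ### The relations -/

/-- **Every central extension of `M24` by a group of order two splits.** -/
theorem exists_section {L : Type*} [Group L] {π : L →* M24} {c : L} (h : Ext π c) :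
    ∃ s : M24 →* L, ∀ g, π (s g) = g := by
  have hn := noSq h
  have hR := rels_XYM
  obtain ⟨y, hy, hy3⟩ := h.exists_pow_odd (n := 3) (by decide) hR.r2
  obtain ⟨x₀, hx₀⟩ := h.surj XM
  -- the sign of `x`
  obtain ⟨x, hx, hxy⟩ : ∃ x, π x = XM ∧ (x * y) ^ 23 = 1 := by
    have h1 : π ((x₀ * y) ^ 23) = 1 := by rw [map_pow, map_mul, hx₀, hy, hR.r3]
    rcases (h.ker _).1 h1 with h2 | h2
    · exact ⟨x₀, hx₀, h2⟩
    · refine ⟨x₀ * c, by rw [map_mul, hx₀, h.map_c, mul_one], ?_⟩
      have e : x₀ * c * y = (x₀ * y) * c := by rw [mul_assoc, h.cen, mul_assoc]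
      have hc : Commute (x₀ * y) c := (h.cen _).symm
      rw [e, hc.mul_pow, h2, h.pow_c_odd (by decide), h.sq]
  have hX2 : XM * XM = 1 := by rw [← pow_two]; exact hR.r1
  have hx2 : x * x = 1 := h.sq_one hn (by rw [hx]; exact hX2)
  have hxi : x⁻¹ = x := inv_eq_of_mul_eq_one_left hx2
  have hrel : Rels x y := by
    refine ⟨by rw [pow_two]; exact hx2, hy3, hxy, ?_, ?_, ?_, ?_⟩
    · have := h.pow_even hn (x := x⁻¹ * y⁻¹ * x * y) (k := 6) (by
        simp only [map_mul, map_inv, hx, hy]
        exact hR.r4)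
      exact this
    · -- `w = y x y`, `d = x w⁻¹ x w`
      set w := y * x * y with hw
      set d := x⁻¹ * w⁻¹ * x * w with hd
      have hdi : d⁻¹ = y⁻¹ * x * y⁻¹ * x * y * x * y * x := by
        rw [hd, hw]
        simp only [mul_inv_rev, hxi, inv_inv]
        group
      have hcomm : w * (d⁻¹) ^ 3 * x = x * (w * (d⁻¹) ^ 3) := by
        apply h.comm_of_closure hn
        · rw [hx]; exact hX2
        · rw [hdi, hw]
          simp only [map_mul, map_pow, map_inv, hx, hy]
          exact g_mem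
      have h1 : w⁻¹ * x * w = x * d := by
        rw [hd, hxi]
        calc w⁻¹ * x * w = (x * x) * (w⁻¹ * x * w) := by rw [hx2, one_mul]
          _ = x * (x * w⁻¹ * x * w) := by group
      have h2 : x * d * x = d⁻¹ := by
        have : d * (x * d * x) = 1 := by
          calc d * (x * d * x) = d * ((x * d) * x) := by group
            _ = d * ((w⁻¹ * x * w) * x) := by rw [h1]
            _ = x * (x * d) * ((w⁻¹ * x * w) * x) := by rw [← mul_assoc x x d, hx2, one_mul]
            _ = x * (w⁻¹ * x * w) * ((w⁻¹ * x * w) * x) := by rw [h1]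
            _ = x * w⁻¹ * (x * x) * w * x := by group
            _ = x * w⁻¹ * 1 * w * x := by rw [hx2]
            _ = x * x := by group
            _ = 1 := hx2
        exact (inv_eq_of_mul_eq_one_right this).symm
      have h3 : (d⁻¹) ^ 3 * x = x * d ^ 3 := by
        have : x * d ^ 3 * x = (d⁻¹) ^ 3 := by
          rw [← h2]
          calc x * d ^ 3 * x = x * (d * d * d) * x := by rw [pow_succ, pow_two]
            _ = x * d * 1 * d * 1 * d * x := by group
            _ = x * d * (x * x) * d * (x * x) * d * x := by rw [hx2]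
            _ = (x * d * x) * (x * d * x) * (x * d * x) := by group
            _ = (x * d * x) ^ 3 := by rw [pow_succ, pow_two]
        rw [← this, mul_assoc, hx2, mul_one]
      have h4 : w * (x * d ^ 3) = x * w * (d⁻¹) ^ 3 := by
        rw [← h3, ← mul_assoc, hcomm]; group
      have h5 : x * d ^ 3 = (w⁻¹ * x * w) * (d⁻¹) ^ 3 := by
        calc x * d ^ 3 = w⁻¹ * (w * (x * d ^ 3)) := by group
          _ = w⁻¹ * (x * w * (d⁻¹) ^ 3) := by rw [h4]
          _ = _ := by group
      rw [h1] at h5
      have h6 : d ^ 3 = d * (d⁻¹) ^ 3 := by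
        apply mul_left_cancel (a := x)
        rw [h5]; group
      calc d ^ 5 = d ^ 3 * d ^ 2 := by group
        _ = d * (d⁻¹) ^ 3 * d ^ 2 := by rw [h6]
        _ = 1 := by group
    · have := h.pow_even hn (x := x * y * ((x * y * x * (y⁻¹)) ^ 3)) (k := 2) (by
        simp only [map_mul, map_inv, map_pow, hx, hy]
        exact hR.r6)
      exact this
    · -- `x` commutes with `u ^ 3`
      set u := x * y * x * y * x * y⁻¹ with hu
      have hcomm : u ^ 3 * x = x * u ^ 3 := by
        apply h.comm_of_closure hn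
        · rw [hx]; exact hX2
        · rw [hu]
          simp only [map_mul, map_pow, map_inv, hx, hy]
          exact u_mem
      have hv : x * y * x * y⁻¹ * x * y⁻¹ = x * u⁻¹ * x⁻¹ := by
        rw [hu]
        simp only [mul_inv_rev, hxi, inv_inv]
        calc x * y * x * y⁻¹ * x * y⁻¹ = x * y * x * y⁻¹ * x * y⁻¹ * 1 := by rw [mul_one]
          _ = x * y * x * y⁻¹ * x * y⁻¹ * (x * x) := by rw [hx2]
          _ = _ := by group
      rw [hv, conj_pow, hxi]
      calc u ^ 3 * (x * u⁻¹ ^ 3 * x) = (u ^ 3 * x) * u⁻¹ ^ 3 * x := by group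
        _ = x * u ^ 3 * u⁻¹ ^ 3 * x := by rw [hcomm]
        _ = x * x := by group
        _ = 1 := hx2
  obtain ⟨φ, hφx, hφy⟩ := exists_hom hrel
  refine ⟨φ, fun g => ?_⟩
  have h1 : π.comp φ = MonoidHom.id M24 := by
    apply hom_ext
    · show π (φ XM) = XM
      rw [hφx, hx]
    · show π (φ YM) = YM
      rw [hφy, hy]
  exact DFunLike.congr_fun h1 g

/-- homomorphisms from `M24` lift -/
theorem exists_lift {L X : Type*} [Group L] [Group X] {π : L →* X} {c : L} (h : Ext π c) (φ : M24 →* X) :
    ∃ ψ : M24 →* L, ∀ y, π (ψ y) = φ y :=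
  h.exists_lift φ fun _ _ h' => exists_section h'

theorem not_cov {L : Type*} [Group L] [Finite L] (π : L →* M24) (c : L) : ¬ Cov π c := by
  intro h
  obtain ⟨s, hs⟩ := exists_section h.toExt
  exact h.false_of_section s hs

/-- **The centre of a perfect central extension of `M24` has odd order.** -/
theorem odd_center {K : Type*} [Group K] [Finite K] (hp : commutator K = ⊤)
    (hX : Cfsg.Spor.IsoM24 (K ⧸ Subgroup.center K)) : ¬ 2 ∣ Nat.card (Subgroup.center K) := by
  obtain ⟨e⟩ := hX
  exact odd_card_center (fun L _ _ π c => not_cov π c) hp e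

end Cfsg.Agent.KFacts.MulM24
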