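import Cfsg.Agent.KFacts.SheetInner

/-!
# The sheet of type (E) for `K` with `Out(C_K(z)/Q) = 1`, given (T1')

`DataT Q z L` : the hypotheses of `SheetInner.Data`, with `gen` replaced by
(T1') an automorphism of `K` trivial on `C_K(z)` is `1` or the conjugation by `z`
(for instance when `z` is weakly closed in `Q`).

* `allInner`  : every automorphism of `K` is inner;
* `innerCent` : every automorphism of `C_K(z)` is inner;
* `sheet`     : `SheetE z (centralizer {z}) Q`;
* `t1_of_swap` : (T1') from an element `n` that swaps `z` and `w = z ^ n ∈ C_K(z)`.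
-/

set_option autoImplicit false

namespace Cfsg.Agent.KFacts.SheetInnerT

open Cfsg.Agent.Co2Type.Quad Cfsg.Agent.LargeExtra.Base Cfsg.Agent.KFacts.AutLarge
open Cfsg.Agent.OddHalf.D8.Sheet Cfsg.Agent.OddHalf Cfsg.Agent.KFacts.SheetInner
open scoped commutatorElement

/-- (T1') from an element `n` that swaps `z` and `w`. -/
theorem t1_of_swap {K : Type*} [Group K] {z w n : K} (hz : z * z = 1) (hzw : z ≠ w)
    (hw : w * z = z * w) (h1 : n * z * n⁻¹ = w) (h2 : n * w * n⁻¹ = z)
    (hc : ∀ p : K, p * z = z * p → p * w = w * p →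
      (∀ d : K, d * z = z * d → d * w = w * d → p * d = d * p) → p = 1 ∨ p = z ∨ p = w ∨ p = z * w)
    (hgen : Subgroup.closure ({c : K | c * z = z * c} ∪ {n}) = ⊤)
    (β : MulAut K) (hβ : ∀ c : K, c * z = z * c → β c = c) : β = 1 ∨ β = MulAut.conj z := by
  have hww : w * w = 1 := by
    rw [← h1]
    calc n * z * n⁻¹ * (n * z * n⁻¹) = n * (z * z) * n⁻¹ := by group
      _ = 1 := by rw [hz]; group
  have hzi : z⁻¹ = z := inv_eq_of_mul_eq_one_left hz
  have nz : n * z = w * n := by rw [← h1]; group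
  have nw : n * w = z * n := by rw [← h2]; group
  have hβz : β z = z := hβ z rfl
  have hβw : β w = w := hβ w hw
  -- `β n = n p`
  obtain ⟨p, hp⟩ : ∃ p, β n = n * p := ⟨n⁻¹ * β n, by group⟩
  have hpz : p * z = z * p := by
    have e := congrArg β nz
    rw [map_mul, map_mul, hβz, hβw, hp] at e
    have : n * (p * z) = n * (z * p) := by
      calc n * (p * z) = n * p * z := by group
        _ = w * (n * p) := e
        _ = w * n * p := by group
        _ = n * (z * p) := by rw [← nz]; group
    exact mul_left_cancel this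
  have hpw : p * w = w * p := by
    have e := congrArg β nw
    rw [map_mul, map_mul, hβz, hβw, hp] at e
    have : n * (p * w) = n * (w * p) := by
      calc n * (p * w) = n * p * w := by group
        _ = z * (n * p) := e
        _ = z * n * p := by group
        _ = n * (w * p) := by rw [← nw]; group
    exact mul_left_cancel this
  have hpd : ∀ d : K, d * z = z * d → d * w = w * d → p * d = d * p := by
    intro d hdz hdw
    -- `n d n⁻¹ ∈ C(z)`
    have hnd : (n * d * n⁻¹) * z = z * (n * d * n⁻¹) := by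
      have e1 : n⁻¹ * z = w * n⁻¹ := by rw [inv_mul_eq_iff_eq_mul, ← mul_assoc, nw]; group
      calc (n * d * n⁻¹) * z = n * d * (n⁻¹ * z) := by group
        _ = n * (d * w) * n⁻¹ := by rw [e1]; group
        _ = n * w * (d * n⁻¹) := by rw [hdw]; group
        _ = z * (n * d * n⁻¹) := by rw [nw]; group
    have e := hβ _ hnd
    rw [map_mul, map_mul, map_inv, hp, hβ d hdz] at e
    have e2 : n * (p * d * p⁻¹) * n⁻¹ = n * d * n⁻¹ := by rw [← e]; group
    have e3 : p * d * p⁻¹ = d := mul_left_cancel (mul_right_cancel e2)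
    exact mul_inv_eq_iff_eq_mul.1 e3
  -- `β n²= n²`
  have hn2 : β (n * n) = n * n := by
    apply hβ
    calc n * n * z = n * (n * z) := by group
      _ = n * w * n := by rw [nz]; group
      _ = z * (n * n) := by rw [nw]; group
  have hnp : p * (n * p) = n := by
    rw [map_mul, hp] at hn2
    have : n * (p * (n * p)) = n * n := by rw [← hn2]; group
    exact mul_left_cancel this
  have key : ∀ γ : MulAut K, (∀ c : K, c * z = z * c → γ c = c) → γ n = n → γ = 1 := by
    intro γ hγ hγn
    have : (⊤ : Subgroup K) ≤ γ.toMonoidHom.eqLocus (MonoidHom.id K) := by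
      rw [← hgen, Subgroup.closure_le]
      rintro x (hx | hx)
      · exact hγ x hx
      · rw [Set.mem_singleton_iff] at hx
        rw [hx]; exact hγn
    ext x
    exact this (Subgroup.mem_top x)
  rcases hc p hpz hpw hpd with h | h | h | h
  · left
    exact key β hβ (by rw [hp, h, mul_one])
  · exfalso
    rw [h] at hnp
    -- z n z = n => z w n = n... 
    have : z * w * n = n := by
      calc z * w * n = z * (n * z) := by rw [nz]; group
        _ = n := hnp
    have h3 : z * w = 1 := mul_eq_right.1 this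
    exact hzw (by
      have : z = w⁻¹ := eq_inv_of_mul_eq_one_left h3
      rw [this, inv_eq_of_mul_eq_one_left hww])
  · exfalso
    rw [h] at hnp
    have : w * z * n = n := by
      calc w * z * n = w * (n * w) := by rw [nw]; group
        _ = n := hnp
    have h3 : w * z = 1 := mul_eq_right.1 this
    exact hzw (by
      have : w = z⁻¹ := eq_inv_of_mul_eq_one_left h3
      rw [this, hzi])
  · right
    have h4 : (MulAut.conj z)⁻¹ * β = 1 := by
      apply key
      · intro c hc
        rw [OutQ.conj_inv_mul_apply, hβ c hc, mul_assoc, hc, ← mul_assoc, inv_mul_cancel, one_mul]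
      · rw [OutQ.conj_inv_mul_apply, hp, h, hzi]
        calc z * (n * (z * w)) * z = z * (n * z) * (w * z) := by group
          _ = z * w * (n * w) * z := by rw [nz]; group
          _ = z * w * z * (n * z) := by rw [nw]; group
          _ = z * w * z * w * n := by rw [nz]; group
          _ = z * (w * z) * w * n := by group
          _ = (z * z) * (w * w) * n := by rw [hw]; group
          _ = n := by rw [hz, hww]; group
    rw [← mul_one (MulAut.conj z), ← h4, mul_inv_cancel_left]

/-- The hypotheses. -/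
structure DataT {K : Type*} [Group K] (Q : Subgroup K) (z : K) (L : Type*) [Group L] : Prop where
  large : Large Q z
  irr : Irr Q z
  odd : Odd (Subgroup.centralizer ({z} : Set K)).index
  simple : IsSimpleGroup L
  nonab : ∃ a b : L, a * b ≠ b * a
  quot : ∃ π : Subgroup.centralizer ({z} : Set K) →* L, Function.Surjective π ∧ ∀ c, π c = 1 ↔ (c : K) ∈ Q
  inner : ∀ α : MulAut L, ∃ g : L, α = MulAut.conj g
  /-- (T1') -/
  t1 : ∀ β : MulAut K, (∀ c : K, c * z = z * c → β c = c) → β = 1 ∨ β = MulAut.conj z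
  /-- the stabiliser of the vector `x₀` of `Q/⟨z⟩` fixes only `0` and `x₀` -/
  fix : ∃ x₀ ∈ Q, x₀ ≠ 1 ∧ x₀ ≠ z ∧
    ∀ y ∈ Q, (∀ c : K, c * z = z * c → Eqz z (c * x₀ * c⁻¹) x₀ → Eqz z (c * y * c⁻¹) y) →
      Eqz z y 1 ∨ Eqz z y x₀
  out : ∃ k : K, (k * z * k⁻¹) * z = z * (k * z * k⁻¹) ∧ k * z * k⁻¹ ∉ Q

namespace DataT

variable {K : Type*} [Group K] {Q : Subgroup K} {z : K} {L : Type*} [Group L]

theorem ne (D : DataT Q z L) : ∃ x ∈ Q, x ≠ 1 ∧ x ≠ z := by
  obtain ⟨x₀, h0, h1, h2, -⟩ := D.fix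
  exact ⟨x₀, h0, h1, h2⟩

/-- **`C_K(z)` is perfect.** -/
theorem perfect (D : DataT Q z L) : commutator (Subgroup.centralizer ({z} : Set K)) = ⊤ := by
  have := D.simple
  obtain ⟨π, hπs, hπ⟩ := D.quot
  exact LargeE.perfect D.large D.nonab π hπs hπ D.irr D.ne

theorem perf (D : DataT Q z L) :
    ⁅Subgroup.centralizer ({z} : Set K), Subgroup.centralizer ({z} : Set K)⁆ =
      Subgroup.centralizer ({z} : Set K) := by
  have h := congrArg (Subgroup.map (Subgroup.centralizer ({z} : Set K)).subtype) D.perfect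
  rw [_root_.commutator_def, Subgroup.map_commutator, ← MonoidHom.range_eq_map, Subgroup.range_subtype] at h
  exact h

/-- An automorphism fixing `z` and trivial on `C_K(z)/Q` is the conjugation by an element of `Q`. -/
theorem eq_conj_of_comm [Finite K] (D : DataT Q z L) (α : MulAut K) (hα : α z = z)
    (hcomm : ∀ c : K, c * z = z * c → α c * c⁻¹ ∈ Q) : ∃ x ∈ Q, α = MulAut.conj x := by
  have h := D.large
  obtain ⟨x₀, hx₀, hx₀1, hx₀z, hcen⟩ := D.fix
  have h1 := eqz_of_comm h D.irr hx₀ hx₀1 hx₀z hcen α hα hcomm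
  obtain ⟨x, hx, hxc⟩ := exists_conj_cent h D.ne D.perfect α hα h1
  have hxz : z * x = x * z := (h.comm_z x hx).symm
  rcases D.t1 ((MulAut.conj x)⁻¹ * α) (by
    intro c hc
    rw [OutQ.conj_inv_mul_apply, hxc c hc]; group) with h2 | h2
  · exact ⟨x, hx, by rw [inv_mul_eq_one] at h2; exact h2.symm⟩
  · refine ⟨x * z, Q.mul_mem hx h.z_mem, ?_⟩
    rw [inv_mul_eq_iff_eq_mul] at h2
    rw [h2, map_mul]

/-- **Every automorphism of `K` is inner.** -/
theorem allInner [Finite K] (D : DataT Q z L) (α : MulAut K) : ∃ k : K, α = MulAut.conj k := by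
  have h := D.large
  obtain ⟨π, hπs, hπ⟩ := D.quot
  -- fix `z`
  obtain ⟨k, hk⟩ := exists_conj_z h D.odd α
  set β : MulAut K := (MulAut.conj k)⁻¹ * α with hβ
  have hβz : β z = z := by
    rw [hβ, OutQ.conj_inv_mul_apply, hk]; group
  -- the restriction to `C`
  have hβC : ∀ {c : K}, c * z = z * c ↔ β c * z = z * β c := by
    intro c
    constructor
    · intro hc
      have := congrArg β hc
      rwa [map_mul, map_mul, hβz] at this
    · intro hc
      apply β.injective
      rw [map_mul, map_mul, hβz]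
      exact hc
  let γ : MulAut (Subgroup.centralizer ({z} : Set K)) :=
    MulEquiv.ofBijective (MonoidHom.mk'
      (fun c : Subgroup.centralizer ({z} : Set K) => (⟨β c, Subgroup.mem_centralizer_singleton_iff.2
          (hβC.1 (Subgroup.mem_centralizer_singleton_iff.1 c.2))⟩ : Subgroup.centralizer ({z} : Set K)))
      (fun a b => Subtype.ext (map_mul β (a : K) b)))
      ⟨fun a b hab => Subtype.ext (β.injective (congrArg Subtype.val hab)),
       fun c => by
        obtain ⟨d, hd⟩ := β.surjective (c : K)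
        refine ⟨⟨d, Subgroup.mem_centralizer_singleton_iff.2 (hβC.2 ?_)⟩, Subtype.ext hd⟩
        rw [hd]
        exact Subgroup.mem_centralizer_singleton_iff.1 c.2⟩
  have hγ : ∀ c, ((γ c : Subgroup.centralizer ({z} : Set K)) : K) = β c := fun c => rfl
  obtain ⟨c₀, hc₀⟩ := exists_conj_quot π hπs γ (fun c => by
    rw [hπ, hπ, hγ]
    exact (map_mem_iff h D.irr D.ne hβz).symm) D.inner
  have hc₀z : (c₀ : K) * z = z * c₀ := Subgroup.mem_centralizer_singleton_iff.1 c₀.2
  set δ : MulAut K := (MulAut.conj (c₀ : K))⁻¹ * β with hδ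
  have hδa : ∀ x, δ x = (c₀ : K)⁻¹ * β x * c₀ := fun x => OutQ.conj_inv_mul_apply _ β x
  have hδz : δ z = z := by
    rw [hδa, hβz, mul_assoc, ← hc₀z]; group
  obtain ⟨x, -, hx⟩ := D.eq_conj_of_comm δ hδz (by
    intro c hc
    have hcm : c ∈ Subgroup.centralizer ({z} : Set K) := Subgroup.mem_centralizer_singleton_iff.2 hc
    have h1 := hc₀ ⟨c, hcm⟩
    have h2 : π (c₀⁻¹ * γ ⟨c, hcm⟩ * c₀ * ⟨c, hcm⟩⁻¹) = 1 := by
      simp only [map_mul, map_inv, h1]
      group
    have h3 := (hπ _).1 h2
    rw [hδa]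
    exact h3)
  refine ⟨k * c₀ * x, ?_⟩
  have e1 : α = MulAut.conj k * β := by rw [hβ]; group
  have e2 : β = MulAut.conj (c₀ : K) * δ := by rw [hδ]; group
  rw [e1, e2, hx, map_mul, map_mul, mul_assoc]

/-- **Every automorphism of `C_K(z)` is inner.** -/
theorem innerCent [Finite K] (D : DataT Q z L) (β : MulAut (Subgroup.centralizer ({z} : Set K))) :
    ∃ p : Subgroup.centralizer ({z} : Set K), β = MulAut.conj p := by
  obtain ⟨π, hπs, hπ⟩ := D.quot
  obtain ⟨x₀, hx₀, hx₀1, hx₀z, hcen⟩ := D.fix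
  exact SheetInner.Data.innerCent_aux D.large D.irr _ Subgroup.mem_centralizer_singleton_iff π hπs hπ D.inner
    D.perfect hx₀ hx₀1 hx₀z hcen β

/-- **The sheet.** -/
theorem sheet [Finite K] (D : DataT Q z L) : SheetE z (Subgroup.centralizer ({z} : Set K)) Q := by
  have h := D.large
  have hmemC : ∀ {c : K}, c ∈ Subgroup.centralizer ({z} : Set K) ↔ c * z = z * c :=
    fun {c} => Subgroup.mem_centralizer_singleton_iff
  have hQC : Q ≤ Subgroup.centralizer ({z} : Set K) := fun x hx => hmemC.2 (h.comm_z x hx)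
  have htop : (MulAut.conj : K →* MulAut K).range = ⊤ := by
    rw [eq_top_iff]
    intro α _
    obtain ⟨k, rfl⟩ := D.allInner α
    exact ⟨k, rfl⟩
  refine
    { zz := h.z_sq
      z1 := h.z_ne
      syl := ?_
      cen := fun x hx => hmemC.1 hx
      perf := D.perf
      der := ⟨0, le_of_eq rfl⟩
      out := ?_
      schreier := ⟨0, by rw [htop]; exact le_top⟩
      zR := h.z_mem
      RP := hQC
      R2 := isPGroup h
      Rn := fun x hx r hr => h.conj_mem x (hmemC.1 hx) r hr
      Rmax := ?_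
      Rmin := ?_
      Rna := ?_
      cR := fun x hx hr => h.self x (hmemC.1 hx) hr
      aut := ?_
      ytrick := ?_ }
  · obtain ⟨S, hS⟩ := exists_sylow D.odd
    have hQS := le_sylow h S hS
    exact ⟨S, hQS h.z_mem, fun x hx => hmemC.1 (hS hx), fun y hy hyc =>
      LargeE.cent_eq h (hmemC.1 (hS hy)) (fun x hx => (hyc x (hQS hx)).symm)⟩
  · rw [htop, Subgroup.index_top]; decide
  · intro B hBC hB2 hBn
    exact LargeO2.le_of_normal h D.irr D.ne hB2 (fun w hw => hmemC.1 (hBC hw))
      (fun u hu w hw => hBn u (hmemC.2 hu) w hw)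
  · intro B hBQ hBn
    exact D.irr B hBQ (fun g hg n hn => hBn g (hmemC.2 hg) n hn)
  · obtain ⟨x, hx, hx1, hxz⟩ := D.ne
    obtain ⟨y, hy, hxy⟩ := exists_not_comm h hx hx1 hxz
    refine ⟨y, hy, x, hx, fun e => ?_⟩
    rw [e] at hxy
    exact h.z_ne (left_eq_mul.1 hxy)
  · intro α _ hαz hα
    exact D.eq_conj_of_comm α hαz (by
      intro c hc
      have h1 := h.conj_mem c hc _ (hα c (hmemC.2 hc))
      have e : c * (c⁻¹ * α c) * c⁻¹ = α c * c⁻¹ := by group
      rwa [e] at h1)
  · obtain ⟨k, hk, hkQ⟩ := D.out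
    have hw : k⁻¹ * z * k ∈ Subgroup.centralizer ({z} : Set K) := by
      rw [hmemC]
      calc k⁻¹ * z * k * z = k⁻¹ * (z * (k * z * k⁻¹)) * k := by group
        _ = k⁻¹ * ((k * z * k⁻¹) * z) * k := by rw [hk]
        _ = z * (k⁻¹ * z * k) := by group
    refine ⟨k, hmemC.2 hk, hkQ, hw, fun β _ => ?_⟩
    obtain ⟨p, rfl⟩ := D.innerCent β
    exact ⟨p, hmemC.1 p.2, rfl⟩

end DataT

end Cfsg.Agent.KFacts.SheetInnerT
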