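import Cfsg.Agent.LargeExtra.Pres
import Cfsg.Agent.Lib.PermNetOrbit

/-!
# Extraspecial 2-groups inside a group, by codes

`Rels B n z x`: elements `x 0, …, x (n-1)` and a central `z` with the relations of `XG B n`. The element with code
`c < 2^(n+1)` is `z^{c_n} ∏ xᵢ^{cᵢ}`. Products and conjugates are computed on codes, orbits by certificates
(bit masks), everything decidable by the kernel.
-/

set_option autoImplicit false

namespace Cfsg.Agent.KFacts.Codes

open Cfsg.Agent.LargeExtra.Model Cfsg.Agent.LargeExtra.Pres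

variable {K : Type*} [Group K] {B : ℕ → ℕ} {n : ℕ} {z : K} {x : ℕ → K}

/-- the element with code `c` -/
def cod (n : ℕ) (z : K) (x : ℕ → K) (c : ℕ) : K := zp z (c.testBit n) * prd x n c

/-- product on codes -/
def mulc (B : ℕ → ℕ) (n c d : ℕ) : ℕ := (c ^^^ d) ^^^ (if bf B n c d = true then 2 ^ n else 0)

theorem prd_congr {v w : ℕ} : ∀ {k : ℕ}, (∀ i < k, v.testBit i = w.testBit i) →
    prd x k v = prd x k w := by
  intro k
  induction k with
  | zero => intro _; rfl
  | succ k ih =>
    intro h
    show prd x k v * zp (x k) (v.testBit k) = prd x k w * zp (x k) (w.testBit k)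
    rw [ih (fun i hi => h i (by omega)), h k (by omega)]

theorem testBit_flag (b : Bool) (n i : ℕ) :
    (if b = true then 2 ^ n else 0 : ℕ).testBit i = (b && decide (n = i)) := by
  cases b
  · simp
  · simp [Nat.testBit_two_pow]

theorem cod_mul (h : Rels B n z x) (hB : Tri B n) (c d : ℕ) :
    cod n z x c * cod n z x d = cod n z x (mulc B n c d) := by
  have hc : ∀ u a, prd x n u * zp z a = zp z a * prd x n u := fun u a =>
    zp_comm (h.prd_comm (le_refl n) u) a
  have h1 : prd x n (mulc B n c d) = prd x n (c ^^^ d) := by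
    apply prd_congr
    intro i hi
    rw [mulc, Nat.testBit_xor, testBit_flag, decide_eq_false (by omega : ¬ n = i), Bool.and_false,
      Bool.xor_false]
  have h2 : (mulc B n c d).testBit n = ((c.testBit n ^^ d.testBit n) ^^ bf B n c d) := by
    rw [mulc, Nat.testBit_xor, testBit_flag, decide_eq_true rfl, Bool.and_true, Nat.testBit_xor]
  show zp z (c.testBit n) * prd x n c * (zp z (d.testBit n) * prd x n d) =
    zp z ((mulc B n c d).testBit n) * prd x n (mulc B n c d)
  rw [h1, h2, zp_xor h.zz, zp_xor h.zz, mul_assoc, mul_assoc, bf_eq,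
    ← h.prd_mul hB (le_refl n), mul_assoc, ← mul_assoc (prd x n c) (zp z _), hc]
  simp only [mul_assoc]

theorem cod_zero : cod n z x 0 = 1 := by
  rw [cod, Nat.zero_testBit, prd_zero]; simp [zp]

theorem cod_pow {i : ℕ} (hi : i < n) : cod n z x (2 ^ i) = x i := by
  rw [cod, prd_two_pow, if_pos hi, Nat.testBit_two_pow, decide_eq_false (by omega : ¬ i = n)]
  simp [zp]

theorem cod_z : cod n z x (2 ^ n) = z := by
  rw [cod, prd_two_pow, if_neg (lt_irrefl n), Nat.testBit_two_pow, decide_eq_true rfl]
  simp [zp]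

theorem cod_eq_lift (h : Rels B n z x) (hB : Tri B n) (c : ℕ) :
    cod n z x c = lift h hB ⟨⟨c % 2 ^ n, Nat.mod_lt _ (Nat.two_pow_pos n)⟩, c.testBit n⟩ := by
  rw [lift_apply]
  show zp z (c.testBit n) * prd x n c = zp z (c.testBit n) * prd x n (c % 2 ^ n)
  congr 1
  apply prd_congr
  intro i hi
  rw [Nat.testBit_mod_two_pow, decide_eq_true hi, Bool.true_and]

theorem cod_injOn (h : Rels B n z x) (hB : Tri B n) (hN : Nondeg B n) (hz : z ≠ 1) {c d : ℕ}
    (hc : c < 2 ^ (n + 1)) (hd : d < 2 ^ (n + 1)) (he : cod n z x c = cod n z x d) : c = d := by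
  rw [cod_eq_lift h hB, cod_eq_lift h hB] at he
  have h1 := lift_injective h hB hN hz he
  rw [XG.mk.injEq, Fin.mk.injEq] at h1
  obtain ⟨h2, h3⟩ := h1
  apply Nat.eq_of_testBit_eq
  intro i
  rcases lt_trichotomy i n with hi | hi | hi
  · have h4 := congrArg (fun m => m.testBit i) h2
    simp only [Nat.testBit_mod_two_pow, decide_eq_true hi, Bool.true_and] at h4
    exact h4
  · rw [hi]; exact h3
  · rw [Nat.testBit_lt_two_pow (lt_of_lt_of_le hc (Nat.pow_le_pow_right (by norm_num) hi)),
      Nat.testBit_lt_two_pow (lt_of_lt_of_le hd (Nat.pow_le_pow_right (by norm_num) hi))]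

/-- the subgroup -/
def RG (n : ℕ) (z : K) (x : ℕ → K) : Subgroup K := Subgroup.closure (insert z {g | ∃ i < n, x i = g})

theorem cod_mem (c : ℕ) : cod n z x c ∈ RG n z x := by
  have hz : z ∈ RG n z x := Subgroup.subset_closure (Set.mem_insert _ _)
  have h : ∀ k ≤ n, prd x k c ∈ RG n z x := by
    intro k
    induction k with
    | zero => intro _; exact Subgroup.one_mem _
    | succ k ih =>
      intro hk
      refine Subgroup.mul_mem _ (ih (by omega)) ?_
      unfold zp
      split_ifs
      · exact Subgroup.subset_closure (Set.mem_insert_of_mem _ ⟨k, hk, rfl⟩)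
      · exact Subgroup.one_mem _
  refine Subgroup.mul_mem _ ?_ (h n (le_refl n))
  unfold zp
  split_ifs
  · exact hz
  · exact Subgroup.one_mem _

theorem RG_eq_range (h : Rels B n z x) (hB : Tri B n) : RG n z x = (lift h hB).range := by
  apply le_antisymm
  · rw [RG, Subgroup.closure_le]
    rintro g (rfl | ⟨i, hi, rfl⟩)
    · exact ⟨zz, lift_zz h hB⟩
    · exact ⟨q B n ⟨i, hi⟩, lift_q h hB ⟨i, hi⟩⟩
  · rintro g ⟨y, rfl⟩
    have h1 : lift h hB y = cod n z x (y.v.1 + (if y.s = true then 2 ^ n else 0)) := by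
      rw [cod_eq_lift h hB]
      congr 1
      apply XG.ext'
      · show y.v.1 = (y.v.1 + (if y.s = true then 2 ^ n else 0)) % 2 ^ n
        cases y.s
        · simp [Nat.mod_eq_of_lt y.v.2]
        · simp [Nat.mod_eq_of_lt y.v.2]
      · show y.s = (y.v.1 + (if y.s = true then 2 ^ n else 0)).testBit n
        cases y.s
        · simp [Nat.testBit_lt_two_pow y.v.2]
        · simp only [if_true]
          rw [add_comm, Nat.testBit_two_pow_add_eq, Nat.testBit_lt_two_pow y.v.2]
          rfl
    rw [h1]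
    exact cod_mem _

theorem mem_RG (h : Rels B n z x) (hB : Tri B n) {g : K} :
    g ∈ RG n z x ↔ ∃ c < 2 ^ (n + 1), cod n z x c = g := by
  constructor
  · intro hg
    rw [RG_eq_range h hB] at hg
    obtain ⟨y, rfl⟩ := hg
    refine ⟨y.v.1 + (if y.s = true then 2 ^ n else 0), ?_, ?_⟩
    · have := y.v.2
      rw [pow_succ]
      split_ifs <;> omega
    · rw [cod_eq_lift h hB]
      congr 1
      apply XG.ext'
      · show (y.v.1 + (if y.s = true then 2 ^ n else 0)) % 2 ^ n = y.v.1
        cases y.s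
        · simp [Nat.mod_eq_of_lt y.v.2]
        · simp [Nat.mod_eq_of_lt y.v.2]
      · show (y.v.1 + (if y.s = true then 2 ^ n else 0)).testBit n = y.s
        cases y.s
        · simp [Nat.testBit_lt_two_pow y.v.2]
        · simp only [if_true]
          rw [add_comm, Nat.testBit_two_pow_add_eq, Nat.testBit_lt_two_pow y.v.2]
          rfl
  · rintro ⟨c, -, rfl⟩
    exact cod_mem c

theorem card_RG (h : Rels B n z x) (hB : Tri B n) (hN : Nondeg B n) (hz : z ≠ 1) :
    Nat.card (RG n z x) = 2 ^ (n + 1) := by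
  rw [RG_eq_range h hB, ← card_XG (B := B) (n := n)]
  exact (Nat.card_congr (MonoidHom.ofInjective (lift_injective h hB hN hz)).toEquiv).symm

theorem RG_sq (h : Rels B n z x) (hB : Tri B n) {g : K} (hg : g ∈ RG n z x) :
    g * g = 1 ∨ g * g = z := by
  rw [RG_eq_range h hB] at hg
  obtain ⟨y, rfl⟩ := hg
  rcases mul_self_mem y with h1 | h1
  · left; rw [← map_mul, h1, map_one]
  · right; rw [← map_mul, h1, lift_zz]

theorem RG_comm (h : Rels B n z x) (hB : Tri B n) {g g' : K} (hg : g ∈ RG n z x)
    (hg' : g' ∈ RG n z x) : g * g' = g' * g ∨ g * g' = z * (g' * g) := by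
  rw [RG_eq_range h hB] at hg hg'
  obtain ⟨y, rfl⟩ := hg
  obtain ⟨y', rfl⟩ := hg'
  rcases comm_or y y' with h1 | h1
  · left; rw [← map_mul, h1, map_mul]
  · right; rw [← map_mul, h1, map_mul, map_mul, lift_zz]

theorem RG_center (h : Rels B n z x) (hB : Tri B n) (hN : Nondeg B n) (hz : z ≠ 1) {g : K}
    (hg : g ∈ RG n z x) (hc : ∀ y ∈ RG n z x, y * g = g * y) : g = 1 ∨ g = z := by
  rw [RG_eq_range h hB] at hg hc
  obtain ⟨y, rfl⟩ := hg
  have h1 : y ∈ Subgroup.center (XG B n) := by
    rw [Subgroup.mem_center_iff]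
    intro y'
    apply lift_injective h hB hN hz
    rw [map_mul, map_mul]
    exact hc _ ⟨y', rfl⟩
  rcases (mem_center_iff hN y).1 h1 with h2 | h2
  · left; rw [h2, map_one]
  · right; rw [h2, lift_zz]

/-! ### Conjugation -/

/-- product of images -/
def aux (B : ℕ → ℕ) (n : ℕ) (I : ℕ → ℕ) (c : ℕ) : ℕ → ℕ
  | 0 => 0
  | k + 1 => if c.testBit k = true then mulc B n (aux B n I c k) (I k) else aux B n I c k

/-- action on codes given by the images of the generators -/
def act (B : ℕ → ℕ) (n : ℕ) (I : ℕ → ℕ) (c : ℕ) : ℕ :=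
  aux B n I c n ^^^ (if c.testBit n = true then 2 ^ n else 0)

theorem cod_xor_flag (h : Rels B n z x) (d : ℕ) (b : Bool) :
    cod n z x (d ^^^ (if b = true then 2 ^ n else 0)) = zp z b * cod n z x d := by
  have h1 : prd x n (d ^^^ (if b = true then 2 ^ n else 0)) = prd x n d := by
    apply prd_congr
    intro i hi
    rw [Nat.testBit_xor, testBit_flag, decide_eq_false (by omega : ¬ n = i), Bool.and_false,
      Bool.xor_false]
  rw [cod, h1, Nat.testBit_xor, testBit_flag, decide_eq_true rfl, Bool.and_true, Bool.xor_comm,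
    zp_xor h.zz, mul_assoc, cod]

theorem conj_cod (h : Rels B n z x) (hB : Tri B n) {g : K} {I : ℕ → ℕ} (hgz : g * z = z * g)
    (hI : ∀ i < n, g * x i * g⁻¹ = cod n z x (I i)) (c : ℕ) :
    g * cod n z x c * g⁻¹ = cod n z x (act B n I c) := by
  have h1 : ∀ k ≤ n, g * prd x k c * g⁻¹ = cod n z x (aux B n I c k) := by
    intro k
    induction k with
    | zero =>
      intro _
      show g * 1 * g⁻¹ = cod n z x 0
      rw [cod_zero]; group
    | succ k ih =>
      intro hk
      show g * (prd x k c * zp (x k) (c.testBit k)) * g⁻¹ =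
        cod n z x (if c.testBit k = true then mulc B n (aux B n I c k) (I k) else aux B n I c k)
      by_cases hb : c.testBit k = true
      · rw [if_pos hb, ← cod_mul h hB, ← ih (by omega), ← hI k hk, hb]
        simp only [zp, if_true]
        group
      · rw [if_neg hb, ← ih (by omega)]
        simp only [zp, if_neg hb, mul_one]
  rw [act, cod_xor_flag h, ← h1 n (le_refl n), cod]
  have h2 : g * zp z (c.testBit n) = zp z (c.testBit n) * g := zp_comm hgz _
  calc g * (zp z (c.testBit n) * prd x n c) * g⁻¹ = g * zp z (c.testBit n) * prd x n c * g⁻¹ := by group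
    _ = zp z (c.testBit n) * (g * prd x n c * g⁻¹) := by rw [h2]; group

end Cfsg.Agent.KFacts.Codes
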