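import Cfsg.Agent.KFacts.F4Cent
import Cfsg.Agent.Nodes.Unique

/-!
`F₄(q)`, `q` even: centralisers of pairs of root groups (K-group facts for S1765, node D10; F4).

`K` a finite field of characteristic two, `XF K x` the root groups of `chevF4.group K`, `eg isType K x t` the root
elements; `Cm g Ψ` : `g` commutes with SOME nontrivial element of `XF K c` for every `c ∈ Ψ`.

* `cent_P`    : `Cm g {c : 0 ≤ ⟨c,a⟩}` implies `g ∈ X_a`;
* `cent_Q`    : `Cm g {c : 0 < ⟨c,a⟩}` implies `g ∈ ⟨X_a, X_c : c of the other length, 0 < ⟨c,a⟩⟩`;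
* `cent_pair` : `Cm g {c : 0 ≤ ⟨c,a⟩, 0 ≤ ⟨c,b⟩}` implies `g ∈ ⟨X_c : c ∈ Cone a b⟩`;
* `cent_pairL`, `cent_pairS` : the same with smaller sets.
-/

set_option autoImplicit false
set_option Elab.async false

namespace Cfsg.Agent.KFacts.F4Pair

open CoxeterSystem Cfsg.Agent.ChevalleyStructure.CoxeterGeom Cfsg.Agent.Tits.Roots Cfsg.Agent.Tits.Core
open Cfsg.Lie Cfsg.Agent.ChevalleyStructure Cfsg.Agent.ChevalleyStructure.Elts
  Cfsg.Agent.ChevalleyStructure.RootVec Cfsg.Agent.ChevalleyStructure.CoxeterGeomTypes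
open Cfsg.Agent.Nodes Cfsg.Agent.Nodes.Reps Cfsg.Agent.Nodes.BNOf Cfsg.Agent.Nodes.RGDChev Cfsg.Agent.Nodes.Coroot
  Cfsg.Agent.Nodes.KindF Cfsg.Agent.KFacts.ChevTwo Cfsg.Agent.KFacts.ChevTwoTab Cfsg.Agent.KFacts.ChevTwoInst
  Cfsg.Agent.KFacts.F4Star Cfsg.Agent.KFacts.F4Cent

universe u

/-- the root groups of `F₄(K)` -/
abbrev XF (K : Type u) [Field K] (x : Fin 4 → ℤ) : Subgroup ↥(chevF4.group K) :=
  (XV chevF4 4 K x).subgroupOf (chevF4.group K)

/-- the root elements of `F₄(K)` -/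
noncomputable abbrev eF (K : Type u) [Field K] (x : Fin 4 → ℤ) (t : K) : ↥(chevF4.group K) := eg isType K x t

variable {K : Type u} [Field K] [Finite K] [CharP K 2] {W : Type*} [Group W]
  (cs : CoxeterSystem CoxeterMatrix.F₄ W)

/-- `g` commutes with a nontrivial element of every root group of `Ψ` -/
def Cm (g : ↥(chevF4.group K)) (Ψ : Set (Fin 4 → ℤ)) : Prop := ∀ c ∈ Ψ, ∃ z ∈ XF K c, z ≠ 1 ∧ g * z = z * g

theorem sysF : Sys (rgd (K := K) isType cs 2) (eF K) := sys isType twoOK_F4 cs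

theorem cent_mask {P : ℕ} (hP : spanM P = true) {g : ↥(chevF4.group K)} (hz : Cm g (SetOf P)) :
    g ∈ RGD.Sup (XF K) (SetOf (starM P)) := by
  have hW : Finite CoxeterMatrix.F₄.Group := finite_W isType CoxeterMatrix.F₄.toCoxeterSystem
  rw [← star_SetOf CoxeterMatrix.F₄.toCoxeterSystem]
  refine (sysF (K := K) CoxeterMatrix.F₄.toCoxeterSystem).mem_sup (fun a ha => isRoot_of_mem_SetOf _ ha) ?_
    (G1_eq_top isType _) (S1077.center_group_eq_bot isType.inList) hz
  intro χ hχ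
  exact spanM_sound χ hP fun r hr hr' => hχ _ ⟨r, hr, hr', rfl⟩

theorem mem_XF_iff {x : Fin 4 → ℤ} (hx : IsRoot cs isType.isCartan x) {g : ↥(chevF4.group K)} :
    g ∈ XF K x ↔ ∃ t, eF K x t = g := by
  have hW : Finite W := finite_W isType cs
  exact (sysF (K := K) cs).mem_X x hx g

theorem exists_rep (w : W) : ∃ m : ↥(chevF4.group K), ∀ x, IsRoot cs isType.isCartan x → ∀ t,
    m * eF K x t * m⁻¹ = eF K (rep cs isType.isCartan w x) t := by
  have hW : Finite W := finite_W isType cs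
  exact (sysF (K := K) cs).data.exists_rep' w

section transport

variable {w : W} {m : ↥(chevF4.group K)}
  (hm : ∀ x, IsRoot cs isType.isCartan x → ∀ t, m * eF K x t * m⁻¹ = eF K (rep cs isType.isCartan w x) t)

include hm

theorem conj_XF {x : Fin 4 → ℤ} (hx : IsRoot cs isType.isCartan x) {g : ↥(chevF4.group K)} (hg : g ∈ XF K x) :
    m * g * m⁻¹ ∈ XF K (rep cs isType.isCartan w x) := by
  obtain ⟨t, rfl⟩ := (mem_XF_iff cs hx).1 hg
  exact (mem_XF_iff cs (hx.act w)).2 ⟨t, (hm x hx t).symm⟩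

theorem conj_XF' {x : Fin 4 → ℤ} (hx : IsRoot cs isType.isCartan x) {g : ↥(chevF4.group K)}
    (hg : g ∈ XF K (rep cs isType.isCartan w x)) : m⁻¹ * g * m ∈ XF K x := by
  obtain ⟨t, rfl⟩ := (mem_XF_iff cs (hx.act w)).1 hg
  refine (mem_XF_iff cs hx).2 ⟨t, ?_⟩
  rw [← hm x hx t]; group

theorem conj_Sup {S S' : Set (Fin 4 → ℤ)} (hS : ∀ x ∈ S, IsRoot cs isType.isCartan x ∧ rep cs isType.isCartan w x ∈ S')
    {g : ↥(chevF4.group K)} (hg : g ∈ RGD.Sup (XF K) S) : m * g * m⁻¹ ∈ RGD.Sup (XF K) S' := by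
  have h1 : RGD.Sup (XF K) S ≤ (RGD.Sup (XF K) S').comap (MulAut.conj m).toMonoidHom := by
    refine RGD.Sup_le fun x hx z hz => ?_
    show m * z * m⁻¹ ∈ RGD.Sup (XF K) S'
    exact RGD.le_Sup (hS x hx).2 (conj_XF cs hm (hS x hx).1 hz)
  exact h1 hg

end transport

/-- Transport of centraliser statements by the Weyl group. -/
theorem transport [Finite W] {Q C : (Fin 4 → ℤ) → (Fin 4 → ℤ) → Set (Fin 4 → ℤ)}
    {P : (Fin 4 → ℤ) → (Fin 4 → ℤ) → Prop}
    (hP : ∀ (w : W) a b, IsRoot cs isType.isCartan a → IsRoot cs isType.isCartan b →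
      P (rep cs isType.isCartan w a) (rep cs isType.isCartan w b) → P a b)
    (hQ : ∀ (w : W) a b c, IsRoot cs isType.isCartan a → IsRoot cs isType.isCartan b → c ∈ Q a b →
      IsRoot cs isType.isCartan c ∧
      rep cs isType.isCartan w c ∈ Q (rep cs isType.isCartan w a) (rep cs isType.isCartan w b))
    (hC : ∀ (w : W) a b c, IsRoot cs isType.isCartan a → IsRoot cs isType.isCartan b → c ∈ C a b →
      IsRoot cs isType.isCartan c ∧
      rep cs isType.isCartan w c ∈ C (rep cs isType.isCartan w a) (rep cs isType.isCartan w b))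
    (base : ∀ (i : Fin 4) b, IsRoot cs isType.isCartan b → P (sr i) b → ∀ g : ↥(chevF4.group K),
      Cm g (Q (sr i) b) → g ∈ RGD.Sup (XF K) (C (sr i) b))
    {a b : Fin 4 → ℤ} (ha : IsRoot cs isType.isCartan a) (hb : IsRoot cs isType.isCartan b) (hab : P a b)
    {g : ↥(chevF4.group K)} (hg : Cm g (Q a b)) : g ∈ RGD.Sup (XF K) (C a b) := by
  obtain ⟨w, i, rfl⟩ := ha
  obtain ⟨m, hm⟩ := exists_rep (K := K) cs w
  obtain ⟨b', rfl⟩ : ∃ b', rep cs isType.isCartan w b' = b := ⟨_, rep_apply_inv _ _ _ _⟩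
  rw [isRoot_rep_iff] at hb
  have hsr := isRoot_sr cs isType.isCartan i
  have h1 : m⁻¹ * g * m ∈ RGD.Sup (XF K) (C (sr i) b') := by
    refine base i b' hb (hP w _ _ hsr hb hab) _ ?_
    intro c hc
    obtain ⟨hcr, h2⟩ := hQ w _ _ c hsr hb hc
    obtain ⟨z, hz, hz1, hz2⟩ := hg _ h2
    refine ⟨m⁻¹ * z * m, conj_XF' cs hm hcr hz, ?_, ?_⟩
    · intro h3
      apply hz1
      have : z = m * (m⁻¹ * z * m) * m⁻¹ := by group
      rw [this, h3, mul_one, mul_inv_cancel]
    · calc m⁻¹ * g * m * (m⁻¹ * z * m) = m⁻¹ * (g * z) * m := by group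
        _ = m⁻¹ * z * m * (m⁻¹ * g * m) := by rw [hz2]; group
  have h2 := conj_Sup cs hm (fun c hc => hC w _ _ c hsr hb hc) h1
  have h3 : m * (m⁻¹ * g * m) * m⁻¹ = g := by group
  rwa [h3] at h2

/-- The index form of a check gives the vector form. -/
theorem base_of_check {P : ℕ} {a b : ℕ} (ha : a < 48) (hb : b < 48) (h : okP P a b = true)
    {Q : Set (Fin 4 → ℤ)} (hQ : SetOf P = Q) {g : ↥(chevF4.group K)} (hg : Cm g Q) :
    g ∈ RGD.Sup (XF K) (Cone cs (v a) (v b)) := by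
  obtain ⟨h1, h2⟩ := okP_sound cs ha hb h
  rw [← hQ] at hg
  exact RGD.Sup_mono h2 (cent_mask h1 hg)

theorem simple_mem (i : Fin 4) : ∃ a < 48, a ∈ [33, 27, 25, 24] ∧ v a = sr i := by
  obtain ⟨s0, s1, s2, s3, -⟩ := simples_ok
  fin_cases i
  · exact ⟨33, by norm_num, by simp, by rw [← s0]; exact v_simple 0⟩
  · exact ⟨27, by norm_num, by simp, by rw [← s1]; exact v_simple 1⟩
  · exact ⟨25, by norm_num, by simp, by rw [← s2]; exact v_simple 2⟩
  · exact ⟨24, by norm_num, by simp, by rw [← s3]; exact v_simple 3⟩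

theorem eq_neg_of_add {a b : ℕ} (ha : a < 48) (h : Nat.beq (a + b) 47 = true) : v b = -v a := by
  have h1 := Nat.eq_of_beq_eq_true h
  rw [← v_neg ha]
  congr 1
  omega

/-- **(C3)** -/
theorem cent_pair {a b : Fin 4 → ℤ} (ha : IsRoot cs isType.isCartan a) (hb : IsRoot cs isType.isCartan b)
    (hab : b ≠ -a) {g : ↥(chevF4.group K)} (hg : Cm g (Psi cs 0 0 a b)) :
    g ∈ RGD.Sup (XF K) (Cone cs a b) := by
  have hW : Finite W := finite_W isType cs
  refine transport cs (P := fun a b => b ≠ -a) (Q := Psi cs 0 0) (C := Cone cs) ?_ ?_ ?_ ?_ ha hb hab hg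
  · intro w a b _ _ h1 h2
    apply h1
    rw [h2, map_neg]
  · intro w a b c ha hb hc
    exact ⟨hc.1, (rep_mem_psi cs ha hb w).2 hc⟩
  · intro w a b c ha hb hc
    exact ⟨hc.1, (rep_mem_cone cs ha hb w).2 hc⟩
  · intro i b hb hP g hg
    obtain ⟨a, ha, ha', ha''⟩ := simple_mem i
    obtain ⟨r, hr, rfl⟩ := exists_v cs hb
    rw [← ha''] at hP hg ⊢
    have h1 := List.all_eq_true.1 (List.all_eq_true.1 chk0 a ha') r (List.mem_range.2 hr)
    rw [Bool.or_eq_true] at h1
    rcases h1 with h1 | h1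
    · exact absurd (eq_neg_of_add ha h1) hP
    · exact base_of_check cs ha hr h1 (SetOf_psi0 cs ha hr) hg

theorem testBit_long_false {r : ℕ} (hr : r < 48) : longM.testBit r = false ↔ Sh cs (v r) := by
  rw [← Bool.not_eq_true, testBit_long cs hr]
  exact ⟨fun h => ⟨isRoot_v cs hr, h⟩, fun h => h.2⟩

theorem lg_or_sh {x : Fin 4 → ℤ} (hx : IsRoot cs isType.isCartan x) : Lg cs x ∨ Sh cs x := by
  by_cases h : Lg cs x
  · exact Or.inl h
  · exact Or.inr ⟨hx, h⟩

/-- **(C4)**, the set `long ≥ 0`, `short > 0`; not for non orthogonal long roots, not for orthogonal roots of different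
lengths. -/
theorem cent_pairL {a b : Fin 4 → ℤ} (ha : IsRoot cs isType.isCartan a) (hb : IsRoot cs isType.isCartan b)
    (hab : b ≠ -a) (h1 : Lg cs a → Lg cs b → cpr cs isType.isCartan b a = 0)
    (h2 : (Lg cs a ↔ Sh cs b) → cpr cs isType.isCartan b a ≠ 0)
    {g : ↥(chevF4.group K)} (hg : Cm g (Psi cs 0 1 a b)) :
    g ∈ RGD.Sup (XF K) (Cone cs a b) := by
  have hW : Finite W := finite_W isType cs
  refine transport cs (P := fun a b => b ≠ -a ∧ (Lg cs a → Lg cs b → cpr cs isType.isCartan b a = 0) ∧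
    ((Lg cs a ↔ Sh cs b) → cpr cs isType.isCartan b a ≠ 0)) (Q := Psi cs 0 1) (C := Cone cs) ?_ ?_ ?_ ?_ ha hb
    ⟨hab, h1, h2⟩ hg
  · intro w a b ha hb h1
    rw [lg_rep_iff, lg_rep_iff, sh_rep_iff, cpr_rep cs _ w _ ha] at h1
    refine ⟨fun h2 => h1.1 (by rw [h2, map_neg]), h1.2⟩
  · intro w a b c ha hb hc
    exact ⟨hc.1, (rep_mem_psi cs ha hb w).2 hc⟩
  · intro w a b c ha hb hc
    exact ⟨hc.1, (rep_mem_cone cs ha hb w).2 hc⟩
  · intro i b hb hP g hg
    obtain ⟨a, ha, ha', ha''⟩ := simple_mem i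
    obtain ⟨r, hr, rfl⟩ := exists_v cs hb
    rw [← ha''] at hP hg ⊢
    have h1 := List.all_eq_true.1 (List.all_eq_true.1 chkL a ha') r (List.mem_range.2 hr)
    rw [Bool.or_eq_true, Bool.or_eq_true, Bool.or_eq_true, Bool.and_eq_true, Bool.and_eq_true,
      Bool.and_eq_true, Bool.not_eq_true', beq_iff_eq, beq_eq_false_iff_ne, bne_iff_ne, ← cpr_v cs ha hr] at h1
    rcases h1 with ((h1 | h1) | h1) | h1
    · exact absurd (eq_neg_of_add ha h1) hP.1
    · rw [testBit_long cs ha, testBit_long cs hr] at h1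
      exact absurd (hP.2.1 h1.1.1 h1.1.2) h1.2
    · exfalso
      refine hP.2.2 ?_ h1.2
      rw [← testBit_long cs ha, ← testBit_long_false cs hr]
      have := h1.1
      revert this
      generalize longM.testBit a = A
      generalize longM.testBit r = B
      revert A B
      decide
    · exact base_of_check cs ha hr h1 (SetOf_psiL cs ha hr) hg

/-- **(C4)**, the set `short ≥ 0`, `long > 0`; not for non orthogonal short roots, not for orthogonal roots of different
lengths. -/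
theorem cent_pairS {a b : Fin 4 → ℤ} (ha : IsRoot cs isType.isCartan a) (hb : IsRoot cs isType.isCartan b)
    (hab : b ≠ -a) (h1 : Sh cs a → Sh cs b → cpr cs isType.isCartan b a = 0)
    (h2 : (Lg cs a ↔ Sh cs b) → cpr cs isType.isCartan b a ≠ 0)
    {g : ↥(chevF4.group K)} (hg : Cm g (Psi cs 1 0 a b)) :
    g ∈ RGD.Sup (XF K) (Cone cs a b) := by
  have hW : Finite W := finite_W isType cs
  refine transport cs (P := fun a b => b ≠ -a ∧ (Sh cs a → Sh cs b → cpr cs isType.isCartan b a = 0) ∧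
    ((Lg cs a ↔ Sh cs b) → cpr cs isType.isCartan b a ≠ 0)) (Q := Psi cs 1 0) (C := Cone cs) ?_ ?_ ?_ ?_ ha hb
    ⟨hab, h1, h2⟩ hg
  · intro w a b ha hb h1
    rw [lg_rep_iff, sh_rep_iff, sh_rep_iff, cpr_rep cs _ w _ ha] at h1
    refine ⟨fun h2 => h1.1 (by rw [h2, map_neg]), h1.2⟩
  · intro w a b c ha hb hc
    exact ⟨hc.1, (rep_mem_psi cs ha hb w).2 hc⟩
  · intro w a b c ha hb hc
    exact ⟨hc.1, (rep_mem_cone cs ha hb w).2 hc⟩
  · intro i b hb hP g hg
    obtain ⟨a, ha, ha', ha''⟩ := simple_mem i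
    obtain ⟨r, hr, rfl⟩ := exists_v cs hb
    rw [← ha''] at hP hg ⊢
    have h1 := List.all_eq_true.1 (List.all_eq_true.1 chkS a ha') r (List.mem_range.2 hr)
    rw [Bool.or_eq_true, Bool.or_eq_true, Bool.or_eq_true, Bool.and_eq_true, Bool.and_eq_true,
      Bool.and_eq_true, Bool.not_eq_true', beq_iff_eq, beq_eq_false_iff_ne, bne_iff_ne, ← cpr_v cs ha hr] at h1
    rcases h1 with ((h1 | h1) | h1) | h1
    · exact absurd (eq_neg_of_add ha h1) hP.1
    · rw [testBit_short cs ha, testBit_short cs hr] at h1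
      exact absurd (hP.2.1 h1.1.1 h1.1.2) h1.2
    · exfalso
      refine hP.2.2 ?_ h1.2
      rw [← testBit_long cs ha, ← testBit_long_false cs hr]
      have := h1.1
      revert this
      generalize longM.testBit a = A
      generalize longM.testBit r = B
      revert A B
      decide
    · exact base_of_check cs ha hr h1 (SetOf_psiS cs ha hr) hg

/-! ### Single roots -/

theorem cone_self {a : Fin 4 → ℤ} (ha : IsRoot cs isType.isCartan a) : Cone cs a a ⊆ {a} := by
  have hW : Finite W := finite_W isType cs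
  rintro c ⟨-, hc⟩
  rw [cpr_self cs _ ha] at hc
  rw [Set.mem_singleton_iff]
  rcases hc with h | h | h | h | h | h | h
  · exact h
  · exact h
  all_goals exact absurd h.1 (by norm_num)

/-- **(C1)** `C_K(P_a) = X_a` (elementwise) -/
theorem cent_P {a : Fin 4 → ℤ} (ha : IsRoot cs isType.isCartan a) {g : ↥(chevF4.group K)}
    (hg : Cm g {c | IsRoot cs isType.isCartan c ∧ 0 ≤ cpr cs isType.isCartan c a}) : g ∈ XF K a := by
  have hW : Finite W := finite_W isType cs
  have h1 : a ≠ -a := by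
    intro h
    have := cpr_neg cs isType.isCartan a ha
    rw [← h, cpr_self cs _ ha] at this
    omega
  have h2 := cent_pair cs ha ha h1 (g := g) fun c hc => hg c (by
    refine ⟨hc.1, ?_⟩
    by_cases hl : Lg cs c
    · exact (hc.2.1 hl).1
    · exact (hc.2.2 ⟨hc.1, hl⟩).1)
  have h3 : RGD.Sup (XF K) (Cone cs a a) ≤ XF K a := RGD.Sup_le fun z hz => by
    rw [Set.mem_singleton_iff.1 (cone_self cs ha hz)]
  exact h3 h2

theorem ppChk : ([33, 27, 25, 24].all fun a => spanM (pp a) && (List.range 48).all fun c =>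
    !((starM (pp a)).testBit c) || Nat.beq c a || ((longM.testBit c != longM.testBit a) && (pp a).testBit c)) = true := by
  decide +kernel

/-- the roots of the seven-dimensional module of `P_a` -/
def V7 (a : Fin 4 → ℤ) : Set (Fin 4 → ℤ) :=
  {c | IsRoot cs isType.isCartan c ∧ (c = a ∨ ((Lg cs c ↔ Sh cs a) ∧ 1 ≤ cpr cs isType.isCartan c a))}

/-- **(C2)** `C_K(Q_a) = Z(Q_a)` (elementwise) -/
theorem cent_Q {a : Fin 4 → ℤ} (ha : IsRoot cs isType.isCartan a) {g : ↥(chevF4.group K)}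
    (hg : Cm g {c | IsRoot cs isType.isCartan c ∧ 1 ≤ cpr cs isType.isCartan c a}) :
    g ∈ RGD.Sup (XF K) (V7 cs a) := by
  have hW : Finite W := finite_W isType cs
  refine transport cs (P := fun _ _ => True)
    (Q := fun a _ => {c | IsRoot cs isType.isCartan c ∧ 1 ≤ cpr cs isType.isCartan c a})
    (C := fun a _ => V7 cs a) (fun _ _ _ _ _ _ => trivial) ?_ ?_ ?_ ha ha trivial hg
  · intro w a b c ha hb hc
    refine ⟨hc.1, hc.1.act w, ?_⟩
    rw [cpr_rep cs _ w _ ha]; exact hc.2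
  · rintro w a b c ha hb ⟨hc, hc'⟩
    refine ⟨hc, hc.act w, ?_⟩
    rw [lg_rep_iff, sh_rep_iff, cpr_rep cs _ w _ ha, rep_inj_iff]
    exact hc'
  · intro i b hb _ g hg
    obtain ⟨a, ha, ha', ha''⟩ := simple_mem i
    rw [← ha''] at hg ⊢
    have h1 := List.all_eq_true.1 ppChk a ha'
    rw [Bool.and_eq_true] at h1
    have h2 : SetOf (pp a) = {c | IsRoot cs isType.isCartan c ∧ 1 ≤ cpr cs isType.isCartan c (v a)} := by
      ext x
      constructor
      · rintro ⟨c, hc, h2, rfl⟩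
        exact ⟨isRoot_v cs hc, (testBit_pp cs ha hc).1 h2⟩
      · rintro ⟨hx, h2⟩
        obtain ⟨c, hc, rfl⟩ := exists_v cs hx
        exact ⟨c, hc, (testBit_pp cs ha hc).2 h2, rfl⟩
    have h3 := cent_mask (K := K) h1.1 (g := g) (by rw [h2]; exact hg)
    refine RGD.Sup_mono ?_ h3
    rintro _ ⟨c, hc, h4, rfl⟩
    have h5 := List.all_eq_true.1 h1.2 c (List.mem_range.2 hc)
    rw [h4, Bool.not_true, Bool.false_or, Bool.or_eq_true, Bool.and_eq_true, testBit_pp cs ha hc] at h5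
    refine ⟨isRoot_v cs hc, ?_⟩
    rcases h5 with h5 | ⟨h5, h6⟩
    · left; rw [Nat.eq_of_beq_eq_true h5]
    · right
      refine ⟨?_, h6⟩
      rw [← testBit_long cs hc, ← testBit_long_false cs ha]
      revert h5
      generalize longM.testBit a = A
      generalize longM.testBit c = B
      revert A B
      decide

end Cfsg.Agent.KFacts.F4Pair
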