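import Mathlib
import Cfsg.Agent.KFacts.RgdOver
import Cfsg.Agent.StdRank2.OutField

/-!
# Graph automorphisms not preserving the Cartan matrix (types `B₂`, `F₄`, characteristic two)

* `exists_frob` : `Aut F` is generated by the Frobenius;
* `cyc_key` : group theory;
* `frame_cyclic` : a `2`-group of frame automorphisms of `F₄(q)`, `B₂(q)` is cyclic;
* `exists_gen_graph` : the overgroup form: `S = f(U) C_S(K) ⟨g⟩`.
-/

set_option autoImplicit false
set_option linter.unusedSectionVars false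

namespace Cfsg.Agent.KFacts.RgdGraph

open CoxeterSystem Cfsg.Agent.ChevalleyStructure.CoxeterGeom Cfsg.Agent.Tits.Roots Cfsg.Agent.Tits.Core
  Cfsg.Agent.Tits.Exchange Cfsg.Agent.Nodes.Reps Cfsg.Agent.Nodes.BNOf Cfsg.Agent.Nodes.StabComb
  Cfsg.Agent.Nodes.Bruhat Cfsg.Agent.Nodes.OppDec Cfsg.Agent.Nodes.LeviDec Cfsg.Agent.Nodes.NormalForm
  Cfsg.Agent.Nodes.Coroot Cfsg.Agent.Nodes.PosPair
  Cfsg.Agent.KFacts.RgdOpp Cfsg.Agent.KFacts.RgdAut Cfsg.Agent.KFacts.RgdDiag Cfsg.Agent.KFacts.RgdRigid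
  Cfsg.Agent.KFacts.RgdField Cfsg.Agent.KFacts.RgdTau Cfsg.Agent.KFacts.RgdOver

/-! ### The Frobenius -/

theorem exists_frob {F : Type*} [Field F] [Finite F] [CharP F 2] :
    ∃ fr : F ≃+* F, (∀ x, fr x = x ^ 2) ∧ ∀ σ : F ≃+* F, ∃ m : ℕ, σ = fr ^ m := by
  have : Fact (Nat.Prime 2) := ⟨Nat.prime_two⟩
  let _ : Algebra (ZMod 2) F := ZMod.algebra F 2
  have : Fintype (ZMod 2) := ZMod.fintype 2
  let fr : F ≃+* F := (FiniteField.frobeniusAlgEquivOfAlgebraic (ZMod 2) F).toRingEquiv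
  have hfr : ∀ x, fr x = x ^ 2 := by
    intro x
    show FiniteField.frobeniusAlgEquivOfAlgebraic (ZMod 2) F x = x ^ 2
    rw [FiniteField.frobeniusAlgEquivOfAlgebraic_apply, ZMod.card]
  have hpow : ∀ (m : ℕ) x, ((FiniteField.frobeniusAlgEquivOfAlgebraic (ZMod 2) F) ^ m) x = (fr ^ m) x := by
    intro m
    induction m with
    | zero => intro x; rfl
    | succ m ih =>
      intro x
      rw [pow_succ, pow_succ, AlgEquiv.mul_apply, RingAut.mul_apply, ih]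
      rfl
  refine ⟨fr, hfr, fun σ => ?_⟩
  obtain ⟨m, hm⟩ := (FiniteField.bijective_frobeniusAlgEquivOfAlgebraic_pow (ZMod 2) F).2
    (StdRank2.OutField.toGal 2 σ)
  refine ⟨m.1, ?_⟩
  ext x
  rw [← hpow]
  exact (congrArg (fun f : F ≃ₐ[ZMod 2] F => f x) hm).symm

/-! ### Group theory -/

theorem cyc_key {E B : Type*} [Group E] [CommGroup B] (hE : IsPGroup 2 E) {E0 : Subgroup E}
    {φ : ↥E0 →* B} (hφ : Function.Injective φ) {fr : B} (hfr : ∀ a, ∃ m : ℕ, a = fr ^ m) {g : E} (hg : g * g ∈ E0)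
    (hEg : ∀ x : E, x ∈ E0 ∨ x * g⁻¹ ∈ E0) {b : B} (hb : φ ⟨g * g, hg⟩ = fr * (b * b)) :
    ∀ x : E, ∃ m : ℤ, x = g ^ m := by
  have hcB : IsCyclic B := ⟨fr, fun a => by
    obtain ⟨m, hm⟩ := hfr a
    exact ⟨(m : ℤ), by rw [hm, ← zpow_natCast]⟩⟩
  have hc0 : IsCyclic ↥E0 := isCyclic_of_injective φ hφ
  obtain ⟨e, he⟩ := hc0.exists_generator
  obtain ⟨m, hm⟩ := he ⟨g * g, hg⟩
  have hm' : e ^ m = ⟨g * g, hg⟩ := hm
  obtain ⟨k, hk⟩ := hE (e : E)
  have hk' : e ^ 2 ^ k = 1 := Subtype.ext hk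
  have key : ∃ l : ℤ, e = (⟨g * g, hg⟩ : ↥E0) ^ l := by
    rcases Int.even_or_odd m with ⟨l, hl⟩ | ⟨l, hl⟩
    · -- `m` even
      have h1 : fr = (φ e ^ l * b⁻¹) * (φ e ^ l * b⁻¹) := by
        have h2 : φ e ^ (l + l) = fr * (b * b) := by
          rw [← hb, ← hl, ← map_zpow, hm']
        have h3 : fr = φ e ^ (l + l) * (b * b)⁻¹ := by rw [h2, mul_inv_cancel_right]
        rw [h3, zpow_add, mul_inv, mul_mul_mul_comm]
      set θ := φ e ^ l * b⁻¹ with hθ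
      obtain ⟨j, hj⟩ := hfr θ
      have h2 : θ ^ (2 * j) = θ := by
        conv_rhs => rw [hj, h1]
        rw [← pow_two, pow_mul]
      have h3 : ∀ a : B, a ^ (2 * j) = a := by
        intro a
        obtain ⟨i, rfl⟩ := hfr a
        have h4 : fr ^ i = θ ^ (2 * i) := by rw [h1, ← pow_two, pow_mul]
        rw [h4, ← pow_mul, mul_comm (2 * i), pow_mul, h2]
      have h4 : e ^ (2 * j) = e := hφ (by rw [map_pow]; exact h3 _)
      have h5 : e = 1 := by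
        rcases Nat.eq_zero_or_pos j with h0 | h0
        · rw [h0, mul_zero, pow_zero] at h4
          exact h4.symm
        · have h6 : e ^ (2 * j - 1) = 1 := by
            have h7 : e ^ (2 * j - 1) * e = e := by
              rw [← pow_succ, Nat.sub_add_cancel (by omega), h4]
            exact mul_eq_right.1 h7
          have h7 : orderOf e ∣ 1 := by
            have h8 : Nat.gcd (2 * j - 1) (2 ^ k) = 1 := by
              apply Nat.Coprime.pow_right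
              rw [Nat.coprime_two_right]
              exact ⟨j - 1, by omega⟩
            rw [← h8]
            exact Nat.dvd_gcd (orderOf_dvd_of_pow_eq_one h6) (orderOf_dvd_of_pow_eq_one hk')
          exact orderOf_eq_one_iff.1 (Nat.dvd_one.1 h7)
      exact ⟨0, by rw [zpow_zero]; exact h5⟩
    · -- `m` odd
      have h1 : IsCoprime m ((2 : ℤ) ^ k) := by
        apply IsCoprime.pow_right
        exact ⟨1, -l, by rw [hl]; ring⟩
      obtain ⟨x, y, hxy⟩ := h1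
      refine ⟨x, ?_⟩
      rw [← hm', ← zpow_mul]
      have h2 : m * x = 1 - y * 2 ^ k := by rw [← hxy]; ring
      have h3 : e ^ (y * 2 ^ k) = 1 := by
        rw [mul_comm, zpow_mul]
        have : e ^ ((2 : ℤ) ^ k) = 1 := by
          have h4 : ((2 : ℤ) ^ k) = ((2 ^ k : ℕ) : ℤ) := by push_cast; rfl
          rw [h4, zpow_natCast, hk']
        rw [this, one_zpow]
      rw [h2, zpow_sub, zpow_one, h3, inv_one, mul_one]
  obtain ⟨l, hl⟩ := key
  have h0 : ∀ x ∈ E0, ∃ m : ℤ, x = g ^ m := by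
    intro x hx
    obtain ⟨i, hi⟩ := he ⟨x, hx⟩
    have h1 : (⟨x, hx⟩ : ↥E0) = (⟨g * g, hg⟩ : ↥E0) ^ (l * i) := by
      rw [zpow_mul, ← hl]
      exact hi.symm
    refine ⟨2 * (l * i), ?_⟩
    have h2 := congrArg (fun y : ↥E0 => (y : E)) h1
    simp only [SubgroupClass.coe_zpow] at h2
    rw [h2, zpow_mul g 2, zpow_two, zpow_mul]
  intro x
  rcases hEg x with hx | hx
  · exact h0 x hx
  · obtain ⟨m, hm⟩ := h0 _ hx
    exact ⟨m + 1, by rw [zpow_add, zpow_one, ← hm, inv_mul_cancel_right]⟩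

/-! ### The frame group -/

variable {I W Y F : Type*} [Fintype I] [DecidableEq I] [Group W] [Group Y] [Field F] {M : CoxeterMatrix I}
variable {cs : CoxeterSystem M W} {A : I → I → ℤ} {h : IsCartan M A} {T : Subgroup Y} {n : I → Y}
  {X : (I → ℤ) → Subgroup Y} {x : (I → ℤ) → F → Y} {χ : (I → ℤ) → Y → F} {hh : I → F → Y}

/-- The field automorphisms at a double bond whose nodes are interchanged. -/
theorem semi_double [CharP F 2] (H : Coroots A T X χ hh) (hA2 : ∀ i, A i i = 2) {β : MulAut Y}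
    {σ : Equiv.Perm I} (D : Diag T X β σ) {hσ : ∀ i j, M (σ i) (σ j) = M i j} {τ : I → F ≃+* F}
    (S : Semi cs h T X x χ β σ hσ τ) {a b : I} (h1 : A b a = -1) (h2 : A a b = -2) (ha : σ a = b) (hb : σ b = a)
    {fr : F ≃+* F} (hfr : ∀ c, fr c = c ^ 2) : τ a = fr * τ b := by
  apply eq_of_sq
  intro c hc
  have h3 := S.zpow_eq H hA2 D a b hc
  rw [ha, hb, h1, h2, show (2 : ℤ) * -1 = -((2 : ℕ) : ℤ) from rfl, show (2 : ℤ) * -2 = -((4 : ℕ) : ℤ) from rfl,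
    zpow_neg, zpow_neg, inv_inj, zpow_natCast, zpow_natCast] at h3
  rw [h3, RingAut.mul_apply, hfr]
  ring

/-- The square of a graph automorphism is the field automorphism `2 θ²`. -/
theorem graph_sq [Finite W] [Nonempty I] [CharP F 2] [Finite F] (R : RGD cs h 2 T n X)
    (C : Coords cs h T n X x χ) (H : Coroots A T X χ hh)
    (hconn : ∀ J : Set I, J.Nonempty → J ≠ Set.univ → ∃ a ∈ J, ∃ b, b ∉ J ∧ M a b ≠ 2)
    {a b : I} (h1 : A b a = -1) (h2 : A a b = -2) {β : MulAut Y} {σ : Equiv.Perm I} (D : Diag T X β σ)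
    (hσ : σ a = b ∧ σ b = a) (hσ2 : σ * σ = 1) {fr : F ≃+* F} (hfr : ∀ c, fr c = c ^ 2) :
    ∃ θ : F ≃+* F, Tau T X χ A (β * β) 1 (fr * (θ * θ)) := by
  obtain ⟨τ', S⟩ := exists_semi R C D (D.matrix R)
  have h3 := semi_double H h.diag D S h1 h2 hσ.1 hσ.2 hfr
  have D2 : Diag T X (β * β) 1 := by
    have := D.mul D
    rwa [hσ2] at this
  obtain ⟨τ, B⟩ := exists_tau R C H hconn D2 fun _ _ => rfl
  refine ⟨τ' b, ?_⟩
  have h4 : ∀ t ∈ T, τ (χ (sr a) t) = (τ' b * τ' a) (χ (sr a) t) := by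
    intro t ht
    have h5 := B.char a t ht
    have h6 := S.char a t ht
    have h7 := S.char b (β t) ((D.tor t).2 ht)
    rw [hσ.1] at h6
    rw [hσ.2, h6] at h7
    rw [RingAut.mul_apply, ← h7, ← h5]
    rfl
  have h5 : τ = fr * (τ' b * τ' b) := by
    rw [(C.coord _ (isRoot_sr cs h a)).ext h4, h3, StdRank2.OutField.comm (τ' b), mul_assoc]
  rwa [h5] at B

/-- **A `2`-group of frame automorphisms is cyclic** (types `B₂`, `F₄`). -/
theorem frame_cyclic [Finite W] [Nonempty I] [CharP F 2] [Finite F] (R : RGD cs h 2 T n X)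
    (hG1 : RGD.Sup X {x | IsRoot cs h x} = ⊤) (C : Coords cs h T n X x χ) (H : Coroots A T X χ hh)
    (hconn : ∀ J : Set I, J.Nonempty → J ≠ Set.univ → ∃ a ∈ J, ∃ b, b ∉ J ∧ M a b ≠ 2)
    {a b : I} (hab : a ≠ b) (h1 : A b a = -1) (h2 : A a b = -2)
    (hsw : ∀ σ : Equiv.Perm I, (∀ i j, M (σ i) (σ j) = M i j) → σ = 1 ∨ (σ a = b ∧ σ b = a))
    {E : Subgroup (MulAut Y)} (hE : IsPGroup 2 ↥E) (hEF : ∀ β ∈ E, β ∈ Frame cs h X) :
    ∃ g ∈ E, ∀ y ∈ E, ∃ m : ℤ, y = g ^ m := by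
  have : Fact (Nat.Prime 2) := ⟨Nat.prime_two⟩
  have hG := GG_eq_top (T := T) hG1
  obtain ⟨fr, hfr, hgen⟩ := exists_frob (F := F)
  have hcomm : ∀ τ τ' : F ≃+* F, τ * τ' = τ' * τ := fun τ τ' => StdRank2.OutField.comm τ τ'
  let _ : CommGroup (F ≃+* F) := { (inferInstance : Group (F ≃+* F)) with mul_comm := hcomm }
  -- the subgroup without diagram symmetry
  let E0 : Subgroup ↥E :=
    { carrier := {β | Diag T X β.1 1}
      mul_mem' := fun {α β} hα hβ => by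
        have := Diag.mul hα hβ
        rwa [mul_one] at this
      one_mem' := Diag.one
      inv_mem' := fun {α} hα => by
        have := Diag.inv hα
        rwa [inv_one] at this }
  have hE0 : ∀ β : ↥E, β ∈ E0 ↔ Diag T X β.1 1 := fun _ => Iff.rfl
  have hτ : ∀ β : ↥E0, ∃ τ : F ≃+* F, Tau T X χ A β.1.1 1 τ := fun β =>
    exists_tau R C H hconn ((hE0 _).1 β.2) fun _ _ => rfl
  choose τ hτ using hτ
  have huniq : ∀ (β : ↥E0) (τ' : F ≃+* F), Tau T X χ A β.1.1 1 τ' → τ β = τ' := fun β τ' h3 =>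
    (Tau.unique R C (hτ β) h3).2
  let φ : ↥E0 →* (F ≃+* F) := MonoidHom.mk' τ fun α β => huniq _ _ (by
    have := (hτ α).mul (hτ β)
    rwa [mul_one] at this)
  have hφ : Function.Injective φ := by
    rw [injective_iff_map_eq_one]
    intro β hβ
    have h3 := hτ β
    have h4 : τ β = 1 := hβ
    rw [h4] at h3
    obtain ⟨k, hk⟩ := hE β.1
    exact Subtype.ext (Subtype.ext (Tau.eq_one R hG1 C h3 (congrArg Subtype.val hk)))
  by_cases hall : ∀ β : ↥E, β ∈ E0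
  · have hcF : IsCyclic (F ≃+* F) := ⟨fr, fun a => by
      obtain ⟨m, hm⟩ := hgen a
      exact ⟨(m : ℤ), by rw [hm]; exact zpow_natCast fr m⟩⟩
    have hc0 : IsCyclic ↥E0 := isCyclic_of_injective φ hφ
    obtain ⟨e, he⟩ := hc0.exists_generator
    refine ⟨e.1.1, e.1.2, fun y hy => ?_⟩
    obtain ⟨m, hm⟩ := he ⟨⟨y, hy⟩, hall _⟩
    refine ⟨m, ?_⟩
    have h3 := congrArg (fun z : ↥E0 => (z.1 : MulAut Y)) hm
    simp only [SubgroupClass.coe_zpow] at h3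
    exact h3.symm
  · push Not at hall
    obtain ⟨g, hg⟩ := hall
    obtain ⟨σ, D⟩ := exists_diag R hG (hEF g.1 g.2).1 (hEF g.1 g.2).2
    have hσ1 : σ ≠ 1 := by
      rintro rfl
      exact hg D
    have hσ : σ a = b ∧ σ b = a := (hsw σ (D.matrix R)).resolve_left hσ1
    have hmul : ∀ {β : ↥E} {σ' : Equiv.Perm I}, Diag T X β.1 σ' → (σ' a = a) → β ∈ E0 := by
      intro β σ' D' h3
      rcases hsw σ' (D'.matrix R) with h4 | h4
      · rw [h4] at D'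
        exact D'
      · exfalso
        rw [h3] at h4
        exact hab h4.1
    have hgg : g * g ∈ E0 := hmul (β := g * g) (D.mul D) (by
      rw [Equiv.Perm.mul_apply, hσ.1, hσ.2])
    have hEg : ∀ y : ↥E, y ∈ E0 ∨ y * g⁻¹ ∈ E0 := by
      intro y
      by_cases hy : y ∈ E0
      · exact Or.inl hy
      · right
        obtain ⟨σ', D'⟩ := exists_diag R hG (hEF y.1 y.2).1 (hEF y.1 y.2).2
        have h3 : σ' ≠ 1 := by
          rintro rfl
          exact hy D'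
        have h4 := (hsw σ' (D'.matrix R)).resolve_left h3
        refine hmul (β := y * g⁻¹) (D'.mul D.inv) ?_
        have h5 : σ⁻¹ a = b := by
          rw [← hσ.2]
          exact σ.symm_apply_apply b
        rw [Equiv.Perm.mul_apply, h5, h4.2]
    have hσσ : σ * σ = 1 := by
      rcases hsw (σ * σ) ((D.mul D).matrix R) with h3 | h3
      · exact h3
      · exfalso
        have h4 := h3.1
        rw [Equiv.Perm.mul_apply, hσ.1, hσ.2] at h4
        exact hab h4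
    obtain ⟨θ, B⟩ := graph_sq R C H hconn h1 h2 D hσ hσσ hfr
    have hb : φ ⟨g * g, hgg⟩ = fr * (θ * θ) := huniq _ _ B
    have h4 := cyc_key hE hφ hgen hgg hEg hb
    refine ⟨g.1, g.2, fun y hy => ?_⟩
    obtain ⟨m, hm⟩ := h4 ⟨y, hy⟩
    refine ⟨m, ?_⟩
    have h5 := congrArg (fun z : ↥E => (z : MulAut Y)) hm
    simp only [SubgroupClass.coe_zpow] at h5
    exact h5

/-! ### In an overgroup -/

section Over

variable {G : Type*} [Group G] [Finite G]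

/-- The projection of `S` to the frame group. -/
theorem exists_proj {p : ℕ} [Finite W] (R : RGD cs h p T n X) (hG1 : RGD.Sup X {x | IsRoot cs h x} = ⊤)
    (f : Y →* G) {S : Subgroup G} (ρ : ↥S →* MulAut Y) (hρ : ∀ (g : ↥S) y, f (ρ g y) = g * f y * (g : G)⁻¹)
    (hfix : ∀ g, Fix (ρ g) (RGD.Sup X (RGD.Pos cs h)))
    (hUS : (RGD.Sup X (RGD.Pos cs h)).map f ≤ S)
    (hρu : ∀ (u : Y) (hu : f u ∈ S), ρ ⟨f u, hu⟩ = MulAut.conj u) :
    ∃ q : ↥S →* MulAut Y, (∀ s, q s ∈ Frame cs h X) ∧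
      (∀ s, ∃ u ∈ RGD.Sup X (RGD.Pos cs h), ∃ hu : f u ∈ S, q (⟨f u, hu⟩ * s) = q s ∧ ρ (⟨f u, hu⟩ * s) = q s) ∧
      ∀ s : ↥S, q s = 1 → ∃ u ∈ RGD.Sup X (RGD.Pos cs h), ∃ c ∈ S, (∀ y, c * f y = f y * c) ∧ (s : G) = f u * c := by
  have hG := GG_eq_top (T := T) hG1
  obtain ⟨q, hq⟩ := exists_toFrame R hG ρ.range (by
    rintro _ ⟨g, rfl⟩
    exact hfix g)
  have hqF : ∀ s : ↥S, ρ s ∈ Frame cs h X → q (ρ.rangeRestrict s) = ρ s := fun s h1 =>
    (hq (ρ.rangeRestrict s)).2.2.2.2 h1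
  refine ⟨q.comp ρ.rangeRestrict, fun s => (hq _).1, fun s => ?_, fun s hs => ?_⟩
  · obtain ⟨u, hu, e⟩ := (hq (ρ.rangeRestrict s)).2.1
    have huS : f u ∈ S := hUS ⟨u, hu, rfl⟩
    have h1 : ρ (⟨f u, huS⟩ * s) = q (ρ.rangeRestrict s) := by
      rw [e, map_mul, hρu]
      rfl
    refine ⟨u, hu, huS, ?_, h1⟩
    rw [MonoidHom.comp_apply, MonoidHom.comp_apply, ← h1]
    apply hqF
    rw [h1]
    exact (hq _).1
  · obtain ⟨u, hu, e⟩ := (hq (ρ.rangeRestrict s)).2.2.2.1.1 hs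
    have e' : ρ s = MulAut.conj u := e
    refine ⟨u, hu, (f u)⁻¹ * (s : G), mul_mem (inv_mem (hUS ⟨u, hu, rfl⟩)) s.2, fun y => ?_, ?_⟩
    · have h5 := hρ s y
      rw [e', MulAut.conj_apply, map_mul, map_mul, map_inv] at h5
      calc (f u)⁻¹ * (s : G) * f y = (f u)⁻¹ * (s * f y * (s : G)⁻¹) * s := by group
        _ = (f u)⁻¹ * (f u * f y * (f u)⁻¹) * s := by rw [h5]
        _ = _ := by group
    · group

/-- **`S = f(U) C_S(K) ⟨g⟩`** (types `B₂`, `F₄`, characteristic two): `g` induces a frame automorphism. -/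
theorem exists_gen_graph [Finite W] [Nonempty I] [CharP F 2] [Finite F] (R : RGD cs h 2 T n X)
    (hG1 : RGD.Sup X {x | IsRoot cs h x} = ⊤) (C : Coords cs h T n X x χ) (H : Coroots A T X χ hh)
    (hconn : ∀ J : Set I, J.Nonempty → J ≠ Set.univ → ∃ a ∈ J, ∃ b, b ∉ J ∧ M a b ≠ 2)
    {a b : I} (hab : a ≠ b) (h1 : A b a = -1) (h2 : A a b = -2)
    (hsw : ∀ σ : Equiv.Perm I, (∀ i j, M (σ i) (σ j) = M i j) → σ = 1 ∨ (σ a = b ∧ σ b = a))
    (f : Y →* G) (hf : Function.Injective f) {S : Subgroup G} (hSp : IsPGroup 2 ↥S)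
    (hSK : S ≤ Subgroup.normalizer (f.range : Set G))
    (hSU : S ≤ Subgroup.normalizer (((RGD.Sup X (RGD.Pos cs h)).map f : Subgroup G) : Set G))
    (hUS : (RGD.Sup X (RGD.Pos cs h)).map f ≤ S) :
    ∃ g ∈ S, ∃ β ∈ Frame cs h X, (∀ y, f (β y) = g * f y * g⁻¹) ∧ (∃ k : ℕ, β ^ 2 ^ k = 1) ∧
      ∀ s ∈ S, ∃ m : ℤ, ∃ u ∈ RGD.Sup X (RGD.Pos cs h), ∃ c ∈ S, (∀ y, c * f y = f y * c) ∧
        s = f u * c * g ^ m := by
  obtain ⟨ρ, hρdef⟩ : ∃ ρ : ↥S →* MulAut Y, ρ = (act f hf).comp (Subgroup.inclusion hSK) := ⟨_, rfl⟩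
  have hρ : ∀ (g : ↥S) y, f (ρ g y) = g * f y * (g : G)⁻¹ := by
    intro g y
    rw [hρdef]
    exact f_act f hf _ y
  obtain ⟨q, hqF, hqu, hq1⟩ := exists_proj R hG1 f ρ hρ (fun g => by
    rw [hρdef]
    exact fix_act f hf (hSU g.2)) hUS (fun u hu => by
    rw [hρdef]
    exact act_f f hf u)
  have hE : IsPGroup 2 ↥q.range := IsPGroup.of_surjective hSp q.rangeRestrict q.rangeRestrict_surjective
  obtain ⟨β, ⟨s0, hs0⟩, hgen⟩ := frame_cyclic R hG1 C H hconn hab h1 h2 hsw hE (by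
    rintro _ ⟨α, rfl⟩
    exact hqF α)
  obtain ⟨k, hk⟩ := hE ⟨β, ⟨s0, hs0⟩⟩
  have hk' : β ^ 2 ^ k = 1 := congrArg Subtype.val hk
  obtain ⟨u0, hu0, hu0S, e1, e2⟩ := hqu s0
  rw [hs0] at e1 e2
  refine ⟨f u0 * s0, mul_mem hu0S s0.2, β, hs0 ▸ hqF s0, fun y => ?_, ⟨k, hk'⟩, fun s hs => ?_⟩
  · rw [← e2, hρ]
    rfl
  · obtain ⟨m, hm⟩ := hgen _ ⟨⟨s, hs⟩, rfl⟩
    obtain ⟨u, hu, c, hc, hcf, e⟩ := hq1 (⟨s, hs⟩ * ((⟨f u0, hu0S⟩ * s0) ^ m)⁻¹) (by
      rw [map_mul, map_inv, map_zpow, e1, hm, mul_inv_cancel])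
    have e' : s * ((f u0 * (s0 : G)) ^ m)⁻¹ = f u * c := e
    exact ⟨m, u, hu, c, hc, hcf, by rw [← e', inv_mul_cancel_right]⟩

end Over

end Cfsg.Agent.KFacts.RgdGraph
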