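import Mathlib
import Cfsg.Agent.KFacts.RgdGraph
import Cfsg.Agent.KFacts.RgdSys
import Cfsg.Agent.KFacts.RgdChevCoord
import Cfsg.Agent.KFacts.F4Pair
import Cfsg.Agent.KFacts.SLRow.Def

/-!
# `K = F₄(q)`, `q` even: the outer part of a 2-group

* `hconn_F4`, `hsw_F4` : the diagram is connected; its symmetries are `1` and the one interchanging the middle nodes;
* `gen_F4` : `S = f(U) C_S(K) ⟨g⟩` for a 2-group `S` normalising `K = f(F₄(q))` and `f(U)`;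
* `gen_B2` : the same for `Sp₄(q)`.
-/

set_option autoImplicit false
set_option linter.unusedSectionVars false

namespace Cfsg.Agent.KFacts.RgdGraphF4

open CoxeterSystem Cfsg.Agent.ChevalleyStructure.CoxeterGeom Cfsg.Agent.Tits.Roots Cfsg.Agent.Tits.Core
open Cfsg.Lie Cfsg.Agent.ChevalleyStructure Cfsg.Agent.ChevalleyStructure.Elts
  Cfsg.Agent.ChevalleyStructure.RootVec Cfsg.Agent.ChevalleyStructure.CoxeterGeomTypes
open Cfsg.Agent.Nodes Cfsg.Agent.Nodes.Reps Cfsg.Agent.Nodes.BNOf Cfsg.Agent.Nodes.RGDChev Cfsg.Agent.Nodes.Coroot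
  Cfsg.Agent.KFacts.ChevTwo Cfsg.Agent.KFacts.ChevTwoTab Cfsg.Agent.KFacts.ChevTwoInst
  Cfsg.Agent.KFacts.RgdOpp Cfsg.Agent.KFacts.RgdAut Cfsg.Agent.KFacts.RgdDiag Cfsg.Agent.KFacts.RgdRigid
  Cfsg.Agent.KFacts.RgdField Cfsg.Agent.KFacts.RgdTau Cfsg.Agent.KFacts.RgdOver Cfsg.Agent.KFacts.RgdSys
  Cfsg.Agent.KFacts.RgdGraph Cfsg.Agent.Nodes.KindF

universe u

theorem hconn_F4 : ∀ J : Set (Fin 4), J.Nonempty → J ≠ Set.univ → ∃ a ∈ J, ∃ b, b ∉ J ∧ CoxeterMatrix.F₄ a b ≠ 2 := by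
  have h := SLRow.Def.conn_of_parent (M := CoxeterMatrix.F₄) (fun i => (i : ℕ)) ![0, 0, 1, 2] (by decide) (by decide)
    (by decide)
  intro J hJ hJ1
  obtain ⟨i, hi, j, hj, hij⟩ := h J hJ (Set.nonempty_compl.2 hJ1)
  exact ⟨i, hi, j, hj, hij⟩

/-- The Coxeter matrix of type `F₄` as a function. -/
def mF4 (a b : Fin 4) : ℕ := CoxeterMatrix.F₄ a b

/-- The symmetries of the diagram `F₄`. -/
theorem hsw_F4 (σ : Equiv.Perm (Fin 4)) (hσ : ∀ i j, CoxeterMatrix.F₄ (σ i) (σ j) = CoxeterMatrix.F₄ i j) :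
    σ = 1 ∨ (σ 1 = 2 ∧ σ 2 = 1) := by
  have key : ∀ a b c d : Fin 4, mF4 a b = 3 → mF4 b c = 4 → mF4 c d = 3 →
      (a = 0 ∧ b = 1 ∧ c = 2 ∧ d = 3) ∨ (a = 3 ∧ b = 2 ∧ c = 1 ∧ d = 0) := by decide +kernel
  have h01 : mF4 (σ 0) (σ 1) = 3 := (hσ 0 1).trans (show mF4 0 1 = 3 by decide +kernel)
  have h12 : mF4 (σ 1) (σ 2) = 4 := (hσ 1 2).trans (show mF4 1 2 = 4 by decide +kernel)
  have h23 : mF4 (σ 2) (σ 3) = 3 := (hσ 2 3).trans (show mF4 2 3 = 3 by decide +kernel)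
  rcases key _ _ _ _ h01 h12 h23 with ⟨h0, h1, h2, h3⟩ | ⟨h0, h1, h2, h3⟩
  · left
    ext i
    fin_cases i
    · exact congrArg Fin.val h0
    · exact congrArg Fin.val h1
    · exact congrArg Fin.val h2
    · exact congrArg Fin.val h3
  · exact Or.inr ⟨h1, h2⟩

theorem hsw_F4' (σ : Equiv.Perm (Fin 4)) (hσ : ∀ i j, CoxeterMatrix.F₄ (σ i) (σ j) = CoxeterMatrix.F₄ i j) :
    σ = 1 ∨ σ = Fin.revPerm := by
  rcases hsw_F4 σ hσ with h | ⟨h1, h2⟩
  · exact Or.inl h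
  · right
    have key : ∀ a d : Fin 4, mF4 a 2 = 3 → mF4 1 d = 3 → a = 3 ∧ d = 0 := by decide +kernel
    have h01 : mF4 (σ 0) (σ 1) = 3 := (hσ 0 1).trans (show mF4 0 1 = 3 by decide +kernel)
    have h23 : mF4 (σ 2) (σ 3) = 3 := (hσ 2 3).trans (show mF4 2 3 = 3 by decide +kernel)
    rw [h1] at h01
    rw [h2] at h23
    obtain ⟨h0, h3⟩ := key _ _ h01 h23
    ext i
    fin_cases i
    · exact congrArg Fin.val h0
    · exact congrArg Fin.val h1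
    · exact congrArg Fin.val h2
    · exact congrArg Fin.val h3

theorem cartan_12 : cartanOf chevF4 4 1 2 = -2 := by decide +kernel

theorem cartan_21 : cartanOf chevF4 4 2 1 = -1 := by decide +kernel

variable {K : Type u} [Field K] [Finite K] [CharP K 2] {W : Type*} [Group W]
  (cs : CoxeterSystem CoxeterMatrix.F₄ W)

/-- **The outer part of a 2-group** `S ≤ N_G(K)`, `K = f(F₄(q))`, normalising `f(U)`: `S = f(U) C_S(K) ⟨g⟩`. -/
theorem gen_F4 {G : Type*} [Group G] [Finite G] (f : ↥(chevF4.group K) →* G) (hf : Function.Injective f)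
    {S : Subgroup G} (hSp : IsPGroup 2 ↥S) (hSK : S ≤ Subgroup.normalizer (f.range : Set G))
    (hSU : S ≤ Subgroup.normalizer (((RGD.Sup (F4Pair.XF K) (RGD.Pos cs isType.isCartan)).map f : Subgroup G) : Set G))
    (hUS : (RGD.Sup (F4Pair.XF K) (RGD.Pos cs isType.isCartan)).map f ≤ S) :
    ∃ g ∈ S, ∃ β ∈ Frame cs isType.isCartan (F4Pair.XF K), (∀ y, f (β y) = g * f y * g⁻¹) ∧
      (∃ k : ℕ, β ^ 2 ^ k = 1) ∧
      ∀ s ∈ S, ∃ m : ℤ, ∃ u ∈ RGD.Sup (F4Pair.XF K) (RGD.Pos cs isType.isCartan), ∃ c ∈ S,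
        (∀ y, c * f y = f y * c) ∧ s = f u * c * g ^ m := by
  have hW : Finite W := finite_W isType cs
  have : Fact (Nat.Prime 2) := ⟨Nat.prime_two⟩
  exact exists_gen_graph (rgd (K := K) isType cs 2) (G1_eq_top isType cs) (RgdChevCoord.coords isType cs 2)
    (RgdChevCoord.coroots isType cs 2) hconn_F4 (a := 1) (b := 2) (by decide) cartan_21 cartan_12 hsw_F4 f hf hSp
    hSK hSU hUS

/-! ### `Sp₄(q)` -/

theorem isType_B2 : IsType chevB2 2 (CoxeterMatrix.B 2) := by simp [IsType, typeList]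

theorem hconn_B2 : ∀ J : Set (Fin 2), J.Nonempty → J ≠ Set.univ →
    ∃ a ∈ J, ∃ b, b ∉ J ∧ (CoxeterMatrix.B 2) a b ≠ 2 := by
  have h := SLRow.Def.conn_of_parent (M := CoxeterMatrix.B 2) (fun i => (i : ℕ)) ![0, 0] (by decide) (by decide)
    (by decide)
  intro J hJ hJ1
  obtain ⟨i, hi, j, hj, hij⟩ := h J hJ (Set.nonempty_compl.2 hJ1)
  exact ⟨i, hi, j, hj, hij⟩

theorem hsw_B2 (σ : Equiv.Perm (Fin 2)) : σ = 1 ∨ (σ 0 = 1 ∧ σ 1 = 0) := by
  revert σ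
  decide

theorem cartan_B2_01 : cartanOf chevB2 2 0 1 = -2 := by decide +kernel

theorem cartan_B2_10 : cartanOf chevB2 2 1 0 = -1 := by decide +kernel

/-- **The outer part of a 2-group** `S ≤ N_G(K)`, `K = f(Sp₄(q))`, normalising `f(U)`: `S = f(U) C_S(K) ⟨g⟩`. -/
theorem gen_B2 {W : Type*} [Group W] (cs : CoxeterSystem (CoxeterMatrix.B 2) W) {G : Type*} [Group G] [Finite G]
    (f : ↥(chevB2.group K) →* G) (hf : Function.Injective f)
    {S : Subgroup G} (hSp : IsPGroup 2 ↥S) (hSK : S ≤ Subgroup.normalizer (f.range : Set G))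
    (hSU : S ≤ Subgroup.normalizer (((RGD.Sup (fun x => (XV chevB2 2 K x).subgroupOf (chevB2.group K))
      (RGD.Pos cs isType_B2.isCartan)).map f : Subgroup G) : Set G))
    (hUS : (RGD.Sup (fun x => (XV chevB2 2 K x).subgroupOf (chevB2.group K))
      (RGD.Pos cs isType_B2.isCartan)).map f ≤ S) :
    ∃ g ∈ S, ∃ β ∈ Frame cs isType_B2.isCartan (fun x => (XV chevB2 2 K x).subgroupOf (chevB2.group K)),
      (∀ y, f (β y) = g * f y * g⁻¹) ∧ (∃ k : ℕ, β ^ 2 ^ k = 1) ∧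
      ∀ s ∈ S, ∃ m : ℤ, ∃ u ∈ RGD.Sup (fun x => (XV chevB2 2 K x).subgroupOf (chevB2.group K))
        (RGD.Pos cs isType_B2.isCartan), ∃ c ∈ S, (∀ y, c * f y = f y * c) ∧ s = f u * c * g ^ m := by
  have hW : Finite W := finite_W isType_B2 cs
  have : Fact (Nat.Prime 2) := ⟨Nat.prime_two⟩
  exact exists_gen_graph (rgd (K := K) isType_B2 cs 2) (G1_eq_top isType_B2 cs) (RgdChevCoord.coords isType_B2 cs 2)
    (RgdChevCoord.coroots isType_B2 cs 2) hconn_B2 (a := 0) (b := 1) (by decide) cartan_B2_10 cartan_B2_01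
    (fun σ _ => hsw_B2 σ) f hf hSp hSK hSU hUS

end Cfsg.Agent.KFacts.RgdGraphF4
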