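import Cfsg.Agent.KFacts.F4Perf
import Cfsg.Agent.KFacts.RgdGraphF4
import Cfsg.Agent.KFacts.RgdAutFacts

/-!
`F₄(q)`, `q` even: automorphisms (K-group facts for S1765, node D10; F4).

* `inner_of_fix_X` : an automorphism of `F₄(q)` acting trivially on one root group is inner, induced by an element of
  the centraliser of the root group.
-/

set_option autoImplicit false
set_option Elab.async false

namespace Cfsg.Agent.KFacts.F4Aut

open CoxeterSystem Cfsg.Agent.ChevalleyStructure.CoxeterGeom Cfsg.Agent.Tits.Roots Cfsg.Agent.Tits.Core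
open Cfsg.Lie Cfsg.Agent.ChevalleyStructure Cfsg.Agent.ChevalleyStructure.Elts
  Cfsg.Agent.ChevalleyStructure.RootVec Cfsg.Agent.ChevalleyStructure.CoxeterGeomTypes
open Cfsg.Agent.Nodes Cfsg.Agent.Nodes.Reps Cfsg.Agent.Nodes.BNOf Cfsg.Agent.Nodes.RGDChev Cfsg.Agent.Nodes.Coroot
  Cfsg.Agent.Nodes.KindF Cfsg.Agent.Nodes.Bruhat Cfsg.Agent.Nodes.OppDec Cfsg.Agent.Nodes.LeviDec
  Cfsg.Agent.Nodes.NormalForm Cfsg.Agent.KFacts.ChevTwo Cfsg.Agent.KFacts.ChevTwoTab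
  Cfsg.Agent.KFacts.ChevTwoInst Cfsg.Agent.KFacts.RgdTI Cfsg.Agent.KFacts.RgdAut Cfsg.Agent.KFacts.RgdDiag
  Cfsg.Agent.KFacts.RgdRigid Cfsg.Agent.KFacts.RgdField Cfsg.Agent.KFacts.RgdTau Cfsg.Agent.KFacts.RgdSys
  Cfsg.Agent.KFacts.RgdAutFacts Cfsg.Agent.KFacts.RgdGraphF4
  Cfsg.Agent.KFacts.F4Star Cfsg.Agent.KFacts.F4Cent Cfsg.Agent.KFacts.F4Pair Cfsg.Agent.KFacts.F4Torus
  Cfsg.Agent.KFacts.F4Perf

universe u

/-- The symmetries of the diagram `F₄`. -/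
theorem perm_F4 (σ : Equiv.Perm (Fin 4)) (hσ : ∀ i j, CoxeterMatrix.F₄ (σ i) (σ j) = CoxeterMatrix.F₄ i j) :
    σ = 1 ∨ (σ 0 = 3 ∧ σ 1 = 2 ∧ σ 2 = 1 ∧ σ 3 = 0) := by
  have key : ∀ a b c d : Fin 4, mF4 a b = 3 → mF4 b c = 4 → mF4 c d = 3 →
      (a = 0 ∧ b = 1 ∧ c = 2 ∧ d = 3) ∨ (a = 3 ∧ b = 2 ∧ c = 1 ∧ d = 0) := by decide +kernel
  have h01 : mF4 (σ 0) (σ 1) = 3 := (hσ 0 1).trans (show mF4 0 1 = 3 by decide +kernel)
  have h12 : mF4 (σ 1) (σ 2) = 4 := (hσ 1 2).trans (show mF4 1 2 = 4 by decide +kernel)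
  have h23 : mF4 (σ 2) (σ 3) = 3 := (hσ 2 3).trans (show mF4 2 3 = 3 by decide +kernel)
  rcases key _ _ _ _ h01 h12 h23 with ⟨h0, h1, h2, h3⟩ | ⟨h0, h1, h2, h3⟩
  · left
    ext i
    fin_cases i
    · exact congrArg Fin.val h0
    · exact congrArg Fin.val h1
    · exact congrArg Fin.val h2
    · exact congrArg Fin.val h3
  · exact Or.inr ⟨h0, h1, h2, h3⟩

variable {W : Type*} [Group W] (cs : CoxeterSystem CoxeterMatrix.F₄ W)

theorem sh_sr0 : Sh cs (sr 0) := by rw [← v33]; exact (testBit_short cs (by norm_num)).1 (by decide +kernel)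
theorem sh_sr1 : Sh cs (sr 1) := by rw [← v27]; exact (testBit_short cs (by norm_num)).1 (by decide +kernel)
theorem lg_sr2 : Lg cs (sr 2) := by rw [← v25]; exact (testBit_long cs (by norm_num)).1 (by decide +kernel)
theorem lg_sr3 : Lg cs (sr 3) := by rw [← v24]; exact (testBit_long cs (by norm_num)).1 (by decide +kernel)

/-- The graph symmetry interchanges the lengths. -/
theorem lg_swap {σ : Equiv.Perm (Fin 4)} (hσ : σ 0 = 3 ∧ σ 1 = 2 ∧ σ 2 = 1 ∧ σ 3 = 0) (i : Fin 4) :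
    Lg cs (sr (σ i)) ↔ ¬ Lg cs (sr i) := by
  obtain ⟨h0, h1, h2, h3⟩ := hσ
  have i0 := sh_sr0 cs
  have i1 := sh_sr1 cs
  have i2 := lg_sr2 cs
  have i3 := lg_sr3 cs
  fin_cases i
  · show Lg cs (sr (σ 0)) ↔ ¬ Lg cs (sr 0)
    rw [h0]; exact iff_of_true i3 i0.2
  · show Lg cs (sr (σ 1)) ↔ ¬ Lg cs (sr 1)
    rw [h1]; exact iff_of_true i2 i1.2
  · show Lg cs (sr (σ 2)) ↔ ¬ Lg cs (sr 2)
    rw [h2]; exact iff_of_false i1.2 (not_not.2 i2)
  · show Lg cs (sr (σ 3)) ↔ ¬ Lg cs (sr 3)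
    rw [h3]; exact iff_of_false i0.2 (not_not.2 i3)

theorem pos_ge {a : ℕ} (ha : a < 48) (h : (starM (2 ^ 48 - 2 ^ 24)).testBit a = true) {x : Fin 4 → ℤ}
    (hx : x ∈ RGD.Pos cs isType.isCartan) : x ∈ Ge cs isType.isCartan (v a) := by
  have hW : Finite W := finite_W isType cs
  obtain ⟨r, hr, rfl⟩ := exists_v cs hx.1
  rw [testBit_starM] at h
  have h1 := h.2 r hr ((testBit_posM hr).2 ((mem_pos_iff cs hr).1 hx))
  rw [testBit_nn cs hr ha, cpr_nonneg_comm cs (isRoot_v cs ha) (isRoot_v cs hr)] at h1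
  exact ⟨isRoot_v cs hr, h1⟩

variable {K : Type u} [Field K] [Finite K] [CharP K 2]

omit [Finite K] [CharP K 2] in
theorem GG_top : GG cs isType.isCartan (TF K) (XF K) = ⊤ := GG_eq_top (G1_eq_top isType cs)

theorem noCent : RgdCent.NoCent cs isType.isCartan (TF K) (XF K) := fun _ _ h1 =>
  eq_one_of_comm cs fun x hx u => h1 x hx _ ((mem_XF_iff cs hx).2 ⟨u, rfl⟩)

theorem fix_conj {Y : Type*} [Group Y] {H : Subgroup Y} {t : Y} (ht : t ∈ Subgroup.normalizer (H : Set Y)) :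
    Fix (MulAut.conj t) H := fun x => (Subgroup.mem_normalizer_iff.1 ht x).symm

/-- Automorphisms trivial on the root group of a dominant root: the base case. -/
theorem base {a : Fin 4 → ℤ} (ha : IsRoot cs isType.isCartan a)
    (hdom : ∀ x ∈ RGD.Pos cs isType.isCartan, x ∈ Ge cs isType.isCartan a)
    {α : MulAut ↥(chevF4.group K)} (hα : ∀ z ∈ XF K a, α z = z) : ∃ g : ↥(chevF4.group K), α = MulAut.conj g := by
  have hW : Finite W := finite_W isType cs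
  have : Fact (Nat.Prime 2) := ⟨Nat.prime_two⟩
  have hG1 := G1_eq_top (K := K) isType cs
  have hG := GG_top (K := K) cs
  obtain ⟨R, hR⟩ : ∃ R, R = rgd (K := K) isType cs 2 := ⟨_, rfl⟩
  have S : Sys R (eF K) := hR ▸ sysF (K := K) cs
  obtain ⟨z, hz, hz1⟩ : ∃ z ∈ XF K a, z ≠ 1 := by
    have h1 := X_ne_bot R ha
    rw [ne_eq, Subgroup.eq_bot_iff_forall] at h1
    push Not at h1
    exact h1
  have hPU : RGD.Sup (XF K) (RGD.Pos cs isType.isCartan) ≤ PF cs K a := RGD.Sup_mono hdom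
  have hPc : ∀ g ∈ PF cs K a, ∀ y ∈ XF K a, g * y = y * g := by
    intro g hg y hy
    exact (S.lr ha).comm' hg hy
  have hαP : ∀ g ∈ PF cs K a, α g ∈ PF cs K a := by
    intro g hg
    apply cent_X cs ha hz hz1
    rw [← hα z hz, ← map_mul, ← map_mul, hPc g hg z hz]
  -- the Sylow group
  obtain ⟨Q, hQ⟩ := exists_sylow R hG
  obtain ⟨Q', hQ'⟩ : ∃ Q' : Sylow 2 ↥(chevF4.group K),
      (Q' : Subgroup ↥(chevF4.group K)) = (RGD.Sup (XF K) (RGD.Pos cs isType.isCartan)).map α.toMonoidHom :=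
    ⟨α • Q, by rw [← hQ]; rfl⟩
  have hle : (Q : Subgroup ↥(chevF4.group K)) ≤ PF cs K a := by rw [hQ]; exact hPU
  have hle' : (Q' : Subgroup ↥(chevF4.group K)) ≤ PF cs K a := by
    rw [hQ']
    rintro _ ⟨y, hy, rfl⟩
    exact hαP y (hPU hy)
  obtain ⟨q, hq⟩ := MulAction.exists_smul_eq ↥(PF cs K a) (Q'.subtype hle') (Q.subtype hle)
  have hqU : ∀ x ∈ RGD.Sup (XF K) (RGD.Pos cs isType.isCartan),
      (q : ↥(chevF4.group K)) * α x * (q : ↥(chevF4.group K))⁻¹ ∈ RGD.Sup (XF K) (RGD.Pos cs isType.isCartan) := by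
    intro x hx
    have h1 : q * ⟨α x, hαP x (hPU hx)⟩ * q⁻¹ ∈ (Q.subtype hle : Subgroup ↥(PF cs K a)) := by
      rw [← hq, Sylow.coe_subgroup_smul, Subgroup.mem_pointwise_smul_iff_inv_smul_mem]
      have h2 : (MulAut.conj q)⁻¹ • (q * ⟨α x, hαP x (hPU hx)⟩ * q⁻¹) = ⟨α x, hαP x (hPU hx)⟩ := by
        rw [← map_inv]
        show q⁻¹ * (q * ⟨α x, hαP x (hPU hx)⟩ * q⁻¹) * q⁻¹⁻¹ = _
        group
      rw [h2, Sylow.coe_subtype, Subgroup.mem_subgroupOf, hQ']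
      exact ⟨x, hx, rfl⟩
    rw [Sylow.coe_subtype, Subgroup.mem_subgroupOf, hQ] at h1
    exact h1
  have hfix : Fix (MulAut.conj (q : ↥(chevF4.group K)) * α) (RGD.Sup (XF K) (RGD.Pos cs isType.isCartan)) := by
    rw [fix_iff]
    refine Subgroup.eq_of_le_of_card_ge ?_ ?_
    · rintro _ ⟨y, hy, rfl⟩
      exact hqU y hy
    · rw [Subgroup.card_map_of_injective (MulEquiv.injective _)]
  obtain ⟨u, hu, hU, hB, hUN, hBN, hT⟩ := exists_frame R hG hfix
  obtain ⟨β, hβ⟩ : ∃ β, β = MulAut.conj u * (MulAut.conj (q : ↥(chevF4.group K)) * α) := ⟨_, rfl⟩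
  rw [← hβ] at hU hB hUN hBN hT
  have hβz : ∀ y ∈ XF K a, β y = y := by
    intro y hy
    rw [hβ]
    show u * ((q : ↥(chevF4.group K)) * α y * (q : ↥(chevF4.group K))⁻¹) * u⁻¹ = y
    rw [hα y hy, hPc _ q.2 y hy, mul_inv_cancel_right, hPc u (hPU hu) y hy, mul_inv_cancel_right]
  -- no graph part
  obtain ⟨σ, D⟩ := exists_diag R hG hU hUN
  have hσ1 : σ = 1 := by
    rcases perm_F4 σ (D.matrix R) with h1 | h1
    · exact h1
    exfalso
    obtain ⟨w, i, rfl⟩ := ha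
    have h2 := (D.root R (D.matrix R) w i z).2 hz
    rw [hβz z hz] at h2
    have h3 : rep cs isType.isCartan (hat cs σ (D.matrix R) w) (sr (σ i)) = rep cs isType.isCartan w (sr i) := by
      by_contra hne
      have h4 := X_inf_X R (⟨_, _, rfl⟩ : IsRoot cs isType.isCartan
        (rep cs isType.isCartan (hat cs σ (D.matrix R) w) (sr (σ i)))) ⟨w, i, rfl⟩ hne
      rw [Subgroup.eq_bot_iff_forall] at h4
      exact hz1 (h4 z ⟨h2, hz⟩)
    have h4 : Lg cs (sr (σ i)) ↔ Lg cs (sr i) := by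
      rw [← lg_rep_iff cs (hat cs σ (D.matrix R) w), h3, lg_rep_iff cs w]
    have h5 := lg_swap cs h1 i
    tauto
  subst hσ1
  -- no field part
  have C := coords S hG1
  have H := coroots S hG1 (noCent cs)
  obtain ⟨τ, B⟩ := exists_tau R C H hconn_F4 D fun _ _ => rfl
  have hτ : τ = 1 := by
    obtain ⟨c, hc, e⟩ := Tau.root R C B ha
    have e' : ∀ b, c * τ b = b := by
      intro b
      have h1 := e b
      rw [hβz _ ((mem_XF_iff cs ha).2 ⟨b, rfl⟩)] at h1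
      exact (S.data.injective ha h1).symm
    have h1 := e' 1
    rw [map_one, mul_one] at h1
    ext b
    have h2 := e' b
    rw [h1, one_mul] at h2
    exact h2
  subst hτ
  -- the torus part
  have hc : ∀ i, ∃ c : Kˣ, ∀ b, β (eF K (sr i) b) = eF K (sr i) (c * b) := by
    intro i
    obtain ⟨c, hc, e⟩ := Tau.root R C B (isRoot_sr cs isType.isCartan i)
    exact ⟨Units.mk0 c hc, e⟩
  choose c hc using hc
  obtain ⟨χ, hχ⟩ : ∃ χ : (Fin 4 → ℤ) →+ Additive Kˣ, ∀ i, χ (sr i) = Additive.ofMul (c i) := by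
    refine ⟨∑ i, (zmultiplesHom _ (Additive.ofMul (c i))).comp (Pi.evalAddMonoidHom (fun _ => ℤ) i), fun i => ?_⟩
    rw [AddMonoidHom.finsetSum_apply, Finset.sum_eq_single i]
    · simp [sr_self]
    · intro j _ hj
      simp [sr_ne hj]
    · intro h; exact absurd (Finset.mem_univ i) h
  obtain ⟨t, ht, het⟩ := exists_torus (K := K) cs χ
  have hsup : ∀ Ω : Set (Fin 4 → ℤ), (∀ x ∈ Ω, IsRoot cs isType.isCartan x) →
      t⁻¹ ∈ Subgroup.normalizer (RGD.Sup (XF K) Ω : Set ↥(chevF4.group K)) := by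
    intro Ω hΩ
    rw [mem_normalizer_iff_cj, RGD.cj_Sup]
    exact iSup_congr fun z => R.tor z.1 (hΩ z.1 z.2) _ (inv_mem ht)
  have h1 : MulAut.conj t⁻¹ * β = 1 := by
    refine eq_one_of_fix R hG1 ((fix_conj (hsup _ fun x hx => hx.1)).mul hU)
      ((fix_conj (hsup _ fun x hx => hx.1)).mul hUN) fun i y hy => ?_
    obtain ⟨b, rfl⟩ := (mem_XF_iff cs (isRoot_sr cs isType.isCartan i)).1 hy
    show t⁻¹ * β (eF K (sr i) b) * t⁻¹⁻¹ = _
    have h2 := het (sr i) (isRoot_sr cs isType.isCartan i) b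
    rw [hχ, toMul_ofMul, ← hc] at h2
    rw [← h2]; group
  refine ⟨(q : ↥(chevF4.group K))⁻¹ * u⁻¹ * t, ?_⟩
  have h2 : α = (MulAut.conj (q : ↥(chevF4.group K)))⁻¹ * (MulAut.conj u)⁻¹ * MulAut.conj t *
      (MulAut.conj t⁻¹ * β) := by
    rw [hβ, map_inv]; group
  rw [h2, h1, mul_one, map_mul, map_mul, map_inv, map_inv]

/-- **Rigidity (R)**: an automorphism of `F₄(q)` trivial on a root group is conjugation by an element of the
centraliser of the root group. -/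
theorem inner_of_fix_X {a : Fin 4 → ℤ} (ha : IsRoot cs isType.isCartan a)
    {α : MulAut ↥(chevF4.group K)} (hα : ∀ z ∈ XF K a, α z = z) :
    ∃ g ∈ PF cs K a, α = MulAut.conj g := by
  have hW : Finite W := finite_W isType cs
  have h0 : ∃ g : ↥(chevF4.group K), α = MulAut.conj g := by
    obtain ⟨w, hw⟩ := exists_dom cs ha
    obtain ⟨m, hm⟩ := exists_rep (K := K) cs w
    have h1 : ∀ z ∈ XF K (rep cs isType.isCartan w a), (MulAut.conj m * α * (MulAut.conj m)⁻¹) z = z := by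
      intro z hz
      obtain ⟨u, rfl⟩ := (mem_XF_iff cs (ha.act w)).1 hz
      rw [← hm a ha u, ← map_inv]
      show m * α (m⁻¹ * (m * eF K a u * m⁻¹) * m⁻¹⁻¹) * m⁻¹ = _
      have e : m⁻¹ * (m * eF K a u * m⁻¹) * m⁻¹⁻¹ = eF K a u := by group
      rw [e, hα _ ((mem_XF_iff cs ha).2 ⟨u, rfl⟩)]
    have h2 : ∀ x ∈ RGD.Pos cs isType.isCartan,
        x ∈ Ge cs isType.isCartan (rep cs isType.isCartan w a) := by
      intro x hx
      rcases hw with hw | hw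
      · rw [hw]; exact pos_ge cs (by norm_num) (by decide +kernel) hx
      · rw [hw]; exact pos_ge cs (by norm_num) (by decide +kernel) hx
    obtain ⟨g, hg⟩ := base cs (ha.act w) h2 h1
    refine ⟨m⁻¹ * g * m, ?_⟩
    rw [map_mul, map_mul, map_inv, ← hg]; group
  obtain ⟨g, rfl⟩ := h0
  refine ⟨g, ?_, rfl⟩
  have h1 := X_ne_bot (rgd (K := K) isType cs 2) ha
  rw [ne_eq, Subgroup.eq_bot_iff_forall] at h1
  push Not at h1
  obtain ⟨z, hz, hz1⟩ := h1
  refine cent_X cs ha hz hz1 ?_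
  have h2 := hα z hz
  rw [MulAut.conj_apply] at h2
  calc g * z = g * z * g⁻¹ * g := by group
    _ = z * g := by rw [h2]

/-- (R) in an overgroup: `g` normalises `j(K)` and centralises `j(X_a)`; then `g = j(y) c` with `y ∈ C_K(X_a)` and `c`
centralising `j(K)`. -/
theorem exists_mul_of_fix {G : Type*} [Group G] {j : ↥(chevF4.group K) →* G} (hj : Function.Injective j)
    {a : Fin 4 → ℤ} (ha : IsRoot cs isType.isCartan a) {g : G} (hg : ∀ y, g * j y * g⁻¹ ∈ j.range)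
    (hg' : ∀ y, g⁻¹ * j y * g ∈ j.range) (hgx : ∀ z ∈ XF K a, g * j z = j z * g) :
    ∃ y ∈ PF cs K a, ∃ c : G, (∀ x, c * j x = j x * c) ∧ g = j y * c := by
  have hn : g ∈ Subgroup.normalizer (j.range : Set G) := by
    rw [Subgroup.mem_normalizer_iff]
    intro x
    constructor
    · rintro ⟨y, rfl⟩
      exact hg y
    · rintro ⟨y, hy⟩
      have := hg' y
      rw [hy] at this
      have e : g⁻¹ * (g * x * g⁻¹) * g = x := by group
      rwa [e] at this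
  obtain ⟨y, hy, e⟩ := inner_of_fix_X (K := K) cs ha (α := RgdOver.act j hj ⟨g, hn⟩) (by
    intro z hz
    apply hj
    rw [RgdOver.f_act j hj]
    show g * j z * g⁻¹ = j z
    rw [hgx z hz, mul_inv_cancel_right])
  refine ⟨y, hy, (j y)⁻¹ * g, fun x => ?_, by group⟩
  have h1 := RgdOver.f_act j hj ⟨g, hn⟩ x
  rw [e, MulAut.conj_apply, map_mul, map_mul, map_inv] at h1
  change j y * j x * (j y)⁻¹ = g * j x * g⁻¹ at h1
  calc (j y)⁻¹ * g * j x = (j y)⁻¹ * (g * j x * g⁻¹) * g := by group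
    _ = j x * ((j y)⁻¹ * g) := by rw [← h1]; group

end Cfsg.Agent.KFacts.F4Aut
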