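import Cfsg.Agent.KFacts.F4Aut

/-!
`F₄(q)`, `q` even: automorphisms centralising many root groups (K-group facts for S1765, nodes D4, D7; F4).

An automorphism `α` of `F₄(q)` trivial on `X_c` for all `c ∈ Ψ(a, b)` is conjugation by an element of
`⟨X_c : c ∈ Cone a b⟩`: `aut_pair`, `aut_pairL`, `aut_pairS`; `aut_P`, `aut_Q`, `aut_pos`.
-/

set_option autoImplicit false
set_option Elab.async false

namespace Cfsg.Agent.KFacts.F4AutPair

open CoxeterSystem Cfsg.Agent.ChevalleyStructure.CoxeterGeom Cfsg.Agent.Tits.Roots Cfsg.Agent.Tits.Core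
open Cfsg.Lie Cfsg.Agent.ChevalleyStructure Cfsg.Agent.ChevalleyStructure.Elts
  Cfsg.Agent.ChevalleyStructure.RootVec Cfsg.Agent.ChevalleyStructure.CoxeterGeomTypes
open Cfsg.Agent.Nodes Cfsg.Agent.Nodes.Reps Cfsg.Agent.Nodes.BNOf Cfsg.Agent.Nodes.RGDChev Cfsg.Agent.Nodes.Coroot
  Cfsg.Agent.Nodes.KindF Cfsg.Agent.Nodes.Bruhat Cfsg.Agent.Nodes.OppDec Cfsg.Agent.Nodes.LeviDec
  Cfsg.Agent.KFacts.ChevTwo Cfsg.Agent.KFacts.ChevTwoTab
  Cfsg.Agent.KFacts.ChevTwoInst Cfsg.Agent.KFacts.RgdTI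
  Cfsg.Agent.KFacts.F4Star Cfsg.Agent.KFacts.F4Cent Cfsg.Agent.KFacts.F4Pair Cfsg.Agent.KFacts.F4Torus
  Cfsg.Agent.KFacts.F4Perf Cfsg.Agent.KFacts.F4Aut

universe u

theorem neChk : ([33, 27, 25, 24].all fun a => (List.range 48).all fun b => Nat.beq (a + b) 47 ||
    (((List.range 48).any fun c => (psi0 a b).testBit c) && ((List.range 48).any fun c => (psiL a b).testBit c) &&
      (List.range 48).any fun c => (psiS a b).testBit c)) = true := by decide +kernel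

variable {W : Type*} [Group W] (cs : CoxeterSystem CoxeterMatrix.F₄ W)

theorem psi_ne {a b : Fin 4 → ℤ} (ha : IsRoot cs isType.isCartan a) (hb : IsRoot cs isType.isCartan b)
    (hab : b ≠ -a) : (Psi cs 0 0 a b).Nonempty ∧ (Psi cs 0 1 a b).Nonempty ∧ (Psi cs 1 0 a b).Nonempty := by
  have hW : Finite W := finite_W isType cs
  obtain ⟨w, i, rfl⟩ := ha
  obtain ⟨b', rfl⟩ : ∃ b', rep cs isType.isCartan w b' = b := ⟨_, rep_apply_inv _ _ _ _⟩
  rw [isRoot_rep_iff] at hb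
  have hsr := isRoot_sr cs isType.isCartan i
  have hab' : b' ≠ -sr i := fun h => hab (by rw [h, map_neg])
  have key : ∀ {L S : ℤ}, (Psi cs L S (sr i) b').Nonempty →
      (Psi cs L S (rep cs isType.isCartan w (sr i)) (rep cs isType.isCartan w b')).Nonempty := by
    rintro L S ⟨c, hc⟩
    exact ⟨_, (rep_mem_psi cs hsr hb w).2 hc⟩
  obtain ⟨a, ha, ha', ha''⟩ := simple_mem i
  obtain ⟨r, hr, rfl⟩ := exists_v cs hb
  rw [← ha''] at hab' key ⊢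
  have h1 := List.all_eq_true.1 (List.all_eq_true.1 neChk a ha') r (List.mem_range.2 hr)
  rw [Bool.or_eq_true, Bool.and_eq_true, Bool.and_eq_true] at h1
  rcases h1 with h1 | ⟨⟨h1, h2⟩, h3⟩
  · exact absurd (eq_neg_of_add ha h1) hab'
  · obtain ⟨c1, hc1, e1⟩ := List.any_eq_true.1 h1
    obtain ⟨c2, hc2, e2⟩ := List.any_eq_true.1 h2
    obtain ⟨c3, hc3, e3⟩ := List.any_eq_true.1 h3
    refine ⟨key ⟨v c1, ?_⟩, key ⟨v c2, ?_⟩, key ⟨v c3, ?_⟩⟩
    · rw [← SetOf_psi0 cs ha hr]; exact (mem_SetOf (List.mem_range.1 hc1)).2 e1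
    · rw [← SetOf_psiL cs ha hr]; exact (mem_SetOf (List.mem_range.1 hc2)).2 e2
    · rw [← SetOf_psiS cs ha hr]; exact (mem_SetOf (List.mem_range.1 hc3)).2 e3

variable {K : Type u} [Field K] [Finite K] [CharP K 2]

/-- An automorphism trivial on all `X_c`, `c ∈ Ψ`, is conjugation by an element commuting with `X_c`, `c ∈ Ψ`. -/
theorem exists_conj {Ψ : Set (Fin 4 → ℤ)} (hΨ : Ψ.Nonempty) (hr : ∀ c ∈ Ψ, IsRoot cs isType.isCartan c)
    {α : MulAut ↥(chevF4.group K)} (hα : ∀ c ∈ Ψ, ∀ z ∈ XF K c, α z = z) :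
    ∃ g : ↥(chevF4.group K), α = MulAut.conj g ∧ Cm g Ψ := by
  have hW : Finite W := finite_W isType cs
  obtain ⟨c, hc⟩ := hΨ
  obtain ⟨g, -, rfl⟩ := inner_of_fix_X cs (hr c hc) (hα c hc)
  refine ⟨g, rfl, fun d hd => ?_⟩
  have h1 := X_ne_bot (rgd (K := K) isType cs 2) (hr d hd)
  rw [ne_eq, Subgroup.eq_bot_iff_forall] at h1
  push Not at h1
  obtain ⟨z, hz, hz1⟩ := h1
  refine ⟨z, hz, hz1, ?_⟩
  have h2 := hα d hd z hz
  rw [MulAut.conj_apply] at h2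
  calc g * z = g * z * g⁻¹ * g := by group
    _ = z * g := by rw [h2]

theorem aut_pair {a b : Fin 4 → ℤ} (ha : IsRoot cs isType.isCartan a) (hb : IsRoot cs isType.isCartan b)
    (hab : b ≠ -a) {α : MulAut ↥(chevF4.group K)} (hα : ∀ c ∈ Psi cs 0 0 a b, ∀ z ∈ XF K c, α z = z) :
    ∃ g ∈ RGD.Sup (XF K) (Cone cs a b), α = MulAut.conj g := by
  obtain ⟨g, hg, hg'⟩ := exists_conj cs (psi_ne cs ha hb hab).1 (fun c hc => hc.1) hα
  exact ⟨g, cent_pair cs ha hb hab hg', hg⟩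

theorem aut_pairL {a b : Fin 4 → ℤ} (ha : IsRoot cs isType.isCartan a) (hb : IsRoot cs isType.isCartan b)
    (hab : b ≠ -a) (h1 : Lg cs a → Lg cs b → cpr cs isType.isCartan b a = 0)
    (h2 : (Lg cs a ↔ Sh cs b) → cpr cs isType.isCartan b a ≠ 0)
    {α : MulAut ↥(chevF4.group K)} (hα : ∀ c ∈ Psi cs 0 1 a b, ∀ z ∈ XF K c, α z = z) :
    ∃ g ∈ RGD.Sup (XF K) (Cone cs a b), α = MulAut.conj g := by
  obtain ⟨g, hg, hg'⟩ := exists_conj cs (psi_ne cs ha hb hab).2.1 (fun c hc => hc.1) hα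
  exact ⟨g, cent_pairL cs ha hb hab h1 h2 hg', hg⟩

theorem aut_pairS {a b : Fin 4 → ℤ} (ha : IsRoot cs isType.isCartan a) (hb : IsRoot cs isType.isCartan b)
    (hab : b ≠ -a) (h1 : Sh cs a → Sh cs b → cpr cs isType.isCartan b a = 0)
    (h2 : (Lg cs a ↔ Sh cs b) → cpr cs isType.isCartan b a ≠ 0)
    {α : MulAut ↥(chevF4.group K)} (hα : ∀ c ∈ Psi cs 1 0 a b, ∀ z ∈ XF K c, α z = z) :
    ∃ g ∈ RGD.Sup (XF K) (Cone cs a b), α = MulAut.conj g := by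
  obtain ⟨g, hg, hg'⟩ := exists_conj cs (psi_ne cs ha hb hab).2.2 (fun c hc => hc.1) hα
  exact ⟨g, cent_pairS cs ha hb hab h1 h2 hg', hg⟩

theorem aut_P {a : Fin 4 → ℤ} (ha : IsRoot cs isType.isCartan a) {α : MulAut ↥(chevF4.group K)}
    (hα : ∀ c, IsRoot cs isType.isCartan c → 0 ≤ cpr cs isType.isCartan c a → ∀ z ∈ XF K c, α z = z) :
    ∃ g ∈ XF K a, α = MulAut.conj g := by
  have hW : Finite W := finite_W isType cs
  obtain ⟨g, hg, hg'⟩ := exists_conj cs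
    (Ψ := {c | IsRoot cs isType.isCartan c ∧ 0 ≤ cpr cs isType.isCartan c a})
    ⟨a, ha, by rw [cpr_self cs _ ha]; norm_num⟩ (fun c hc => hc.1) fun c hc => hα c hc.1 hc.2
  exact ⟨g, cent_P cs ha hg', hg⟩

theorem aut_Q {a : Fin 4 → ℤ} (ha : IsRoot cs isType.isCartan a) {α : MulAut ↥(chevF4.group K)}
    (hα : ∀ c, IsRoot cs isType.isCartan c → 1 ≤ cpr cs isType.isCartan c a → ∀ z ∈ XF K c, α z = z) :
    ∃ g ∈ RGD.Sup (XF K) (V7 cs a), α = MulAut.conj g := by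
  have hW : Finite W := finite_W isType cs
  obtain ⟨g, hg, hg'⟩ := exists_conj cs
    (Ψ := {c | IsRoot cs isType.isCartan c ∧ 1 ≤ cpr cs isType.isCartan c a})
    ⟨a, ha, by rw [cpr_self cs _ ha]; norm_num⟩ (fun c hc => hc.1) fun c hc => hα c hc.1 hc.2
  exact ⟨g, cent_Q cs ha hg', hg⟩

theorem aut_pos {α : MulAut ↥(chevF4.group K)}
    (hα : ∀ c ∈ RGD.Pos cs isType.isCartan, ∀ z ∈ XF K c, α z = z) :
    ∃ g ∈ RGD.Sup (XF K) {v 47, v 44}, α = MulAut.conj g := by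
  obtain ⟨g, hg, hg'⟩ := exists_conj cs
    (Ψ := RGD.Pos cs isType.isCartan) ⟨v 47, (mem_pos_iff cs (by norm_num)).2 (by norm_num)⟩ (fun c hc => hc.1) hα
  exact ⟨g, cent_pos cs hg', hg⟩

end Cfsg.Agent.KFacts.F4AutPair
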