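import Cfsg.Agent.KFacts.F4Star
import Cfsg.Agent.Nodes.KindF
import Cfsg.Agent.S1077

/-!
`F₄(q)`, `q` even: centralisers of sets of root elements (K-group facts for S1765, node D10; F4).

`cs : CoxeterSystem F₄ W`, `hC = KindF.isType.isCartan`, `eF K x t` = the root elements of `chevF4.group K`,
`XF K x` = the root groups.  Everything in vector form.
-/

set_option autoImplicit false
set_option Elab.async false

namespace Cfsg.Agent.KFacts.F4Cent

open CoxeterSystem Cfsg.Agent.ChevalleyStructure.CoxeterGeom Cfsg.Agent.Tits.Roots Cfsg.Agent.Tits.Core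
open Cfsg.Lie Cfsg.Agent.ChevalleyStructure Cfsg.Agent.ChevalleyStructure.Elts
  Cfsg.Agent.ChevalleyStructure.RootVec Cfsg.Agent.ChevalleyStructure.CoxeterGeomTypes
open Cfsg.Agent.Nodes Cfsg.Agent.Nodes.Reps Cfsg.Agent.Nodes.BNOf Cfsg.Agent.Nodes.RGDChev Cfsg.Agent.Nodes.Coroot
  Cfsg.Agent.Nodes.KindF Cfsg.Agent.KFacts.ChevTwo Cfsg.Agent.KFacts.ChevTwoTab Cfsg.Agent.KFacts.ChevTwoInst
  Cfsg.Agent.KFacts.F4Star

universe u

/-! ### Bit masks -/

theorem land_fold (P : ℕ) (L : List ℕ) : ∀ (i s : ℕ),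
    (L.foldl (fun acc r => if P.testBit r then Nat.land acc (nn r) else acc) i).testBit s = true ↔
      i.testBit s = true ∧ ∀ r ∈ L, P.testBit r = true → (nn r).testBit s = true := by
  induction L with
  | nil => intro i s; simp
  | cons a L ih =>
    intro i s
    rw [List.foldl_cons, ih]
    have e1 : ∀ x y : ℕ, Nat.land x y = x &&& y := fun _ _ => rfl
    by_cases ha : P.testBit a = true
    · rw [if_pos ha, e1, Nat.testBit_land, Bool.and_eq_true]
      constructor
      · rintro ⟨⟨h1, h2⟩, h3⟩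
        refine ⟨h1, fun r hr hp => ?_⟩
        rcases List.mem_cons.1 hr with rfl | hr
        · exact h2
        · exact h3 r hr hp
      · rintro ⟨h1, h2⟩
        exact ⟨⟨h1, h2 a List.mem_cons_self ha⟩, fun r hr => h2 r (List.mem_cons_of_mem _ hr)⟩
    · rw [if_neg ha]
      constructor
      · rintro ⟨h1, h3⟩
        refine ⟨h1, fun r hr hp => ?_⟩
        rcases List.mem_cons.1 hr with rfl | hr
        · exact absurd hp ha
        · exact h3 r hr hp
      · rintro ⟨h1, h2⟩
        exact ⟨h1, fun r hr => h2 r (List.mem_cons_of_mem _ hr)⟩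

theorem testBit_full {s : ℕ} : full.testBit s = true ↔ s < 48 := by
  unfold full
  rw [Nat.testBit_two_pow_sub_one, decide_eq_true_iff]

theorem testBit_starM {P s : ℕ} : (starM P).testBit s = true ↔
    s < 48 ∧ ∀ r < 48, P.testBit r = true → (nn r).testBit s = true := by
  unfold starM
  rw [land_fold, testBit_full]
  simp only [List.mem_range]

theorem nroots : chevF4.nroots = 48 := simples_ok.2.2.2.2

/-- the root with index `r` -/
abbrev v (r : ℕ) : Fin 4 → ℤ := vec chevF4 4 r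

theorem neg_ok : ((List.range 48).all fun r => Nat.beq (chevF4.neg r) (47 - r)) = true := by decide +kernel

theorem v_neg {r : ℕ} (hr : r < 48) : v (47 - r) = -v r := by
  have h1 := List.all_eq_true.1 neg_ok r (List.mem_range.2 hr)
  rw [← Nat.eq_of_beq_eq_true h1]
  exact vec_neg isType (by rw [nroots]; exact hr)

theorem v_inj {r s : ℕ} (hr : r < 48) (hs : s < 48) (h : v r = v s) : r = s :=
  vec_inj isType (by rw [nroots]; exact hr) (by rw [nroots]; exact hs) h

section W

variable {W : Type*} [Group W] (cs : CoxeterSystem CoxeterMatrix.F₄ W)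

theorem isRoot_v {r : ℕ} (hr : r < 48) : IsRoot cs isType.isCartan (v r) :=
  isRoot_vec isType cs (by rw [nroots]; exact hr)

theorem exists_v {x : Fin 4 → ℤ} (hx : IsRoot cs isType.isCartan x) : ∃ r < 48, v r = x := by
  obtain ⟨r, hr, e⟩ := (isRoot_iff isType cs x).1 hx
  exact ⟨r, by rw [nroots] at hr; exact hr, e⟩

theorem cpr_v {r s : ℕ} (hr : r < 48) (hs : s < 48) :
    cpr cs isType.isCartan (v s) (v r) = carB chevF4 r s := by
  rw [carB_eq]
  exact cpr_vec isType cs (by rw [nroots]; exact hr) s (by rw [nroots]; exact hs)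

theorem testBit_nn {r s : ℕ} (hr : r < 48) (hs : s < 48) :
    (nn r).testBit s = true ↔ 0 ≤ cpr cs isType.isCartan (v s) (v r) := by
  have h1 := List.all_eq_true.1 (List.all_eq_true.1 masks_ok r (List.mem_range.2 hr)) s (List.mem_range.2 hs)
  rw [beq_iff_eq.1 h1, decide_eq_true_iff, cpr_v cs hr hs]

/-- the set of roots of a mask -/
def SetOf (P : ℕ) : Set (Fin 4 → ℤ) := {x | ∃ r < 48, P.testBit r = true ∧ v r = x}

theorem mem_SetOf {P : ℕ} {r : ℕ} (hr : r < 48) : v r ∈ SetOf P ↔ P.testBit r = true := by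
  constructor
  · rintro ⟨s, hs, h1, h2⟩
    rw [← v_inj hs hr h2]; exact h1
  · intro h; exact ⟨r, hr, h, rfl⟩

theorem isRoot_of_mem_SetOf {P : ℕ} {x : Fin 4 → ℤ} (hx : x ∈ SetOf P) : IsRoot cs isType.isCartan x := by
  obtain ⟨r, hr, -, rfl⟩ := hx
  exact isRoot_v cs hr

theorem star_SetOf (P : ℕ) : star cs isType.isCartan (SetOf P) = SetOf (starM P) := by
  ext x
  constructor
  · rintro ⟨hx, h1⟩
    obtain ⟨s, hs, rfl⟩ := exists_v cs hx
    rw [mem_SetOf hs, testBit_starM]
    exact ⟨hs, fun r hr hP => (testBit_nn cs hr hs).2 (h1 _ ⟨r, hr, hP, rfl⟩)⟩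
  · rintro ⟨s, hs, h1, rfl⟩
    rw [testBit_starM] at h1
    refine ⟨isRoot_v cs hs, ?_⟩
    rintro _ ⟨r, hr, hP, rfl⟩
    exact (testBit_nn cs hr hs).1 (h1.2 r hr hP)

end W

/-! ### Spanning -/

section Span

variable {K : Type u} [Field K] [CharP K 2] (χ : (Fin 4 → ℤ) →+ Additive Kˣ)

theorem two_torsion {a : Additive Kˣ} (ha : a + a = 0) : a = 0 := by
  have h1 : (Additive.toMul a) * (Additive.toMul a) = 1 := ha
  have h2 : ((Additive.toMul a : Kˣ) : K) * ((Additive.toMul a : Kˣ) : K) = 1 := by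
    rw [← Units.val_mul, h1, Units.val_one]
  have h3 : (((Additive.toMul a : Kˣ) : K) - 1) ^ 2 = 0 := by
    have h4 : (2 : K) = 0 := CharTwo.two_eq_zero
    linear_combination h2 - (((Additive.toMul a : Kˣ) : K) - 1) * h4
  have h4 : ((Additive.toMul a : Kˣ) : K) = 1 := sub_eq_zero.1 (pow_eq_zero_iff (two_ne_zero)|>.1 h3)
  have h5 : (Additive.toMul a : Kˣ) = 1 := Units.ext h4
  exact Additive.toMul.injective h5

/-- `χ` is trivial on the mask -/
def Tr (S : ℕ) : Prop := ∀ r < 48, S.testBit r = true → χ (v r) = 0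

theorem tr_sb {S : ℕ} (hS : Tr χ S) {r : ℕ} (hr : r < 48) (h : sb S r = true) : χ (v r) = 0 := by
  unfold sb at h
  rw [Bool.or_eq_true] at h
  rcases h with h | h
  · exact hS r hr h
  · have h1 := hS (47 - r) (by omega) h
    rw [v_neg hr, map_neg, neg_eq_zero] at h1
    exact h1

theorem v_eq {k m n : ℤ} {a b c : ℕ}
    (h : ∀ i < 4, k * rt chevF4 c i = m * rt chevF4 a i + n * rt chevF4 b i) :
    k • v c = m • v a + n • v b := by
  funext i
  rw [Pi.add_apply, Pi.smul_apply, Pi.smul_apply, Pi.smul_apply]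
  exact h i i.2

include χ in
theorem dec_ok {c : ℕ} (hc : c < 48) {q : ℕ × ℕ} (hq : q ∈ decs.getD c []) :
    q.1 < 48 ∧ q.2 < 48 ∧ (χ (v q.1) = 0 → χ (v q.2) = 0 → χ (v c) = 0) := by
  have h1 := List.all_eq_true.1 (List.all_eq_true.1 decs_ok c (List.mem_range.2 hc)) q hq
  rw [Bool.and_eq_true, Bool.and_eq_true, Bool.or_eq_true] at h1
  obtain ⟨⟨h2, h3⟩, h4⟩ := h1
  have b1 : ∀ n : ℕ, Nat.blt n 48 = true → n < 48 := fun n hn => by
    rw [Nat.blt_eq] at hn; exact hn
  refine ⟨b1 _ h2, b1 _ h3, fun e1 e2 => ?_⟩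
  rcases h4 with h4 | h4
  · have h5 : (1 : ℤ) • v c = (1 : ℤ) • v q.1 + (1 : ℤ) • v q.2 := by
      refine v_eq fun i hi => ?_
      have := of_decide_eq_true (List.all_eq_true.1 h4 i (List.mem_range.2 hi))
      rw [one_mul, one_mul, one_mul, this]
    rw [one_smul, one_smul, one_smul] at h5
    rw [h5, map_add, e1, e2, add_zero]
  · have h5 : (2 : ℤ) • v c = (1 : ℤ) • v q.1 + (1 : ℤ) • v q.2 := by
      refine v_eq fun i hi => ?_
      have := of_decide_eq_true (List.all_eq_true.1 h4 i (List.mem_range.2 hi))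
      rw [one_mul, one_mul, this]
    rw [one_smul, one_smul, two_smul] at h5
    apply two_torsion
    rw [← map_add, h5, map_add, e1, e2, add_zero]

theorem tr_pass {S : ℕ} (hS : Tr χ S) : Tr χ (pass S) := by
  have key : ∀ (L : List ℕ), (∀ c ∈ L, c < 48) → ∀ i, Tr χ i → Tr χ (L.foldl (fun acc c =>
      if (decs.getD c []).any fun q => sb acc q.1 && sb acc q.2 then Nat.lor acc (2 ^ c) else acc) i) := by
    intro L
    induction L with
    | nil => intro _ i hi; exact hi
    | cons c L ih =>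
      intro hL i hi
      rw [List.foldl_cons]
      refine ih (fun d hd => hL d (List.mem_cons_of_mem _ hd)) _ ?_
      split_ifs with h1
      · obtain ⟨q, hq, hq'⟩ := List.any_eq_true.1 h1
        rw [Bool.and_eq_true] at hq'
        have hc := hL c List.mem_cons_self
        obtain ⟨h2, h3, h4⟩ := dec_ok χ hc hq
        have h5 := h4 (tr_sb χ hi h2 hq'.1) (tr_sb χ hi h3 hq'.2)
        intro r hr hr'
        have e1 : ∀ x y : ℕ, Nat.lor x y = x ||| y := fun _ _ => rfl
        rw [e1, Nat.testBit_lor, Bool.or_eq_true] at hr'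
        rcases hr' with h6 | h6
        · exact hi r hr h6
        · rw [Nat.testBit_two_pow, decide_eq_true_iff] at h6
          rw [← h6]; exact h5
      · exact hi
  exact key _ (fun c hc => List.mem_range.1 hc) S hS

theorem v_simple (i : Fin 4) : v (chevF4.simple i) = sr i := vec_simple isType i

theorem spanM_sound {P : ℕ} (hP : spanM P = true) (hχ : Tr χ P) : χ = 0 := by
  have h1 := tr_pass χ (tr_pass χ (tr_pass χ hχ))
  unfold spanM at hP
  rw [Bool.and_eq_true, Bool.and_eq_true, Bool.and_eq_true] at hP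
  obtain ⟨⟨⟨a0, a1⟩, a2⟩, a3⟩ := hP
  have hsr : ∀ i : Fin 4, χ (sr i) = 0 := by
    intro i
    obtain ⟨s0, s1, s2, s3, -⟩ := simples_ok
    fin_cases i
    · have := tr_sb χ h1 (by norm_num) a0
      rwa [← s0, show v (chevF4.simple 0) = sr 0 from v_simple 0] at this
    · have := tr_sb χ h1 (by norm_num) a1
      rwa [← s1, show v (chevF4.simple 1) = sr 1 from v_simple 1] at this
    · have := tr_sb χ h1 (by norm_num) a2
      rwa [← s2, show v (chevF4.simple 2) = sr 2 from v_simple 2] at this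
    · have := tr_sb χ h1 (by norm_num) a3
      rwa [← s3, show v (chevF4.simple 3) = sr 3 from v_simple 3] at this
  refine AddMonoidHom.ext fun x => ?_
  rw [RgdPar.eq_sum_sr x, map_sum, AddMonoidHom.zero_apply]
  refine Finset.sum_eq_zero fun i _ => ?_
  rw [map_zsmul, hsr i, smul_zero]

end Span

/-! ### Length -/

theorem long_ok : ((List.range 48).all fun r => longM.testBit r == (List.range 48).all fun s =>
    Nat.beq s r || Nat.beq (s + r) 47 || decide (carB chevF4 r s ≤ 1)) = true := by decide +kernel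

theorem short_ok : ((List.range 48).all fun r => shortM.testBit r == !longM.testBit r) = true := by decide +kernel

theorem pp_ok : ((List.range 48).all fun r => (List.range 48).all fun s =>
    (pp r).testBit s == decide (1 ≤ carB chevF4 r s)) = true := by decide +kernel

section Length

variable {W : Type*} [Group W] (cs : CoxeterSystem CoxeterMatrix.F₄ W)

/-- long roots: `⟨y, x^∨⟩ ≤ 1` for all `y ≠ ± x` -/
def Lg (x : Fin 4 → ℤ) : Prop :=
  IsRoot cs isType.isCartan x ∧ ∀ y, IsRoot cs isType.isCartan y → y ≠ x → y ≠ -x → cpr cs isType.isCartan y x ≤ 1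

/-- short roots -/
def Sh (x : Fin 4 → ℤ) : Prop := IsRoot cs isType.isCartan x ∧ ¬ Lg cs x

theorem testBit_long {r : ℕ} (hr : r < 48) : longM.testBit r = true ↔ Lg cs (v r) := by
  have h1 := beq_iff_eq.1 (List.all_eq_true.1 long_ok r (List.mem_range.2 hr))
  rw [h1, List.all_eq_true]
  constructor
  · intro h2
    refine ⟨isRoot_v cs hr, fun y hy h3 h4 => ?_⟩
    obtain ⟨s, hs, rfl⟩ := exists_v cs hy
    have h5 := h2 s (List.mem_range.2 hs)
    rw [Bool.or_eq_true, Bool.or_eq_true, decide_eq_true_iff] at h5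
    rcases h5 with (h5 | h5) | h5
    · exact absurd (by rw [Nat.eq_of_beq_eq_true h5]) h3
    · have h6 : s = 47 - r := by have := Nat.eq_of_beq_eq_true h5; omega
      exact absurd (by rw [h6, v_neg hr]) h4
    · rw [cpr_v cs hr hs]; exact h5
  · rintro ⟨-, h2⟩ s hs
    rw [List.mem_range] at hs
    rw [Bool.or_eq_true, Bool.or_eq_true, decide_eq_true_iff]
    by_cases h3 : s = r
    · left; left; rw [h3]; exact Nat.beq_refl r
    by_cases h4 : s = 47 - r
    · left; right
      have : s + r = 47 := by omega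
      rw [this]; rfl
    · right
      rw [← cpr_v cs hr hs]
      refine h2 _ (isRoot_v cs hs) (fun h => h3 (v_inj hs hr h)) (fun h => h4 ?_)
      rw [← v_neg hr] at h
      exact v_inj hs (by omega) h

theorem testBit_short {r : ℕ} (hr : r < 48) : shortM.testBit r = true ↔ Sh cs (v r) := by
  have h1 := beq_iff_eq.1 (List.all_eq_true.1 short_ok r (List.mem_range.2 hr))
  unfold Sh
  rw [← testBit_long cs hr, h1, Bool.not_eq_true', Bool.not_eq_true]
  exact ⟨fun h => ⟨isRoot_v cs hr, h⟩, fun h => h.2⟩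

theorem testBit_pp {r s : ℕ} (hr : r < 48) (hs : s < 48) :
    (pp r).testBit s = true ↔ 1 ≤ cpr cs isType.isCartan (v s) (v r) := by
  have h1 := List.all_eq_true.1 (List.all_eq_true.1 pp_ok r (List.mem_range.2 hr)) s (List.mem_range.2 hs)
  rw [beq_iff_eq.1 h1, decide_eq_true_iff, cpr_v cs hr hs]

theorem Lg.act [Finite W] {x : Fin 4 → ℤ} (hx : Lg cs x) (w : W) : Lg cs (rep cs isType.isCartan w x) := by
  refine ⟨hx.1.act w, fun y hy h1 h2 => ?_⟩
  have e1 : y = rep cs isType.isCartan w (rep cs isType.isCartan w⁻¹ y) := (rep_apply_inv _ _ _ _).symm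
  rw [e1, cpr_rep cs _ w _ hx.1]
  refine hx.2 _ (hy.act _) (fun h => h1 ?_) (fun h => h2 ?_)
  · rw [e1, h]
  · rw [e1, h, map_neg]

theorem lg_rep_iff [Finite W] {x : Fin 4 → ℤ} (w : W) : Lg cs (rep cs isType.isCartan w x) ↔ Lg cs x := by
  refine ⟨fun h => ?_, fun h => h.act cs w⟩
  have := h.act cs w⁻¹
  rwa [rep_inv_apply] at this

theorem isRoot_rep_iff {x : Fin 4 → ℤ} (w : W) :
    IsRoot cs isType.isCartan (rep cs isType.isCartan w x) ↔ IsRoot cs isType.isCartan x := by
  refine ⟨fun h => ?_, fun h => h.act w⟩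
  have := h.act w⁻¹
  rwa [rep_inv_apply] at this

theorem sh_rep_iff [Finite W] {x : Fin 4 → ℤ} (w : W) : Sh cs (rep cs isType.isCartan w x) ↔ Sh cs x := by
  unfold Sh
  rw [lg_rep_iff, isRoot_rep_iff]

/-- the sets of roots: `L ≤ ⟨c,a⟩, ⟨c,b⟩` for `c` long, `S ≤ ⟨c,a⟩, ⟨c,b⟩` for `c` short -/
def Psi (L S : ℤ) (a b : Fin 4 → ℤ) : Set (Fin 4 → ℤ) :=
  {c | IsRoot cs isType.isCartan c ∧
    (Lg cs c → L ≤ cpr cs isType.isCartan c a ∧ L ≤ cpr cs isType.isCartan c b) ∧
    (Sh cs c → S ≤ cpr cs isType.isCartan c a ∧ S ≤ cpr cs isType.isCartan c b)}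

/-- the roots of the form `(i a + j b) / k` which the centralisers can contain -/
def Cone (a b : Fin 4 → ℤ) : Set (Fin 4 → ℤ) :=
  {c | IsRoot cs isType.isCartan c ∧ (c = a ∨ c = b ∨
    (cpr cs isType.isCartan a b = -1 ∧ cpr cs isType.isCartan b a = -1 ∧ c = a + b) ∨
    (cpr cs isType.isCartan a b = -2 ∧ cpr cs isType.isCartan b a = -1 ∧ (c = a + b ∨ c = a + (2 : ℤ) • b)) ∨
    (cpr cs isType.isCartan a b = -1 ∧ cpr cs isType.isCartan b a = -2 ∧ (c = a + b ∨ c = (2 : ℤ) • a + b)) ∨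
    (cpr cs isType.isCartan a b = 0 ∧ Lg cs a ∧ Lg cs b ∧ (2 : ℤ) • c = a + b) ∨
    (cpr cs isType.isCartan a b = 0 ∧ Sh cs a ∧ Sh cs b ∧ c = a + b))}

theorem rep_mem_psi [Finite W] {L S : ℤ} {a b c : Fin 4 → ℤ} (ha : IsRoot cs isType.isCartan a)
    (hb : IsRoot cs isType.isCartan b) (w : W) :
    rep cs isType.isCartan w c ∈ Psi cs L S (rep cs isType.isCartan w a) (rep cs isType.isCartan w b) ↔
      c ∈ Psi cs L S a b := by
  unfold Psi
  rw [Set.mem_ofPred_eq, Set.mem_ofPred_eq, isRoot_rep_iff, lg_rep_iff, sh_rep_iff, cpr_rep cs _ w _ ha,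
    cpr_rep cs _ w _ hb]

theorem rep_inj_iff {x y : Fin 4 → ℤ} (w : W) :
    rep cs isType.isCartan w x = rep cs isType.isCartan w y ↔ x = y := by
  refine ⟨fun h => ?_, fun h => by rw [h]⟩
  have := congrArg (rep cs isType.isCartan w⁻¹) h
  rwa [rep_inv_apply, rep_inv_apply] at this

theorem rep_mem_cone [Finite W] {a b c : Fin 4 → ℤ} (ha : IsRoot cs isType.isCartan a)
    (hb : IsRoot cs isType.isCartan b) (w : W) :
    rep cs isType.isCartan w c ∈ Cone cs (rep cs isType.isCartan w a) (rep cs isType.isCartan w b) ↔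
      c ∈ Cone cs a b := by
  unfold Cone
  rw [Set.mem_ofPred_eq, Set.mem_ofPred_eq, isRoot_rep_iff, lg_rep_iff, lg_rep_iff, sh_rep_iff, sh_rep_iff,
    cpr_rep cs _ w _ ha, cpr_rep cs _ w _ hb, ← map_smul, ← map_smul, ← map_smul, ← map_add, ← map_add, ← map_add,
    rep_inj_iff, rep_inj_iff, rep_inj_iff, rep_inj_iff, rep_inj_iff, rep_inj_iff]

theorem SetOf_psi0 {a b : ℕ} (ha : a < 48) (hb : b < 48) : SetOf (psi0 a b) = Psi cs 0 0 (v a) (v b) := by
  ext x
  constructor
  · rintro ⟨c, hc, h1, rfl⟩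
    have e1 : psi0 a b = nn a &&& nn b := rfl
    rw [e1, Nat.testBit_land, Bool.and_eq_true, testBit_nn cs ha hc, testBit_nn cs hb hc] at h1
    exact ⟨isRoot_v cs hc, fun _ => h1, fun _ => h1⟩
  · rintro ⟨hx, h1, h2⟩
    obtain ⟨c, hc, rfl⟩ := exists_v cs hx
    rw [mem_SetOf hc]
    have e1 : psi0 a b = nn a &&& nn b := rfl
    rw [e1, Nat.testBit_land, Bool.and_eq_true, testBit_nn cs ha hc, testBit_nn cs hb hc]
    by_cases hl : Lg cs (v c)
    · exact h1 hl
    · exact h2 ⟨hx, hl⟩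

theorem SetOf_psiL {a b : ℕ} (ha : a < 48) (hb : b < 48) : SetOf (psiL a b) = Psi cs 0 1 (v a) (v b) := by
  have e1 : psiL a b = ((nn a &&& nn b) &&& longM) ||| ((pp a &&& pp b) &&& shortM) := rfl
  have key : ∀ c, c < 48 → ((psiL a b).testBit c = true ↔ ((0 ≤ cpr cs isType.isCartan (v c) (v a) ∧
      0 ≤ cpr cs isType.isCartan (v c) (v b)) ∧ Lg cs (v c)) ∨ ((1 ≤ cpr cs isType.isCartan (v c) (v a) ∧
      1 ≤ cpr cs isType.isCartan (v c) (v b)) ∧ Sh cs (v c))) := by
    intro c hc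
    rw [e1, Nat.testBit_lor, Nat.testBit_land, Nat.testBit_land, Nat.testBit_land, Nat.testBit_land,
      Bool.or_eq_true, Bool.and_eq_true, Bool.and_eq_true, Bool.and_eq_true, Bool.and_eq_true,
      testBit_nn cs ha hc, testBit_nn cs hb hc, testBit_pp cs ha hc, testBit_pp cs hb hc, testBit_long cs hc,
      testBit_short cs hc]
  ext x
  constructor
  · rintro ⟨c, hc, h1, rfl⟩
    rw [key c hc] at h1
    refine ⟨isRoot_v cs hc, fun hl => ?_, fun hs => ?_⟩
    · rcases h1 with h1 | h1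
      · exact h1.1
      · exact absurd hl h1.2.2
    · rcases h1 with h1 | h1
      · exact absurd h1.2 hs.2
      · exact h1.1
  · rintro ⟨hx, h1, h2⟩
    obtain ⟨c, hc, rfl⟩ := exists_v cs hx
    rw [mem_SetOf hc, key c hc]
    by_cases hl : Lg cs (v c)
    · exact Or.inl ⟨h1 hl, hl⟩
    · exact Or.inr ⟨h2 ⟨hx, hl⟩, hx, hl⟩

theorem SetOf_psiS {a b : ℕ} (ha : a < 48) (hb : b < 48) : SetOf (psiS a b) = Psi cs 1 0 (v a) (v b) := by
  have e1 : psiS a b = ((nn a &&& nn b) &&& shortM) ||| ((pp a &&& pp b) &&& longM) := rfl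
  have key : ∀ c, c < 48 → ((psiS a b).testBit c = true ↔ ((0 ≤ cpr cs isType.isCartan (v c) (v a) ∧
      0 ≤ cpr cs isType.isCartan (v c) (v b)) ∧ Sh cs (v c)) ∨ ((1 ≤ cpr cs isType.isCartan (v c) (v a) ∧
      1 ≤ cpr cs isType.isCartan (v c) (v b)) ∧ Lg cs (v c))) := by
    intro c hc
    rw [e1, Nat.testBit_lor, Nat.testBit_land, Nat.testBit_land, Nat.testBit_land, Nat.testBit_land,
      Bool.or_eq_true, Bool.and_eq_true, Bool.and_eq_true, Bool.and_eq_true, Bool.and_eq_true,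
      testBit_nn cs ha hc, testBit_nn cs hb hc, testBit_pp cs ha hc, testBit_pp cs hb hc, testBit_long cs hc,
      testBit_short cs hc]
  ext x
  constructor
  · rintro ⟨c, hc, h1, rfl⟩
    rw [key c hc] at h1
    refine ⟨isRoot_v cs hc, fun hl => ?_, fun hs => ?_⟩
    · rcases h1 with h1 | h1
      · exact absurd hl h1.2.2
      · exact h1.1
    · rcases h1 with h1 | h1
      · exact h1.1
      · exact absurd h1.2 hs.2
  · rintro ⟨hx, h1, h2⟩
    obtain ⟨c, hc, rfl⟩ := exists_v cs hx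
    rw [mem_SetOf hc, key c hc]
    by_cases hl : Lg cs (v c)
    · exact Or.inr ⟨h1 hl, hl⟩
    · exact Or.inl ⟨h2 ⟨hx, hl⟩, hx, hl⟩

theorem lin_sound {k c m a n b : ℕ} (h : lin k c m a n b = true) :
    (k : ℤ) • v c = (m : ℤ) • v a + (n : ℤ) • v b := by
  refine v_eq fun i hi => ?_
  exact of_decide_eq_true (List.all_eq_true.1 h i (List.mem_range.2 hi))

theorem shp_sound {a b c : ℕ} (ha : a < 48) (hb : b < 48) (hc : c < 48) (h : shp a b c = true) :
    v c ∈ Cone cs (v a) (v b) := by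
  refine ⟨isRoot_v cs hc, ?_⟩
  unfold shp at h
  simp only [Bool.or_eq_true, beq_iff_eq] at h
  rw [← cpr_v cs hb ha, ← cpr_v cs ha hb] at h
  rcases h with (h | h) | h
  · left; rw [h]
  · right; left; rw [h]
  right; right
  split_ifs at h with h1 h2 h3 h4 h5 h6
  · have h7 := lin_sound h
    rw [Nat.cast_one, one_smul, one_smul, one_smul] at h7
    exact Or.inl ⟨h1.1, h1.2, h7⟩
  · refine Or.inr (Or.inl ⟨h2.1, h2.2, ?_⟩)
    rw [Bool.or_eq_true] at h
    rcases h with h | h
    · have h7 := lin_sound h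
      rw [Nat.cast_one, one_smul, one_smul, one_smul] at h7
      exact Or.inl h7
    · have h7 := lin_sound h
      rw [Nat.cast_one, Nat.cast_ofNat, one_smul, one_smul] at h7
      exact Or.inr h7
  · refine Or.inr (Or.inr (Or.inl ⟨h3.1, h3.2, ?_⟩))
    rw [Bool.or_eq_true] at h
    rcases h with h | h
    · have h7 := lin_sound h
      rw [Nat.cast_one, one_smul, one_smul, one_smul] at h7
      exact Or.inl h7
    · have h7 := lin_sound h
      rw [Nat.cast_one, Nat.cast_ofNat, one_smul, one_smul] at h7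
      exact Or.inr h7
  · refine Or.inr (Or.inr (Or.inr (Or.inl ⟨h4.1, ?_⟩)))
    rw [Bool.and_eq_true, testBit_long cs ha, testBit_long cs hb] at h5
    have h7 := lin_sound h
    rw [Nat.cast_one, Nat.cast_ofNat, one_smul, one_smul] at h7
    exact ⟨h5.1, h5.2, h7⟩
  · refine Or.inr (Or.inr (Or.inr (Or.inr ⟨h4.1, ?_⟩)))
    rw [Bool.and_eq_true, testBit_short cs ha, testBit_short cs hb] at h6
    have h7 := lin_sound h
    rw [Nat.cast_one, one_smul, one_smul, one_smul] at h7
    exact ⟨h6.1, h6.2, h7⟩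

theorem okP_sound {P a b : ℕ} (ha : a < 48) (hb : b < 48) (h : okP P a b = true) :
    spanM P = true ∧ SetOf (starM P) ⊆ Cone cs (v a) (v b) := by
  unfold okP at h
  rw [Bool.and_eq_true] at h
  refine ⟨h.1, ?_⟩
  rintro _ ⟨c, hc, h1, rfl⟩
  have h2 := List.all_eq_true.1 h.2 c (List.mem_range.2 hc)
  rw [h1, Bool.not_true, Bool.false_or] at h2
  exact shp_sound cs ha hb hc h2

end Length

end Cfsg.Agent.KFacts.F4Cent
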