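import Cfsg.Agent.KFacts.F4Pair

/-!
`F₄(q)`, `q` even: the torus (K-group facts for S1765, node D10; F4).

`TF K` the torus of `chevF4.group K`.
* `exists_torus` : every character of the root lattice comes from `TF K`;
* `torus_unique`, `exists_hel` : the elements of `TF K` are `h_0(c_0) h_1(c_1) h_2(c_2) h_3(c_3)`;
* `torus_fix`    : `a ≠ ± b`: some element of `TF K` centralises `X_b` and acts by a prescribed scalar on `X_a`;
* `torus_pair`   : prescribed scalars on `X_a` and `X_b`;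
* `cent_X`       : `C_K(X_a) = P_a` where `P_a = ⟨X_c : 0 ≤ ⟨c,a⟩⟩`, elementwise.
-/

set_option autoImplicit false
set_option Elab.async false

namespace Cfsg.Agent.KFacts.F4Torus

open CoxeterSystem Cfsg.Agent.ChevalleyStructure.CoxeterGeom Cfsg.Agent.Tits.Roots Cfsg.Agent.Tits.Core
open Cfsg.Lie Cfsg.Agent.ChevalleyStructure Cfsg.Agent.ChevalleyStructure.Elts
  Cfsg.Agent.ChevalleyStructure.RootVec Cfsg.Agent.ChevalleyStructure.CoxeterGeomTypes
open Cfsg.Agent.Nodes Cfsg.Agent.Nodes.Reps Cfsg.Agent.Nodes.BNOf Cfsg.Agent.Nodes.RGDChev Cfsg.Agent.Nodes.Coroot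
  Cfsg.Agent.Nodes.KindF Cfsg.Agent.KFacts.ChevTwo Cfsg.Agent.KFacts.ChevTwoTab Cfsg.Agent.KFacts.ChevTwoInst
  Cfsg.Agent.KFacts.F4Star Cfsg.Agent.KFacts.F4Cent Cfsg.Agent.KFacts.F4Pair

universe u

variable {K : Type u} [Field K] [Finite K] [CharP K 2] {W : Type*} [Group W]
  (cs : CoxeterSystem CoxeterMatrix.F₄ W)

/-- the torus -/
abbrev TF (K : Type u) [Field K] : Subgroup ↥(chevF4.group K) := (chevF4.diagonalSubgroup K).subgroupOf (chevF4.group K)

theorem hel_mem {y : Fin 4 → ℤ} (hy : IsRoot cs isType.isCartan y) {c : K} (hc : c ≠ 0) : hel (eF K) y c ∈ TF K := by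
  obtain ⟨r, hr, rfl⟩ := (isRoot_iff isType cs y).1 hy
  rw [Subgroup.mem_subgroupOf]
  show ((hel (eg isType K) (vec chevF4 4 r) c : ↥(chevF4.group K)) : GL chevF4.Idx K) ∈ _
  rw [coe_hel, hG_eq isType (fun t => CharTwo.add_self_eq_zero t) hr]
  exact hG_mem_diagonal isType.inList hr hc

/-- the product of the `h_i(c_i)` -/
noncomputable def hprod (c : Fin 4 → Kˣ) : ↥(chevF4.group K) :=
  hel (eF K) (sr 0) (c 0) * hel (eF K) (sr 1) (c 1) * hel (eF K) (sr 2) (c 2) * hel (eF K) (sr 3) (c 3)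

/-- `⟨x, α_i^∨⟩` as a homomorphism -/
def prHom (i : Fin 4) : (Fin 4 → ℤ) →+ ℤ :=
  { toFun := pairing (cartanOf chevF4 4) i
    map_zero' := by
      have h := pairing_add (cartanOf chevF4 4) i 0 0
      rw [add_zero] at h
      exact left_eq_add.1 h
    map_add' := pairing_add (cartanOf chevF4 4) i }

theorem prHom_apply (i : Fin 4) (x : Fin 4 → ℤ) : prHom i x = pairing (cartanOf chevF4 4) i x := rfl

/-- its character -/
noncomputable def hchi (c : Fin 4 → Kˣ) : (Fin 4 → ℤ) →+ Additive Kˣ :=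
  ∑ i, ((zmultiplesHom (Additive Kˣ)) (Additive.ofMul (c i))).comp (prHom i)

include cs in
theorem hprod_mem (c : Fin 4 → Kˣ) : hprod c ∈ TF K :=
  mul_mem (mul_mem (mul_mem (hel_mem cs (isRoot_sr cs _ 0) (c 0).ne_zero) (hel_mem cs (isRoot_sr cs _ 1) (c 1).ne_zero))
    (hel_mem cs (isRoot_sr cs _ 2) (c 2).ne_zero)) (hel_mem cs (isRoot_sr cs _ 3) (c 3).ne_zero)

omit [Finite K] [CharP K 2] in
theorem hchi_apply (c : Fin 4 → Kˣ) (x : Fin 4 → ℤ) :
    hchi c x = ∑ i, pairing (cartanOf chevF4 4) i x • Additive.ofMul (c i) := by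
  unfold hchi
  rw [AddMonoidHom.finset_sum_apply]
  refine Finset.sum_congr rfl fun i _ => ?_
  rw [AddMonoidHom.comp_apply, zmultiplesHom_apply, prHom_apply]

theorem hprod_conj (c : Fin 4 → Kˣ) {x : Fin 4 → ℤ} (hx : IsRoot cs isType.isCartan x) (u : K) :
    hprod c * eF K x u * (hprod c)⁻¹ = eF K x (((hchi c x).toMul : Kˣ) * u) := by
  have hW : Finite W := finite_W isType cs
  have D := (sysF (K := K) cs).data
  have h1 : hprod c * eF K x u * (hprod c)⁻¹ = hel (eF K) (sr 0) (c 0) * (hel (eF K) (sr 1) (c 1) *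
      (hel (eF K) (sr 2) (c 2) * (hel (eF K) (sr 3) (c 3) * eF K x u * (hel (eF K) (sr 3) (c 3))⁻¹) *
      (hel (eF K) (sr 2) (c 2))⁻¹) * (hel (eF K) (sr 1) (c 1))⁻¹) * (hel (eF K) (sr 0) (c 0))⁻¹ := by
    unfold hprod; group
  rw [h1, D.hel_conj hx (isRoot_sr cs _ 3) (c 3).ne_zero, D.hel_conj hx (isRoot_sr cs _ 2) (c 2).ne_zero,
    D.hel_conj hx (isRoot_sr cs _ 1) (c 1).ne_zero, D.hel_conj hx (isRoot_sr cs _ 0) (c 0).ne_zero, hchi_apply,
    cpr_sr, cpr_sr, cpr_sr, cpr_sr]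
  congr 1
  rw [Fin.sum_univ_four, toMul_add, toMul_add, toMul_add, toMul_zsmul, toMul_zsmul, toMul_zsmul, toMul_zsmul,
    toMul_ofMul, toMul_ofMul, toMul_ofMul, toMul_ofMul]
  push_cast
  ring

/-- inverse of the Cartan matrix -/
def iC : Fin 4 → Fin 4 → ℤ := ![![2, 3, 4, 2], ![3, 6, 8, 4], ![2, 4, 6, 3], ![1, 2, 3, 2]]

set_option backward.isDefEq.respectTransparency false in
theorem iC_mul : ∀ k j, ∑ i, iC k i * cartanOf chevF4 4 i j = if k = j then 1 else 0 := by decide +kernel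

theorem pairing_sr (i j : Fin 4) : pairing (cartanOf chevF4 4) i (sr j) = cartanOf chevF4 4 i j := by
  unfold pairing
  rw [Finset.sum_eq_single j]
  · rw [sr_self, mul_one]
  · intro k _ hk
    rw [sr_ne hk, mul_zero]
  · intro h; exact absurd (Finset.mem_univ j) h

omit [Finite K] [CharP K 2] in
/-- **Every character of the root lattice is realised by the torus.** -/
theorem exists_hprod (χ : (Fin 4 → ℤ) →+ Additive Kˣ) : ∃ c : Fin 4 → Kˣ, hchi c = χ := by
  refine ⟨fun i => Additive.toMul (∑ k, iC k i • χ (sr k)), ?_⟩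
  have h1 : ∀ j, hchi (fun i => Additive.toMul (∑ k, iC k i • χ (sr k))) (sr j) = χ (sr j) := by
    intro j
    rw [hchi_apply]
    have h0 : ∀ i, pairing (cartanOf chevF4 4) i (sr j) • Additive.ofMul (Additive.toMul (∑ k, iC k i • χ (sr k))) =
        ∑ k, (cartanOf chevF4 4 i j * iC k i) • χ (sr k) := by
      intro i
      rw [ofMul_toMul, pairing_sr, ← Finset.sum_zsmul]
      exact Finset.sum_congr rfl fun k _ => by rw [← mul_zsmul', mul_comm]
    rw [Finset.sum_congr rfl fun i _ => h0 i, Finset.sum_comm]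
    have h2 : ∀ k, ∑ i, (cartanOf chevF4 4 i j * iC k i) • χ (sr k) = (if k = j then (1 : ℤ) else 0) • χ (sr k) := by
      intro k
      have h3 := map_sum (zmultiplesHom (Additive Kˣ) (χ (sr k))) (fun i => cartanOf chevF4 4 i j * iC k i)
        Finset.univ
      simp only [zmultiplesHom_apply] at h3
      rw [← h3, ← iC_mul k j]
      congr 1
      exact Finset.sum_congr rfl fun i _ => mul_comm _ _
    rw [Finset.sum_congr rfl fun k _ => h2 k, Finset.sum_eq_single j]
    · rw [if_pos rfl, one_smul]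
    · intro k _ hk
      rw [if_neg hk, zero_smul]
    · intro h; exact absurd (Finset.mem_univ j) h
  refine AddMonoidHom.ext fun x => ?_
  rw [RgdPar.eq_sum_sr x, map_sum, map_sum]
  refine Finset.sum_congr rfl fun k _ => ?_
  rw [map_zsmul, map_zsmul, h1]

/-- **Every character of the root lattice is realised by the torus.** -/
theorem exists_torus (χ : (Fin 4 → ℤ) →+ Additive Kˣ) : ∃ t ∈ TF K, ∀ x, IsRoot cs isType.isCartan x → ∀ u,
    t * eF K x u * t⁻¹ = eF K x (((χ x).toMul : Kˣ) * u) := by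
  obtain ⟨c, rfl⟩ := exists_hprod χ
  exact ⟨hprod c, hprod_mem cs c, fun x hx u => hprod_conj cs c hx u⟩

/-- An element of `K` which centralises all root elements is trivial. -/
theorem eq_one_of_comm {g : ↥(chevF4.group K)}
    (hg : ∀ x, IsRoot cs isType.isCartan x → ∀ u, g * eF K x u = eF K x u * g) : g = 1 := by
  have h1 : g ∈ Subgroup.center ↥(chevF4.group K) := by
    rw [Subgroup.mem_center_iff]
    intro k
    have h2 : RGDLib.G1 cs isType.isCartan (XF K) ≤ Subgroup.centralizer ({g} : Set ↥(chevF4.group K)) := by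
      refine RGD.Sup_le fun x hx v hv => ?_
      rw [Subgroup.mem_centralizer_singleton_iff]
      obtain ⟨u, rfl⟩ := (mem_XF_iff cs hx).1 hv
      exact (hg x hx u).symm
    have h3 : k ∈ Subgroup.centralizer ({g} : Set ↥(chevF4.group K)) := h2 (by
      rw [show RGDLib.G1 cs isType.isCartan (XF K) = ⊤ from G1_eq_top isType cs]; exact Subgroup.mem_top k)
    exact Subgroup.mem_centralizer_singleton_iff.1 h3
  rw [S1077.center_group_eq_bot isType.inList] at h1
  exact Subgroup.mem_bot.1 h1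

/-- Elements of `K` acting in the same way on the root elements are equal. -/
theorem eq_of_conj {g k : ↥(chevF4.group K)}
    (h : ∀ x, IsRoot cs isType.isCartan x → ∀ u, g * eF K x u * g⁻¹ = k * eF K x u * k⁻¹) : g = k := by
  have h1 : k⁻¹ * g = 1 := by
    refine eq_one_of_comm cs fun x hx u => ?_
    have h2 := h x hx u
    calc k⁻¹ * g * eF K x u = k⁻¹ * (g * eF K x u * g⁻¹) * g := by group
      _ = eF K x u * (k⁻¹ * g) := by rw [h2]; group
  exact (inv_mul_eq_one.1 h1).symm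

include cs in
/-- **The elements of the torus.** -/
theorem exists_hel {t : ↥(chevF4.group K)} (ht : t ∈ TF K) : ∃ c : Fin 4 → Kˣ, t = hprod c := by
  have hW : Finite W := finite_W isType cs
  obtain ⟨χ, hχ⟩ := (sysF (K := K) cs).chi t ht
  obtain ⟨c, rfl⟩ := exists_hprod χ
  exact ⟨c, eq_of_conj cs fun x hx u => by rw [hχ x hx u, hprod_conj cs c hx u]⟩

/-! ### Prescribed scalars -/

theorem pairChk : ([33, 27, 25, 24].all fun a => (List.range 48).all fun b =>
    Nat.beq a b || Nat.beq (a + b) 47 ||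
      ((List.range 48).any (fun y => decide (carB chevF4 y b = 0) && !decide (carB chevF4 y a = 0)) &&
       (List.range 48).any (fun y => decide (carB chevF4 y a = 0) && !decide (carB chevF4 y b = 0)))) = true := by
  decide +kernel

/-- some root is orthogonal to `b` and not to `a` -/
theorem exists_orth {a b : Fin 4 → ℤ} (ha : IsRoot cs isType.isCartan a) (hb : IsRoot cs isType.isCartan b)
    (hab : b ≠ a) (hab' : b ≠ -a) : ∃ y, IsRoot cs isType.isCartan y ∧ cpr cs isType.isCartan b y = 0 ∧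
      cpr cs isType.isCartan a y ≠ 0 := by
  have hW : Finite W := finite_W isType cs
  obtain ⟨w, i, rfl⟩ := ha
  obtain ⟨b', rfl⟩ : ∃ b', rep cs isType.isCartan w b' = b := ⟨_, rep_apply_inv _ _ _ _⟩
  rw [isRoot_rep_iff] at hb
  obtain ⟨a, ha, ha', ha''⟩ := simple_mem i
  obtain ⟨r, hr, rfl⟩ := exists_v cs hb
  rw [← ha''] at hab hab' ⊢
  have h1 := List.all_eq_true.1 (List.all_eq_true.1 pairChk a ha') r (List.mem_range.2 hr)
  rw [Bool.or_eq_true, Bool.or_eq_true, Bool.and_eq_true] at h1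
  rcases h1 with (h1 | h1) | ⟨h1, -⟩
  · exact absurd (by rw [Nat.eq_of_beq_eq_true h1]) hab
  · exact absurd (by rw [eq_neg_of_add ha h1, map_neg]) hab'
  · obtain ⟨y, hy, h2⟩ := List.any_eq_true.1 h1
    rw [List.mem_range] at hy
    rw [Bool.and_eq_true, Bool.not_eq_true', decide_eq_true_iff, decide_eq_false_iff_not,
      ← cpr_v cs hy hr, ← cpr_v cs hy ha] at h2
    have hyr := isRoot_v cs hy
    refine ⟨rep cs isType.isCartan w (v y), hyr.act w, ?_, ?_⟩
    · rw [cpr_rep cs _ w _ hyr]; exact h2.1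
    · rw [cpr_rep cs _ w _ hyr]; exact h2.2

theorem cpr_abs_le {x y : Fin 4 → ℤ} (hx : IsRoot cs isType.isCartan x) (hy : IsRoot cs isType.isCartan y) :
    cpr cs isType.isCartan x y ≤ 2 ∧ -2 ≤ cpr cs isType.isCartan x y := by
  have hW : Finite W := finite_W isType cs
  by_cases h1 : x = y
  · rw [h1, cpr_self cs _ hy]; norm_num
  by_cases h2 : x = -y
  · rw [h2, cpr_neg cs _ _ hy, cpr_self cs _ hy]; norm_num
  · exact (sysF (K := ZMod 2) cs).data.lace x y hx hy h1 h2

omit [Finite K] [CharP K 2] in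
theorem exists_zpow [Finite K] [CharP K 2] (d : Kˣ) {m : ℤ} (hm : m ≠ 0) (h1 : m ≤ 2) (h2 : -2 ≤ m) :
    ∃ c : Kˣ, c ^ m = d := by
  have hsq : ∀ d : Kˣ, ∃ c : Kˣ, c ^ (2 : ℤ) = d := by
    intro d
    have := Fintype.ofFinite K
    obtain ⟨c, hc⟩ := FiniteField.isSquare_of_char_two (ringChar.eq K 2) (d : K)
    have hc0 : c ≠ 0 := by rintro rfl; exact d.ne_zero (by rw [hc, mul_zero])
    refine ⟨Units.mk0 c hc0, Units.ext ?_⟩
    rw [Units.val_zpow_eq_zpow_val, Units.val_mk0, hc]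
    exact zpow_two c
  have h3 : m = 1 ∨ m = 2 ∨ m = -1 ∨ m = -2 := by omega
  rcases h3 with rfl | rfl | rfl | rfl
  · exact ⟨d, zpow_one d⟩
  · exact hsq d
  · exact ⟨d⁻¹, by rw [zpow_neg, zpow_one, inv_inv]⟩
  · obtain ⟨c, hc⟩ := hsq d
    exact ⟨c⁻¹, by rw [zpow_neg, inv_zpow, hc, inv_inv]⟩

/-- **Prescribed scalar on `X_a`, trivial on `X_b`.** -/
theorem torus_fix {a b : Fin 4 → ℤ} (ha : IsRoot cs isType.isCartan a) (hb : IsRoot cs isType.isCartan b)
    (hab : b ≠ a) (hab' : b ≠ -a) (d : Kˣ) : ∃ t ∈ TF K, (∀ u, t * eF K a u * t⁻¹ = eF K a (d * u)) ∧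
      (∀ u, t * eF K b u * t⁻¹ = eF K b u) := by
  have hW : Finite W := finite_W isType cs
  obtain ⟨y, hy, h1, h2⟩ := exists_orth cs ha hb hab hab'
  obtain ⟨h3, h4⟩ := cpr_abs_le cs ha hy
  obtain ⟨c, hc⟩ := exists_zpow d h2 h3 h4
  have D := (sysF (K := K) cs).data
  refine ⟨hel (eF K) y c, hel_mem cs hy c.ne_zero, fun u => ?_, fun u => ?_⟩
  · rw [D.hel_conj ha hy c.ne_zero, ← hc, Units.val_zpow_eq_zpow_val]
  · rw [D.hel_conj hb hy c.ne_zero, h1, zpow_zero, one_mul]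

/-- **Prescribed scalars on `X_a` and `X_b`.** -/
theorem torus_pair {a b : Fin 4 → ℤ} (ha : IsRoot cs isType.isCartan a) (hb : IsRoot cs isType.isCartan b)
    (hab : b ≠ a) (hab' : b ≠ -a) (d d' : Kˣ) : ∃ t ∈ TF K, (∀ u, t * eF K a u * t⁻¹ = eF K a (d * u)) ∧
      (∀ u, t * eF K b u * t⁻¹ = eF K b (d' * u)) := by
  obtain ⟨t, ht, h1, h2⟩ := torus_fix (K := K) cs ha hb hab hab' d
  obtain ⟨s, hs, h3, h4⟩ := torus_fix (K := K) cs hb ha hab.symm (fun h => hab' (by rw [h]; exact (_root_.neg_neg b).symm)) d'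
  refine ⟨t * s, mul_mem ht hs, fun u => ?_, fun u => ?_⟩
  · have : t * s * eF K a u * (t * s)⁻¹ = t * (s * eF K a u * s⁻¹) * t⁻¹ := by group
    rw [this, h4, h1]
  · have : t * s * eF K b u * (t * s)⁻¹ = t * (s * eF K b u * s⁻¹) * t⁻¹ := by group
    rw [this, h3, h2]

end Cfsg.Agent.KFacts.F4Torus
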