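import Cfsg.Agent.KFacts.F4Model
import Cfsg.Agent.KFacts.F4Torus
import Cfsg.Agent.OddHalf.D7F4Ex.ChartDual

/-!
`F₄(q)`, `q > 2` even: the charts of `D7F4Ex/Chart` (K-group facts for S1765, node D7; F4).

* `torH`       : the torus in doubled Euclidean coordinates;
* `chart`      : `Chart (j ∘ e_a(u)) (j ∘ torH)` for every embedding `j` of `F₄(q)`;
* `exists_root`: the inverse Frobenius; `chart_dual`.
-/

set_option autoImplicit false
set_option Elab.async false

namespace Cfsg.Agent.KFacts.F4Chart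

open CoxeterSystem Cfsg.Agent.ChevalleyStructure.CoxeterGeom Cfsg.Agent.Tits.Roots Cfsg.Agent.Tits.Core
open Cfsg.Lie Cfsg.Agent.ChevalleyStructure Cfsg.Agent.ChevalleyStructure.Elts
  Cfsg.Agent.ChevalleyStructure.RootVec Cfsg.Agent.ChevalleyStructure.CoxeterGeomTypes
open Cfsg.Agent.Nodes Cfsg.Agent.Nodes.Reps Cfsg.Agent.Nodes.BNOf Cfsg.Agent.Nodes.RGDChev Cfsg.Agent.Nodes.Coroot
  Cfsg.Agent.Nodes.KindF Cfsg.Agent.KFacts.ChevTwo Cfsg.Agent.KFacts.ChevTwoTab
  Cfsg.Agent.KFacts.ChevTwoInst Cfsg.Agent.KFacts.F4Star Cfsg.Agent.KFacts.F4Cent Cfsg.Agent.KFacts.F4Pair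
  Cfsg.Agent.KFacts.F4Torus Cfsg.Agent.KFacts.F4Model
open Cfsg.Agent.OddHalf.D7F4
open Cfsg.Agent.OddHalf.D7F4Ex (Chart chd chd_add dd dd_add nE rfl' dualE dualH)

universe u

section Tor

variable {K : Type u} [Field K]

/-- the character of `ν` -/
def chiD (ν : Fin 4 → Kˣ) : (Fin 4 → ℤ) →+ Additive Kˣ where
  toFun a := Additive.ofMul (chd ν a)
  map_zero' := by
    have h1 := chd_add ν 0 0
    rw [add_zero, left_eq_mul] at h1
    rw [h1]; rfl
  map_add' a b := by rw [chd_add]; rfl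

variable [Finite K] [CharP K 2]

theorem exists_tor (ν : Fin 4 → Kˣ) : ∃ t : ↥(chevF4.group K), t ∈ TF K ∧ ∀ x, IsRoot cF isType.isCartan x → ∀ u,
    t * eF K x u * t⁻¹ = eF K x (((chd ν x : Kˣ) : K) * u) :=
  exists_torus cF (chiD ν)

/-- the torus in doubled Euclidean coordinates -/
noncomputable def torH (K : Type u) [Field K] [Finite K] [CharP K 2] : (Fin 4 → Kˣ) →* ↥(chevF4.group K) :=
  MonoidHom.mk' (fun ν => (exists_tor ν).choose) fun ν ν' => by
    have h1 := (exists_tor (K := K) ν).choose_spec.2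
    have h2 := (exists_tor (K := K) ν').choose_spec.2
    have h3 := (exists_tor (K := K) (ν * ν')).choose_spec.2
    refine eq_of_conj cF fun x hx u => ?_
    rw [h3 x hx u]
    have e : chd (ν * ν') x = chd ν x * chd ν' x := by
      unfold Cfsg.Agent.OddHalf.D7F4Ex.chd
      rw [← Finset.prod_mul_distrib]
      exact Finset.prod_congr rfl fun i _ => by rw [Pi.mul_apply, mul_zpow]
    rw [e, Units.val_mul, mul_assoc, ← h1 x hx, ← h2 x hx]
    group

theorem torH_mem (ν : Fin 4 → Kˣ) : torH K ν ∈ TF K := (exists_tor (K := K) ν).choose_spec.1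

theorem torH_conj (ν : Fin 4 → Kˣ) {x : Fin 4 → ℤ} (hx : x ∈ Model.rts) (u : K) :
    torH K ν * eF K x u * (torH K ν)⁻¹ = eF K x (((chd ν x : Kˣ) : K) * u) :=
  (exists_tor (K := K) ν).choose_spec.2 x ((phi_iff cF x).1 hx) u

/-- **The chart of `F₄(q)`.** -/
theorem chart_id (hq : ∃ μ : Kˣ, μ ≠ 1) : Chart (eF K) (torH K) where
  two u := CharTwo.add_self_eq_zero u
  big := hq
  add a ha u v := (dat (K := K)).add a ((phi_iff cF a).1 ha) u v
  inj a ha u hu := e_eq_one ha hu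
  sep a ha b hb hab u v huv := by
    have h1 : eF K b v = 1 := ind ha hb hab _ ((mem_X ha).2 ⟨u, huv⟩) ((mem_X hb).2 ⟨v, rfl⟩)
    exact e_eq_one hb h1
  c0 a ha b hb h u v := X0 ha hb h _ ((mem_X ha).2 ⟨u, rfl⟩) _ ((mem_X hb).2 ⟨v, rfl⟩)
  c1 a ha b hb h1 h2 h3 u v := comm1 ha hb h1 h2 h3 u v
  c2 a ha b hb h1 h2 h3 u v := comm2 ha hb h1 h2 h3 u v
  tor a ha ν u := torH_conj ν ha u
  nrf a ha b hb u := by
    have hW := finW
    have h1 := (dat (K := K)).nel_conj ((phi_iff cF b).1 hb) ((phi_iff cF a).1 ha) u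
    have h2 : rfl' a b = b - cpr cF isType.isCartan b a • a := by
      have h3 := two_B cF hb ha
      have h4 : Model.B a a ≠ 0 := by
        rcases Model.norm a ha with h | h <;> omega
      unfold Cfsg.Agent.OddHalf.D7F4Ex.rfl'
      rw [Model.B_symm a b, h3, Int.mul_ediv_cancel _ h4]
    rw [nel_def] at h1
    rw [h2, ← h1]
    unfold Cfsg.Agent.OddHalf.D7F4Ex.nE
    rfl

variable {G : Type*} [Group G]

omit [Finite K] [CharP K 2] in
/-- Charts in overgroups. -/
theorem chart_comp {E : (Fin 4 → ℤ) → K → ↥(chevF4.group K)} {T : (Fin 4 → Kˣ) →* ↥(chevF4.group K)} (C : Chart E T)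
    {j : ↥(chevF4.group K) →* G} (hj : Function.Injective j) : Chart (fun a u => j (E a u)) (j.comp T) where
  two := C.two
  big := C.big
  add a ha u v := by rw [C.add a ha, map_mul]
  inj a ha u hu := C.inj a ha u (hj (by rw [map_one]; exact hu))
  sep a ha b hb hab u v huv := C.sep a ha b hb hab u v (hj huv)
  c0 a ha b hb h u v := by rw [← map_mul, C.c0 a ha b hb h, map_mul]
  c1 a ha b hb h1 h2 h3 u v := by
    rw [← map_inv, ← map_inv, ← map_mul, ← map_mul, ← map_mul, C.c1 a ha b hb h1 h2 h3]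
  c2 a ha b hb h1 h2 h3 u v := by
    rw [← map_inv, ← map_inv, ← map_mul, ← map_mul, ← map_mul, C.c2 a ha b hb h1 h2 h3, map_mul]
  tor a ha ν u := by
    rw [MonoidHom.comp_apply, ← map_inv, ← map_mul, ← map_mul, C.tor a ha]
  nrf a ha b hb u := by
    have h1 : nE (fun a u => j (E a u)) a = j (nE E a) := by
      unfold Cfsg.Agent.OddHalf.D7F4Ex.nE
      rw [map_mul, map_mul]
    rw [h1, ← map_inv, ← map_mul, ← map_mul, C.nrf a ha b hb]

/-- **The chart of an embedded `F₄(q)`.** -/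
theorem chart (hq : ∃ μ : Kˣ, μ ≠ 1) {j : ↥(chevF4.group K) →* G} (hj : Function.Injective j) :
    Chart (fun a u => j (eF K a u)) (j.comp (torH K)) := chart_comp (chart_id hq) hj

end Tor

end Cfsg.Agent.KFacts.F4Chart
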