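import Cfsg.Agent.KFacts.F4Off

/-!
`F₄(q)`, `q ≥ 2` even: two commutator facts of `Q_s Q_l`, in a chart `F4Rl.Rl` (K-group facts for OMEGA #16413; F4).

* `faith` : `w ∈ Q_s Q_l` with `[w, Q_l] ≤ U_l` lies in `Q_l`;
* `elJ` : a group of exponent two in `Q_s Q_l` centralising `J₀` lies in `U_l J₀` or `U_s J₀`; `inf_UJ`;
* `elJ_of` : the consequence for groups normalised by an element which exchanges `Q_s` and `Q_l`.
-/

set_option autoImplicit false
set_option Elab.async false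
set_option linter.unusedSectionVars false

namespace Cfsg.Agent.KFacts.F4Faith

open Cfsg.Agent.KFacts.F4Star Cfsg.Agent.KFacts.F4Rl Cfsg.Agent.KFacts.F4Side Cfsg.Agent.KFacts.F4Form
  Cfsg.Agent.KFacts.F4Two
open scoped commutatorElement

/-- partners of `42, 43, 45, 46` -/
def gg (i : Fin 4) : ℕ := ![32, 31, 26, 24] i
/-- the long roots of `Q_s ∩ Q_l` -/
def hh (i : Fin 4) : ℕ := ![42, 43, 45, 46] i

theorem gg_lt : ∀ i, gg i < 48 := by decide
theorem hh_lt : ∀ i, hh i < 48 := by decide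
theorem a_gh : ∀ i, a1 (gg i) (hh i) 47 = true := by decide +kernel
theorem n_gh : ∀ i k, k ≠ i → (nn (gg k)).testBit (hh i) = true := by decide +kernel
theorem gg_Ql : ∀ i, mQl.testBit (gg i) = true := by decide +kernel
theorem hh_L : ∀ i, (mJ0 + 2 ^ 29).testBit (hh i) = true := by decide +kernel

variable {F Y : Type*} [Field F] [CharP F 2] [Group Y] {e : ℕ → F → Y} {X : ℕ → Subgroup Y}

/-- `t` = the coordinates of `j` at `42, 43, 45, 46` -/
def Gm (e : ℕ → F → Y) (j : Y) (t : Fin 4 → F) : Prop := ∀ i s, ⁅e (gg i) s, j⁆ = e 47 (s * t i)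

/-- `[w, e_c(1)]` has coordinates `t` -/
def Tm (e : ℕ → F → Y) (X : ℕ → Subgroup Y) (c : ℕ) (w : Y) (t : Fin 4 → F) : Prop :=
  ⁅w, e c 1⁆ ∈ SP X (mJ0 + 2 ^ 29) ∧ Gm e ⁅w, e c 1⁆ t

variable (R : Rl e X)

include R

theorem Gm.unique {j : Y} {t t' : Fin 4 → F} (h : Gm e j t) (h' : Gm e j t') : t = t' := by
  funext i
  have h1 := (h i 1).symm.trans (h' i 1)
  rw [one_mul, one_mul] at h1
  exact R.e_inj (by norm_num) h1

theorem Gm.mul {j j' : Y} (hj : j ∈ SP X mQl) {t t' : Fin 4 → F} (h : Gm e j t) (h' : Gm e j' t') :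
    Gm e (j * j') (t + t') := by
  intro i s
  have h1 : ⁅e (gg i) s, j * j'⁆ = ⁅e (gg i) s, j⁆ * (j * ⁅e (gg i) s, j'⁆ * j⁻¹) := by
    simp only [commutatorElement_def]; group
  have h2 : e 47 (s * t' i) ∈ SP X (2 ^ 47) := le_SP (by norm_num) (by decide +kernel) (R.e_mem (by norm_num) _)
  have h3 : j * e 47 (s * t' i) = e 47 (s * t' i) * j := R.comm_zero (P := mQl) (by decide +kernel) hj h2
  rw [h1, h i s, h' i s, h3, mul_inv_cancel_right, Pi.add_apply, mul_add, R.add 47 (by norm_num)]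

theorem Gm.single (i : Fin 4) (u : F) : Gm e (e (hh i) u) (Pi.single i u) := by
  intro k s
  by_cases h : k = i
  · subst h
    rw [R.c1 _ _ _ (a_gh k), Pi.single_eq_same]
  · rw [commutatorElement_eq_one_iff_mul_comm.2 (R.c0 _ (gg_lt k) _ (hh_lt i) (n_gh i k h) s u),
      Pi.single_eq_of_ne h, mul_zero, R.zero (by norm_num)]

/-- elements of `U_l` have zero coordinates -/
theorem Gm.zero {u : Y} (hu : u ∈ SP X mUl) : Gm e u 0 := by
  intro k s
  have h1 := comm_Ul_Ql R hu (le_SP (gg_lt k) (gg_Ql k) (R.e_mem (gg_lt k) s))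
  rw [commutatorElement_eq_one_iff_mul_comm.2 h1.symm, Pi.zero_apply, mul_zero, R.zero (by norm_num)]

theorem Gm.one : Gm e (1 : Y) 0 := Gm.zero R (one_mem _)

theorem L_Ql : SP X (mJ0 + 2 ^ 29) ≤ SP X mQl := SP_mono (by decide +kernel)

theorem Tm.mul {c : ℕ} {w w' : Y} (hw : w ∈ SP X mQQ) {t t' : Fin 4 → F} (h : Tm e X c w t) (h' : Tm e X c w' t') :
    Tm e X c (w * w') (t + t') := by
  have h0 : ⁅w * w', e c 1⁆ = ⁅w, ⁅w', e c 1⁆⁆ * ⁅w', e c 1⁆ * ⁅w, e c 1⁆ := by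
    simp only [commutatorElement_def]; group
  have h1 : ⁅w, ⁅w', e c 1⁆⁆ ∈ SP X mUl :=
    R.comm_SP (P := mQQ) (Q := mJ0 + 2 ^ 29) (N := mUl) (by decide +kernel) (by decide +kernel) (by decide +kernel)
      hw h'.1
  have h2 : ⁅w, ⁅w', e c 1⁆⁆ * ⁅w', e c 1⁆ ∈ SP X (mJ0 + 2 ^ 29) :=
    mul_mem (SP_mono (P := mUl) (by decide +kernel) h1) h'.1
  unfold Tm
  rw [h0]
  refine ⟨mul_mem h2 h.1, ?_⟩
  have h3 := Gm.mul R (L_Ql R h2) (Gm.mul R (SP_mono (P := mUl) (by decide +kernel) h1) (Gm.zero R h1) h'.2) h.2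
  rw [zero_add, add_comm] at h3
  exact h3

/-- commuting root groups -/
theorem Tm.comm {c r : ℕ} (hc : c < 48) (hr : r < 48) (h : (nn r).testBit c = true) (u : F) :
    Tm e X c (e r u) 0 := by
  unfold Tm
  rw [commutatorElement_eq_one_iff_mul_comm.2 (R.c0 r hr c hc h u 1)]
  exact ⟨one_mem _, Gm.one R⟩

/-- elements of `Q_l` -/
theorem Tm.ql {c : ℕ} (hc : c < 48) (h : mQl.testBit c = true) {q : Y} (hq : q ∈ SP X mQl) : Tm e X c q 0 := by
  have h1 := comm_Ql R hq (le_SP hc h (R.e_mem hc 1))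
  have h2 : ⁅q, e c 1⁆ ∈ SP X mUl := le_SP (r := 47) (by norm_num) (by decide +kernel) h1
  exact ⟨SP_mono (P := mUl) (by decide +kernel) h2, Gm.zero R h2⟩

/-- a short root of `Q_s` -/
theorem Tm.short {c r m : ℕ} (i : Fin 4) (h : a2 c r m (hh i) = true) (hm : mUl.testBit m = true) (u : F) :
    Tm e X c (e r u) (Pi.single i (u ^ 2)) := by
  have hm48 : m < 48 := by
    unfold a2 at h
    simp only [Bool.and_eq_true, Nat.blt_eq] at h
    exact h.1.1.1.1.1.1.2
  have h1 : ⁅e r u, e c 1⁆ = e (hh i) (u ^ 2) * e m u := by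
    rw [← commutatorElement_inv, R.c2 c r m (hh i) h, one_mul, one_mul, mul_inv_rev, R.inv (hh_lt i), R.inv hm48]
  have hmU : e m u ∈ SP X mUl := le_SP hm48 hm (R.e_mem hm48 u)
  have hL : e (hh i) (u ^ 2) ∈ SP X (mJ0 + 2 ^ 29) := le_SP (hh_lt i) (hh_L i) (R.e_mem (hh_lt i) _)
  unfold Tm
  rw [h1]
  refine ⟨mul_mem hL (SP_mono (P := mUl) (by decide +kernel) hmU), ?_⟩
  have h2 := Gm.mul R (L_Ql R hL) (Gm.single R i (u ^ 2)) (Gm.zero R hmU)
  rwa [add_zero] at h2

theorem Tm.long {c : ℕ} (i : Fin 4) (h : a1 41 c (hh i) = true) (u : F) : Tm e X c (e 41 u) (Pi.single i u) := by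
  unfold Tm
  rw [R.c1 41 c (hh i) h, mul_one]
  exact ⟨le_SP (hh_lt i) (hh_L i) (R.e_mem (hh_lt i) _), Gm.single R i u⟩

/-- **`faith`** -/
theorem faith {w : Y} (hw : w ∈ SP X mQQ) (h : ∀ q ∈ SP X mQl, ⁅w, q⁆ ∈ SP X mUl) : w ∈ SP X mQl := by
  obtain ⟨a, w1, hw1, rfl⟩ := peel R (r := 33) (P := mQQ - 2 ^ 33) (P' := mQQ) (by norm_num)
    (by decide +kernel) (by decide +kernel) hw
  obtain ⟨b, w2, hw2, rfl⟩ := peel R (r := 34) (P := mQQ - 2 ^ 33 - 2 ^ 34) (by norm_num)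
    (by decide +kernel) (by decide +kernel) hw1
  obtain ⟨c, w3, hw3, rfl⟩ := peel R (r := 35) (P := mQQ - 2 ^ 33 - 2 ^ 34 - 2 ^ 35) (by norm_num)
    (by decide +kernel) (by decide +kernel) hw2
  obtain ⟨d, w4, hw4, rfl⟩ := peel R (r := 37) (P := mQQ - 2 ^ 33 - 2 ^ 34 - 2 ^ 35 - 2 ^ 37) (by norm_num)
    (by decide +kernel) (by decide +kernel) hw3
  obtain ⟨x, q, hq, rfl⟩ := peel R (r := 41) (P := mQl) (by norm_num)
    (by decide +kernel) (by decide +kernel) hw4
  have m33 : e 33 a ∈ SP X mQQ := le_SP (by norm_num) (by decide +kernel) (R.e_mem (by norm_num) _)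
  have m34 : e 34 b ∈ SP X mQQ := le_SP (by norm_num) (by decide +kernel) (R.e_mem (by norm_num) _)
  have m35 : e 35 c ∈ SP X mQQ := le_SP (by norm_num) (by decide +kernel) (R.e_mem (by norm_num) _)
  have m37 : e 37 d ∈ SP X mQQ := le_SP (by norm_num) (by decide +kernel) (R.e_mem (by norm_num) _)
  have m41 : e 41 x ∈ SP X mQQ := le_SP (by norm_num) (by decide +kernel) (R.e_mem (by norm_num) _)
  have key : ∀ r (_ : r < 48) (_ : mQl.testBit r = true) (t : Fin 4 → F),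
      Tm e X r (e 33 a * (e 34 b * (e 35 c * (e 37 d * (e 41 x * q))))) t → t = 0 := fun r hr h1 t ht =>
    Gm.unique R ht.2 (Gm.zero R (h _ (le_SP hr h1 (R.e_mem hr 1))))
  -- `c = 24`
  have k24 := key 24 (by norm_num) (by decide +kernel) _
    (Tm.mul R m33 (Tm.comm R (r := 33) (by norm_num) (by norm_num) (by decide +kernel) a)
    (Tm.mul R m34 (Tm.comm R (r := 34) (by norm_num) (by norm_num) (by decide +kernel) b)
    (Tm.mul R m35 (Tm.short R (r := 35) (m := 36) 1 (by decide +kernel) (by decide +kernel) c)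
    (Tm.mul R m37 (Tm.short R (r := 37) (m := 38) 2 (by decide +kernel) (by decide +kernel) d)
    (Tm.mul R m41 (Tm.long R 0 (by decide +kernel) x)
      (Tm.ql R (by norm_num) (by decide +kernel) hq))))))
  have k26 := key 26 (by norm_num) (by decide +kernel) _
    (Tm.mul R m33 (Tm.comm R (r := 33) (by norm_num) (by norm_num) (by decide +kernel) a)
    (Tm.mul R m34 (Tm.short R (r := 34) (m := 36) 0 (by decide +kernel) (by decide +kernel) b)
    (Tm.mul R m35 (Tm.comm R (r := 35) (by norm_num) (by norm_num) (by decide +kernel) c)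
    (Tm.mul R m37 (Tm.short R (r := 37) (m := 39) 3 (by decide +kernel) (by decide +kernel) d)
    (Tm.mul R m41 (Tm.long R 1 (by decide +kernel) x)
      (Tm.ql R (by norm_num) (by decide +kernel) hq))))))
  have k31 := key 31 (by norm_num) (by decide +kernel) _
    (Tm.mul R m33 (Tm.short R (r := 33) (m := 38) 0 (by decide +kernel) (by decide +kernel) a)
    (Tm.mul R m34 (Tm.comm R (r := 34) (by norm_num) (by norm_num) (by decide +kernel) b)
    (Tm.mul R m35 (Tm.short R (r := 35) (m := 40) 3 (by decide +kernel) (by decide +kernel) c)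
    (Tm.mul R m37 (Tm.comm R (r := 37) (by norm_num) (by norm_num) (by decide +kernel) d)
    (Tm.mul R m41 (Tm.long R 2 (by decide +kernel) x)
      (Tm.ql R (by norm_num) (by decide +kernel) hq))))))
  have hx : x = 0 := by
    have h1 := congrFun k24 0
    simpa using h1
  have hc : c = 0 := by
    have h1 := congrFun k24 1
    simpa using h1
  have hd : d = 0 := by
    have h1 := congrFun k24 2
    simpa using h1
  have hb : b = 0 := by
    have h1 := congrFun k26 0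
    simpa using h1
  have ha : a = 0 := by
    have h1 := congrFun k31 0
    simpa using h1
  rw [ha, hb, hc, hd, hx, R.zero (by norm_num), R.zero (by norm_num), R.zero (by norm_num), R.zero (by norm_num),
    R.zero (by norm_num), one_mul, one_mul, one_mul, one_mul, one_mul]
  exact hq

/-- `J₀` has exponent two -/
theorem sq_J0 {j : Y} (hj : j ∈ SP X mJ0) : j * j = 1 := by
  refine R.SP_ind (C := fun j => j * j = 1) (fun r hr _ t => R.sq hr t) (mul_one 1) ?_ hj
  intro x y hx hy h1 h2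
  have h3 : x * y = y * x := R.comm_zero (P := mJ0) (Q := mJ0) (by decide +kernel) hx hy
  calc x * y * (x * y) = x * (y * x) * y := by group
    _ = x * (x * y) * y := by rw [h3]
    _ = (x * x) * (y * y) := by group
    _ = 1 := by rw [h1, h2, one_mul]

/-- the involutions of `C(J₀)` -/
theorem inv_J0 {x : Y} (hc : ∀ y ∈ SP X mJ0, x * y = y * x) (h2 : x * x = 1) :
    x ∈ SP X (mJ0 + 2 ^ 29) ∨ x ∈ SP X (mJ0 + 2 ^ 41) := by
  have h1 : x ∈ SP X (starM mJ0) := R.cm mJ0 (by decide) x fun r hr h y hy => hc y (le_SP hr h hy)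
  rw [star_J0] at h1
  obtain ⟨a, w, hw, rfl⟩ := peel R (r := 29) (P := mJ0 + 2 ^ 41) (by norm_num) (by decide +kernel)
    (by decide +kernel) h1
  obtain ⟨b, j, hj, rfl⟩ := peel R (r := 41) (P := mJ0) (P' := mJ0 + 2 ^ 41) (by norm_num) (by decide +kernel)
    (by decide +kernel) hw
  have c1 : j * e 29 a = e 29 a * j := R.comm_zero (P := mJ0) (Q := 2 ^ 29) (by decide +kernel) hj
    (le_SP (by norm_num) (by decide +kernel) (R.e_mem (by norm_num) _))
  have c2 : j * e 41 b = e 41 b * j := R.comm_zero (P := mJ0) (Q := 2 ^ 41) (by decide +kernel) hj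
    (le_SP (by norm_num) (by decide +kernel) (R.e_mem (by norm_num) _))
  have h3 : e 29 a * e 41 b * (e 29 a * e 41 b) = 1 := by
    rw [← h2]
    calc e 29 a * e 41 b * (e 29 a * e 41 b) = e 29 a * e 41 b * (e 29 a * e 41 b) * (j * j) := by
          rw [sq_J0 R hj, mul_one]
      _ = e 29 a * e 41 b * (e 29 a * (e 41 b * j)) * j := by group
      _ = e 29 a * e 41 b * ((e 29 a * j) * e 41 b) * j := by rw [← c2]; group
      _ = e 29 a * (e 41 b * j) * (e 29 a * (e 41 b * j)) := by rw [← c1]; group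
  have h4 : ⁅e 41 b, e 29 a⁆ = 1 := by
    rw [commutatorElement_def, R.inv (by norm_num), R.inv (by norm_num)]
    have h5 : e 41 b * e 29 a * e 41 b * e 29 a = (e 29 a)⁻¹ * (e 29 a * e 41 b * (e 29 a * e 41 b)) * e 29 a := by
      group
    rw [h5, h3]; group
  rw [R.c2 41 29 44 47 (by decide +kernel)] at h4
  have h5 := (mul_sep R (by norm_num) (by norm_num) (by norm_num) h4).1
  rcases mul_eq_zero.1 h5 with rfl | rfl
  · left
    rw [R.zero (by norm_num), one_mul]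
    exact mul_mem (le_SP (by norm_num) (by decide +kernel) (R.e_mem (by norm_num) _)) (SP_mono (by decide +kernel) hj)
  · right
    rw [R.zero (by norm_num), one_mul]
    exact mul_mem (le_SP (by norm_num) (by decide +kernel) (R.e_mem (by norm_num) _)) (SP_mono (by decide +kernel) hj)

omit R in
omit [CharP F 2] in
theorem sup_UlJ : SP X mUl ⊔ SP X mJ0 = SP X (mJ0 + 2 ^ 29) := by
  rw [← SP_sup]; exact SP_eq (by decide +kernel)

omit R in
omit [CharP F 2] in
theorem sup_UsJ : SP X mUs ⊔ SP X mJ0 = SP X (mJ0 + 2 ^ 41) := by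
  rw [← SP_sup]; exact SP_eq (by decide +kernel)

/-- **`elJ`** in index language -/
theorem elJ {E : Subgroup Y} (h2 : ∀ x ∈ E, x * x = 1) (hc : ∀ x ∈ E, ∀ y ∈ SP X mJ0, x * y = y * x) :
    E ≤ SP X mUl ⊔ SP X mJ0 ∨ E ≤ SP X mUs ⊔ SP X mJ0 := by
  rw [sup_UlJ, sup_UsJ]
  by_contra h
  rw [not_or] at h
  obtain ⟨x, hx, hx'⟩ := Set.not_subset.1 h.1
  obtain ⟨y, hy, hy'⟩ := Set.not_subset.1 h.2
  have h1 := (inv_J0 R (hc x hx) (h2 x hx)).resolve_left hx'
  have h3 := (inv_J0 R (hc y hy) (h2 y hy)).resolve_right hy'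
  rcases inv_J0 R (hc _ (mul_mem hx hy)) (h2 _ (mul_mem hx hy)) with h4 | h4
  · refine hx' ?_
    have h5 : x = x * y * y⁻¹ := by group
    rw [h5]
    exact mul_mem h4 (inv_mem h3)
  · refine hy' ?_
    have h5 : y = x⁻¹ * (x * y) := by group
    rw [h5]
    exact mul_mem (inv_mem h1) h4

/-- `U_l J₀ ∩ U_s J₀ = J₀` -/
theorem inf_UJ : (SP X mUl ⊔ SP X mJ0) ⊓ (SP X mUs ⊔ SP X mJ0) = SP X mJ0 := by
  refine le_antisymm ?_ (le_inf le_sup_right le_sup_right)
  rw [sup_UlJ, sup_UsJ]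
  rintro u ⟨h1, h2⟩
  obtain ⟨a, j, hj, rfl⟩ := peel R (r := 29) (P := mJ0) (by norm_num) (by decide +kernel) (by decide +kernel) h1
  have h3 : e 29 a ∈ SP X mQs := by
    have h4 : e 29 a = e 29 a * j * j⁻¹ := by group
    rw [h4]
    exact mul_mem (SP_mono (P := mJ0 + 2 ^ 41) (by decide +kernel) h2) (inv_mem (SP_mono (by decide +kernel) hj))
  rw [e29_Qs R fun y hy => (comm_Us_Qs R hy h3).symm, R.zero (by norm_num), one_mul]
  exact hj

end Cfsg.Agent.KFacts.F4Faith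

namespace Cfsg.Agent.KFacts.F4Faith

open Subgroup

variable {G : Type*} [Group G]

theorem map_inf_cent (s : G) (Q : Subgroup G) :
    (Q ⊓ centralizer (Q : Set G)).map (MulAut.conj s).toMonoidHom =
      Q.map (MulAut.conj s).toMonoidHom ⊓ centralizer (Q.map (MulAut.conj s).toMonoidHom : Set G) := by
  ext x
  simp only [mem_inf, mem_map, mem_centralizer_iff]
  constructor
  · rintro ⟨u, ⟨hu, hc⟩, rfl⟩
    refine ⟨⟨u, hu, rfl⟩, ?_⟩
    rintro _ ⟨v, hv, rfl⟩
    rw [← map_mul, ← map_mul, hc v hv]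
  · rintro ⟨⟨u, hu, rfl⟩, hc⟩
    refine ⟨u, ⟨hu, fun v hv => ?_⟩, rfl⟩
    have h1 := hc _ ⟨v, hv, rfl⟩
    rw [← map_mul, ← map_mul] at h1
    exact (MulAut.conj s).injective h1

/-- **`elJ`**, group level: `E` is normalised by an element which exchanges `Q_s` and `Q_l`. -/
theorem elJ_of {Qs Ql Us Ul E : Subgroup G} (hUs : Us = Qs ⊓ centralizer (Qs : Set G))
    (hUl : Ul = Ql ⊓ centralizer (Ql : Set G))
    (h : E ≤ Ul ⊔ (Qs ⊓ Ql) ∨ E ≤ Us ⊔ (Qs ⊓ Ql)) (hinf : (Ul ⊔ (Qs ⊓ Ql)) ⊓ (Us ⊔ (Qs ⊓ Ql)) = Qs ⊓ Ql)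
    {s : G} (h1 : Qs.map (MulAut.conj s).toMonoidHom = Ql) (h2 : Ql.map (MulAut.conj s).toMonoidHom = Qs)
    (hE : s ∈ normalizer (E : Set G)) : E ≤ Qs ⊓ Ql := by
  have e1 : Us.map (MulAut.conj s).toMonoidHom = Ul := by rw [hUs, map_inf_cent, h1, ← hUl]
  have e2 : Ul.map (MulAut.conj s).toMonoidHom = Us := by rw [hUl, map_inf_cent, h2, ← hUs]
  have e3 : (Qs ⊓ Ql).map (MulAut.conj s).toMonoidHom = Qs ⊓ Ql := by
    rw [map_inf _ _ _ (MulAut.conj s).injective, h1, h2, inf_comm]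
  have e4 : E ≤ E.map (MulAut.conj s).toMonoidHom := by
    intro x hx
    refine ⟨s⁻¹ * x * s, ?_, by simp [MulAut.conj_apply]; group⟩
    have h3 := (mem_normalizer_iff.1 (inv_mem hE) x).1 hx
    rwa [inv_inv] at h3
  rw [← hinf]
  rcases h with h | h
  · refine le_inf h (e4.trans ((map_mono h).trans ?_))
    rw [Subgroup.map_sup, e2, e3]
  · refine le_inf (e4.trans ((map_mono h).trans ?_)) h
    rw [Subgroup.map_sup, e1, e3]

end Cfsg.Agent.KFacts.F4Faith
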