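import Cfsg.Agent.KFacts.F4Side

/-!
`F₄(q)`, `q ≥ 2` even: the action of `Q_s Q_l` on `U_l`, in a chart `F4Rl.Rl` (K-group facts for OMEGA, NodeAll h1; F4).

* `Fm e j t` : the coordinates `t` of `j ∈ J₀` at `36, 38, 39, 40`;
* `Dm e X v D` : `v ∈ Q_s Q_l` acts on `J_s` as `j ↦ j e_44(⟨D, t(j)⟩)` and `[v, e_29(s)]` has coordinates `s D`;
* `fix`, `fin`, `mix`.
-/

set_option autoImplicit false
set_option Elab.async false
set_option linter.unusedSectionVars false

namespace Cfsg.Agent.KFacts.F4Form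

open Cfsg.Agent.KFacts.F4Star Cfsg.Agent.KFacts.F4Rl Cfsg.Agent.KFacts.F4Side
open scoped commutatorElement

variable {F Y : Type*} [Field F] [CharP F 2] [Group Y] {e : ℕ → F → Y} {X : ℕ → Subgroup Y}

/-- the short roots of `J₀` -/
def cc (i : Fin 4) : ℕ := ![36, 38, 39, 40] i
/-- their partners: `cc i + dd i = 44` -/
def dd (i : Fin 4) : ℕ := ![37, 35, 34, 33] i

theorem cc_lt : ∀ i, cc i < 48 := by decide
theorem dd_lt : ∀ i, dd i < 48 := by decide
theorem a_dc : ∀ i, a1 (dd i) (cc i) 44 = true := by decide +kernel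
theorem n_dc : ∀ i k, k ≠ i → (nn (dd k)).testBit (cc i) = true := by decide +kernel
theorem a_d29 : ∀ i, a1 (dd i) 29 (cc i.rev) = true := by decide +kernel
theorem cc_Js : ∀ i, mJs.testBit (cc i) = true := by decide +kernel

/-- `t` = the coordinates of `j` at `36, 38, 39, 40` -/
def Fm (e : ℕ → F → Y) (j : Y) (t : Fin 4 → F) : Prop := ∀ i s, ⁅e (dd i) s, j⁆ = e 44 (s * t i)

variable (R : Rl e X)

include R

theorem Fm.unique {j : Y} {t t' : Fin 4 → F} (h : Fm e j t) (h' : Fm e j t') : t = t' := by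
  funext i
  have h1 := (h i 1).symm.trans (h' i 1)
  rw [one_mul, one_mul] at h1
  exact R.e_inj (by norm_num) h1

theorem Fm.one : Fm e (1 : Y) 0 := by
  intro i s
  rw [commutatorElement_one_right, Pi.zero_apply, mul_zero, R.zero (by norm_num)]

theorem Fm.mul {j j' : Y} (hj : j ∈ SP X mJ0) {t t' : Fin 4 → F} (h : Fm e j t) (h' : Fm e j' t') :
    Fm e (j * j') (t + t') := by
  intro i s
  have h1 : ⁅e (dd i) s, j * j'⁆ = ⁅e (dd i) s, j⁆ * (j * ⁅e (dd i) s, j'⁆ * j⁻¹) := by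
    simp only [commutatorElement_def]; group
  have h2 : e 44 (s * t' i) ∈ SP X (2 ^ 44) := le_SP (by norm_num) (by decide +kernel) (R.e_mem (by norm_num) _)
  have h3 : j * e 44 (s * t' i) = e 44 (s * t' i) * j := R.comm_zero (P := mJ0) (by decide +kernel) hj h2
  rw [h1, h i s, h' i s, h3, mul_inv_cancel_right, Pi.add_apply, mul_add, R.add 44 (by norm_num)]

theorem Fm.single (i : Fin 4) (u : F) : Fm e (e (cc i) u) (Pi.single i u) := by
  intro k s
  by_cases h : k = i
  · subst h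
    rw [R.c1 _ _ _ (a_dc k), Pi.single_eq_same]
  · rw [commutatorElement_eq_one_iff_mul_comm.2 (R.c0 _ (dd_lt k) _ (cc_lt i) (n_dc i k h) s u),
      Pi.single_eq_of_ne h, mul_zero, R.zero (by norm_num)]

theorem Fm.zero {r : ℕ} (hr : r < 48) (h : ∀ i, (nn (dd i)).testBit r = true) (u : F) : Fm e (e r u) 0 := by
  intro k s
  rw [commutatorElement_eq_one_iff_mul_comm.2 (R.c0 _ (dd_lt k) _ hr (h k) s u), Pi.zero_apply, mul_zero,
    R.zero (by norm_num)]

/-- every element of `J₀` has coordinates -/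
theorem exists_Fm {j : Y} (hj : j ∈ SP X mJ0) : ∃ t, Fm e j t := by
  refine R.SP_ind (C := fun j => ∃ t, Fm e j t) ?_ ⟨0, Fm.one R⟩ ?_ hj
  · intro r hr h u
    have h1 : ((List.range 48).all fun r => !mJ0.testBit r || [36, 38, 39, 40].contains r ||
        ([37, 35, 34, 33].all fun d => (nn d).testBit r)) = true := by decide +kernel
    have h2 := List.all_eq_true.1 h1 r (List.mem_range.2 hr)
    rw [h, Bool.not_true, Bool.false_or, Bool.or_eq_true] at h2
    rcases h2 with h2 | h2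
    · have h3 : r ∈ [36, 38, 39, 40] := by simpa using h2
      simp only [List.mem_cons, List.not_mem_nil, or_false] at h3
      rcases h3 with rfl | rfl | rfl | rfl
      · exact ⟨_, Fm.single R 0 u⟩
      · exact ⟨_, Fm.single R 1 u⟩
      · exact ⟨_, Fm.single R 2 u⟩
      · exact ⟨_, Fm.single R 3 u⟩
    · refine ⟨0, Fm.zero R hr (fun i => ?_) u⟩
      rw [List.all_eq_true] at h2
      exact h2 (dd i) (by revert i; decide)
  · rintro x y hx hy ⟨t, ht⟩ ⟨t', ht'⟩
    exact ⟨t + t', Fm.mul R hx ht ht'⟩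

/-- the element of `J_s` with given coordinates -/
theorem exists_of_t (t : Fin 4 → F) : ∃ j ∈ SP X mJs, Fm e j t := by
  have hm : ∀ i u, e (cc i) u ∈ SP X mJs := fun i u => le_SP (cc_lt i) (cc_Js i) (R.e_mem (cc_lt i) u)
  have hJ : SP X mJs ≤ SP X mJ0 := SP_mono (by decide +kernel)
  refine ⟨e (cc 0) (t 0) * (e (cc 1) (t 1) * (e (cc 2) (t 2) * e (cc 3) (t 3))),
    mul_mem (hm _ _) (mul_mem (hm _ _) (mul_mem (hm _ _) (hm _ _))), ?_⟩
  have h1 := Fm.mul R (hJ (hm 0 (t 0))) (Fm.single R 0 (t 0)) (Fm.mul R (hJ (hm 1 (t 1))) (Fm.single R 1 (t 1))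
    (Fm.mul R (hJ (hm 2 (t 2))) (Fm.single R 2 (t 2)) (Fm.single R 3 (t 3))))
  have h2 : Pi.single 0 (t 0) + (Pi.single 1 (t 1) + (Pi.single 2 (t 2) + Pi.single 3 (t 3))) = t := by
    funext i
    fin_cases i <;> simp
  rw [h2] at h1
  exact h1

/-- an element of `J₀` with zero coordinates lies in `U_s` -/
theorem mem_Us {j : Y} (hj : j ∈ SP X mJ0) (h : Fm e j 0) : j ∈ SP X mUs := by
  rw [← star_Qs]
  refine R.cm mQs (by decide) j fun r hr h1 y hy => ?_
  obtain ⟨s, rfl⟩ := (R.mem r hr y).1 hy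
  have h2 : ((List.range 48).all fun r => !mQs.testBit r || [33, 34, 35, 37].contains r ||
      ((List.range 48).all fun s => !mJ0.testBit s || com s r 0)) = true := by decide +kernel
  have h3 := List.all_eq_true.1 h2 r (List.mem_range.2 hr)
  rw [h1, Bool.not_true, Bool.false_or, Bool.or_eq_true] at h3
  rcases h3 with h3 | h3
  · have h4 : ∃ i, r = dd i := by
      have h5 : r ∈ [33, 34, 35, 37] := by simpa using h3
      simp only [List.mem_cons, List.not_mem_nil, or_false] at h5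
      rcases h5 with rfl | rfl | rfl | rfl
      · exact ⟨3, rfl⟩
      · exact ⟨2, rfl⟩
      · exact ⟨1, rfl⟩
      · exact ⟨0, rfl⟩
    obtain ⟨i, rfl⟩ := h4
    have h5 := h i s
    rw [Pi.zero_apply, mul_zero, R.zero (by norm_num)] at h5
    exact (commutatorElement_eq_one_iff_mul_comm.1 h5).symm
  · have h4 : comM mJ0 (2 ^ r) 0 = true := by
      unfold comM
      rw [List.all_eq_true]
      intro a ha
      have h5 := List.all_eq_true.1 h3 a ha
      cases h6 : mJ0.testBit a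
      · rfl
      · rw [h6, Bool.not_true, Bool.false_or] at h5
        rw [Bool.not_true, Bool.false_or, List.all_eq_true]
        intro b hb
        rw [Nat.testBit_two_pow]
        by_cases h7 : r = b
        · subst h7
          rw [h5, Bool.or_true]
        · rw [decide_eq_false h7]; rfl
    exact R.comm_zero h4 hj (le_SP hr Nat.testBit_two_pow_self (R.e_mem hr s))

/-! ### The action on `U_l` -/

/-- `v` acts on `J_s` as `j ↦ j e_44(⟨D, t(j)⟩)`, and `[v, e_29(s)]` has coordinates `s D` (reversed) -/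
def Dm (e : ℕ → F → Y) (X : ℕ → Subgroup Y) (v : Y) (D : Fin 4 → F) : Prop :=
  (∀ j ∈ SP X mJs, ∀ t, Fm e j t → ⁅v, j⁆ = e 44 (∑ i, D i * t i)) ∧
    ∀ s, ⁅v, e 29 s⁆ ∈ SP X mJs ∧ Fm e ⁅v, e 29 s⁆ fun i => s * D i.rev

theorem Dm.mul {v v' : Y} (hv : v ∈ SP X mQQ) {D D' : Fin 4 → F} (h : Dm e X v D) (h' : Dm e X v' D') :
    Dm e X (v * v') (D + D') := by
  have h0 : ∀ x, ⁅v * v', x⁆ = v * ⁅v', x⁆ * v⁻¹ * ⁅v, x⁆ := fun x => by simp only [commutatorElement_def]; group
  have h44 : ∀ u, v * e 44 u = e 44 u * v := fun u =>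
    R.comm_zero (P := mQQ) (Q := 2 ^ 44) (by decide +kernel) hv
      (le_SP (by norm_num) (by decide +kernel) (R.e_mem (by norm_num) _))
  constructor
  · intro j hj t ht
    rw [h0, h.1 j hj t ht, h'.1 j hj t ht, h44, mul_inv_cancel_right, ← R.add 44 (by norm_num), ← Finset.sum_add_distrib]
    congr 1
    refine Finset.sum_congr rfl fun i _ => ?_
    rw [Pi.add_apply]; ring
  · intro s
    obtain ⟨h1, h2⟩ := h.2 s
    obtain ⟨h3, h4⟩ := h'.2 s
    have h5 : v * ⁅v', e 29 s⁆ * v⁻¹ = e 44 (∑ i, D i * (s * D' i.rev)) * ⁅v', e 29 s⁆ := by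
      rw [conj_e R, h.1 _ h3 _ h4]
    have h6 : e 44 (∑ i, D i * (s * D' i.rev)) ∈ SP X mJs :=
      le_SP (by norm_num) (by decide +kernel) (R.e_mem (by norm_num) _)
    rw [h0, h5]
    have hJ : SP X mJs ≤ SP X mJ0 := SP_mono (by decide +kernel)
    refine ⟨mul_mem (mul_mem h6 h3) h1, ?_⟩
    have h7 := Fm.mul R (hJ (mul_mem h6 h3)) (Fm.mul R (hJ h6)
      (Fm.zero R (r := 44) (by norm_num) (by decide +kernel) _) h4) h2
    have h8 : (0 + fun i : Fin 4 => s * D' i.rev) + (fun i : Fin 4 => s * D i.rev) =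
        fun i : Fin 4 => s * (D + D') i.rev := by
      funext i
      simp only [Pi.add_apply, Pi.zero_apply]
      ring
    rw [h8] at h7
    exact h7

theorem Dm.zero_of {r : ℕ} (hr : r < 48) (h : ∀ s < 48, mJs.testBit s = true → (nn r).testBit s = true) (u : F)
    (h29 : ∀ s, ⁅e r u, e 29 s⁆ ∈ SP X mJs ∧ Fm e ⁅e r u, e 29 s⁆ 0) : Dm e X (e r u) 0 := by
  constructor
  · intro j hj t _
    have h1 : j * e r u = e r u * j := by
      refine R.SP_ind (C := fun j => j * e r u = e r u * j) (fun s hs h2 w => (R.c0 r hr s hs (h s hs h2) u w).symm)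
        (by rw [one_mul, mul_one]) (fun x y _ _ hx hy => by rw [mul_assoc, hy, ← mul_assoc, hx, mul_assoc]) hj
    rw [commutatorElement_eq_one_iff_mul_comm.2 h1.symm]
    simp only [Pi.zero_apply, zero_mul, Finset.sum_const_zero]
    rw [R.zero (by norm_num)]
  · intro s
    have h1 : (fun i : Fin 4 => s * (0 : Fin 4 → F) i.rev) = 0 := by
      funext i; simp
    rw [h1]
    exact h29 s

theorem exists_Dm {v : Y} (hv : v ∈ SP X mQQ) : ∃ D, Dm e X v D := by
  have h44 : ∀ u, e 44 u ∈ SP X mJs := fun u => le_SP (by norm_num) (by decide +kernel) (R.e_mem (by norm_num) _)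
  have h47 : ∀ u, e 47 u ∈ SP X mJs := fun u => le_SP (by norm_num) (by decide +kernel) (R.e_mem (by norm_num) _)
  have hJ : SP X mJs ≤ SP X mJ0 := SP_mono (by decide +kernel)
  refine R.SP_ind (C := fun v => ∃ D, Dm e X v D) ?_ ⟨0, ?_⟩ ?_ hv
  · intro r hr h u
    have h1 : ((List.range 48).all fun r => !mQQ.testBit r || [33, 34, 35, 37].contains r || Nat.beq r 41 ||
        ((nn r).testBit 29 && ((List.range 48).all fun s => !mJs.testBit s || (nn r).testBit s))) = true := by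
      decide +kernel
    have h2 := List.all_eq_true.1 h1 r (List.mem_range.2 hr)
    rw [h, Bool.not_true, Bool.false_or, Bool.or_eq_true, Bool.or_eq_true, Bool.and_eq_true] at h2
    rcases h2 with (h2 | h2) | ⟨h2, h3⟩
    · have h3 : ∃ i, r = dd i := by
        have h5 : r ∈ [33, 34, 35, 37] := by simpa using h2
        simp only [List.mem_cons, List.not_mem_nil, or_false] at h5
        rcases h5 with rfl | rfl | rfl | rfl
        · exact ⟨3, rfl⟩
        · exact ⟨2, rfl⟩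
        · exact ⟨1, rfl⟩
        · exact ⟨0, rfl⟩
      obtain ⟨i, rfl⟩ := h3
      refine ⟨Pi.single i u, fun j hj t ht => ?_, fun s => ?_⟩
      · rw [ht i u, Finset.sum_eq_single i]
        · rw [Pi.single_eq_same]
        · intro k _ hk
          rw [Pi.single_eq_of_ne hk, zero_mul]
        · intro h; exact absurd (Finset.mem_univ i) h
      · rw [R.c1 _ _ _ (a_d29 i)]
        refine ⟨le_SP (cc_lt _) (cc_Js _) (R.e_mem (cc_lt _) _), ?_⟩
        have h3 := Fm.single R i.rev (u * s)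
        have h4 : (fun k : Fin 4 => s * (Pi.single i u : Fin 4 → F) k.rev) = Pi.single i.rev (u * s) := by
          funext k
          by_cases hk : k = i.rev
          · subst hk
            rw [Fin.rev_rev, Pi.single_eq_same, Pi.single_eq_same, mul_comm]
          · rw [Pi.single_eq_of_ne hk, Pi.single_eq_of_ne (fun h => hk (by rw [← h, Fin.rev_rev])), mul_zero]
        rw [h4]
        exact h3
    · obtain rfl := Nat.eq_of_beq_eq_true h2
      refine ⟨0, Dm.zero_of R hr (by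
        intro s hs h3
        have h4 : ((List.range 48).all fun s => !mJs.testBit s || (nn 41).testBit s) = true := by decide +kernel
        have h5 := List.all_eq_true.1 h4 s (List.mem_range.2 hs)
        rw [h3] at h5
        exact h5) u fun s => ?_⟩
      rw [R.c2 41 29 44 47 (by decide +kernel)]
      refine ⟨mul_mem (h44 _) (h47 _), ?_⟩
      have h3 := Fm.mul R (hJ (h44 (u * s))) (Fm.zero R (r := 44) (by norm_num) (by decide +kernel) _)
        (Fm.zero R (r := 47) (by norm_num) (by decide +kernel) (u * s ^ 2))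
      rwa [add_zero] at h3
    · refine ⟨0, Dm.zero_of R hr (by
        intro s hs h4
        have h5 := List.all_eq_true.1 h3 s (List.mem_range.2 hs)
        rw [h4] at h5
        exact h5) u fun s => ?_⟩
      rw [commutatorElement_eq_one_iff_mul_comm.2 (R.c0 r hr 29 (by norm_num) h2 u s)]
      exact ⟨one_mem _, Fm.one R⟩
  · constructor
    · intro j _ t _
      rw [commutatorElement_one_left]
      simp only [Pi.zero_apply, zero_mul, Finset.sum_const_zero]
      rw [R.zero (by norm_num)]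
    · intro s
      rw [commutatorElement_one_left]
      have h1 : (fun i : Fin 4 => s * (0 : Fin 4 → F) i.rev) = 0 := by
        funext i; simp
      rw [h1]
      exact ⟨one_mem _, Fm.one R⟩
  · rintro x y hx _ ⟨D, hD⟩ ⟨D', hD'⟩
    exact ⟨D + D', Dm.mul R hx hD hD'⟩

theorem QQ_comm_44 {v : Y} (hv : v ∈ SP X mQQ) (u : F) : v * e 44 u = e 44 u * v :=
  R.comm_zero (P := mQQ) (Q := 2 ^ 44) (by decide +kernel) hv
    (le_SP (by norm_num) (by decide +kernel) (R.e_mem (by norm_num) _))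

theorem Ul_comm {x y : Y} (hx : x ∈ SP X mUl) (hy : y ∈ SP X mUl) : x * y = y * x :=
  R.comm_zero (by decide +kernel) hx hy

/-- `C_{Q_s Q_l}(J_s) ≤ X_41 Q_l` -/
theorem cent_Js {v : Y} (h : ∀ j ∈ SP X mJs, v * j = j * v) : ∃ x, ∃ q ∈ SP X mQl, v = e 41 x * q := by
  have h1 : v ∈ SP X (starM mJs) := R.cm mJs (by decide) v fun r hr h1 y hy => h y (le_SP hr h1 hy)
  rw [star_Js] at h1
  exact peel R (r := 41) (P := mQl) (by norm_num) (by decide +kernel) (by decide +kernel) h1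

theorem comm_of_D {v : Y} {D : Fin 4 → F} (h : Dm e X v D) (h0 : D = 0) : ∀ j ∈ SP X mJs, v * j = j * v := by
  intro j hj
  obtain ⟨t, ht⟩ := exists_Fm R (SP_mono (Q := mJ0) (by decide +kernel) hj)
  have h1 := h.1 j hj t ht
  rw [h0] at h1
  simp only [Pi.zero_apply, zero_mul, Finset.sum_const_zero] at h1
  rw [R.zero (by norm_num)] at h1
  exact commutatorElement_eq_one_iff_mul_comm.1 h1

/-- **`fix`** : a vector outside `X^⊥` is moved by every Siegel element. -/
theorem fix {v u : Y} (hv : v ∈ SP X mQQ) (hu : u ∈ SP X mUl) (hvu : v * u = u * v) (hJ : u ∉ SP X mJs) :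
    v ∈ SP X mQl := by
  obtain ⟨a, j, hj, rfl⟩ := peel R (r := 29) (P := mJs) (by norm_num) (by decide +kernel) (by decide +kernel) hu
  have ha : a ≠ 0 := by
    rintro rfl
    rw [R.zero (by norm_num), one_mul] at hJ
    exact hJ hj
  obtain ⟨D, hD⟩ := exists_Dm R hv
  obtain ⟨t, ht⟩ := exists_Fm R (SP_mono (Q := mJ0) (by decide +kernel) hj)
  have h1 : ⁅v, e 29 a⁆ * (e 29 a * ⁅v, j⁆ * (e 29 a)⁻¹) = 1 := by
    have h2 : ⁅v, e 29 a⁆ * (e 29 a * ⁅v, j⁆ * (e 29 a)⁻¹) = ⁅v, e 29 a * j⁆ := by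
      simp only [commutatorElement_def]; group
    rw [h2]
    exact commutatorElement_eq_one_iff_mul_comm.2 hvu
  rw [hD.1 j hj t ht, R.c0 29 (by norm_num) 44 (by norm_num) (by decide +kernel), mul_inv_cancel_right] at h1
  have h2 : ⁅v, e 29 a⁆ = e 44 (∑ i, D i * t i) := by
    rw [← R.inv (by norm_num) (∑ i, D i * t i)]
    exact eq_inv_of_mul_eq_one_left h1
  have h3 := (hD.2 a).2
  rw [h2] at h3
  have h4 := Fm.unique R h3 (Fm.zero R (r := 44) (by norm_num) (by decide +kernel) _)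
  have h5 : D = 0 := by
    funext i
    have h6 := congrFun h4 i.rev
    rw [Fin.rev_rev, Pi.zero_apply, mul_eq_zero] at h6
    exact h6.resolve_left ha
  have h6 := comm_of_D R hD h5
  obtain ⟨x, q, hq, rfl⟩ := cent_Js R h6
  have h7 : ⁅e 41 x * q, e 29 a⁆ = 1 := by
    rw [h2, h5]
    simp only [Pi.zero_apply, zero_mul, Finset.sum_const_zero]
    rw [R.zero (by norm_num)]
  have h8 : q * e 29 a = e 29 a * q :=
    (comm_Ul_Ql R (le_SP (by norm_num) (by decide +kernel) (R.e_mem (by norm_num) _)) hq).symm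
  have h9 : ⁅e 41 x, e 29 a⁆ = 1 := by
    rw [← h7]
    have h10 : ⁅e 41 x * q, e 29 a⁆ = e 41 x * (q * e 29 a * q⁻¹) * (e 41 x)⁻¹ * (e 29 a)⁻¹ := by
      rw [commutatorElement_def]; group
    rw [h10, h8, mul_inv_cancel_right, commutatorElement_def]
  rw [R.c2 41 29 44 47 (by decide +kernel)] at h9
  have h10 := (mul_sep R (by norm_num) (by norm_num) (by norm_num) h9).1
  have h11 : x = 0 := (mul_eq_zero.1 h10).resolve_right ha
  rw [h11, R.zero (by norm_num), one_mul]
  exact hq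

/-- **`comm`** : `[J_s, Q_s Q_l] ≤ X_σ` -/
theorem comm_Js {j v : Y} (hj : j ∈ SP X mJs) (hv : v ∈ SP X mQQ) : ⁅j, v⁆ ∈ X 44 := by
  obtain ⟨D, hD⟩ := exists_Dm R hv
  obtain ⟨t, ht⟩ := exists_Fm R (SP_mono (Q := mJ0) (by decide +kernel) hj)
  rw [← commutatorElement_inv, hD.1 j hj t ht]
  exact inv_mem (R.e_mem (by norm_num) _)

/-- **`triv`** : the group induced by `C(J_s)` on `U_l` is centralised by `U`. -/
theorem triv {s v : Y} (hs : s ∈ SP X mPo) (hv : ∀ j ∈ SP X mJs, v * j = j * v) : ⁅s, v⁆ ∈ SP X mQl := by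
  obtain ⟨x, q, hq, rfl⟩ := cent_Js R hv
  have hn : ∀ y ∈ SP X mPo, ∀ m ∈ SP X mQl, y * m * y⁻¹ ∈ SP X mQl := fun y hy m hm =>
    (Subgroup.mem_normalizer_iff.1 (R.norm_SP (P := mPo) (N := mQl) (by decide +kernel) hy) m).1 hm
  have h1 : ⁅s, e 41 x⁆ ∈ SP X mQl :=
    R.comm_SP (P := mPo) (Q := 2 ^ 41) (N := mQl) (by decide +kernel) (by decide +kernel) (by decide +kernel) hs
      (le_SP (by norm_num) (by decide +kernel) (R.e_mem (by norm_num) _))
  have h41 : e 41 x ∈ SP X mPo := le_SP (by norm_num) (by decide +kernel) (R.e_mem (by norm_num) _)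
  have h2 : ⁅s, e 41 x * q⁆ = ⁅s, e 41 x⁆ * (e 41 x * (s * q * s⁻¹ * q⁻¹) * (e 41 x)⁻¹) := by
    simp only [commutatorElement_def]; group
  rw [h2]
  exact mul_mem h1 (hn _ h41 _ (mul_mem (hn _ hs _ hq) (inv_mem hq)))

/-- **`fin`** : `[Q_l, v] ≤ U_l` for no `v ∈ X_41 Q_l - Q_l`. -/
theorem fin {v : Y} (hv : ∀ j ∈ SP X mJs, v * j = j * v)
    (h : ∀ s ∈ SP X mPo, ∃ u ∈ SP X mUl, u⁻¹ * s * v = v * (u⁻¹ * s)) : v ∈ SP X mQl := by
  obtain ⟨x, q, hq, rfl⟩ := cent_Js R hv
  obtain ⟨u, hu, h1⟩ := h (e 24 1) (le_SP (by norm_num) (by decide +kernel) (R.e_mem (by norm_num) _))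
  have hn : ∀ y ∈ SP X mPo, ∀ m ∈ SP X mUl, y * m * y⁻¹ ∈ SP X mUl := fun y hy m hm =>
    (Subgroup.mem_normalizer_iff.1 (R.norm_SP (P := mPo) (N := mUl) (by decide +kernel) hy) m).1 hm
  have h41 : e 41 x ∈ SP X mPo := le_SP (by norm_num) (by decide +kernel) (R.e_mem (by norm_num) _)
  have h24 : e 24 1 ∈ SP X mQl := le_SP (by norm_num) (by decide +kernel) (R.e_mem (by norm_num) _)
  have hqP : q ∈ SP X mPo := SP_mono (by decide +kernel) hq
  -- `[e_24, v] = [u, v] ∈ U_l`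
  have h2 : ⁅e 24 1, e 41 x * q⁆ ∈ SP X mUl := by
    have h3 : ⁅e 24 1, e 41 x * q⁆ = u * ((e 41 x * q) * u⁻¹ * (e 41 x * q)⁻¹) := by
      have h4 : e 24 1 * (e 41 x * q) = u * (e 41 x * q) * (u⁻¹ * e 24 1) := by
        calc e 24 1 * (e 41 x * q) = u * (u⁻¹ * e 24 1 * (e 41 x * q)) := by group
          _ = _ := by rw [h1]; group
      rw [commutatorElement_def, h4]
      group
    rw [h3]
    exact mul_mem hu (hn _ (mul_mem h41 hqP) _ (inv_mem hu))
  have h3 : ⁅e 24 1, e 41 x * q⁆ = ⁅e 24 1, e 41 x⁆ * (e 41 x * ⁅e 24 1, q⁆ * (e 41 x)⁻¹) := by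
    simp only [commutatorElement_def]; group
  have h4 : ⁅e 24 1, q⁆ ∈ SP X mUl := le_SP (by norm_num) (by decide +kernel) (comm_Ql R h24 hq)
  rw [h3, R.c1 24 41 42 (by decide +kernel), one_mul] at h2
  have h5 : e 42 x ∈ SP X mUl := by
    have h6 := mul_mem h2 (inv_mem (hn _ h41 _ h4))
    rwa [mul_inv_cancel_right] at h6
  -- `U_l` commutes with `e_32`, but `[e_42(x), e_32(1)] = e_47(x)`
  have h6 := comm_Ul_Ql R h5 (le_SP (r := 32) (by norm_num) (by decide +kernel) (R.e_mem (by norm_num) 1))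
  have h7 := R.c1 42 32 47 (by decide +kernel) x 1
  rw [commutatorElement_eq_one_iff_mul_comm.2 h6, mul_one] at h7
  rw [R.inj 47 (by norm_num) x h7.symm, R.zero (by norm_num), one_mul]
  exact hq

/-- **`mix`** : `[v, Q_s] = X_σ` for `v ∈ J₀ - U_s`. -/
theorem mix {v : Y} (hv : v ∈ SP X mJ0) (hU : v ∉ SP X mUs) {x : Y} (hx : x ∈ X 44) :
    ∃ y ∈ SP X mQQ, y * v * y⁻¹ = v * x := by
  obtain ⟨t, ht⟩ := exists_Fm R hv
  have h1 : ∃ i, t i ≠ 0 := by
    by_contra h1
    push Not at h1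
    exact hU (mem_Us R hv (by rwa [show t = 0 from funext h1] at ht))
  obtain ⟨i, hi⟩ := h1
  obtain ⟨u, rfl⟩ := (R.mem 44 (by norm_num) x).1 hx
  have hd : ∀ i, mQQ.testBit (dd i) = true := by decide +kernel
  refine ⟨e (dd i) (u / t i), le_SP (dd_lt i) (hd i) (R.e_mem (dd_lt i) _), ?_⟩
  rw [conj_e R, ht i, div_mul_cancel₀ u hi]
  exact (QQ_comm_44 R (SP_mono (by decide +kernel) hv) u).symm

end Cfsg.Agent.KFacts.F4Form
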