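import Cfsg.Agent.KFacts.RgdPar
import Cfsg.Agent.Nodes.Unique

/-!
Nilpotent closed sets of roots in arbitrary position (K-group facts for S1765, node D10).

* `inf_eq_of_pos` : `Sup X S ⊓ Sup X S' = Sup X (S ∩ S')` for closed sets of roots on which a functional `f` is positive;
* `cent_closed` : the centraliser in `Sup X S` of a subset of the torus is generated by the centralisers in the root
  groups;
* `isPGroup_of_fpos`.
-/

set_option autoImplicit false
set_option linter.unusedSectionVars false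

namespace Cfsg.Agent.KFacts.RgdInd

open CoxeterSystem Cfsg.Agent.ChevalleyStructure.CoxeterGeom Cfsg.Agent.Tits.Roots Cfsg.Agent.Tits.Core
  Cfsg.Agent.Tits.RootComb Cfsg.Agent.Nodes.Comb Cfsg.Agent.Nodes.Reps Cfsg.Agent.Nodes.BNOf
  Cfsg.Agent.Nodes.BNOf.RGD Cfsg.Agent.Nodes.Unique Cfsg.Agent.KFacts.RgdPar
open scoped commutatorElement

variable {I W Y : Type*} [Fintype I] [DecidableEq I] [Group W] [Group Y] {M : CoxeterMatrix I}
  {cs : CoxeterSystem M W} {A : I → I → ℤ} {h : IsCartan M A} {p : ℕ} {T : Subgroup Y} {n : I → Y}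
  {X : (I → ℤ) → Subgroup Y}

theorem exists_pos [Finite W] (f : (I → ℤ) →+ ℤ) : ∃ w : W, ∀ x, IsRoot cs h x → 0 < f x → rep cs h w⁻¹ x ∈ Pos cs h := by
  obtain ⟨w, hw⟩ := exists_dom (cs := cs) (h := h) f
  refine ⟨w, fun x hx hf => ⟨hx.act _, ?_⟩⟩
  rcases (hx.act w⁻¹).pos_or_neg with h1 | h1
  · exact h1
  · exfalso
    have h2 : 0 ≤ pull cs h f w (-rep cs h w⁻¹ x) := dom_nonneg hw (neg_nonneg.2 h1)
    rw [map_neg, pull_apply, rep_apply_inv] at h2
    omega

theorem closed_act {S : Set (I → ℤ)} (hc : Closed cs h S) (w : W) : Closed cs h {x | rep cs h w x ∈ S} := by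
  intro x hx y hy z hz
  exact hc _ hx _ hy _ (hz.act w)

theorem closed_singleton [Finite W] {x : I → ℤ} (hx : IsRoot cs h x) : Closed cs h {x} := by
  rintro a ha b hb z hz
  rw [Set.mem_singleton_iff] at ha hb ⊢
  subst ha hb
  exact btwn_self hx hz

variable (R : RGD cs h p T n X)

include R

/-- **Unique factorisation** for closed sets on which `f` is positive. -/
theorem inf_eq_of_pos [Finite W] (f : (I → ℤ) →+ ℤ) {S S' : Set (I → ℤ)} (hS : ∀ x ∈ S, IsRoot cs h x ∧ 0 < f x)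
    (hS' : ∀ x ∈ S', IsRoot cs h x ∧ 0 < f x) (hc : Closed cs h S) (hc' : Closed cs h S') :
    Sup X S ⊓ Sup X S' = Sup X (S ∩ S') := by
  obtain ⟨w, hw⟩ := exists_pos (cs := cs) (h := h) f
  obtain ⟨k, hk⟩ := exists_rp cs R.nsys w⁻¹
  have key : ∀ S : Set (I → ℤ), (∀ x ∈ S, IsRoot cs h x) → cj k (Sup X S) = Sup X {x | rep cs h w x ∈ S} := by
    intro S hS
    have := cj_Sup_eq R hk hS
    rwa [inv_inv] at this
  have h1 := inf_eq R (S := {x | rep cs h w x ∈ S}) (S' := {x | rep cs h w x ∈ S'})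
    (fun x hx => by
      have := hw _ (hS _ hx).1 (hS _ hx).2
      rwa [rep_inv_apply] at this)
    (fun x hx => by
      have := hw _ (hS' _ hx).1 (hS' _ hx).2
      rwa [rep_inv_apply] at this) (closed_act hc w) (closed_act hc' w)
  rw [← key S fun x hx => (hS x hx).1, ← key S' fun x hx => (hS' x hx).1] at h1
  have h2 : Sup X ({x | rep cs h w x ∈ S} ∩ {x | rep cs h w x ∈ S'}) = cj k (Sup X (S ∩ S')) := by
    rw [key _ fun x hx => (hS x hx.1).1]
    rfl
  rw [h2] at h1
  apply le_antisymm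
  · intro g hg
    have h3 : k * g * k⁻¹ ∈ cj k (Sup X S) ⊓ cj k (Sup X S') := ⟨conj_mem_cj.2 hg.1, conj_mem_cj.2 hg.2⟩
    rw [h1] at h3
    exact conj_mem_cj.1 h3
  · exact le_inf (Sup_mono Set.inter_subset_left) (Sup_mono Set.inter_subset_right)

/-- centralisers of subsets of the torus, standard position -/
theorem cent_fut [Finite W] (w : W) {S : Set (I → ℤ)} (hS : S ⊆ Fut cs h w) (hc : Closed cs h S) {C : Set Y}
    (hC : C ⊆ T) {g : Y} (hg : g ∈ Sup X S) (hgC : g ∈ Subgroup.centralizer C) :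
    g ∈ Sup (fun x => X x ⊓ Subgroup.centralizer C) S := by
  induction hn : (Fut cs h w).ncard generalizing w S g with
  | zero =>
    have h1 := (Set.ncard_eq_zero (finite_fut w)).1 hn
    rw [h1, Set.subset_empty_iff] at hS
    subst hS
    have h2 : g ∈ (⊥ : Subgroup Y) := (Sup_le fun z hz => absurd hz (Set.notMem_empty z) : Sup X ∅ ≤ ⊥) hg
    rw [Subgroup.mem_bot.1 h2]
    exact one_mem _
  | succ k ih =>
    have hne : (Fut cs h w).Nonempty := by
      rw [Set.nonempty_iff_ne_empty]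
      intro h1
      rw [h1, Set.ncard_empty] at hn
      omega
    obtain ⟨y, hy⟩ := hne
    obtain ⟨i, hi⟩ := exists_simple hy
    set x := rep cs h w (sr i) with hxdef
    have hcard : (Fut cs h (w * cs.simple i)).ncard = k := by
      rw [fut_mul hi, Set.ncard_sdiff_singleton_of_mem (mem_fut hi), hn]
      rfl
    have hsub : S \ {x} ⊆ Fut cs h (w * cs.simple i) := by
      rw [fut_mul hi]
      exact Set.sdiff_subset_sdiff_left hS
    have key := fun {g : Y} => ih (g := g) (w * cs.simple i) hsub (closed_diff hi hS hc)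
    by_cases hx : x ∈ S
    · obtain ⟨a, ha, b, hb, rfl⟩ := (mem_peel R (hS.trans (fut_subset_pos w)) hc hx).1 hg
      have hT : T ≤ Subgroup.normalizer (Sup X (S \ {x}) : Set Y) := R.T_le_normalizer fun z hz => (hS hz.1).1
      have h1 : ∀ c ∈ C, c * a * c⁻¹ = a ∧ c * b * c⁻¹ = b := by
        intro c hcC
        have e1 := Subgroup.mem_centralizer_iff.1 hgC c hcC
        have e2 : c * a * c⁻¹ * (c * b * c⁻¹) = a * b := by
          calc c * a * c⁻¹ * (c * b * c⁻¹) = c * (a * b) * c⁻¹ := by group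
            _ = a * b := by rw [e1]; group
        have e3 : c * a * c⁻¹ ∈ X x := by
          rw [← R.tor x (hS hx).1 c (hC hcC)]; exact conj_mem_cj.2 ha
        have e4 : c * b * c⁻¹ ∈ Sup X (S \ {x}) := (Subgroup.mem_normalizer_iff.1 (hT (hC hcC)) b).1 hb
        have e5 : a⁻¹ * (c * a * c⁻¹) = b * (c * b * c⁻¹)⁻¹ := by
          have : a⁻¹ * (c * a * c⁻¹) = a⁻¹ * (c * a * c⁻¹ * (c * b * c⁻¹)) * (c * b * c⁻¹)⁻¹ := by group
          rw [this, e2]; group
        have e6 : a⁻¹ * (c * a * c⁻¹) ∈ X x ⊓ Sup X (Fut cs h (w * cs.simple i)) :=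
          Subgroup.mem_inf.2 ⟨mul_mem (inv_mem ha) e3, by rw [e5]; exact Sup_mono hsub (mul_mem hb (inv_mem e4))⟩
        rw [hxdef, tail_inf R, Subgroup.mem_bot] at e6
        have e7 : c * a * c⁻¹ = a := (inv_mul_eq_one.1 e6).symm
        refine ⟨e7, ?_⟩
        rw [e7] at e2
        exact mul_left_cancel e2
      have ha' : a ∈ Subgroup.centralizer C := Subgroup.mem_centralizer_iff.2 fun c hcC =>
        mul_inv_eq_iff_eq_mul.1 (h1 c hcC).1
      have hb' : b ∈ Subgroup.centralizer C := Subgroup.mem_centralizer_iff.2 fun c hcC =>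
        mul_inv_eq_iff_eq_mul.1 (h1 c hcC).2
      refine mul_mem (le_Sup (X := fun x => X x ⊓ Subgroup.centralizer C) hx ⟨ha, ha'⟩) ?_
      exact Sup_mono (X := fun x => X x ⊓ Subgroup.centralizer C) Set.sdiff_subset (key hb hb' hcard)
    · have h1 : S \ {x} = S := Set.sdiff_singleton_eq_self hx
      have h2 := key (g := g) (by rw [h1]; exact hg) hgC hcard
      rwa [h1] at h2

/-- **The centraliser in `Sup X S` of a subset of the torus.** -/
theorem cent_closed [Finite W] (f : (I → ℤ) →+ ℤ) {S : Set (I → ℤ)} (hS : ∀ x ∈ S, IsRoot cs h x ∧ 0 < f x)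
    (hc : Closed cs h S) {C : Set Y} (hC : C ⊆ T) {g : Y} (hg : g ∈ Sup X S) (hgC : g ∈ Subgroup.centralizer C) :
    g ∈ Sup (fun x => X x ⊓ Subgroup.centralizer C) S := by
  obtain ⟨w, hw⟩ := exists_pos (cs := cs) (h := h) f
  obtain ⟨k, hk⟩ := exists_rp cs R.nsys w⁻¹
  have key : cj k (Sup X S) = Sup X {x | rep cs h w x ∈ S} := by
    have := cj_Sup_eq R hk fun x hx => (hS x hx).1
    rwa [inv_inv] at this
  have h1 : k * g * k⁻¹ ∈ Sup X {x | rep cs h w x ∈ S} := by
    rw [← key]; exact conj_mem_cj.2 hg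
  let C' : Set Y := (fun c => k * c * k⁻¹) '' C
  have hC' : C' ⊆ T := by
    rintro _ ⟨c, hcC, rfl⟩
    exact (Subgroup.mem_normalizer_iff.1 hk.mem_normalizer c).1 (hC hcC)
  have h2 : k * g * k⁻¹ ∈ Subgroup.centralizer C' := by
    rw [Subgroup.mem_centralizer_iff]
    rintro _ ⟨c, hcC, rfl⟩
    have := Subgroup.mem_centralizer_iff.1 hgC c hcC
    calc k * c * k⁻¹ * (k * g * k⁻¹) = k * (c * g) * k⁻¹ := by group
      _ = k * g * k⁻¹ * (k * c * k⁻¹) := by rw [this]; group
  have h3 := cent_fut R 1 (S := {x | rep cs h w x ∈ S}) (by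
    rw [fut_one]
    intro x hx
    have := hw _ (hS _ hx).1 (hS _ hx).2
    rwa [rep_inv_apply] at this) (closed_act hc w) hC' h1 h2
  have h4 : Sup (fun x => X x ⊓ Subgroup.centralizer C') {x | rep cs h w x ∈ S} ≤
      cj k (Sup (fun x => X x ⊓ Subgroup.centralizer C) S) := by
    refine Sup_le fun x hx => ?_
    rintro u ⟨hu, hu'⟩
    rw [mem_cj]
    have hxr : IsRoot cs h x := by
      have := (hS _ hx).1.act w⁻¹
      rwa [rep_inv_apply] at this
    refine le_Sup (X := fun x => X x ⊓ Subgroup.centralizer C) (S := S) hx (Subgroup.mem_inf.2 ⟨?_, ?_⟩)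
    · have h5 := R.conj_rp hk (x := rep cs h w x) (hS _ hx).1
      rw [rep_inv_apply] at h5
      rw [← mem_cj, h5]
      exact hu
    · rw [Subgroup.mem_centralizer_iff]
      intro c hcC
      have h6 := Subgroup.mem_centralizer_iff.1 hu' _ ⟨c, hcC, rfl⟩
      calc c * (k⁻¹ * u * k) = k⁻¹ * (k * c * k⁻¹ * u) * k := by group
        _ = k⁻¹ * u * k * c := by rw [h6]; group
  have h5 := h4 h3
  exact conj_mem_cj.1 h5

theorem isPGroup_of_fpos [Finite W] (f : (I → ℤ) →+ ℤ) {S : Set (I → ℤ)} (hS : ∀ x ∈ S, IsRoot cs h x ∧ 0 < f x) :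
    IsPGroup p ↥(Sup X S) := by
  obtain ⟨w, hw⟩ := exists_pos (cs := cs) (h := h) f
  obtain ⟨k, hk⟩ := exists_rp cs R.nsys w⁻¹
  have key : cj k (Sup X S) = Sup X {x | rep cs h w x ∈ S} := by
    have := cj_Sup_eq R hk fun x hx => (hS x hx).1
    rwa [inv_inv] at this
  have h1 : IsPGroup p ↥(Sup X {x | rep cs h w x ∈ S}) := R.isPGroup_of_pos fun x hx => by
    have := hw _ (hS _ hx).1 (hS _ hx).2
    rwa [rep_inv_apply] at this
  rw [← key] at h1
  have h2 : Nat.card ↥(cj k (Sup X S)) = Nat.card ↥(Sup X S) :=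
    Nat.card_congr ((Sup X S).equivMapOfInjective _ (MulAut.conj k).injective).toEquiv.symm
  exact h1.of_equiv ((Sup X S).equivMapOfInjective _ (MulAut.conj k).injective).symm

/-- A torus element with a trivial fixed point on the root groups of `S` has none in `Sup X S`. -/
theorem eq_one_of_cent [Finite W] (f : (I → ℤ) →+ ℤ) {S : Set (I → ℤ)} (hS : ∀ x ∈ S, IsRoot cs h x ∧ 0 < f x)
    (hc : Closed cs h S) {t : Y} (ht : t ∈ T) (h1 : ∀ x ∈ S, ∀ u ∈ X x, t * u = u * t → u = 1) {g : Y}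
    (hg : g ∈ Sup X S) (hgt : t * g = g * t) : g = 1 := by
  have h2 := cent_closed R f hS hc (C := {t}) (by rintro _ rfl; exact ht) hg
    (Subgroup.mem_centralizer_singleton_iff.2 hgt.symm)
  have h3 : Sup (fun x => X x ⊓ Subgroup.centralizer ({t} : Set Y)) S ≤ ⊥ := by
    refine Sup_le fun x hx => ?_
    rintro u ⟨hu, hu'⟩
    rw [Subgroup.mem_bot]
    exact h1 x hx u hu (Subgroup.mem_centralizer_singleton_iff.1 hu').symm
  exact Subgroup.mem_bot.1 (h3 h2)

end Cfsg.Agent.KFacts.RgdInd
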