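import Cfsg.Agent.KFacts.F4Torus
import Cfsg.Agent.KFacts.RgdInd
import Cfsg.Agent.Nodes.OppDec
import Cfsg.Agent.OddHalf.D7F4.Model

/-!
`F₄(q)`, `q` even: the K-facts over the explicit root system `D7F4.Model` (K-group facts for S1765, node D10; F4).

* `phi_iff`, `cpr_of_short`, `cpr_of_long`, `lg_iff` : translation;
* `KPart B Φ X` : the K-part of `D7F4.PatA`;
* `kpart K : KPart Model.B Model.Phi (XF K)`, `kpart_dual K : KPart Model.B Model.Phi (fun a => XF K (Model.dual a))`.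
-/

set_option autoImplicit false
set_option Elab.async false

namespace Cfsg.Agent.KFacts.F4Model

open CoxeterSystem Cfsg.Agent.ChevalleyStructure.CoxeterGeom Cfsg.Agent.Tits.Roots Cfsg.Agent.Tits.Core
open Cfsg.Lie Cfsg.Agent.ChevalleyStructure Cfsg.Agent.ChevalleyStructure.Elts
  Cfsg.Agent.ChevalleyStructure.RootVec Cfsg.Agent.ChevalleyStructure.CoxeterGeomTypes
open Cfsg.Agent.Nodes Cfsg.Agent.Nodes.Reps Cfsg.Agent.Nodes.BNOf Cfsg.Agent.Nodes.RGDChev Cfsg.Agent.Nodes.Coroot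
  Cfsg.Agent.Nodes.KindF Cfsg.Agent.KFacts.ChevTwo Cfsg.Agent.KFacts.ChevTwoTab Cfsg.Agent.KFacts.ChevTwoInst
  Cfsg.Agent.KFacts.F4Star Cfsg.Agent.KFacts.F4Cent Cfsg.Agent.KFacts.F4Pair Cfsg.Agent.KFacts.F4Torus
  Cfsg.Agent.OddHalf.D7F4
open scoped commutatorElement

universe u

/-! ### The K-part -/

/-- The K-part of `D7F4.PatA`. -/
structure KPart {L K : Type*} [AddCommGroup L] [Group K] (B : L → L → ℤ) (Φ : Set L) (X : L → Subgroup K) :
    Prop where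
  Xne : ∀ a ∈ Φ, ∃ x ∈ X a, x ≠ 1
  Xsq : ∀ a ∈ Φ, ∀ x ∈ X a, x * x = 1
  X0 : ∀ a ∈ Φ, ∀ b ∈ Φ, 0 ≤ B a b → ∀ x ∈ X a, ∀ y ∈ X b, x * y = y * x
  X1 : ∀ a ∈ Φ, ∀ b ∈ Φ, B a a = B b b → B a b < 0 → a ≠ -b → ∀ x ∈ X a, ∀ y ∈ X b, x * y * x⁻¹ * y⁻¹ ∈ X (a + b)
  X1nd : ∀ a ∈ Φ, ∀ b ∈ Φ, B a a = B b b → B a b < 0 → a ≠ -b → ∀ x ∈ X a, ∀ y ∈ X b, x * y = y * x →
    x = 1 ∨ y = 1
  X1surj : ∀ a ∈ Φ, ∀ b ∈ Φ, B a a = B b b → B a b < 0 → a ≠ -b → ∀ y ∈ X b, y ≠ 1 → ∀ z ∈ X (a + b),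
    ∃ x ∈ X a, x * y * x⁻¹ * y⁻¹ = z
  X2 : ∀ a ∈ Φ, ∀ b ∈ Φ, B a a = 4 → B b b = 2 → B a b = -2 → ∀ x ∈ X a, ∀ y ∈ X b,
    ∃ z ∈ X (a + b), ∃ w ∈ X (a + b + b), x * y * x⁻¹ * y⁻¹ = z * w
  X2nd : ∀ a ∈ Φ, ∀ b ∈ Φ, B a a = 4 → B b b = 2 → B a b = -2 → ∀ x ∈ X a, ∀ y ∈ X b, x * y = y * x → x = 1 ∨ y = 1
  ind : ∀ a ∈ Φ, ∀ b ∈ Φ, a ≠ b → ∀ x ∈ X a, x ∈ X b → x = 1
  ind3 : ∀ a ∈ Φ, ∀ b ∈ Φ, B a a = 2 → B b b = 2 → B a b = 0 → ∀ x ∈ X a, ∀ y ∈ X b, ∀ z ∈ X (a + b),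
    x * y * z = 1 → x = 1
  K2 : ∀ s ∈ Φ, ∀ s' ∈ Φ, B s s = 2 → B s' s' = 2 → B s s' < 2 → -2 < B s s' → ∀ c : K,
    (∀ a ∈ Φ, (B a a = 4 ∧ 0 ≤ B a s ∧ 0 ≤ B a s' ∨ B a a = 2 ∧ 0 < B a s ∧ 0 < B a s') →
      ∀ x ∈ X a, c * x = x * c) →
    ∃ x ∈ X s, ∃ y ∈ X s', ∃ z, (B s s' = 1 ∧ z = 1 ∨ B s s' ≤ 0 ∧ z ∈ X (s + s')) ∧ c = x * y * z

/-! ### Translation -/

set_option backward.isDefEq.respectTransparency false in
theorem rts_eq : Model.rts = (List.range 48).map fun r => v r := by decide +kernel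

theorem formChk : ((List.range 48).all fun r => (List.range 48).all fun s =>
    decide (2 * Model.B (v s) (v r) = carB chevF4 r s * Model.B (v r) (v r))) = true := by decide +kernel

theorem lenChk : ((List.range 48).all fun r =>
    longM.testBit r == decide (Model.B (v r) (v r) = 4)) = true := by decide +kernel

section W

variable {W : Type*} [Group W] (cs : CoxeterSystem CoxeterMatrix.F₄ W)

theorem phi_iff (x : Fin 4 → ℤ) : x ∈ Model.Phi ↔ IsRoot cs isType.isCartan x := by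
  show x ∈ Model.rts ↔ _
  rw [rts_eq, List.mem_map]
  constructor
  · rintro ⟨r, hr, rfl⟩
    exact isRoot_v cs (List.mem_range.1 hr)
  · intro hx
    obtain ⟨r, hr, e⟩ := exists_v cs hx
    exact ⟨r, List.mem_range.2 hr, e⟩

theorem two_B {x y : Fin 4 → ℤ} (hx : x ∈ Model.Phi) (hy : y ∈ Model.Phi) :
    2 * Model.B x y = cpr cs isType.isCartan x y * Model.B y y := by
  rw [phi_iff cs] at hx hy
  obtain ⟨s, hs, rfl⟩ := exists_v cs hx
  obtain ⟨r, hr, rfl⟩ := exists_v cs hy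
  rw [cpr_v cs hr hs]
  exact of_decide_eq_true (List.all_eq_true.1 (List.all_eq_true.1 formChk r (List.mem_range.2 hr)) s
    (List.mem_range.2 hs))

theorem cpr_of_short {x y : Fin 4 → ℤ} (hx : x ∈ Model.Phi) (hy : y ∈ Model.Phi) (h : Model.B y y = 2) :
    cpr cs isType.isCartan x y = Model.B x y := by
  have := two_B cs hx hy
  rw [h] at this
  omega

theorem cpr_of_long {x y : Fin 4 → ℤ} (hx : x ∈ Model.Phi) (hy : y ∈ Model.Phi) (h : Model.B y y = 4) :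
    2 * cpr cs isType.isCartan x y = Model.B x y := by
  have := two_B cs hx hy
  rw [h] at this
  omega

theorem lg_iff {x : Fin 4 → ℤ} (hx : x ∈ Model.Phi) : Lg cs x ↔ Model.B x x = 4 := by
  rw [phi_iff cs] at hx
  obtain ⟨r, hr, rfl⟩ := exists_v cs hx
  rw [← testBit_long cs hr, beq_iff_eq.1 (List.all_eq_true.1 lenChk r (List.mem_range.2 hr)), decide_eq_true_iff]

theorem sh_iff {x : Fin 4 → ℤ} (hx : x ∈ Model.Phi) : Sh cs x ↔ Model.B x x = 2 := by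
  have h1 := lg_iff cs hx
  have h2 := Model.roots.norm x hx
  unfold Sh
  rw [h1]
  constructor
  · rintro ⟨-, h⟩; omega
  · intro h; exact ⟨(phi_iff cs x).1 hx, by omega⟩

theorem cpr_nonneg_iff {x y : Fin 4 → ℤ} (hx : x ∈ Model.Phi) (hy : y ∈ Model.Phi) :
    0 ≤ cpr cs isType.isCartan x y ↔ 0 ≤ Model.B x y := by
  rcases Model.roots.norm y hy with h | h
  · rw [cpr_of_short cs hx hy h]
  · have := cpr_of_long cs hx hy h
    omega

theorem cpr_pos_iff' {x y : Fin 4 → ℤ} (hx : x ∈ Model.Phi) (hy : y ∈ Model.Phi) :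
    1 ≤ cpr cs isType.isCartan x y ↔ 0 < Model.B x y := by
  rcases Model.roots.norm y hy with h | h
  · rw [cpr_of_short cs hx hy h]; omega
  · have := cpr_of_long cs hx hy h
    omega

theorem cpr_zero_iff' {x y : Fin 4 → ℤ} (hx : x ∈ Model.Phi) (hy : y ∈ Model.Phi) :
    cpr cs isType.isCartan x y = 0 ↔ Model.B x y = 0 := by
  rcases Model.roots.norm y hy with h | h
  · rw [cpr_of_short cs hx hy h]
  · have := cpr_of_long cs hx hy h
    omega

/-- two roots of the same length with negative product -/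
theorem cpr_same {a b : Fin 4 → ℤ} (ha : a ∈ Model.Phi) (hb : b ∈ Model.Phi) (hl : Model.B a a = Model.B b b)
    (h : Model.B a b < 0) (hab : a ≠ -b) :
    cpr cs isType.isCartan a b = -1 ∧ cpr cs isType.isCartan b a = -1 := by
  have hna := Model.roots.neg_mem a ha
  have e1 : Model.B (-a) b = -Model.B a b := Model.roots.neg_left a b
  have e2 : Model.B (-a) (-a) = Model.B a a := by rw [Model.roots.neg_left, Model.roots.neg_right, _root_.neg_neg]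
  have hne : -a ≠ b := fun h0 => hab (by rw [← h0, _root_.neg_neg])
  have e3 := Model.roots.symm b a
  rcases Model.roots.norm b hb with h1 | h1
  · have h2 := Model.roots.ss _ hna b hb (by rw [e2, hl, h1]) h1
    rw [e1] at h2
    have h3 : Model.B a b = -1 := by
      rcases eq_or_ne (Model.B a b) (-2) with h4 | h4
      · exact absurd (h2.2 (by omega)) hne
      · omega
    rw [cpr_of_short cs ha hb h1, cpr_of_short cs hb ha (by rw [hl, h1]), e3]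
    exact ⟨h3, h3⟩
  · have h2 := Model.roots.ll _ hna b hb (by rw [e2, hl, h1]) h1
    rw [e1] at h2
    have h3 : Model.B a b = -2 := by
      rcases eq_or_ne (Model.B a b) (-4) with h4 | h4
      · exact absurd (h2.2.2 (by omega)) hne
      · omega
    have h5 := cpr_of_long cs ha hb h1
    have h6 := cpr_of_long cs hb ha (by rw [hl, h1])
    omega

/-- long and short, 135° -/
theorem cpr_ls {a b : Fin 4 → ℤ} (ha : a ∈ Model.Phi) (hb : b ∈ Model.Phi) (hl : Model.B a a = 4)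
    (hs : Model.B b b = 2) (h : Model.B a b = -2) :
    cpr cs isType.isCartan a b = -2 ∧ cpr cs isType.isCartan b a = -1 := by
  have h1 := cpr_of_short cs ha hb hs
  have h2 := cpr_of_long cs hb ha hl
  have h3 := Model.roots.symm b a
  omega

end W

/-! ### Products of subgroups -/

theorem mem_sup3 {K : Type*} [Group K] {A B C : Subgroup K} (hAC : ∀ a ∈ A, ∀ c ∈ C, a * c = c * a)
    (hBC : ∀ b ∈ B, ∀ c ∈ C, b * c = c * b) (hAB : ∀ a ∈ A, ∀ b ∈ B, ∃ c ∈ C, b * a = a * b * c) {g : K}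
    (hg : g ∈ A ⊔ B ⊔ C) : ∃ a ∈ A, ∃ b ∈ B, ∃ c ∈ C, g = a * b * c := by
  let H : Subgroup K :=
    { carrier := {g | ∃ a ∈ A, ∃ b ∈ B, ∃ c ∈ C, g = a * b * c}
      one_mem' := ⟨1, one_mem _, 1, one_mem _, 1, one_mem _, by group⟩
      mul_mem' := by
        rintro _ _ ⟨a, ha, b, hb, c, hc, rfl⟩ ⟨a', ha', b', hb', c', hc', rfl⟩
        obtain ⟨k, hk, e⟩ := hAB a' ha' b hb
        refine ⟨a * a', mul_mem ha ha', b * b', mul_mem hb hb', k * c * c', mul_mem (mul_mem hk hc) hc', ?_⟩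
        have e1 := hAC a' ha' c hc
        have e2 := hBC b' hb' c hc
        have e3 := hBC b' hb' k hk
        calc a * b * c * (a' * b' * c') = a * b * (c * a') * b' * c' := by group
          _ = a * (b * a') * (c * b') * c' := by rw [← e1]; group
          _ = a * a' * b * (k * b') * c * c' := by rw [e, ← e2]; group
          _ = _ := by rw [← e3]; group
      inv_mem' := by
        rintro _ ⟨a, ha, b, hb, c, hc, rfl⟩
        obtain ⟨k, hk, e⟩ := hAB a⁻¹ (inv_mem ha) b⁻¹ (inv_mem hb)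
        refine ⟨a⁻¹, inv_mem ha, b⁻¹, inv_mem hb, k * c⁻¹, mul_mem hk (inv_mem hc), ?_⟩
        have e1 := hAC a⁻¹ (inv_mem ha) c⁻¹ (inv_mem hc)
        have e2 := hBC b⁻¹ (inv_mem hb) c⁻¹ (inv_mem hc)
        calc (a * b * c)⁻¹ = c⁻¹ * b⁻¹ * a⁻¹ := by group
          _ = b⁻¹ * (c⁻¹ * a⁻¹) := by rw [← e2]; group
          _ = b⁻¹ * a⁻¹ * c⁻¹ := by rw [← e1]; group
          _ = _ := by rw [e]; group }
  have h1 : A ⊔ B ⊔ C ≤ H := by
    refine sup_le (sup_le ?_ ?_) ?_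
    · intro a ha; exact ⟨a, ha, 1, one_mem _, 1, one_mem _, by group⟩
    · intro b hb; exact ⟨1, one_mem _, b, hb, 1, one_mem _, by group⟩
    · intro c hc; exact ⟨1, one_mem _, 1, one_mem _, c, hc, by group⟩
  exact h1 hg

section Grp

variable (K : Type u) [Field K] [Finite K] [CharP K 2]

/-- the Coxeter system used -/
abbrev cF : CoxeterSystem CoxeterMatrix.F₄ CoxeterMatrix.F₄.Group := CoxeterMatrix.F₄.toCoxeterSystem

theorem finW : Finite CoxeterMatrix.F₄.Group := finite_W isType cF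

variable {K}

theorem mem_X {a : Fin 4 → ℤ} (ha : a ∈ Model.Phi) {x : ↥(chevF4.group K)} : x ∈ XF K a ↔ ∃ t, eF K a t = x :=
  mem_XF_iff cF ((phi_iff cF a).1 ha)

theorem dat : Data cF isType.isCartan (eF K) := by
  have := finW
  exact (sysF (K := K) cF).data

theorem e_eq_one {a : Fin 4 → ℤ} (ha : a ∈ Model.Phi) {t : K} (h : eF K a t = 1) : t = 0 :=
  (dat (K := K)).inj a ((phi_iff cF a).1 ha) t h

theorem e_zero {a : Fin 4 → ℤ} (ha : a ∈ Model.Phi) : eF K a (0 : K) = 1 := (dat (K := K)).zero ((phi_iff cF a).1 ha)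

theorem X0 {a b : Fin 4 → ℤ} (ha : a ∈ Model.Phi) (hb : b ∈ Model.Phi) (h : 0 ≤ Model.B a b) :
    ∀ x ∈ XF K a, ∀ y ∈ XF K b, x * y = y * x := by
  have := finW
  intro x hx y hy
  obtain ⟨t, rfl⟩ := (mem_X ha).1 hx
  obtain ⟨u, rfl⟩ := (mem_X hb).1 hy
  exact (dat (K := K)).comm_of_nonneg ((phi_iff cF a).1 ha) ((phi_iff cF b).1 hb) ((cpr_nonneg_iff cF ha hb).2 h) t u

theorem comm1 {a b : Fin 4 → ℤ} (ha : a ∈ Model.Phi) (hb : b ∈ Model.Phi) (hl : Model.B a a = Model.B b b)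
    (h : Model.B a b < 0) (hab : a ≠ -b) (t u : K) : ⁅eF K a t, eF K b u⁆ = eF K (a + b) (t * u) := by
  obtain ⟨h1, h2⟩ := cpr_same cF ha hb hl h hab
  exact (dat (K := K)).comm1 a b ((phi_iff cF a).1 ha) ((phi_iff cF b).1 hb) h1 h2 t u

theorem comm2 {a b : Fin 4 → ℤ} (ha : a ∈ Model.Phi) (hb : b ∈ Model.Phi) (hl : Model.B a a = 4)
    (hs : Model.B b b = 2) (h : Model.B a b = -2) (t u : K) :
    ⁅eF K a t, eF K b u⁆ = eF K (a + b) (t * u) * eF K (a + b + b) (t * u ^ 2) := by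
  obtain ⟨h1, h2⟩ := cpr_ls cF ha hb hl hs h
  have h3 := (dat (K := K)).comm2 a b ((phi_iff cF a).1 ha) ((phi_iff cF b).1 hb) h1 h2 t u
  rw [two_smul, ← add_assoc] at h3
  exact h3

theorem ind {a b : Fin 4 → ℤ} (ha : a ∈ Model.Phi) (hb : b ∈ Model.Phi) (hab : a ≠ b) :
    ∀ x ∈ XF K a, x ∈ XF K b → x = 1 := by
  have := finW
  have : Fact (Nat.Prime 2) := ⟨Nat.prime_two⟩
  intro x hx hx'
  have h1 := OppDec.X_inf_X (rgd (K := K) isType cF 2) ((phi_iff cF a).1 ha) ((phi_iff cF b).1 hb) hab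
  have h2 : x ∈ XF K a ⊓ XF K b := ⟨hx, hx'⟩
  rw [h1, Subgroup.mem_bot] at h2
  exact h2

/-- three root groups of a positive closed system: `X_a ∩ X_b X_c = 1` -/
theorem ind3' {a b c : Fin 4 → ℤ} (ha : a ∈ Model.Phi) (hb : b ∈ Model.Phi) (hc : c ∈ Model.Phi)
    (hab : a ≠ b) (hac : a ≠ c) (f : (Fin 4 → ℤ) →+ ℤ) (fa : 0 < f a) (fb : 0 < f b) (fc : 0 < f c)
    (hcl : Unique.Closed cF isType.isCartan {b, c}) :
    ∀ x ∈ XF K a, ∀ y ∈ XF K b, ∀ z ∈ XF K c, x * (y * z) = 1 → x = 1 := by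
  have := finW
  have : Fact (Nat.Prime 2) := ⟨Nat.prime_two⟩
  intro x hx y hy z hz h
  have h1 := RgdInd.inf_eq_of_pos (rgd (K := K) isType cF 2) f (S := {a}) (S' := {b, c})
    (by intro w hw; rw [Set.mem_singleton_iff] at hw; rw [hw]; exact ⟨(phi_iff cF a).1 ha, fa⟩)
    (by
      rintro x (rfl | hx)
      · exact ⟨(phi_iff cF _).1 hb, fb⟩
      · rw [Set.mem_singleton_iff] at hx
        subst hx
        exact ⟨(phi_iff cF _).1 hc, fc⟩)
    (RgdInd.closed_singleton ((phi_iff cF a).1 ha)) hcl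
  have h2 : x ∈ RGD.Sup (XF K) {a} ⊓ RGD.Sup (XF K) {b, c} := by
    refine Subgroup.mem_inf.2 ⟨RGD.le_Sup (S := {a}) rfl hx, ?_⟩
    rw [eq_inv_of_mul_eq_one_left h]
    exact inv_mem (mul_mem (RGD.le_Sup (S := {b, c}) (Or.inl rfl) hy) (RGD.le_Sup (S := {b, c}) (Or.inr rfl) hz))
  rw [h1] at h2
  have h3 : ({a} ∩ {b, c} : Set (Fin 4 → ℤ)) = ∅ := by
    ext w
    simp only [Set.mem_inter_iff, Set.mem_singleton_iff, Set.mem_insert_iff, Set.mem_empty_iff_false, iff_false]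
    rintro ⟨rfl, h4 | h4⟩
    · exact hab h4
    · exact hac h4
  rw [h3] at h2
  exact Subgroup.mem_bot.1 ((RGD.Sup_le fun z hz => absurd hz (Set.notMem_empty z) : RGD.Sup (XF K) ∅ ≤ ⊥) h2)

end Grp

end Cfsg.Agent.KFacts.F4Model
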