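import Cfsg.Agent.KFacts.F4Two

/-!
`F₄(q)`, `q ≥ 2` even: counting, in a chart `F4Rl.Rl` (K-group facts for OMEGA, NodeAll h1; F4).

* `card` : `|X_σ| |J_s| ≤ |U_l|`;
* `off` : `|V| |C_{U_l}(V)| ≤ |U_l| |C_V(U_l)|` for `V ≤ Q_s Q_l`.
-/

set_option autoImplicit false
set_option Elab.async false
set_option linter.unusedSectionVars false

namespace Cfsg.Agent.KFacts.F4Off

open Cfsg.Agent.KFacts.F4Star Cfsg.Agent.KFacts.F4Rl Cfsg.Agent.KFacts.F4Side Cfsg.Agent.KFacts.F4Form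
  Cfsg.Agent.KFacts.F4Two
open scoped commutatorElement

/-! ### Counting -/

theorem perp_card {F : Type*} [Field F] [Finite F] (S : Set (Fin 4 → F)) :
    Nat.card S * Nat.card {t : Fin 4 → F | ∀ b ∈ S, ∑ i, b i * t i = 0} ≤ Nat.card F ^ 4 := by
  obtain ⟨W, hW⟩ : ∃ W : Submodule F (Fin 4 → F), W = Submodule.span F S := ⟨_, rfl⟩
  obtain ⟨B, hB⟩ : ∃ B : LinearMap.BilinForm F (Fin 4 → F), B = (dotProductEquiv F (Fin 4)).toLinearMap := ⟨_, rfl⟩
  have hBi : LinearMap.ker B = ⊥ := by rw [hB]; exact LinearEquiv.ker _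
  have hBa : ∀ b t, B b t = ∑ i, b i * t i := by intro b t; rw [hB]; rfl
  have h1 := LinearMap.BilinForm.finrank_add_finrank_orthogonal' (B := B) W
  rw [hBi, inf_bot_eq, finrank_bot, add_zero, Module.finrank_fin_fun] at h1
  have h2 : Nat.card S ≤ Nat.card W := Nat.card_mono (Set.toFinite _) (by
    intro x hx; rw [hW]; exact Submodule.subset_span hx)
  have h3 : Nat.card {t : Fin 4 → F | ∀ b ∈ S, ∑ i, b i * t i = 0} ≤ Nat.card (B.orthogonal W) := by
    refine Nat.card_mono (Set.toFinite _) ?_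
    intro t ht
    show t ∈ B.orthogonal W
    rw [LinearMap.BilinForm.mem_orthogonal_iff]
    intro b hb
    rw [hW] at hb
    show B b t = 0
    refine Submodule.span_induction (p := fun b _ => B b t = 0) (fun b hb => ?_) ?_ (fun x y _ _ hx hy => ?_)
      (fun a x _ hx => ?_) hb
    · rw [hBa]; exact ht b hb
    · rw [map_zero, LinearMap.zero_apply]
    · rw [map_add, LinearMap.add_apply, hx, hy, add_zero]
    · rw [map_smul, LinearMap.smul_apply, hx, smul_zero]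
  refine (Nat.mul_le_mul h2 h3).trans (le_of_eq ?_)
  rw [Module.natCard_eq_pow_finrank (K := F) (V := W), Module.natCard_eq_pow_finrank (K := F) (V := B.orthogonal W),
    ← pow_add, h1]

theorem card_le_of_sep {A α : Type*} [Group A] [Finite A] [Finite α] (H : Subgroup A) (φ : A → α)
    (h : ∀ a b, φ a = φ b → a⁻¹ * b ∈ H) : Nat.card A ≤ Nat.card α * Nat.card H := by
  rw [Subgroup.card_eq_card_quotient_mul_card_subgroup H]
  refine Nat.mul_le_mul_right _ (Nat.card_le_card_of_injective (fun c : A ⧸ H => φ c.out) fun c c' hc => ?_)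
  rw [← QuotientGroup.out_eq' c, ← QuotientGroup.out_eq' c']
  exact QuotientGroup.eq.2 (h _ _ hc)

/-- the same for subgroups -/
theorem card_le_of_sep' {Y α : Type*} [Group Y] [Finite Y] [Finite α] {A H : Subgroup Y} (hHA : H ≤ A) (φ : A → α)
    (h : ∀ a b : A, φ a = φ b → (a : Y)⁻¹ * b ∈ H) : Nat.card A ≤ Nat.card α * Nat.card H := by
  rw [← Nat.card_congr (Subgroup.subgroupOfEquivOfLe hHA).toEquiv]
  exact card_le_of_sep (H.subgroupOf A) φ fun a b hab => Subgroup.mem_subgroupOf.2 (h a b hab)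

variable {F Y : Type*} [Field F] [CharP F 2] [Group Y] {e : ℕ → F → Y} {X : ℕ → Subgroup Y}

variable (R : Rl e X)

include R

omit [CharP F 2] in
theorem card_X {r : ℕ} (hr : r < 48) : Nat.card (X r) = Nat.card F := by
  refine (Nat.card_congr (Equiv.ofBijective (fun t : F => (⟨e r t, R.e_mem hr t⟩ : X r)) ⟨fun t u h => ?_, ?_⟩)).symm
  · have h1 : e r t = e r u := Subtype.ext_iff.1 h
    have h2 := R.add r hr (t - u) u
    rw [sub_add_cancel, h1] at h2
    exact sub_eq_zero.1 (R.inj r hr _ (mul_eq_right.1 h2.symm))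
  · rintro ⟨x, hx⟩
    obtain ⟨t, rfl⟩ := (R.mem r hr x).1 hx
    exact ⟨t, rfl⟩

/-- **`card`** -/
theorem card [Finite Y] : Nat.card (X 44) * Nat.card (SP X mJs) ≤ Nat.card (SP X mUl) := by
  rw [card_X R (by norm_num), ← Nat.card_prod]
  have h29 : ∀ t, e 29 t ∈ SP X mUl := fun t => le_SP (by norm_num) (by decide +kernel) (R.e_mem (by norm_num) _)
  have hJ : SP X mJs ≤ SP X mUl := SP_mono (by decide +kernel)
  refine Nat.card_le_card_of_injective
    (fun p : F × SP X mJs => (⟨e 29 p.1 * p.2, mul_mem (h29 _) (hJ p.2.2)⟩ : SP X mUl)) ?_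
  rintro ⟨t, j⟩ ⟨t', j'⟩ h
  have h1 : e 29 t * (j : Y) = e 29 t' * j' := Subtype.ext_iff.1 h
  have h2 : e 29 (t + t') = (j' : Y) * (j : Y)⁻¹ := by
    rw [add_comm, R.add 29 (by norm_num)]
    have h3 : e 29 t = e 29 t' * j' * (j : Y)⁻¹ := by rw [← h1]; group
    rw [h3]
    calc e 29 t' * (e 29 t' * j' * (j : Y)⁻¹) = (e 29 t' * e 29 t') * (j' * (j : Y)⁻¹) := by group
      _ = _ := by rw [R.sq (by norm_num), one_mul]
  have h3 : e 29 (t + t') ∈ SP X mQs := by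
    rw [h2]
    exact SP_mono (P := mJs) (by decide +kernel) (mul_mem j'.2 (inv_mem j.2))
  have h4 : t = t' := CharTwo.add_eq_zero.1 (e29_Qs R fun y hy => (comm_Us_Qs R hy h3).symm)
  subst h4
  have h5 : (j : Y) = j' := mul_left_cancel h1
  rw [Subtype.ext h5]

theorem D_unique {v : Y} {D D' : Fin 4 → F} (h : Dm e X v D) (h' : Dm e X v D') : D = D' := by
  have h1 := Fm.unique R (h.2 1).2 (h'.2 1).2
  funext i
  have h2 := congrFun h1 i.rev
  simpa using h2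

/-- an element of `J_s ∩ U_s` has zero coordinates -/
theorem Fm_zero_of_Us {j : Y} (h : j ∈ SP X mUs) : Fm e j 0 := by
  intro i s
  have hd : ∀ i, mQs.testBit (dd i) = true := by decide +kernel
  have h1 := comm_Us_Qs R h (le_SP (dd_lt i) (hd i) (R.e_mem (dd_lt i) s))
  rw [commutatorElement_eq_one_iff_mul_comm.2 h1.symm, Pi.zero_apply, mul_zero, R.zero (by norm_num)]

/-- **`off`** -/
theorem off [Finite F] [Finite Y] {V : Subgroup Y} (hV : V ≤ SP X mQQ) :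
    Nat.card V * Nat.card ↥(SP X mUl ⊓ Subgroup.centralizer (V : Set Y)) ≤
      Nat.card (SP X mUl) * Nat.card ↥(V ⊓ Subgroup.centralizer (SP X mUl : Set Y)) := by
  by_cases hc : V ≤ Subgroup.centralizer (SP X mUl : Set Y)
  · rw [inf_eq_left.2 hc, mul_comm]
    exact Nat.mul_le_mul_right _ (Subgroup.card_le_of_le inf_le_left)
  -- `C_U(V) ≤ J_s`
  obtain ⟨v0, hv0, hv0c⟩ := Set.not_subset.1 hc
  obtain ⟨C, hC⟩ : ∃ C : Subgroup Y, C = SP X mUl ⊓ Subgroup.centralizer (V : Set Y) := ⟨_, rfl⟩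
  have hCJ : C ≤ SP X mJs := by
    rw [hC]
    rintro u ⟨hu, hu'⟩
    by_contra h1
    refine hv0c ?_
    have h2 := fix R (hV hv0) hu (Subgroup.mem_centralizer_iff.1 hu' v0 hv0) h1
    exact Subgroup.mem_centralizer_iff.2 fun y hy => comm_Ul_Ql R hy h2
  -- the coordinates `D`
  choose! D hD using fun v (hv : v ∈ SP X mQQ) => exists_Dm R hv
  have hDm : ∀ a ∈ SP X mQQ, ∀ b ∈ SP X mQQ, D a = D b → D (a⁻¹ * b) = 0 := by
    intro a ha b hb h
    have h1 := Dm.mul R ha (hD a ha) (hD (a⁻¹ * b) (mul_mem (inv_mem ha) hb))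
    rw [mul_inv_cancel_left] at h1
    have h2 := D_unique R h1 (hD b hb)
    rw [← h] at h2
    simpa using h2
  -- `V₀ = {v : D v = 0}`
  have hD1 : D 1 = 0 := by
    have h := hDm 1 (one_mem _) 1 (one_mem _) rfl
    rwa [inv_one, one_mul] at h
  have hDmul : ∀ a ∈ SP X mQQ, ∀ b ∈ SP X mQQ, D (a * b) = D a + D b := fun a ha b hb =>
    D_unique R (hD _ (mul_mem ha hb)) (Dm.mul R ha (hD a ha) (hD b hb))
  obtain ⟨V0, hV0⟩ : ∃ V0 : Subgroup Y, ∀ v, v ∈ V0 ↔ v ∈ V ∧ D v = 0 := by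
    refine ⟨{ carrier := {v | v ∈ V ∧ D v = 0}, mul_mem' := ?_, one_mem' := ⟨one_mem _, hD1⟩, inv_mem' := ?_ },
      fun v => Iff.rfl⟩
    · rintro a b ⟨ha, ha'⟩ ⟨hb, hb'⟩
      exact ⟨mul_mem ha hb, by rw [hDmul a (hV ha) b (hV hb), ha', hb', add_zero]⟩
    · rintro a ⟨ha, ha'⟩
      refine ⟨inv_mem ha, ?_⟩
      have h1 := hDmul a (hV ha) a⁻¹ (inv_mem (hV ha))
      rw [mul_inv_cancel, hD1, ha', zero_add] at h1
      exact h1.symm
  have hV0V : V0 ≤ V := fun v hv => ((hV0 v).1 hv).1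
  obtain ⟨B, hB⟩ : ∃ B : Set (Fin 4 → F), B = D '' (V : Set Y) := ⟨_, rfl⟩
  -- `|V| ≤ |B| |V₀|`
  have c1 : Nat.card V ≤ Nat.card B * Nat.card V0 :=
    card_le_of_sep' hV0V (fun v => (⟨D v, by rw [hB]; exact ⟨v, v.2, rfl⟩⟩ : B)) fun a b h =>
      (hV0 _).2 ⟨mul_mem (inv_mem a.2) b.2, hDm a (hV a.2) b (hV b.2) (Subtype.ext_iff.1 h)⟩
  -- `|V₀| ≤ q |C_V(U)|`
  have c2 : Nat.card V0 ≤ Nat.card F * Nat.card ↥(V ⊓ Subgroup.centralizer (SP X mUl : Set Y)) := by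
    have h1 : ∀ v : V0, ∃ x, ∃ q ∈ SP X mQl, (v : Y) = e 41 x * q := fun v =>
      cent_Js R (comm_of_D R (hD v (hV (hV0V v.2))) ((hV0 _).1 v.2).2)
    choose φ q hq hφ using h1
    refine card_le_of_sep' ?_ φ fun a b h => ?_
    · rintro v ⟨hv, hv'⟩
      refine (hV0 v).2 ⟨hv, ?_⟩
      have h2 := hD v (hV hv)
      -- `v` centralises `e_29`
      have h3 := Subgroup.mem_centralizer_iff.1 hv' (e 29 1)
        (le_SP (by norm_num) (by decide +kernel) (R.e_mem (by norm_num) _))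
      have h4 := (h2.2 1).2
      rw [commutatorElement_eq_one_iff_mul_comm.2 h3.symm] at h4
      have h5 := Fm.unique R h4 (Fm.one R)
      funext i
      have h6 := congrFun h5 i.rev
      simpa using h6
    · refine Subgroup.mem_inf.2 ⟨mul_mem (inv_mem (hV0V a.2)) (hV0V b.2), ?_⟩
      have h2 : (a : Y)⁻¹ * b = (q a)⁻¹ * q b := by
        rw [hφ a, hφ b, h]; group
      rw [h2]
      refine Subgroup.mem_centralizer_iff.2 fun y hy => ?_
      exact comm_Ul_Ql R hy (mul_mem ((SP X mQl).inv_mem (hq a)) (hq b))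
  -- coordinates `t` on `J_s`
  have hCu : ∀ c ∈ C, ∀ v ∈ V, v * c = c * v := fun c hc v hv => by
    rw [hC] at hc
    exact Subgroup.mem_centralizer_iff.1 hc.2 v hv
  choose! T hT using fun j (hj : j ∈ SP X mJ0) => exists_Fm R hj
  have hJ : SP X mJs ≤ SP X mJ0 := SP_mono (by decide +kernel)
  have hTmul : ∀ a ∈ SP X mJ0, ∀ b ∈ SP X mJ0, T (a * b) = T a + T b := fun a ha b hb =>
    Fm.unique R (hT _ (mul_mem ha hb)) (Fm.mul R ha (hT a ha) (hT b hb))
  obtain ⟨Z, hZ⟩ : ∃ Z : Subgroup Y, Z = SP X mJs ⊓ SP X mUs := ⟨_, rfl⟩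
  have hZJ : Z ≤ SP X mJs := by rw [hZ]; exact inf_le_left
  have hZT : ∀ z ∈ Z, T z = 0 := fun z hz => by
    rw [hZ] at hz
    exact Fm.unique R (hT z (hJ hz.1)) (Fm_zero_of_Us R hz.2)
  have hZC : Z ≤ C := by
    intro z hz
    rw [hC]
    refine ⟨SP_mono (P := mJs) (by decide +kernel) (by rw [hZ] at hz; exact hz.1), ?_⟩
    refine Subgroup.mem_centralizer_iff.2 fun v hv => ?_
    have h1 := hD v (hV hv)
    have hz' : z ∈ SP X mJs := by rw [hZ] at hz; exact hz.1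
    have h2 := h1.1 z hz' (T z) (hT z (hJ hz'))
    rw [hZT z hz] at h2
    simp only [Pi.zero_apply, mul_zero, Finset.sum_const_zero] at h2
    rw [R.zero (by norm_num)] at h2
    exact commutatorElement_eq_one_iff_mul_comm.1 h2
  -- `|C| ≤ |B^⊥| |Z|`
  have c3 : Nat.card C ≤ Nat.card {t : Fin 4 → F | ∀ b ∈ B, ∑ i, b i * t i = 0} * Nat.card Z := by
    refine card_le_of_sep' hZC (fun c => (⟨T c, ?_⟩ : {t : Fin 4 → F | ∀ b ∈ B, ∑ i, b i * t i = 0})) fun a b h => ?_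
    · rintro b hb
      rw [hB] at hb
      obtain ⟨v, hv, rfl⟩ := hb
      have hcJ := hCJ c.2
      have h2 := (hD v (hV hv)).1 c hcJ (T c) (hT c (hJ hcJ))
      rw [commutatorElement_eq_one_iff_mul_comm.2 (hCu c c.2 v hv)] at h2
      exact R.inj 44 (by norm_num) _ h2.symm
    · have h1 : T a = T b := Subtype.ext_iff.1 h
      have haJ := hCJ a.2
      have hbJ := hCJ b.2
      have hm : (a : Y)⁻¹ * b ∈ SP X mJs := mul_mem (inv_mem haJ) hbJ
      have h2 := hTmul a (hJ haJ) ((a : Y)⁻¹ * b) (hJ hm)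
      rw [mul_inv_cancel_left, h1] at h2
      have h3 : T ((a : Y)⁻¹ * b) = 0 := by simpa using h2
      rw [hZ]
      exact ⟨hm, mem_Us R (hJ hm) (h3 ▸ hT _ (hJ hm))⟩
  -- `q⁴ |Z| ≤ |J_s|`
  have c4 : Nat.card F ^ 4 * Nat.card Z ≤ Nat.card (SP X mJs) := by
    have h1 : Nat.card (Fin 4 → F) = Nat.card F ^ 4 := by rw [Nat.card_fun, Nat.card_fin]
    choose jt hjt hjt' using fun t => exists_of_t R t
    rw [← h1, ← Nat.card_prod]
    refine Nat.card_le_card_of_injective (fun p : (Fin 4 → F) × Z =>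
      (⟨jt p.1 * p.2, mul_mem (hjt _) (hZJ p.2.2)⟩ : SP X mJs)) ?_
    rintro ⟨t, z⟩ ⟨t', z'⟩ h
    have h2 : jt t * (z : Y) = jt t' * z' := Subtype.ext_iff.1 h
    have hz : (z : Y) ∈ SP X mJ0 := hJ (hZJ z.2)
    have hz' : (z' : Y) ∈ SP X mJ0 := hJ (hZJ z'.2)
    have h3 : T (jt t * z) = T (jt t' * z') := by rw [h2]
    rw [hTmul _ (hJ (hjt t)) _ hz, hTmul _ (hJ (hjt t')) _ hz', hZT z z.2, hZT z' z'.2, add_zero, add_zero,
      Fm.unique R (hT _ (hJ (hjt t))) (hjt' t), Fm.unique R (hT _ (hJ (hjt t'))) (hjt' t')] at h3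
    subst h3
    rw [Subtype.ext (mul_left_cancel h2)]
  -- together
  have c5 := perp_card B
  have c6 := card R
  rw [card_X R (by norm_num)] at c6
  rw [← hC]
  calc Nat.card V * Nat.card C
      ≤ (Nat.card B * (Nat.card F * Nat.card ↥(V ⊓ Subgroup.centralizer (SP X mUl : Set Y)))) *
        (Nat.card {t : Fin 4 → F | ∀ b ∈ B, ∑ i, b i * t i = 0} * Nat.card Z) :=
        Nat.mul_le_mul (c1.trans (Nat.mul_le_mul_left _ c2)) c3
    _ = (Nat.card B * Nat.card {t : Fin 4 → F | ∀ b ∈ B, ∑ i, b i * t i = 0}) * (Nat.card F * Nat.card Z *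
        Nat.card ↥(V ⊓ Subgroup.centralizer (SP X mUl : Set Y))) := by ring
    _ ≤ Nat.card F ^ 4 * (Nat.card F * Nat.card Z *
        Nat.card ↥(V ⊓ Subgroup.centralizer (SP X mUl : Set Y))) := Nat.mul_le_mul_right _ c5
    _ = Nat.card F * (Nat.card F ^ 4 * Nat.card Z) *
        Nat.card ↥(V ⊓ Subgroup.centralizer (SP X mUl : Set Y)) := by ring
    _ ≤ Nat.card (SP X mUl) * Nat.card ↥(V ⊓ Subgroup.centralizer (SP X mUl : Set Y)) :=
        Nat.mul_le_mul_right _ ((Nat.mul_le_mul_left _ c4).trans c6)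

end Cfsg.Agent.KFacts.F4Off
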