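import Cfsg.Agent.KFacts.F4Torus

/-!
`F₄(q)`, `q` even: `C_K(X_a) = P_a`, `P_a` is perfect, `Z(U)` (K-group facts for S1765, node D10; F4).

`PF cs K a = ⟨X_c : 0 ≤ ⟨c, a^∨⟩⟩`.
* `cent_X`    : the centraliser of a nontrivial element of `X_a` is `PF cs K a`;
* `perfect_P` : `PF cs K a` is perfect (all `q`);
* `cent_pos`  : `g` commuting with a nontrivial element of every positive root group lies in `X_ρ X_σ`;
* `cent_nonsimple`.
-/

set_option autoImplicit false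
set_option Elab.async false

namespace Cfsg.Agent.KFacts.F4Perf

open CoxeterSystem Cfsg.Agent.ChevalleyStructure.CoxeterGeom Cfsg.Agent.Tits.Roots Cfsg.Agent.Tits.Core
open Cfsg.Lie Cfsg.Agent.ChevalleyStructure Cfsg.Agent.ChevalleyStructure.Elts
  Cfsg.Agent.ChevalleyStructure.RootVec Cfsg.Agent.ChevalleyStructure.CoxeterGeomTypes
open Cfsg.Agent.Nodes Cfsg.Agent.Nodes.Reps Cfsg.Agent.Nodes.BNOf Cfsg.Agent.Nodes.RGDChev Cfsg.Agent.Nodes.Coroot
  Cfsg.Agent.Nodes.KindF Cfsg.Agent.Nodes.Bruhat Cfsg.Agent.KFacts.ChevTwo Cfsg.Agent.KFacts.ChevTwoTab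
  Cfsg.Agent.KFacts.ChevTwoInst Cfsg.Agent.KFacts.RgdTI
  Cfsg.Agent.KFacts.F4Star Cfsg.Agent.KFacts.F4Cent Cfsg.Agent.KFacts.F4Pair Cfsg.Agent.KFacts.F4Torus
open scoped commutatorElement

universe u

variable {K : Type u} [Field K] [Finite K] [CharP K 2] {W : Type*} [Group W]
  (cs : CoxeterSystem CoxeterMatrix.F₄ W)

/-- `P_a` -/
abbrev PF (K : Type u) [Field K] (a : Fin 4 → ℤ) : Subgroup ↥(chevF4.group K) :=
  RGD.Sup (XF K) (Ge cs isType.isCartan a)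

theorem hm_inv {w : W} {m : ↥(chevF4.group K)}
    (hm : ∀ x, IsRoot cs isType.isCartan x → ∀ t, m * eF K x t * m⁻¹ = eF K (rep cs isType.isCartan w x) t) :
    ∀ x, IsRoot cs isType.isCartan x → ∀ t, m⁻¹ * eF K x t * m⁻¹⁻¹ = eF K (rep cs isType.isCartan w⁻¹ x) t := by
  intro x hx t
  have h1 := hm _ (hx.act w⁻¹) t
  rw [rep_apply_inv] at h1
  rw [← h1]; group

theorem domChk : starM (2 ^ 33 + 2 ^ 27 + 2 ^ 25 + 2 ^ 24) = 2 ^ 47 + 2 ^ 44 := by decide +kernel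

theorem cpr_nonneg_comm [Finite W] {x y : Fin 4 → ℤ} (hx : IsRoot cs isType.isCartan x)
    (hy : IsRoot cs isType.isCartan y) : 0 ≤ cpr cs isType.isCartan x y ↔ 0 ≤ cpr cs isType.isCartan y x := by
  have := Fintype.ofFinite W
  have h1 := cpr_pos_iff cs isType.isCartan x hy
  have h2 := cpr_pos_iff cs isType.isCartan y hx
  have h3 := cpr_zero_comm cs isType.isCartan hx hy
  have h4 : 0 < cpr cs isType.isCartan x y ↔ 0 < cpr cs isType.isCartan y x := by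
    rw [h1, h2, form_comm]
  constructor
  · intro h
    rcases h.lt_or_eq with h | h
    · exact (h4.1 h).le
    · exact (h3.1 h.symm).ge
  · intro h
    rcases h.lt_or_eq with h | h
    · exact (h4.2 h).le
    · exact (h3.2 h.symm).ge

/-- Every root is conjugate to one of the two dominant roots. -/
theorem exists_dom {a : Fin 4 → ℤ} (ha : IsRoot cs isType.isCartan a) :
    ∃ w : W, rep cs isType.isCartan w a = v 47 ∨ rep cs isType.isCartan w a = v 44 := by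
  have hW : Finite W := finite_W isType cs
  obtain ⟨w, hw⟩ := ((sysF (K := ZMod 2) cs).lr ha).exists_dominant
  refine ⟨w, ?_⟩
  obtain ⟨r, hr, hr'⟩ := exists_v cs (ha.act w)
  rw [← hr'] at hw ⊢
  have h1 : (starM (2 ^ 33 + 2 ^ 27 + 2 ^ 25 + 2 ^ 24)).testBit r = true := by
    rw [testBit_starM]
    refine ⟨hr, fun s hs hs' => ?_⟩
    rw [testBit_nn cs hs hr]
    have h2 : s = 33 ∨ s = 27 ∨ s = 25 ∨ s = 24 := by
      revert s
      decide +kernel
    obtain ⟨s0, s1, s2, s3, -⟩ := simples_ok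
    have h3 : ∃ i : Fin 4, v s = sr i := by
      rcases h2 with rfl | rfl | rfl | rfl
      · exact ⟨0, by rw [← s0]; exact v_simple 0⟩
      · exact ⟨1, by rw [← s1]; exact v_simple 1⟩
      · exact ⟨2, by rw [← s2]; exact v_simple 2⟩
      · exact ⟨3, by rw [← s3]; exact v_simple 3⟩
    obtain ⟨i, hi⟩ := h3
    rw [hi, cpr_nonneg_comm cs (isRoot_v cs hr) (isRoot_sr cs _ i)]
    exact hw i
  rw [domChk] at h1
  have h2 : r = 47 ∨ r = 44 := by
    clear hw hr'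
    revert r
    decide +kernel
  rcases h2 with rfl | rfl
  · exact Or.inl rfl
  · exact Or.inr rfl

set_option backward.isDefEq.respectTransparency false in
theorem pair47 : ∀ i, pairing (cartanOf chevF4 4) i (v 47) = if i = 3 then 1 else 0 := by decide +kernel

set_option backward.isDefEq.respectTransparency false in
theorem pair44 : ∀ i, pairing (cartanOf chevF4 4) i (v 44) = if i = 0 then 1 else 0 := by decide +kernel

theorem e_mem {S : Set (Fin 4 → ℤ)} {x : Fin 4 → ℤ} (hxr : IsRoot cs isType.isCartan x) (hx : x ∈ S) (t : K) :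
    eF K x t ∈ RGD.Sup (XF K) S := RGD.le_Sup hx ((mem_XF_iff cs hxr).2 ⟨t, rfl⟩)

theorem hel_mem_of {S : Set (Fin 4 → ℤ)} {x : Fin 4 → ℤ} (hxr : IsRoot cs isType.isCartan x) (hx : x ∈ S)
    (hx' : -x ∈ S) (c : K) : hel (eF K) x c ∈ RGD.Sup (XF K) S := by
  have h1 : ∀ t : K, eF K x t ∈ RGD.Sup (XF K) S := e_mem cs hxr hx
  have h2 : ∀ t : K, eF K (-x) t ∈ RGD.Sup (XF K) S := e_mem cs hxr.neg hx'
  rw [hel_def, nc_def, nel_def]
  exact mul_mem (mul_mem (mul_mem (h1 _) (h2 _)) (h1 _)) (mul_mem (mul_mem (h1 _) (h2 _)) (h1 _))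

theorem hel_one {y : Fin 4 → ℤ} (hy : IsRoot cs isType.isCartan y) : hel (eF K) y 1 = 1 := by
  have hW : Finite W := finite_W isType cs
  refine eq_one_of_comm cs fun x hx u => ?_
  have h1 := (sysF (K := K) cs).data.hel_conj hx hy (one_ne_zero (α := K)) u
  rw [one_zpow, one_mul] at h1
  calc hel (eF K) y 1 * eF K x u = hel (eF K) y 1 * eF K x u * (hel (eF K) y 1)⁻¹ * hel (eF K) y 1 := by group
    _ = eF K x u * hel (eF K) y 1 := by rw [h1]

theorem ge_of_pairing [Finite W] {a : Fin 4 → ℤ} (ha : IsRoot cs isType.isCartan a) {i : Fin 4}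
    (hi : pairing (cartanOf chevF4 4) i a = 0) :
    (sr i : Fin 4 → ℤ) ∈ Ge cs isType.isCartan a ∧ -(sr i : Fin 4 → ℤ) ∈ Ge cs isType.isCartan a := by
  have h1 : cpr cs isType.isCartan (sr i) a = 0 := by
    rw [cpr_zero_comm cs _ (isRoot_sr cs _ i) ha, cpr_sr, hi]
  refine ⟨⟨isRoot_sr cs _ i, h1.ge⟩, ⟨(isRoot_sr cs _ i).neg, ?_⟩⟩
  rw [cpr_neg cs _ _ ha, h1, neg_zero]

/-- The torus part of the centraliser. -/
theorem torus_mem {a : Fin 4 → ℤ} (ha : IsRoot cs isType.isCartan a) {i : Fin 4}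
    (hi : ∀ j, pairing (cartanOf chevF4 4) j a = if j = i then 1 else 0) {z : ↥(chevF4.group K)}
    (hz : z ∈ XF K a) (hz1 : z ≠ 1) {t : ↥(chevF4.group K)} (ht : t ∈ TF K) (htz : t * z = z * t) :
    t ∈ PF cs K a := by
  have hW : Finite W := finite_W isType cs
  obtain ⟨c, rfl⟩ := exists_hel cs ht
  obtain ⟨u, hu, rfl⟩ := (sysF (K := K) cs).exists_e ha hz hz1
  have h1 : hprod c * eF K a u * (hprod c)⁻¹ = eF K a u := by rw [htz]; group
  rw [hprod_conj cs c ha u] at h1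
  have h2 := (sysF (K := K) cs).data.injective ha h1
  have h3 : (((hchi c a).toMul : Kˣ) : K) = 1 := mul_right_cancel₀ hu (by rw [one_mul]; exact h2)
  have h4 : hchi c a = Additive.ofMul (c i) := by
    rw [hchi_apply, Finset.sum_eq_single i]
    · rw [hi, if_pos rfl, one_zsmul]
    · intro j _ hj
      rw [hi, if_neg hj, zero_zsmul]
    · intro h; exact absurd (Finset.mem_univ i) h
  rw [h4, toMul_ofMul] at h3
  have h5 : ∀ j : Fin 4, hel (eF K) (sr j) (c j) ∈ PF cs K a := by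
    intro j
    by_cases hj : j = i
    · rw [hj, h3, hel_one cs (isRoot_sr cs _ i)]; exact one_mem _
    · obtain ⟨h6, h7⟩ := ge_of_pairing cs ha (i := j) (by rw [hi, if_neg hj])
      exact hel_mem_of cs (isRoot_sr cs _ j) h6 h7 _
  exact mul_mem (mul_mem (mul_mem (h5 0) (h5 1)) (h5 2)) (h5 3)

/-- **`C_K(X_a) = P_a`.** -/
theorem cent_X {a : Fin 4 → ℤ} (ha : IsRoot cs isType.isCartan a) {z : ↥(chevF4.group K)}
    (hz : z ∈ XF K a) (hz1 : z ≠ 1) {g : ↥(chevF4.group K)} (hg : g * z = z * g) : g ∈ PF cs K a := by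
  have hW : Finite W := finite_W isType cs
  have hGG : ∀ g : ↥(chevF4.group K), g ∈ GG cs isType.isCartan (TF K) (XF K) := by
    intro g
    have h1 : RGDLib.G1 cs isType.isCartan (XF K) ≤ GG cs isType.isCartan (TF K) (XF K) :=
      RGD.Sup_le fun x hx => X_le_GG hx
    exact h1 (by rw [show RGDLib.G1 cs isType.isCartan (XF K) = ⊤ from G1_eq_top isType cs]; exact Subgroup.mem_top g)
  have base : ∀ a : Fin 4 → ℤ, IsRoot cs isType.isCartan a → ∀ i : Fin 4,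
      (∀ j, pairing (cartanOf chevF4 4) j a = if j = i then 1 else 0) → ∀ z ∈ XF K a, z ≠ 1 →
      ∀ g : ↥(chevF4.group K), g * z = z * g → g ∈ PF cs K a := by
    intro a ha i hi z hz hz1 g hg
    obtain ⟨t, ht, h1, q, hq, rfl⟩ := (((sysF (K := K) cs).lr ha).mem_centralizer (hGG g) hz hz1).1 hg
    exact mul_mem (torus_mem cs ha hi hz hz1 ht h1) hq
  obtain ⟨w, hw⟩ := exists_dom cs ha
  obtain ⟨m, hm⟩ := exists_rep (K := K) cs w
  have h1 : m * g * m⁻¹ ∈ PF cs K (rep cs isType.isCartan w a) := by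
    have h2 : m * z * m⁻¹ ∈ XF K (rep cs isType.isCartan w a) := conj_XF cs hm ha hz
    have h3 : m * z * m⁻¹ ≠ 1 := by
      intro h
      apply hz1
      have : z = m⁻¹ * (m * z * m⁻¹) * m := by group
      rw [this, h]; group
    have h4 : m * g * m⁻¹ * (m * z * m⁻¹) = m * z * m⁻¹ * (m * g * m⁻¹) := by
      have e1 : m * g * m⁻¹ * (m * z * m⁻¹) = m * (g * z) * m⁻¹ := by group
      rw [e1, hg]; group
    rcases hw with hw | hw
    · rw [hw] at h2 ⊢
      exact base _ (isRoot_v cs (by norm_num)) 3 pair47 _ h2 h3 _ h4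
    · rw [hw] at h2 ⊢
      exact base _ (isRoot_v cs (by norm_num)) 0 pair44 _ h2 h3 _ h4
  have h2 := conj_Sup (S' := Ge cs isType.isCartan a) cs (hm_inv cs hm) (fun x hx => ⟨hx.1, by
    refine ⟨hx.1.act _, ?_⟩
    have h3 := cpr_rep cs isType.isCartan w⁻¹ x (ha.act w)
    rw [rep_inv_apply] at h3
    rw [h3]; exact hx.2⟩) h1
  have h3 : m⁻¹ * (m * g * m⁻¹) * m⁻¹⁻¹ = g := by group
  rwa [h3] at h2

theorem cent_X_iff {a : Fin 4 → ℤ} (ha : IsRoot cs isType.isCartan a) {z : ↥(chevF4.group K)}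
    (hz : z ∈ XF K a) (hz1 : z ≠ 1) {g : ↥(chevF4.group K)} : g * z = z * g ↔ g ∈ PF cs K a := by
  have hW : Finite W := finite_W isType cs
  exact ⟨cent_X cs ha hz hz1, fun h => ((sysF (K := K) cs).lr ha).comm' h hz⟩

/-! ### Perfectness -/

/-- `c = b + d` with `b, d` of the same length, `b, d` in the mask of `a` -/
def ok1 (a c : ℕ) : Bool := (decs.getD c []).any fun q =>
  (nn a).testBit q.1 && (nn a).testBit q.2 && decide (carB chevF4 q.1 q.2 = -1) && decide (carB chevF4 q.2 q.1 = -1) &&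
    lin 1 c 1 q.1 1 q.2

/-- `c = b + d` with `⟨b,d⟩ = -2`, `⟨d,b⟩ = -1` and `ok1 a (b + 2 d)` -/
def ok2 (a c : ℕ) : Bool := (decs.getD c []).any fun q =>
  (nn a).testBit q.1 && (nn a).testBit q.2 && lin 1 c 1 q.1 1 q.2 &&
    ((decide (carB chevF4 q.2 q.1 = -2) && decide (carB chevF4 q.1 q.2 = -1) &&
        (List.range 48).any fun f => lin 1 f 1 q.1 2 q.2 && ok1 a f) ||
     (decide (carB chevF4 q.1 q.2 = -2) && decide (carB chevF4 q.2 q.1 = -1) &&
        (List.range 48).any fun f => lin 1 f 1 q.2 2 q.1 && ok1 a f))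

/-- `c = b + 2 d` with `⟨b,d⟩ = -2`, `⟨d,b⟩ = -1` and `ok1 a (b + d)` -/
def ok3 (a c : ℕ) : Bool := (List.range 48).any fun f => ok1 a f && (decs.getD f []).any fun q =>
  (nn a).testBit q.1 && (nn a).testBit q.2 && lin 1 f 1 q.1 1 q.2 &&
    ((decide (carB chevF4 q.2 q.1 = -2) && decide (carB chevF4 q.1 q.2 = -1) && lin 1 c 1 q.1 2 q.2) ||
     (decide (carB chevF4 q.1 q.2 = -2) && decide (carB chevF4 q.2 q.1 = -1) && lin 1 c 1 q.2 2 q.1))

theorem perfChk : ([33, 27, 25, 24].all fun a => (List.range 48).all fun c =>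
    !(nn a).testBit c || ok1 a c || ok2 a c || ok3 a c) = true := by decide +kernel

/-- `⟨b,d⟩ = ⟨d,b⟩ = -1`, `c = b + d`, `b, d ∈ Ge a` -/
def Ok1 (a c : Fin 4 → ℤ) : Prop := ∃ b d, b ∈ Ge cs isType.isCartan a ∧ d ∈ Ge cs isType.isCartan a ∧
  cpr cs isType.isCartan b d = -1 ∧ cpr cs isType.isCartan d b = -1 ∧ c = b + d

/-- `⟨b,d⟩ = -2`, `⟨d,b⟩ = -1`, `c = b + d`, `b, d ∈ Ge a` -/
def Ok2 (a c : Fin 4 → ℤ) : Prop := ∃ b d, b ∈ Ge cs isType.isCartan a ∧ d ∈ Ge cs isType.isCartan a ∧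
  cpr cs isType.isCartan b d = -2 ∧ cpr cs isType.isCartan d b = -1 ∧ c = b + d ∧ Ok1 cs a (b + (2 : ℤ) • d)

/-- `⟨b,d⟩ = -2`, `⟨d,b⟩ = -1`, `c = b + 2 d`, `b, d ∈ Ge a` -/
def Ok3 (a c : Fin 4 → ℤ) : Prop := ∃ b d, b ∈ Ge cs isType.isCartan a ∧ d ∈ Ge cs isType.isCartan a ∧
  cpr cs isType.isCartan b d = -2 ∧ cpr cs isType.isCartan d b = -1 ∧ c = b + (2 : ℤ) • d ∧ Ok1 cs a (b + d)

theorem ge_act [Finite W] {a b : Fin 4 → ℤ} (ha : IsRoot cs isType.isCartan a) (hb : b ∈ Ge cs isType.isCartan a)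
    (w : W) : rep cs isType.isCartan w b ∈ Ge cs isType.isCartan (rep cs isType.isCartan w a) :=
  ⟨hb.1.act w, by rw [cpr_rep cs _ w _ ha]; exact hb.2⟩

theorem Ok1.act [Finite W] {a c : Fin 4 → ℤ} (ha : IsRoot cs isType.isCartan a) (hc : Ok1 cs a c) (w : W) :
    Ok1 cs (rep cs isType.isCartan w a) (rep cs isType.isCartan w c) := by
  obtain ⟨b, d, hb, hd, h1, h2, rfl⟩ := hc
  refine ⟨_, _, ge_act cs ha hb w, ge_act cs ha hd w, ?_, ?_, by rw [map_add]⟩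
  · rw [cpr_rep cs _ w _ hd.1, h1]
  · rw [cpr_rep cs _ w _ hb.1, h2]

theorem Ok2.act [Finite W] {a c : Fin 4 → ℤ} (ha : IsRoot cs isType.isCartan a) (hc : Ok2 cs a c) (w : W) :
    Ok2 cs (rep cs isType.isCartan w a) (rep cs isType.isCartan w c) := by
  obtain ⟨b, d, hb, hd, h1, h2, rfl, h3⟩ := hc
  refine ⟨_, _, ge_act cs ha hb w, ge_act cs ha hd w, ?_, ?_, by rw [map_add], ?_⟩
  · rw [cpr_rep cs _ w _ hd.1, h1]
  · rw [cpr_rep cs _ w _ hb.1, h2]
  · have := Ok1.act cs ha h3 w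
    rwa [map_add, map_smul] at this

theorem Ok3.act [Finite W] {a c : Fin 4 → ℤ} (ha : IsRoot cs isType.isCartan a) (hc : Ok3 cs a c) (w : W) :
    Ok3 cs (rep cs isType.isCartan w a) (rep cs isType.isCartan w c) := by
  obtain ⟨b, d, hb, hd, h1, h2, rfl, h3⟩ := hc
  refine ⟨_, _, ge_act cs ha hb w, ge_act cs ha hd w, ?_, ?_, by rw [map_add, map_smul], ?_⟩
  · rw [cpr_rep cs _ w _ hd.1, h1]
  · rw [cpr_rep cs _ w _ hb.1, h2]
  · have := Ok1.act cs ha h3 w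
    rwa [map_add] at this

theorem decs_lt {c : ℕ} (hc : c < 48) {q : ℕ × ℕ} (hq : q ∈ decs.getD c []) : q.1 < 48 ∧ q.2 < 48 := by
  obtain ⟨h1, h2, -⟩ := dec_ok (K := ZMod 2) 0 hc hq
  exact ⟨h1, h2⟩

theorem mem_Ge_v {a b : ℕ} (ha : a < 48) (hb : b < 48) :
    v b ∈ Ge cs isType.isCartan (v a) ↔ (nn a).testBit b = true := by
  rw [testBit_nn cs ha hb]
  exact ⟨fun h => h.2, fun h => ⟨isRoot_v cs hb, h⟩⟩

theorem lin_one {c a b : ℕ} (h : lin 1 c 1 a 1 b = true) : v c = v a + v b := by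
  have := lin_sound h
  rwa [Nat.cast_one, one_smul, one_smul, one_smul] at this

theorem lin_two {c a b : ℕ} (h : lin 1 c 1 a 2 b = true) : v c = v a + (2 : ℤ) • v b := by
  have := lin_sound h
  rwa [Nat.cast_one, Nat.cast_ofNat, one_smul, one_smul] at this

theorem ok1_sound {a c : ℕ} (ha : a < 48) (hc : c < 48) (h : ok1 a c = true) : Ok1 cs (v a) (v c) := by
  obtain ⟨q, hq, h1⟩ := List.any_eq_true.1 h
  obtain ⟨l1, l2⟩ := decs_lt hc hq
  simp only [Bool.and_eq_true, decide_eq_true_eq] at h1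
  obtain ⟨⟨⟨⟨h1, h2⟩, h3⟩, h4⟩, h5⟩ := h1
  exact ⟨v q.1, v q.2, (mem_Ge_v cs ha l1).2 h1, (mem_Ge_v cs ha l2).2 h2, by rw [cpr_v cs l2 l1]; exact h4,
    by rw [cpr_v cs l1 l2]; exact h3, lin_one h5⟩

theorem ok2_sound {a c : ℕ} (ha : a < 48) (hc : c < 48) (h : ok2 a c = true) : Ok2 cs (v a) (v c) := by
  obtain ⟨q, hq, h1⟩ := List.any_eq_true.1 h
  obtain ⟨l1, l2⟩ := decs_lt hc hq
  simp only [Bool.and_eq_true, Bool.or_eq_true, decide_eq_true_eq] at h1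
  obtain ⟨⟨⟨h1, h2⟩, h3⟩, h4⟩ := h1
  rcases h4 with ⟨⟨h5, h6⟩, h7⟩ | ⟨⟨h5, h6⟩, h7⟩
  · obtain ⟨f, hf, h8⟩ := List.any_eq_true.1 h7
    rw [Bool.and_eq_true] at h8
    rw [List.mem_range] at hf
    refine ⟨v q.1, v q.2, (mem_Ge_v cs ha l1).2 h1, (mem_Ge_v cs ha l2).2 h2, by rw [cpr_v cs l2 l1]; exact h5,
      by rw [cpr_v cs l1 l2]; exact h6, lin_one h3, ?_⟩
    rw [← lin_two h8.1]
    exact ok1_sound cs ha hf h8.2
  · obtain ⟨f, hf, h8⟩ := List.any_eq_true.1 h7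
    rw [Bool.and_eq_true] at h8
    rw [List.mem_range] at hf
    refine ⟨v q.2, v q.1, (mem_Ge_v cs ha l2).2 h2, (mem_Ge_v cs ha l1).2 h1, by rw [cpr_v cs l1 l2]; exact h5,
      by rw [cpr_v cs l2 l1]; exact h6, by rw [lin_one h3, add_comm], ?_⟩
    rw [← lin_two h8.1]
    exact ok1_sound cs ha hf h8.2

theorem ok3_sound {a c : ℕ} (ha : a < 48) (h : ok3 a c = true) : Ok3 cs (v a) (v c) := by
  obtain ⟨f, hf, h1⟩ := List.any_eq_true.1 h
  rw [List.mem_range] at hf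
  rw [Bool.and_eq_true] at h1
  obtain ⟨h0, h1⟩ := h1
  obtain ⟨q, hq, h1⟩ := List.any_eq_true.1 h1
  obtain ⟨l1, l2⟩ := decs_lt hf hq
  simp only [Bool.and_eq_true, Bool.or_eq_true, decide_eq_true_eq] at h1
  obtain ⟨⟨⟨h1, h2⟩, h3⟩, h4⟩ := h1
  rcases h4 with ⟨⟨h5, h6⟩, h7⟩ | ⟨⟨h5, h6⟩, h7⟩
  · refine ⟨v q.1, v q.2, (mem_Ge_v cs ha l1).2 h1, (mem_Ge_v cs ha l2).2 h2, by rw [cpr_v cs l2 l1]; exact h5,
      by rw [cpr_v cs l1 l2]; exact h6, lin_two h7, ?_⟩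
    rw [← lin_one h3]
    exact ok1_sound cs ha hf h0
  · refine ⟨v q.2, v q.1, (mem_Ge_v cs ha l2).2 h2, (mem_Ge_v cs ha l1).2 h1, by rw [cpr_v cs l1 l2]; exact h5,
      by rw [cpr_v cs l2 l1]; exact h6, lin_two h7, ?_⟩
    rw [add_comm, ← lin_one h3]
    exact ok1_sound cs ha hf h0

theorem exists_ok {a c : Fin 4 → ℤ} (ha : IsRoot cs isType.isCartan a) (hc : c ∈ Ge cs isType.isCartan a) :
    Ok1 cs a c ∨ Ok2 cs a c ∨ Ok3 cs a c := by
  have hW : Finite W := finite_W isType cs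
  obtain ⟨w, i, rfl⟩ := ha
  obtain ⟨c', rfl⟩ : ∃ c', rep cs isType.isCartan w c' = c := ⟨_, rep_apply_inv _ _ _ _⟩
  have hsr := isRoot_sr cs isType.isCartan i
  have hc' : c' ∈ Ge cs isType.isCartan (sr i) := by
    refine ⟨(isRoot_rep_iff cs w).1 hc.1, ?_⟩
    rw [← cpr_rep cs _ w _ hsr]; exact hc.2
  obtain ⟨a, ha, ha', ha''⟩ := simple_mem i
  obtain ⟨r, hr, rfl⟩ := exists_v cs hc'.1
  rw [← ha''] at hc' hsr ⊢
  have h1 := List.all_eq_true.1 (List.all_eq_true.1 perfChk a ha') r (List.mem_range.2 hr)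
  rw [mem_Ge_v cs ha hr] at hc'
  rw [hc', Bool.not_true, Bool.false_or, Bool.or_eq_true, Bool.or_eq_true] at h1
  rcases h1 with (h1 | h1) | h1
  · exact Or.inl ((ok1_sound cs ha hr h1).act cs hsr w)
  · exact Or.inr (Or.inl ((ok2_sound cs ha hr h1).act cs hsr w))
  · exact Or.inr (Or.inr ((ok3_sound cs ha h1).act cs hsr w))

/-- **`P_a` is perfect.** -/
theorem perfect_P {a : Fin 4 → ℤ} (ha : IsRoot cs isType.isCartan a) : ⁅PF cs K a, PF cs K a⁆ = PF cs K a := by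
  have hW : Finite W := finite_W isType cs
  have D := (sysF (K := K) cs).data
  refine le_antisymm (Subgroup.commutator_le_self _) (RGD.Sup_le fun c hc => ?_)
  have key : ∀ b d, b ∈ Ge cs isType.isCartan a → d ∈ Ge cs isType.isCartan a → ∀ t u : K,
      ⁅eF K b t, eF K d u⁆ ∈ ⁅PF cs K a, PF cs K a⁆ := fun b d hb hd t u =>
    Subgroup.commutator_mem_commutator (e_mem cs hb.1 hb t) (e_mem cs hd.1 hd u)
  have h1 : ∀ c, Ok1 cs a c → ∀ t : K, eF K c t ∈ ⁅PF cs K a, PF cs K a⁆ := by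
    rintro c ⟨b, d, hb, hd, h1, h2, rfl⟩ t
    have h3 := key b d hb hd t 1
    rwa [D.comm1 b d hb.1 hd.1 h1 h2, mul_one] at h3
  have h2 : ∀ c, IsRoot cs isType.isCartan c → Ok2 cs a c → ∀ t : K, eF K c t ∈ ⁅PF cs K a, PF cs K a⁆ := by
    rintro c hc ⟨b, d, hb, hd, h1', h2', rfl, h3'⟩ t
    have h3 := key b d hb hd t 1
    rw [D.comm2 b d hb.1 hd.1 h1' h2', mul_one] at h3
    exact (Subgroup.mul_mem_cancel_right _ (h1 _ h3' _)).1 h3
  have h3 : ∀ c, IsRoot cs isType.isCartan c → Ok3 cs a c → ∀ t : K, eF K c t ∈ ⁅PF cs K a, PF cs K a⁆ := by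
    rintro c hc ⟨b, d, hb, hd, h1', h2', rfl, h3'⟩ t
    have h3 := key b d hb hd t 1
    rw [D.comm2 b d hb.1 hd.1 h1' h2', mul_one, one_pow, mul_one] at h3
    exact (Subgroup.mul_mem_cancel_left _ (h1 _ h3' _)).1 h3
  intro z hz
  obtain ⟨t, rfl⟩ := (mem_XF_iff cs hc.1).1 hz
  rcases exists_ok cs ha hc with h | h | h
  · exact h1 c h t
  · exact h2 c hc.1 h t
  · exact h3 c hc.1 h t

/-! ### The Sylow 2-subgroup -/

/-- the positive unipotent subgroup -/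
abbrev UF (K : Type u) [Field K] : Subgroup ↥(chevF4.group K) := RGD.Sup (XF K) (RGD.Pos cs isType.isCartan)

theorem posChk : ((List.range 48).all fun r => (List.range 4).all fun i =>
    decide (r < 24) || decide (0 ≤ rt chevF4 r i)) = true := by decide +kernel

theorem star_pos : starM (2 ^ 48 - 2 ^ 24) = 2 ^ 47 + 2 ^ 44 := by decide +kernel

theorem span_pos : spanM (2 ^ 48 - 2 ^ 24) = true := by decide +kernel

/-- the positive non-simple roots -/
def nsM : ℕ := 2 ^ 48 - 2 ^ 24 - (2 ^ 33 + 2 ^ 27 + 2 ^ 25 + 2 ^ 24)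

theorem star_ns : starM nsM = 2 ^ 47 + 2 ^ 46 + 2 ^ 44 + 2 ^ 40 := by decide +kernel

theorem span_ns : spanM nsM = true := by decide +kernel

theorem nonneg_v {r : ℕ} (hr : r < 48) (hr' : 24 ≤ r) : 0 ≤ v r := by
  intro i
  have h1 := List.all_eq_true.1 (List.all_eq_true.1 posChk r (List.mem_range.2 hr)) i (List.mem_range.2 i.2)
  rw [Bool.or_eq_true, decide_eq_true_eq, decide_eq_true_eq] at h1
  exact h1.resolve_left (by omega)

theorem le_of_nonneg {r : ℕ} (hr : r < 48) (h : 0 ≤ v r) : 24 ≤ r := by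
  by_contra h0
  have h1 := nonneg_v (r := 47 - r) (by omega) (by omega)
  rw [v_neg hr] at h1
  have h2 : v r = 0 := le_antisymm (by intro i; have := h1 i; simp only [Pi.neg_apply, Pi.zero_apply] at this ⊢; omega) h
  exact (isRoot_v CoxeterMatrix.F₄.toCoxeterSystem hr).ne_zero h2

theorem mem_pos_iff {r : ℕ} (hr : r < 48) : v r ∈ RGD.Pos cs isType.isCartan ↔ 24 ≤ r :=
  ⟨fun h => le_of_nonneg hr h.2, fun h => ⟨isRoot_v cs hr, nonneg_v hr h⟩⟩

theorem testBit_posM {r : ℕ} (hr : r < 48) : (2 ^ 48 - 2 ^ 24 : ℕ).testBit r = true ↔ 24 ≤ r := by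
  revert r
  decide +kernel

theorem testBit_nsM {r : ℕ} (hr : r < 48) :
    nsM.testBit r = true ↔ 24 ≤ r ∧ r ≠ 33 ∧ r ≠ 27 ∧ r ≠ 25 ∧ r ≠ 24 := by
  revert r
  decide +kernel

theorem v33 : v 33 = sr 0 := by rw [← simples_ok.1]; exact v_simple 0
theorem v27 : v 27 = sr 1 := by rw [← simples_ok.2.1]; exact v_simple 1
theorem v25 : v 25 = sr 2 := by rw [← simples_ok.2.2.1]; exact v_simple 2
theorem v24 : v 24 = sr 3 := by rw [← simples_ok.2.2.2.1]; exact v_simple 3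

theorem SetOf_pos : SetOf (2 ^ 48 - 2 ^ 24) = RGD.Pos cs isType.isCartan := by
  ext x
  constructor
  · rintro ⟨r, hr, h1, rfl⟩
    exact (mem_pos_iff cs hr).2 ((testBit_posM hr).1 h1)
  · intro hx
    obtain ⟨r, hr, rfl⟩ := exists_v cs hx.1
    exact ⟨r, hr, (testBit_posM hr).2 ((mem_pos_iff cs hr).1 hx), rfl⟩

theorem SetOf_ns : SetOf nsM = {x | x ∈ RGD.Pos cs isType.isCartan ∧ ∀ i, x ≠ sr i} := by
  ext x
  constructor
  · rintro ⟨r, hr, h1, rfl⟩
    rw [testBit_nsM hr] at h1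
    refine ⟨(mem_pos_iff cs hr).2 h1.1, fun i hi => ?_⟩
    obtain ⟨a, ha, ha', ha''⟩ := simple_mem i
    rw [← ha''] at hi
    have h2 := v_inj hr ha hi
    simp only [List.mem_cons, List.not_mem_nil, or_false] at ha'
    omega
  · rintro ⟨hx, h1⟩
    obtain ⟨r, hr, rfl⟩ := exists_v cs hx.1
    refine ⟨r, hr, (testBit_nsM hr).2 ⟨(mem_pos_iff cs hr).1 hx, ?_, ?_, ?_, ?_⟩, rfl⟩
    · rintro rfl; exact h1 0 v33
    · rintro rfl; exact h1 1 v27
    · rintro rfl; exact h1 2 v25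
    · rintro rfl; exact h1 3 v24

/-- **`Z(U) = X_ρ X_σ`**, elementwise and for arbitrary elements of `K`. -/
theorem cent_pos {g : ↥(chevF4.group K)} (hg : Cm g (RGD.Pos cs isType.isCartan)) :
    g ∈ RGD.Sup (XF K) {v 47, v 44} := by
  rw [← SetOf_pos cs] at hg
  refine RGD.Sup_mono ?_ (cent_mask span_pos hg)
  rw [star_pos]
  rintro _ ⟨r, hr, h1, rfl⟩
  have h2 : r = 47 ∨ r = 44 := by
    revert r
    decide +kernel
  rcases h2 with rfl | rfl
  · exact Or.inl rfl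
  · exact Or.inr rfl

/-- **`C_K(⟨X_c : c > 0 not simple⟩)`** -/
theorem cent_nonsimple {g : ↥(chevF4.group K)} (hg : Cm g {x | x ∈ RGD.Pos cs isType.isCartan ∧ ∀ i, x ≠ sr i}) :
    g ∈ RGD.Sup (XF K) {v 47, v 46, v 44, v 40} := by
  rw [← SetOf_ns cs] at hg
  refine RGD.Sup_mono ?_ (cent_mask span_ns hg)
  rw [star_ns]
  rintro _ ⟨r, hr, h1, rfl⟩
  have h2 : r = 47 ∨ r = 46 ∨ r = 44 ∨ r = 40 := by
    revert r
    decide +kernel
  rcases h2 with rfl | rfl | rfl | rfl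
  · exact Or.inl rfl
  · exact Or.inr (Or.inl rfl)
  · exact Or.inr (Or.inr (Or.inl rfl))
  · exact Or.inr (Or.inr (Or.inr rfl))

set_option backward.isDefEq.respectTransparency false in
theorem v47_eq : v 47 = ![2, 4, 3, 2] := by decide +kernel

set_option backward.isDefEq.respectTransparency false in
theorem v46_eq : v 46 = ![2, 4, 3, 1] := by decide +kernel

set_option backward.isDefEq.respectTransparency false in
theorem v44_eq : v 44 = ![2, 3, 2, 1] := by decide +kernel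

set_option backward.isDefEq.respectTransparency false in
theorem v40_eq : v 40 = ![1, 3, 2, 1] := by decide +kernel

theorem lg47 : Lg cs (v 47) := (testBit_long cs (by norm_num)).1 (by decide +kernel)

theorem sh44 : Sh cs (v 44) := (testBit_short cs (by norm_num)).1 (by decide +kernel)

end Cfsg.Agent.KFacts.F4Perf
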