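import Cfsg.Agent.KFacts.F4Model
import Cfsg.Agent.KFacts.F4Perf

/-!
`F₄(q)`, `q ≥ 2` even: relations in index language, both lengths at once (K-group facts for OMEGA, NodeAll h1; F4).

The roots are the indices `0, …, 47` (`F4Cent.v`), sets of roots are 48-bit masks.

* `a1 r s m` : `m = r + s`, same length, negative product; `a2 r s m k` : `r` long, `s` short, `m = r + s`, `k = r + 2 s`;
* `SP X P` : the group generated by the `X r`, `r ∈ P`;
* `Rl e X` : root elements `e r t` with the commutator relations in characteristic two, and the centralisers `cm`;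
* `com r s N` : `[X r, X s] ≤ SP X N` (check);
* `SP_comm`, `norm_SP` : commutators of the groups `SP X P`.
-/

set_option autoImplicit false
set_option Elab.async false

namespace Cfsg.Agent.KFacts.F4Rl

open Cfsg.Lie Cfsg.Agent.ChevalleyStructure
open Cfsg.Agent.KFacts.ChevTwo Cfsg.Agent.KFacts.ChevTwoTab Cfsg.Agent.KFacts.F4Star
open scoped commutatorElement

/-! ### Tables -/

/-- `m = r + s`, roots of the same length with negative product -/
def a1 (r s m : ℕ) : Bool :=
  Nat.blt r 48 && Nat.blt s 48 && Nat.blt m 48 && (longM.testBit r == longM.testBit s) && !(nn r).testBit s &&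
    lin 1 m 1 r 1 s

/-- `r` long, `s` short, negative product, `m = r + s`, `k = r + 2 s` -/
def a2 (r s m k : ℕ) : Bool :=
  Nat.blt r 48 && Nat.blt s 48 && Nat.blt m 48 && Nat.blt k 48 && longM.testBit r && !longM.testBit s &&
    !(nn r).testBit s && lin 1 m 1 r 1 s && lin 1 k 1 r 2 s

/-- `[X r, X s] ≤ SP X N` -/
def com (r s N : ℕ) : Bool :=
  (nn r).testBit s ||
    (if longM.testBit r == longM.testBit s then (List.range 48).any fun m => N.testBit m && a1 r s m
     else if longM.testBit r then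
       (List.range 48).any fun m => N.testBit m && lin 1 m 1 r 1 s && (List.range 48).any fun k => N.testBit k && a2 r s m k
     else
       (List.range 48).any fun m => N.testBit m && lin 1 m 1 r 1 s && (List.range 48).any fun k => N.testBit k && a2 s r m k)

/-- `com` for all pairs of `P`, `Q` -/
def comM (P Q N : ℕ) : Bool :=
  (List.range 48).all fun r => !P.testBit r || (List.range 48).all fun s => !Q.testBit s || com r s N

/-- inclusion of masks -/
def sub (P Q : ℕ) : Bool := (List.range 48).all fun r => !P.testBit r || Q.testBit r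

theorem sub_iff {P Q : ℕ} (h : sub P Q = true) {r : ℕ} (hr : r < 48) (h1 : P.testBit r = true) : Q.testBit r = true := by
  have h2 := List.all_eq_true.1 h r (List.mem_range.2 hr)
  rw [h1] at h2
  exact h2

theorem comM_iff {P Q N : ℕ} (h : comM P Q N = true) {r s : ℕ} (hr : r < 48) (hs : s < 48) (h1 : P.testBit r = true)
    (h2 : Q.testBit s = true) : com r s N = true := by
  have h3 := List.all_eq_true.1 h r (List.mem_range.2 hr)
  rw [h1] at h3
  have h4 := List.all_eq_true.1 h3 s (List.mem_range.2 hs)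
  rw [h2] at h4
  exact h4

/-! ### Groups of a mask -/

section SP

variable {Y : Type*} [Group Y]

/-- the group generated by the `X r`, `r ∈ P` -/
def SP (X : ℕ → Subgroup Y) (P : ℕ) : Subgroup Y := ⨆ r : {r : ℕ // r < 48 ∧ P.testBit r = true}, X r.1

variable {X : ℕ → Subgroup Y}

theorem le_SP {P r : ℕ} (hr : r < 48) (h : P.testBit r = true) : X r ≤ SP X P :=
  le_iSup (fun r : {r : ℕ // r < 48 ∧ P.testBit r = true} => X r.1) ⟨r, hr, h⟩

theorem SP_le {P : ℕ} {H : Subgroup Y} (h : ∀ r < 48, P.testBit r = true → X r ≤ H) : SP X P ≤ H :=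
  iSup_le fun r => h r.1 r.2.1 r.2.2

theorem SP_mono {P Q : ℕ} (h : sub P Q = true) : SP X P ≤ SP X Q :=
  SP_le fun _ hr h1 => le_SP hr (sub_iff h hr h1)

end SP

/-! ### The relations -/

/-- the masks for which we use centralisers: `Q_s Q_l`, `Q_l`, `U_l`, `J_s`, `J₀`, `Q_l - {24}`, `Q_s Q_l - {24, 33}`,
and their duals -/
def cml : List ℕ := [281473449984000, 279076858232832, 281466386776064, 160323076096000, 279275953455104,
  160322539225088, 277076930199552, 279069795024896, 279076841455616, 281457796841472, 281464843272192]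

/-- Root elements of `F₄(F)`, characteristic two, in index language. -/
structure Rl {F Y : Type*} [Field F] [Group Y] (e : ℕ → F → Y) (X : ℕ → Subgroup Y) : Prop where
  mem : ∀ r < 48, ∀ y, y ∈ X r ↔ ∃ t, e r t = y
  add : ∀ r < 48, ∀ t u, e r (t + u) = e r t * e r u
  inj : ∀ r < 48, ∀ t, e r t = 1 → t = 0
  sep : ∀ r < 48, ∀ s < 48, r ≠ s → ∀ t u, e r t = e s u → t = 0
  c0 : ∀ r < 48, ∀ s < 48, (nn r).testBit s = true → ∀ t u, e r t * e s u = e s u * e r t
  c1 : ∀ r s m, a1 r s m = true → ∀ t u, ⁅e r t, e s u⁆ = e m (t * u)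
  c2 : ∀ r s m k, a2 r s m k = true → ∀ t u, ⁅e r t, e s u⁆ = e m (t * u) * e k (t * u ^ 2)
  cm : ∀ P ∈ cml, ∀ g : Y, (∀ r < 48, P.testBit r = true → ∀ y ∈ X r, g * y = y * g) → g ∈ SP X (starM P)

namespace Rl

variable {F Y : Type*} [Field F] [CharP F 2] [Group Y] {e : ℕ → F → Y} {X : ℕ → Subgroup Y} (R : Rl e X)

include R

omit [CharP F 2] in
theorem e_mem {r : ℕ} (hr : r < 48) (t : F) : e r t ∈ X r := (R.mem r hr _).2 ⟨t, rfl⟩

omit [CharP F 2] in
theorem zero {r : ℕ} (hr : r < 48) : e r 0 = 1 := by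
  have h1 := R.add r hr 0 0
  rw [add_zero] at h1
  exact (mul_eq_left.1 h1.symm)

theorem sq {r : ℕ} (hr : r < 48) (t : F) : e r t * e r t = 1 := by
  rw [← R.add r hr, CharTwo.add_self_eq_zero, R.zero hr]

theorem inv {r : ℕ} (hr : r < 48) (t : F) : (e r t)⁻¹ = e r t := inv_eq_of_mul_eq_one_left (R.sq hr t)

omit [CharP F 2] in
theorem e_inj {r : ℕ} (hr : r < 48) {t u : F} (h : e r t = e r u) : t = u := by
  have h1 : e r (t - u) = 1 := by
    have h2 := R.add r hr (t - u) u
    rw [sub_add_cancel, h] at h2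
    exact (mul_eq_right.1 h2.symm)
  exact sub_eq_zero.1 (R.inj r hr _ h1)

omit [CharP F 2] in
theorem comm_e {r s N : ℕ} (hr : r < 48) (hs : s < 48) (h : com r s N = true) (t u : F) : ⁅e r t, e s u⁆ ∈ SP X N := by
  unfold com at h
  rw [Bool.or_eq_true] at h
  rcases h with h | h
  · rw [commutatorElement_eq_one_iff_mul_comm.2 (R.c0 r hr s hs h t u)]
    exact one_mem _
  · split_ifs at h with h1 h2
    · obtain ⟨m, hm, h3⟩ := List.any_eq_true.1 h
      rw [Bool.and_eq_true] at h3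
      rw [R.c1 r s m h3.2]
      exact le_SP (List.mem_range.1 hm) h3.1 (R.e_mem (List.mem_range.1 hm) _)
    · obtain ⟨m, hm, h3⟩ := List.any_eq_true.1 h
      rw [Bool.and_eq_true, Bool.and_eq_true] at h3
      obtain ⟨k, hk, h4⟩ := List.any_eq_true.1 h3.2
      rw [Bool.and_eq_true] at h4
      rw [R.c2 r s m k h4.2]
      exact mul_mem (le_SP (List.mem_range.1 hm) h3.1.1 (R.e_mem (List.mem_range.1 hm) _))
        (le_SP (List.mem_range.1 hk) h4.1 (R.e_mem (List.mem_range.1 hk) _))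
    · obtain ⟨m, hm, h3⟩ := List.any_eq_true.1 h
      rw [Bool.and_eq_true, Bool.and_eq_true] at h3
      obtain ⟨k, hk, h4⟩ := List.any_eq_true.1 h3.2
      rw [Bool.and_eq_true] at h4
      rw [← commutatorElement_inv, R.c2 s r m k h4.2]
      exact inv_mem (mul_mem (le_SP (List.mem_range.1 hm) h3.1.1 (R.e_mem (List.mem_range.1 hm) _))
        (le_SP (List.mem_range.1 hk) h4.1 (R.e_mem (List.mem_range.1 hk) _)))

omit [CharP F 2] in
/-- induction on the elements of `SP X P` -/
theorem SP_ind {P : ℕ} {C : Y → Prop} (hg : ∀ r < 48, P.testBit r = true → ∀ t, C (e r t)) (h1 : C 1)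
    (hm : ∀ x y, x ∈ SP X P → y ∈ SP X P → C x → C y → C (x * y)) {y : Y} (hy : y ∈ SP X P) : C y := by
  have h2 : y ∈ SP X P ∧ C y := by
    refine Subgroup.iSup_induction (fun r : {r : ℕ // r < 48 ∧ P.testBit r = true} => X r.1)
      (C := fun y => y ∈ SP X P ∧ C y) hy ?_ ⟨one_mem _, h1⟩
      fun x y hx hy => ⟨mul_mem hx.1 hy.1, hm x y hx.1 hy.1 hx.2 hy.2⟩
    rintro ⟨r, hr, hP⟩ x hx
    obtain ⟨t, rfl⟩ := (R.mem r hr x).1 hx
    exact ⟨le_SP hr hP hx, hg r hr hP t⟩
  exact h2.2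

omit [CharP F 2] in
theorem SP_le' {P : ℕ} {H : Subgroup Y} (h : ∀ r < 48, P.testBit r = true → ∀ t, e r t ∈ H) : SP X P ≤ H :=
  SP_le fun r hr hP x hx => by
    obtain ⟨t, rfl⟩ := (R.mem r hr x).1 hx
    exact h r hr hP t

/-- `X r` normalises `SP X N` -/
theorem norm_e {r N : ℕ} (hr : r < 48) (h : ∀ s < 48, N.testBit s = true → com r s N = true) (t : F) :
    e r t ∈ Subgroup.normalizer (SP X N : Set Y) := by
  have key : ∀ y ∈ SP X N, e r t * y * (e r t)⁻¹ ∈ SP X N := by
    intro y hy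
    refine R.SP_ind (C := fun y => e r t * y * (e r t)⁻¹ ∈ SP X N) ?_ ?_ ?_ hy
    · intro s hs hN u
      have h1 := R.comm_e hr hs (h s hs hN) t u
      have h2 : e r t * e s u * (e r t)⁻¹ = ⁅e r t, e s u⁆ * e s u := by rw [commutatorElement_def]; group
      rw [h2]
      exact mul_mem h1 (le_SP hs hN (R.e_mem hs u))
    · rw [mul_one, mul_inv_cancel]; exact one_mem _
    · intro x y _ _ hx hy
      have h2 : e r t * (x * y) * (e r t)⁻¹ = (e r t * x * (e r t)⁻¹) * (e r t * y * (e r t)⁻¹) := by group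
      rw [h2]
      exact mul_mem hx hy
  rw [Subgroup.mem_normalizer_iff]
  intro y
  refine ⟨key y, fun hy => ?_⟩
  have h1 := key _ hy
  have h2 : e r t * (e r t * y * (e r t)⁻¹) * (e r t)⁻¹ = e r t * e r t * y * (e r t * e r t)⁻¹ := by group
  rw [h2, R.sq hr, one_mul, inv_one, mul_one] at h1
  exact h1

/-- `SP X P` normalises `SP X N` -/
theorem norm_SP {P N : ℕ} (h : comM P N N = true) : SP X P ≤ Subgroup.normalizer (SP X N : Set Y) :=
  R.SP_le' fun _ hr hP t => R.norm_e hr (fun _ hs hN => comM_iff h hr hs hP hN) t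

theorem comm_SP {P Q N : ℕ} (h : comM P Q N = true) (hP : comM P N N = true) (hQ : comM Q N N = true) {x y : Y}
    (hx : x ∈ SP X P) (hy : y ∈ SP X Q) : ⁅x, y⁆ ∈ SP X N := by
  have n1 : ∀ z ∈ SP X P, ∀ w ∈ SP X N, z * w * z⁻¹ ∈ SP X N := fun z hz w hw =>
    (Subgroup.mem_normalizer_iff.1 (R.norm_SP hP hz) w).1 hw
  have n2 : ∀ z ∈ SP X Q, ∀ w ∈ SP X N, z * w * z⁻¹ ∈ SP X N := fun z hz w hw =>
    (Subgroup.mem_normalizer_iff.1 (R.norm_SP hQ hz) w).1 hw
  -- fix a generator on the left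
  have key : ∀ r < 48, P.testBit r = true → ∀ t, ∀ y ∈ SP X Q, ⁅e r t, y⁆ ∈ SP X N := by
    intro r hr hP t y hy
    refine R.SP_ind (C := fun y => ⁅e r t, y⁆ ∈ SP X N) ?_ ?_ ?_ hy
    · intro s hs hQ u
      exact R.comm_e hr hs (comM_iff h hr hs hP hQ) t u
    · rw [commutatorElement_one_right]; exact one_mem _
    · intro a b ha _ h1 h2
      have h3 : ⁅e r t, a * b⁆ = ⁅e r t, a⁆ * (a * ⁅e r t, b⁆ * a⁻¹) := by
        simp only [commutatorElement_def]; group
      rw [h3]
      exact mul_mem h1 (n2 a ha _ h2)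
  refine R.SP_ind (C := fun x => ⁅x, y⁆ ∈ SP X N) (fun r hr hP t => key r hr hP t y hy) ?_ ?_ hx
  · rw [commutatorElement_one_left]; exact one_mem _
  · intro a b ha _ h1 h2
    have h3 : ⁅a * b, y⁆ = (a * ⁅b, y⁆ * a⁻¹) * ⁅a, y⁆ := by
      simp only [commutatorElement_def]; group
    rw [h3]
    exact mul_mem (n1 a ha _ h2) h1

/-- commuting groups -/
theorem comm_zero {P Q : ℕ} (h : comM P Q 0 = true) {x y : Y} (hx : x ∈ SP X P) (hy : y ∈ SP X Q) : x * y = y * x := by
  have h0 : ∀ P, comM P 0 0 = true := by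
    intro P
    unfold comM
    simp
  have h1 := R.comm_SP h (h0 P) (h0 Q) hx hy
  have h2 : SP X 0 ≤ ⊥ := SP_le fun r _ h => by rw [Nat.zero_testBit] at h; exact absurd h (by decide)
  exact commutatorElement_eq_one_iff_mul_comm.1 (Subgroup.mem_bot.1 (h2 h1))

end Rl

end Cfsg.Agent.KFacts.F4Rl
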