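import Cfsg.Agent.KFacts.F4Rl

/-!
`F₄(q)`, `q ≥ 2` even: the two instances of `F4Rl.Rl` (K-group facts for OMEGA, NodeAll h1; F4).

* `eI`, `XI` : `e r t = e_{v r}(t)`; `rl : Rl (eI F) (XI F)`;
* `eD`, `XD` : the dual chart `e r t = e_{dual (v r)}(t)` (`r` short), `e_{dual (v r)}(√t)` (`r` long);
  `rlD : Rl (eD rt) (XD F)`;
* `SP_XI : SP (XI F) P = RGD.Sup (XF F) (SetOf P)`, `SP_XD : SP (XD F) P = SP (XI F) (dm P)`.
-/

set_option autoImplicit false
set_option Elab.async false

namespace Cfsg.Agent.KFacts.F4RlInst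

open CoxeterSystem Cfsg.Agent.ChevalleyStructure.CoxeterGeom Cfsg.Agent.Tits.Roots Cfsg.Agent.Tits.Core
open Cfsg.Lie Cfsg.Agent.ChevalleyStructure Cfsg.Agent.ChevalleyStructure.Elts
  Cfsg.Agent.ChevalleyStructure.RootVec Cfsg.Agent.ChevalleyStructure.CoxeterGeomTypes
open Cfsg.Agent.Nodes Cfsg.Agent.Nodes.Reps Cfsg.Agent.Nodes.BNOf Cfsg.Agent.Nodes.RGDChev Cfsg.Agent.Nodes.Coroot
  Cfsg.Agent.Nodes.KindF Cfsg.Agent.KFacts.ChevTwo Cfsg.Agent.KFacts.ChevTwoTab
  Cfsg.Agent.KFacts.ChevTwoInst Cfsg.Agent.KFacts.F4Star Cfsg.Agent.KFacts.F4Cent Cfsg.Agent.KFacts.F4Pair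
  Cfsg.Agent.KFacts.F4Torus Cfsg.Agent.KFacts.F4Model Cfsg.Agent.KFacts.F4Rl
open scoped commutatorElement

universe u

variable (F : Type u) [Field F] [Finite F] [CharP F 2]

/-- the root elements in index language -/
noncomputable def eI (r : ℕ) (t : F) : ↥(chevF4.group F) := eF F (v r) t

/-- the root groups in index language -/
def XI (r : ℕ) : Subgroup ↥(chevF4.group F) := XF F (v r)

variable {F}

theorem phi_v {r : ℕ} (hr : r < 48) : v r ∈ Cfsg.Agent.OddHalf.D7F4.Model.Phi := (phi_iff cF _).2 (isRoot_v cF hr)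

theorem B_long {r : ℕ} (hr : r < 48) :
    longM.testBit r = true ↔ Cfsg.Agent.OddHalf.D7F4.Model.B (v r) (v r) = 4 := by
  rw [testBit_long cF hr]
  exact lg_iff cF (phi_v hr)

theorem B_eq {r s : ℕ} (hr : r < 48) (hs : s < 48) (h : (longM.testBit r == longM.testBit s) = true) :
    Cfsg.Agent.OddHalf.D7F4.Model.B (v r) (v r) = Cfsg.Agent.OddHalf.D7F4.Model.B (v s) (v s) := by
  have h1 := B_long hr
  have h2 := B_long hs
  rw [beq_iff_eq.1 h] at h1
  rcases Cfsg.Agent.OddHalf.D7F4.Model.norm _ (phi_v hr) with h3 | h3 <;>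
    rcases Cfsg.Agent.OddHalf.D7F4.Model.norm _ (phi_v hs) with h4 | h4
  · rw [h3, h4]
  · exact absurd (h1.1 (h2.2 h4)) (by rw [h3]; norm_num)
  · exact absurd (h2.1 (h1.2 h3)) (by rw [h4]; norm_num)
  · rw [h3, h4]

theorem B_neg {r s : ℕ} (hr : r < 48) (hs : s < 48) (h : (!(nn r).testBit s) = true) :
    Cfsg.Agent.OddHalf.D7F4.Model.B (v r) (v s) < 0 := by
  rw [Bool.not_eq_true'] at h
  by_contra h1
  rw [not_lt] at h1
  have h2 : (nn r).testBit s = true := by
    rw [testBit_nn cF hr hs, cpr_nonneg_iff cF (phi_v hs) (phi_v hr), Cfsg.Agent.OddHalf.D7F4.Model.B_symm]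
    exact h1
  rw [h2] at h
  exact absurd h (by decide)

theorem lin_add {r s m : ℕ} (h : lin 1 m 1 r 1 s = true) : v m = v r + v s := by
  have := lin_sound h
  rwa [Nat.cast_one, one_smul, one_smul, one_smul] at this

theorem lin_two {r s k : ℕ} (h : lin 1 k 1 r 2 s = true) : v k = v r + v s + v s := by
  have := lin_sound h
  rw [Nat.cast_one, one_smul, one_smul] at this
  rw [this, add_assoc, ← two_smul ℤ (v s)]
  rfl

theorem blt_iff {a b : ℕ} (h : Nat.blt a b = true) : a < b := by rwa [Nat.blt_eq] at h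

omit [Finite F] [CharP F 2] in
theorem SP_XI (P : ℕ) : SP (XI F) P = RGD.Sup (XF F) (SetOf P) := by
  apply le_antisymm
  · exact SP_le fun r hr h => RGD.le_Sup (X := XF F) ((mem_SetOf hr).2 h)
  · refine RGD.Sup_le ?_
    rintro _ ⟨r, hr, h, rfl⟩
    exact le_SP (X := XI F) hr h

theorem spanChk : (cml.all fun P => spanM P) = true := by decide +kernel

theorem cmI {P : ℕ} (hP : spanM P = true) {g : ↥(chevF4.group F)}
    (h : ∀ r < 48, P.testBit r = true → ∀ y ∈ XI F r, g * y = y * g) : g ∈ SP (XI F) (starM P) := by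
  rw [SP_XI]
  refine cent_mask hP ?_
  rintro _ ⟨r, hr, h1, rfl⟩
  refine ⟨eF F (v r) 1, (mem_XF_iff cF (isRoot_v cF hr)).2 ⟨1, rfl⟩, fun h2 => one_ne_zero (e_eq_one (phi_v hr) h2), ?_⟩
  exact h r hr h1 _ ((mem_XF_iff cF (isRoot_v cF hr)).2 ⟨1, rfl⟩)

theorem rl : Rl (eI F) (XI F) where
  mem r hr y := mem_XF_iff cF (isRoot_v cF hr)
  add r hr t u := (dat (K := F)).add (v r) (isRoot_v cF hr) t u
  inj r hr t h := e_eq_one (phi_v hr) h
  sep r hr s hs hrs t u h := by
    have h1 := ind (phi_v hr) (phi_v hs) (fun h0 => hrs (v_inj hr hs h0)) (eF F (v r) t)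
      ((mem_XF_iff cF (isRoot_v cF hr)).2 ⟨t, rfl⟩) ((mem_XF_iff cF (isRoot_v cF hs)).2 ⟨u, h.symm⟩)
    exact e_eq_one (phi_v hr) h1
  c0 r hr s hs h t u := by
    rw [testBit_nn cF hr hs, cpr_nonneg_iff cF (phi_v hs) (phi_v hr), Cfsg.Agent.OddHalf.D7F4.Model.B_symm] at h
    exact X0 (phi_v hr) (phi_v hs) h _ ((mem_XF_iff cF (isRoot_v cF hr)).2 ⟨t, rfl⟩) _
      ((mem_XF_iff cF (isRoot_v cF hs)).2 ⟨u, rfl⟩)
  c1 r s m h t u := by
    unfold a1 at h
    simp only [Bool.and_eq_true] at h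
    obtain ⟨⟨⟨⟨⟨hr, hs⟩, hm⟩, h1⟩, h2⟩, h3⟩ := h
    have hr := blt_iff hr
    have hs := blt_iff hs
    have hm := blt_iff hm
    have h4 := lin_add h3
    have h5 : v r ≠ -v s := by
      intro h0
      have h6 : v m = 0 := by rw [h4, h0, neg_add_cancel]
      have h7 := v_neg hm
      rw [h6, neg_zero, ← h6] at h7
      have h8 := v_inj (by omega) hm h7
      omega
    show ⁅eF F (v r) t, eF F (v s) u⁆ = eF F (v m) (t * u)
    rw [comm1 (phi_v hr) (phi_v hs) (B_eq hr hs h1) (B_neg hr hs h2) h5, h4]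
  c2 r s m k h t u := by
    unfold a2 at h
    simp only [Bool.and_eq_true] at h
    obtain ⟨⟨⟨⟨⟨⟨⟨⟨hr, hs⟩, hm⟩, hk⟩, h1⟩, h2⟩, h3⟩, h4⟩, h5⟩ := h
    have hr := blt_iff hr
    have hs := blt_iff hs
    have h6 : Cfsg.Agent.OddHalf.D7F4.Model.B (v r) (v r) = 4 := (B_long hr).1 h1
    have h7 : Cfsg.Agent.OddHalf.D7F4.Model.B (v s) (v s) = 2 := by
      rcases Cfsg.Agent.OddHalf.D7F4.Model.norm _ (phi_v hs) with h | h
      · exact h
      · rw [(B_long hs).2 h] at h2
        exact absurd h2 (by decide)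
    have h8 : Cfsg.Agent.OddHalf.D7F4.Model.B (v r) (v s) = -2 := by
      have h9 := B_neg hr hs h3
      rcases Cfsg.Agent.OddHalf.D7F4.Model.ls _ (phi_v hr) _ (phi_v hs) h6 h7 with h | h | h
      · exact h
      · omega
      · omega
    show ⁅eF F (v r) t, eF F (v s) u⁆ = eF F (v m) (t * u) * eF F (v k) (t * u ^ 2)
    rw [comm2 (phi_v hr) (phi_v hs) h6 h7 h8, lin_add h4, lin_two h5]
  cm P hP g h := cmI (List.all_eq_true.1 spanChk P hP) h

/-! ### The dual chart -/

/-- the duality on the indices -/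
def dul : List ℕ := [3, 7, 8, 0, 9, 11, 18, 1, 2, 4, 15, 5, 16, 21, 23, 10, 12, 19, 6, 17, 22, 13, 20, 14, 33, 27, 34, 25,
  30, 41, 28, 35, 37, 24, 26, 31, 42, 32, 43, 45, 46, 29, 36, 38, 47, 39, 40, 44]

def du (r : ℕ) : ℕ := dul.getD r 0

/-- the dual of a mask -/
def dm (P : ℕ) : ℕ := (List.range 48).foldl (fun acc r => if P.testBit r then Nat.lor acc (2 ^ du r) else acc) 0

theorem du_lt {r : ℕ} (hr : r < 48) : du r < 48 := by
  have h : ((List.range 48).all fun r => Nat.blt (du r) 48) = true := by decide +kernel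
  exact blt_iff (List.all_eq_true.1 h r (List.mem_range.2 hr))

theorem du_du {r : ℕ} (hr : r < 48) : du (du r) = r := by
  have h : ((List.range 48).all fun r => Nat.beq (du (du r)) r) = true := by decide +kernel
  exact Nat.eq_of_beq_eq_true (List.all_eq_true.1 h r (List.mem_range.2 hr))

theorem du_long {r : ℕ} (hr : r < 48) : longM.testBit (du r) = !longM.testBit r := by
  have h : ((List.range 48).all fun r => longM.testBit (du r) == !longM.testBit r) = true := by decide +kernel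
  exact beq_iff_eq.1 (List.all_eq_true.1 h r (List.mem_range.2 hr))

theorem du_nn {r s : ℕ} (hr : r < 48) (hs : s < 48) : (nn (du r)).testBit (du s) = (nn r).testBit s := by
  have h : ((List.range 48).all fun r => (List.range 48).all fun s =>
    (nn (du r)).testBit (du s) == (nn r).testBit s) = true := by decide +kernel
  exact beq_iff_eq.1 (List.all_eq_true.1 (List.all_eq_true.1 h r (List.mem_range.2 hr)) s (List.mem_range.2 hs))

theorem du_a1chk : ((List.range 48).all fun r => (List.range 48).all fun s =>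
    (nn r).testBit s || !(longM.testBit r == longM.testBit s) || (List.range 48).all fun m =>
      !(lin 1 m 1 r 1 s) || lin 1 (du m) 1 (du r) 1 (du s)) = true := by decide +kernel

theorem du_a2chk : ((List.range 48).all fun r => !longM.testBit r || (List.range 48).all fun s =>
    (nn r).testBit s || longM.testBit s || (List.range 48).all fun m =>
      (!(lin 1 m 1 r 1 s) || lin 1 (du m) 1 (du s) 2 (du r)) && (!(lin 1 m 1 r 2 s) || lin 1 (du m) 1 (du s) 1 (du r))) =
    true := by decide +kernel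

theorem nn_symm {r s : ℕ} (hr : r < 48) (hs : s < 48) : (nn r).testBit s = (nn s).testBit r := by
  have h : ((List.range 48).all fun r => (List.range 48).all fun s => (nn r).testBit s == (nn s).testBit r) = true := by
    decide +kernel
  exact beq_iff_eq.1 (List.all_eq_true.1 (List.all_eq_true.1 h r (List.mem_range.2 hr)) s (List.mem_range.2 hs))

theorem blt_of {a b : ℕ} (h : a < b) : Nat.blt a b = true := by rwa [Nat.blt_eq]

theorem du_a1 {r s m : ℕ} (h : a1 r s m = true) : a1 (du r) (du s) (du m) = true := by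
  unfold a1 at h
  simp only [Bool.and_eq_true] at h
  obtain ⟨⟨⟨⟨⟨hr, hs⟩, hm⟩, h1⟩, h2⟩, h3⟩ := h
  have hr := blt_iff hr
  have hs := blt_iff hs
  have hm := blt_iff hm
  have h4 := List.all_eq_true.1 (List.all_eq_true.1 du_a1chk r (List.mem_range.2 hr)) s (List.mem_range.2 hs)
  rw [Bool.not_eq_true'] at h2
  rw [h2, h1] at h4
  have h5 := List.all_eq_true.1 h4 m (List.mem_range.2 hm)
  rw [h3] at h5
  unfold a1
  simp only [Bool.and_eq_true]
  refine ⟨⟨⟨⟨⟨blt_of (du_lt hr), blt_of (du_lt hs)⟩, blt_of (du_lt hm)⟩, ?_⟩, ?_⟩, h5⟩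
  · rw [du_long hr, du_long hs, beq_iff_eq.1 h1]
    exact beq_self_eq_true _
  · rw [du_nn hr hs, h2]; rfl

theorem du_a2 {r s m k : ℕ} (h : a2 r s m k = true) : a2 (du s) (du r) (du k) (du m) = true := by
  unfold a2 at h
  simp only [Bool.and_eq_true] at h
  obtain ⟨⟨⟨⟨⟨⟨⟨⟨hr, hs⟩, hm⟩, hk⟩, h1⟩, h2⟩, h3⟩, h4⟩, h5⟩ := h
  have hr := blt_iff hr
  have hs := blt_iff hs
  have hm := blt_iff hm
  have hk := blt_iff hk
  have h6 := List.all_eq_true.1 du_a2chk r (List.mem_range.2 hr)
  rw [h1] at h6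
  have h7 := List.all_eq_true.1 h6 s (List.mem_range.2 hs)
  rw [Bool.not_eq_true'] at h2 h3
  rw [h2, h3] at h7
  have h8 := List.all_eq_true.1 h7 m (List.mem_range.2 hm)
  have h9 := List.all_eq_true.1 h7 k (List.mem_range.2 hk)
  rw [Bool.and_eq_true] at h8 h9
  have h10 := h8.1
  have h11 := h9.2
  rw [h4] at h10
  rw [h5] at h11
  unfold a2
  simp only [Bool.and_eq_true]
  refine ⟨⟨⟨⟨⟨⟨⟨⟨blt_of (du_lt hs), blt_of (du_lt hr)⟩, blt_of (du_lt hk)⟩, blt_of (du_lt hm)⟩, ?_⟩, ?_⟩, ?_⟩, h11⟩, h10⟩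
  · rw [du_long hs, h2]; rfl
  · rw [du_long hr, h1]; rfl
  · rw [du_nn hs hr, nn_symm hs hr, h3]; rfl

theorem lenChk1 : ((List.range 48).all fun r => (List.range 48).all fun s =>
    (nn r).testBit s || !(longM.testBit r == longM.testBit s) || (List.range 48).all fun m =>
      !(lin 1 m 1 r 1 s) || (longM.testBit m == longM.testBit r)) = true := by decide +kernel

theorem lenChk2 : ((List.range 48).all fun r => !longM.testBit r || (List.range 48).all fun s =>
    (nn r).testBit s || longM.testBit s || (List.range 48).all fun m =>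
      (!(lin 1 m 1 r 1 s) || !longM.testBit m) && (!(lin 1 m 1 r 2 s) || longM.testBit m)) = true := by
  decide +kernel

theorem dmChk : (cml.all fun P => spanM (dm P) && Nat.beq (starM (dm P)) (dm (starM P))) = true := by decide +kernel

theorem lor_fold (P : ℕ) (L : List ℕ) : ∀ (i s : ℕ),
    (L.foldl (fun acc r => if P.testBit r then Nat.lor acc (2 ^ du r) else acc) i).testBit s = true ↔
      i.testBit s = true ∨ ∃ r ∈ L, P.testBit r = true ∧ du r = s := by
  induction L with
  | nil => intro i s; simp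
  | cons a L ih =>
    intro i s
    rw [List.foldl_cons, ih]
    have e1 : ∀ x y : ℕ, Nat.lor x y = x ||| y := fun _ _ => rfl
    by_cases ha : P.testBit a = true
    · rw [if_pos ha, e1, Nat.testBit_lor, Bool.or_eq_true, Nat.testBit_two_pow, decide_eq_true_iff]
      constructor
      · rintro ((h | h) | ⟨r, hr, h⟩)
        · exact Or.inl h
        · exact Or.inr ⟨a, List.mem_cons_self, ha, h⟩
        · exact Or.inr ⟨r, List.mem_cons_of_mem _ hr, h⟩
      · rintro (h | ⟨r, hr, h1, h2⟩)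
        · exact Or.inl (Or.inl h)
        · rcases List.mem_cons.1 hr with rfl | hr
          · exact Or.inl (Or.inr h2)
          · exact Or.inr ⟨r, hr, h1, h2⟩
    · rw [if_neg ha]
      constructor
      · rintro (h | ⟨r, hr, h⟩)
        · exact Or.inl h
        · exact Or.inr ⟨r, List.mem_cons_of_mem _ hr, h⟩
      · rintro (h | ⟨r, hr, h1, h2⟩)
        · exact Or.inl h
        · rcases List.mem_cons.1 hr with rfl | hr
          · exact absurd h1 ha
          · exact Or.inr ⟨r, hr, h1, h2⟩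

theorem testBit_dm {P s : ℕ} : (dm P).testBit s = true ↔ ∃ r < 48, P.testBit r = true ∧ du r = s := by
  unfold dm
  rw [lor_fold, Nat.zero_testBit]
  simp only [List.mem_range, Bool.false_eq_true, false_or]

variable (F) in
/-- the root groups of the dual chart -/
def XD (r : ℕ) : Subgroup ↥(chevF4.group F) := XI F (du r)

omit [Finite F] [CharP F 2] in
theorem SP_XD (P : ℕ) : SP (XD F) P = SP (XI F) (dm P) := by
  apply le_antisymm
  · exact SP_le fun r hr h => le_SP (X := XI F) (du_lt hr) (testBit_dm.2 ⟨r, hr, h, rfl⟩)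
  · refine SP_le fun s hs h => ?_
    obtain ⟨r, hr, h1, rfl⟩ := testBit_dm.1 h
    exact le_SP (X := XD F) hr h1

/-- the root elements of the dual chart -/
noncomputable def eD (rt : F ≃+* F) (r : ℕ) (t : F) : ↥(chevF4.group F) :=
  if longM.testBit r = true then eI F (du r) (rt t) else eI F (du r) t

omit [Finite F] in
theorem exists_rt [Finite F] : ∃ rt : F ≃+* F, ∀ t, rt t ^ 2 = t := by
  have h1 : Function.Bijective (frobenius F 2) :=
    ⟨frobenius_inj F 2, Finite.surjective_of_injective (frobenius_inj F 2)⟩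
  refine ⟨(RingEquiv.ofBijective (frobenius F 2) h1).symm, fun t => ?_⟩
  exact (RingEquiv.ofBijective (frobenius F 2) h1).apply_symm_apply t

section

variable {rt : F ≃+* F}

omit [Finite F] [CharP F 2] in
theorem eD_long {r : ℕ} (h : longM.testBit r = true) (t : F) : eD rt r t = eI F (du r) (rt t) := if_pos h

omit [Finite F] [CharP F 2] in
theorem eD_short {r : ℕ} (h : longM.testBit r = false) (t : F) : eD rt r t = eI F (du r) t :=
  if_neg (by rw [h]; decide)

theorem rlD (hrt : ∀ t, rt t ^ 2 = t) : Rl (eD rt) (XD F) where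
  mem r hr y := by
    have h1 := (rl (F := F)).mem (du r) (du_lt hr) y
    show y ∈ XI F (du r) ↔ _
    rw [h1]
    cases h : longM.testBit r
    · simp only [eD_short h]
    · simp only [eD_long h]
      constructor
      · rintro ⟨t, rfl⟩
        exact ⟨rt.symm t, by rw [RingEquiv.apply_symm_apply]⟩
      · rintro ⟨t, rfl⟩
        exact ⟨rt t, rfl⟩
  add r hr t u := by
    cases h : longM.testBit r
    · simp only [eD_short h]; exact rl.add _ (du_lt hr) t u
    · simp only [eD_long h, map_add]; exact rl.add _ (du_lt hr) _ _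
  inj r hr t h1 := by
    cases h : longM.testBit r
    · rw [eD_short h] at h1; exact rl.inj _ (du_lt hr) t h1
    · rw [eD_long h] at h1
      exact (map_eq_zero_iff rt rt.injective).1 (rl.inj _ (du_lt hr) _ h1)
  sep r hr s hs hrs t u h1 := by
    have hne : du r ≠ du s := fun h0 => hrs (by rw [← du_du hr, ← du_du hs, h0])
    have key : ∀ t' u', eI F (du r) t' = eI F (du s) u' → t' = 0 := fun t' u' h =>
      rl.sep _ (du_lt hr) _ (du_lt hs) hne t' u' h
    cases h : longM.testBit r <;> cases h' : longM.testBit s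
    · rw [eD_short h, eD_short h'] at h1; exact key _ _ h1
    · rw [eD_short h, eD_long h'] at h1; exact key _ _ h1
    · rw [eD_long h, eD_short h'] at h1; exact (map_eq_zero_iff rt rt.injective).1 (key _ _ h1)
    · rw [eD_long h, eD_long h'] at h1; exact (map_eq_zero_iff rt rt.injective).1 (key _ _ h1)
  c0 r hr s hs h0 t u := by
    have key : ∀ t' u', eI F (du r) t' * eI F (du s) u' = eI F (du s) u' * eI F (du r) t' := fun t' u' =>
      rl.c0 _ (du_lt hr) _ (du_lt hs) (by rw [du_nn hr hs, h0]) t' u'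
    unfold eD
    split_ifs <;> exact key _ _
  c1 r s m h t u := by
    have h1 := du_a1 h
    unfold a1 at h
    simp only [Bool.and_eq_true] at h
    obtain ⟨⟨⟨⟨⟨hr, hs⟩, hm⟩, h2⟩, h3⟩, h4⟩ := h
    have h5 : longM.testBit m = longM.testBit r := by
      have h7 := List.all_eq_true.1 (List.all_eq_true.1 lenChk1 r (List.mem_range.2 (blt_iff hr))) s
        (List.mem_range.2 (blt_iff hs))
      rw [Bool.not_eq_true'] at h3
      rw [h3, h2] at h7
      have h8 := List.all_eq_true.1 h7 m (List.mem_range.2 (blt_iff hm))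
      rw [h4] at h8
      exact beq_iff_eq.1 h8
    have h6 := beq_iff_eq.1 h2
    cases h7 : longM.testBit r
    · rw [eD_short h7, eD_short (h6 ▸ h7), eD_short (h5.trans h7)]
      exact rl.c1 _ _ _ h1 t u
    · rw [eD_long h7, eD_long (h6 ▸ h7), eD_long (h5.trans h7), map_mul]
      exact rl.c1 _ _ _ h1 _ _
  c2 r s m k h t u := by
    have h1 := du_a2 h
    have h0 := h
    unfold a2 at h
    simp only [Bool.and_eq_true] at h
    obtain ⟨⟨⟨⟨⟨⟨⟨⟨hr, hs⟩, hm⟩, hk⟩, h2⟩, h3⟩, h4⟩, h5⟩, h6⟩ := h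
    have h1' := h1
    unfold a2 at h1'
    simp only [Bool.and_eq_true] at h1'
    obtain ⟨⟨⟨⟨⟨⟨⟨⟨hr', hs'⟩, hm'⟩, hk'⟩, h2'⟩, h3'⟩, h4'⟩, h5'⟩, h6'⟩ := h1'
    have h8 : longM.testBit m = false ∧ longM.testBit k = true := by
      have h7 := List.all_eq_true.1 lenChk2 r (List.mem_range.2 (blt_iff hr))
      rw [h2] at h7
      have h8 := List.all_eq_true.1 h7 s (List.mem_range.2 (blt_iff hs))
      rw [Bool.not_eq_true'] at h3 h4
      rw [h3, h4] at h8
      have h9 := List.all_eq_true.1 h8 m (List.mem_range.2 (blt_iff hm))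
      have h10 := List.all_eq_true.1 h8 k (List.mem_range.2 (blt_iff hk))
      rw [Bool.and_eq_true] at h9 h10
      have h11 := h9.1
      have h12 := h10.2
      rw [h5] at h11
      rw [h6] at h12
      refine ⟨?_, h12⟩
      simpa using h11
    have h9 : (longM.testBit s) = false := by simpa using h3
    have hm := blt_iff hm
    have hk := blt_iff hk
    rw [eD_long h2, eD_short h9, eD_short h8.1, eD_long h8.2, ← commutatorElement_inv,
      rl.c2 _ _ _ _ h1, mul_inv_rev, rl.inv (du_lt hm), rl.inv (du_lt hk), hrt, map_mul, mul_comm u t,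
      mul_comm u (rt t)]
    have h10 : rt (u ^ 2) = u := by
      have h11 : (rt (u ^ 2) - u) ^ 2 = 0 := by
        have h12 : (rt (u ^ 2) - u) ^ 2 = rt (u ^ 2) ^ 2 - u ^ 2 := sub_pow_char _ _
        rw [h12, hrt, sub_self]
      exact sub_eq_zero.1 (pow_eq_zero_iff two_ne_zero |>.1 h11)
    rw [h10]
  cm P hP g h := by
    have h1 := List.all_eq_true.1 dmChk P hP
    rw [Bool.and_eq_true] at h1
    rw [SP_XD, ← Nat.eq_of_beq_eq_true h1.2]
    refine cmI h1.1 fun s hs h2 y hy => ?_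
    obtain ⟨r, hr, h3, rfl⟩ := testBit_dm.1 h2
    exact h r hr h3 y hy

end

end Cfsg.Agent.KFacts.F4RlInst
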