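import Cfsg.Agent.KFacts.F4Rl
import Cfsg.Agent.GTwoFour.Tools

/-!
`F₄(q)`, `q ≥ 2` even: the long root parabolic in a chart `F4Rl.Rl` (K-group facts for OMEGA, NodeAll h1; F4).

`ρ = 47` the highest root (long), `σ = 44` the highest short root; `Q_l = SP X mQl` (roots with `⟨r, ρ^∨⟩ ≥ 1`),
`U_l = SP X mUl = Z(Q_l)`, `Q_s`, `U_s` the same with `σ`; `J_s = U_l ∩ Q_s`, `J_l = U_s ∩ Q_l`, `J₀ = Q_s ∩ Q_l`.

* `comm_Ql`, `mem_Ul`, `irr` (14), `typ`;
* `Fm j t` : the coordinates of `j ∈ J₀` at `36, 38, 39, 40`; `exists_D` : the action of `Q_s Q_l` on `U_l`;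
* `fix`, `triv`, `fin`, `mix`.
-/

set_option autoImplicit false
set_option Elab.async false
set_option linter.unusedSectionVars false

namespace Cfsg.Agent.KFacts.F4Side

open Cfsg.Agent.KFacts.F4Star Cfsg.Agent.KFacts.F4Rl
open scoped commutatorElement

def mQQ : ℕ := 281473449984000
def mQl : ℕ := 279076858232832
def mQs : ℕ := 281466386776064
def mUl : ℕ := 160323076096000
def mUs : ℕ := 279275953455104
def mJs : ℕ := 160322539225088
def mJl : ℕ := 277076930199552
def mJ0 : ℕ := 279069795024896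
def mPo : ℕ := 281474959933440
/-- `{29, 36, 38, 39, 40}` -/
def m5 : ℕ := 1993589784576

theorem star_Ql : starM mQl = mUl := by decide +kernel
theorem star_QQ : starM mQQ = 2 ^ 47 + 2 ^ 44 := by decide +kernel
theorem star_Ul : starM mUl = mQl := by decide +kernel
theorem star_Js : starM mJs = mQl + 2 ^ 41 := by decide +kernel
theorem star_M1 : starM 279076841455616 = mUl + 2 ^ 46 := by decide +kernel
theorem star_M2 : starM 281464843272192 = 2 ^ 40 + 2 ^ 44 + 2 ^ 46 + 2 ^ 47 := by decide +kernel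
theorem star_Qs : starM mQs = mUs := by decide +kernel

variable {F Y : Type*} [Field F] [CharP F 2] [Group Y] {e : ℕ → F → Y} {X : ℕ → Subgroup Y} (R : Rl e X)

include R

/-! ### Peeling -/

/-- one root group and a normalised group -/
theorem peel {r P P' : ℕ} (hr : r < 48) (hn : comM (2 ^ r) P P = true)
    (hP : ((List.range 48).all fun s => !P'.testBit s || Nat.beq s r || P.testBit s) = true) {y : Y}
    (hy : y ∈ SP X P') : ∃ t, ∃ w ∈ SP X P, y = e r t * w := by
  have hrr : (2 ^ r).testBit r = true := Nat.testBit_two_pow_self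
  have h1 : SP X P' ≤ X r ⊔ SP X P := by
    refine R.SP_le' fun s hs h t => ?_
    have h2 := List.all_eq_true.1 hP s (List.mem_range.2 hs)
    rw [h, Bool.or_eq_true, Bool.or_eq_true] at h2
    rcases h2 with (h2 | h2) | h2
    · exact absurd h2 (by decide)
    · rw [Nat.eq_of_beq_eq_true h2]
      exact Subgroup.mem_sup_left (R.e_mem hr t)
    · exact Subgroup.mem_sup_right (le_SP hs h2 (R.e_mem hs t))
  have h2 : X r ≤ Subgroup.normalizer (SP X P : Set Y) := (le_SP (X := X) hr hrr).trans (R.norm_SP hn)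
  have h3 : y ∈ ((X r ⊔ SP X P : Subgroup Y) : Set Y) := h1 hy
  rw [Subgroup.coe_mul_of_left_le_normalizer_right _ _ h2, Set.mem_mul] at h3
  obtain ⟨a, ha, w, hw, rfl⟩ := h3
  obtain ⟨t, rfl⟩ := (R.mem r hr a).1 ha
  exact ⟨t, w, hw, rfl⟩

omit [CharP F 2] in
theorem SP_one {r : ℕ} (hr : r < 48) {y : Y} (hy : y ∈ SP X (2 ^ r)) : ∃ t, y = e r t := by
  have h1 : SP X (2 ^ r) ≤ X r := SP_le fun s _ h => by
    rw [Nat.testBit_two_pow, decide_eq_true_iff] at h
    rw [h]
  obtain ⟨t, rfl⟩ := (R.mem r hr y).1 (h1 hy)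
  exact ⟨t, rfl⟩

/-- a root element times another root element is trivial only if both are -/
theorem mul_sep {r s : ℕ} (hr : r < 48) (hs : s < 48) (hrs : r ≠ s) {t u : F} (h : e r t * e s u = 1) :
    t = 0 ∧ u = 0 := by
  have h1 : e r t = e s u := by rw [← R.inv hs u]; exact eq_inv_of_mul_eq_one_left h
  exact ⟨R.sep r hr s hs hrs t u h1, R.sep s hs r hr hrs.symm u t h1.symm⟩

omit R in
omit [CharP F 2] in
theorem a1_lt {r s m : ℕ} (h : a1 r s m = true) : r < 48 ∧ s < 48 ∧ m < 48 := by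
  unfold a1 at h
  simp only [Bool.and_eq_true, Nat.blt_eq] at h
  exact ⟨h.1.1.1.1.1, h.1.1.1.1.2, h.1.1.1.2⟩

theorem conj_e (x y : Y) : x * y * x⁻¹ = ⁅x, y⁆ * y := by rw [commutatorElement_def]; group

theorem conj1 {r s m : ℕ} (h : a1 r s m = true) (t u : F) : e r t * e s u * (e r t)⁻¹ = e m (t * u) * e s u := by
  rw [conj_e R, R.c1 r s m h]

theorem conj2 {r s m k : ℕ} (h : a2 r s m k = true) (t u : F) :
    e r t * e s u * (e r t)⁻¹ = e m (t * u) * e k (t * u ^ 2) * e s u := by
  rw [conj_e R, R.c2 r s m k h]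

/-! ### `Q_l` -/

theorem comm_Ql {x y : Y} (hx : x ∈ SP X mQl) (hy : y ∈ SP X mQl) : ⁅x, y⁆ ∈ X 47 := by
  obtain ⟨t, ht⟩ := SP_one R (by norm_num) (R.comm_SP (N := 2 ^ 47) (by decide +kernel) (by decide +kernel)
    (by decide +kernel) hx hy)
  rw [ht]
  exact R.e_mem (by norm_num) t

theorem le_comm_Ql : X 47 ≤ ⁅SP X mQl, SP X mQl⁆ := by
  intro x hx
  obtain ⟨t, rfl⟩ := (R.mem 47 (by norm_num) x).1 hx
  have h1 := R.c1 24 46 47 (by decide +kernel) t 1
  rw [mul_one] at h1
  rw [← h1]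
  exact Subgroup.commutator_mem_commutator (le_SP (by norm_num) (by decide +kernel) (R.e_mem (by norm_num) _))
    (le_SP (by norm_num) (by decide +kernel) (R.e_mem (by norm_num) _))

theorem comm_Ul_Ql {x y : Y} (hx : x ∈ SP X mUl) (hy : y ∈ SP X mQl) : x * y = y * x :=
  R.comm_zero (by decide +kernel) hx hy

omit [CharP F 2] in
theorem mem_Ul {x : Y} (h : ∀ y ∈ SP X mQl, x * y = y * x) : x ∈ SP X mUl := by
  rw [← star_Ql]
  refine R.cm mQl (by decide) x fun r hr h1 y hy => h y (le_SP hr h1 hy)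

omit [CharP F 2] in
theorem mem_Ql {x : Y} (h : ∀ y ∈ SP X mUl, x * y = y * x) : x ∈ SP X mQl := by
  rw [← star_Ul]
  refine R.cm mUl (by decide) x fun r hr h1 y hy => h y (le_SP hr h1 hy)

omit R in
omit [CharP F 2] in
/-- Hall-Witt -/
theorem hw {a b x y m t : Y} (hx : t * x * t⁻¹ = a * x) (hy : t * y * t⁻¹ = b * y) (hm : ⁅x, y⁆ = m)
    (ay : Commute a y) (ab : Commute a b) (am : Commute a m) (bx : Commute b x) (hby : Commute b y) :
    t * m = m * t := by
  have bm : Commute b m := by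
    rw [← hm, commutatorElement_def]
    exact ((bx.mul_right hby).mul_right bx.inv_right).mul_right hby.inv_right
  have h1 : t * m * t⁻¹ = ⁅a * x, b * y⁆ := by
    rw [← hx, ← hy, ← hm]; simp only [commutatorElement_def]; group
  have h2 : x * y * x⁻¹ = m * y := by rw [← hm, commutatorElement_def]; group
  have h3 : ⁅a * x, b * y⁆ = m := by
    calc ⁅a * x, b * y⁆ = a * (x * b) * y * x⁻¹ * a⁻¹ * y⁻¹ * b⁻¹ := by rw [commutatorElement_def]; group
      _ = a * b * (x * y * x⁻¹) * a⁻¹ * y⁻¹ * b⁻¹ := by rw [← bx.eq]; group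
      _ = a * b * m * (y * a⁻¹) * y⁻¹ * b⁻¹ := by rw [h2]; group
      _ = a * b * m * (a⁻¹ * y) * y⁻¹ * b⁻¹ := by rw [ay.symm.inv_right.eq]
      _ = (a * b) * m * a⁻¹ * b⁻¹ := by group
      _ = (b * a) * m * a⁻¹ * b⁻¹ := by rw [ab.eq]
      _ = b * (a * m) * a⁻¹ * b⁻¹ := by group
      _ = (b * m) * b⁻¹ := by rw [am.eq]; group
      _ = m := by rw [bm.eq]; group
  rw [h3] at h1
  calc t * m = (t * m * t⁻¹) * t := by group
    _ = m * t := by rw [h1]

/-- moving along a root -/
theorem step {T : Subgroup Y} {r d m : ℕ} (h : a1 r d m = true) (hd : ∀ s, ∀ t ∈ T, e d s * t * (e d s)⁻¹ ∈ T)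
    {u : F} (hu : u ≠ 0) (hT : e r u ∈ T) (t : F) : e m t ∈ T := by
  have h1 := R.c1 r d m h u (u⁻¹ * t)
  rw [mul_inv_cancel_left₀ hu] at h1
  have h2 := hd (u⁻¹ * t) _ (inv_mem hT)
  rw [← h1, commutatorElement_def]
  have h3 : e r u * e d (u⁻¹ * t) * (e r u)⁻¹ * (e d (u⁻¹ * t))⁻¹ =
    e r u * (e d (u⁻¹ * t) * (e r u)⁻¹ * (e d (u⁻¹ * t))⁻¹) := by group
  rw [h3]
  exact mul_mem hT h2

/-- `Q_l / U_l` is irreducible for `C(X_ρ)`. -/
theorem irr [Finite Y] (hp : IsPGroup 2 (SP X mPo)) {T : Subgroup Y} (hT : T ≤ SP X mQl)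
    (hn : ∀ g ∈ SP X (nn 47), ∀ t ∈ T, g * t * g⁻¹ ∈ T)
    (hc : ∀ q ∈ SP X mQl, (∀ t ∈ T, q * t = t * q) → q ∈ T) : T = SP X mQl := by
  have hU : SP X mUl ≤ T := by
    intro x hx
    have h1 : x ∈ SP X mQl := SP_mono (by decide +kernel) hx
    exact hc x h1 fun t ht => comm_Ul_Ql R hx (hT ht)
  by_cases h0 : T ≤ SP X mUl
  · refine le_antisymm hT fun q hq => hc q hq fun t ht => (comm_Ul_Ql R (h0 ht) hq).symm
  · have hPG : SP X mPo ≤ SP X (nn 47) := SP_mono (by decide +kernel)
    have hnU : ∀ y ∈ SP X mPo, ∀ m ∈ SP X mUl, y * m * y⁻¹ ∈ SP X mUl := fun y hy m hm =>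
      (Subgroup.mem_normalizer_iff.1 (R.norm_SP (P := mPo) (N := mUl) (by decide +kernel) hy) m).1 hm
    have : Fact (Nat.Prime 2) := ⟨Nat.prime_two⟩
    obtain ⟨t, ht, htU, hfix⟩ := Cfsg.Agent.GTwoFour.Tools.exists_fixed_mod hp
      (hT.trans (SP_mono (by decide +kernel))) (fun y hy n hn' => hn y (hPG hy) n hn') hnU
      (by
        by_contra h1
        push Not at h1
        exact h0 fun x hx => h1 x hx)
    have htQ := hT ht
    have hPU : ∀ x ∈ SP X mPo, ∀ y ∈ X 47, x * y = y * x := fun x hx y hy =>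
      R.comm_zero (P := mPo) (Q := 2 ^ 47) (by decide +kernel) hx (le_SP (by norm_num) (by decide +kernel) hy)
    -- `t` commutes with `X m` for `m = d + c`
    have key : ∀ d c m, a1 d c m = true → mPo.testBit d = true → mQl.testBit c = true → mQl.testBit m = true →
        ∀ s, t * e m s = e m s * t := by
      intro d c m h hd hc' hm' s
      obtain ⟨hd48, hc48, hm48⟩ := a1_lt h
      have hdm : e d s ∈ SP X mPo := le_SP hd48 hd (R.e_mem hd48 s)
      have hcm : e c 1 ∈ SP X mQl := le_SP hc48 hc' (R.e_mem hc48 1)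
      have hcm' : e c 1 ∈ SP X mPo := SP_mono (by decide +kernel) hcm
      have h1 : ⁅t, e d s⁆ ∈ SP X mUl := by
        rw [← commutatorElement_inv]; exact inv_mem (hfix _ hdm)
      have h2 : ⁅t, e c 1⁆ ∈ X 47 := comm_Ql R htQ hcm
      have h1P : ⁅t, e d s⁆ ∈ SP X mPo := SP_mono (by decide +kernel) h1
      refine hw (a := ⁅t, e d s⁆) (b := ⁅t, e c 1⁆) (x := e d s) (y := e c 1) (conj_e R _ _) (conj_e R _ _)
        (by rw [R.c1 d c m h, mul_one]) (comm_Ul_Ql R h1 hcm) (hPU _ h1P _ h2)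
        (comm_Ul_Ql R h1 (le_SP hm48 hm' (R.e_mem hm48 s))) (hPU _ hdm _ h2).symm (hPU _ hcm' _ h2).symm
    have key2 : ∀ r < 48, mUl.testBit r = true → ∀ s, t * e r s = e r s * t := fun r hr h s =>
      (comm_Ul_Ql R (le_SP hr h (R.e_mem hr s)) htQ).symm
    have h1 : t ∈ SP X (starM 279076841455616) := by
      refine R.cm _ (by decide) t fun r hr h2 y hy => ?_
      obtain ⟨s, rfl⟩ := (R.mem r hr y).1 hy
      by_cases h3 : mUl.testBit r = true
      · exact key2 r hr h3 s
      · have h4 : ((List.range 48).all fun r => !(279076841455616 : ℕ).testBit r || mUl.testBit r ||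
            ((List.range 48).any fun d => mPo.testBit d && (List.range 48).any fun c => mQl.testBit c && mQl.testBit r &&
              a1 d c r)) = true := by decide +kernel
        have h5 := List.all_eq_true.1 h4 r (List.mem_range.2 hr)
        rw [Bool.not_eq_true] at h3
        rw [h2, h3, Bool.not_true, Bool.false_or, Bool.false_or] at h5
        obtain ⟨d, -, h6⟩ := List.any_eq_true.1 h5
        rw [Bool.and_eq_true] at h6
        obtain ⟨c, -, h7⟩ := List.any_eq_true.1 h6.2
        rw [Bool.and_eq_true, Bool.and_eq_true] at h7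
        exact key d c r h7.2 h6.1 h7.1.1 h7.1.2 s
    rw [star_M1] at h1
    obtain ⟨u, w, hw', hte⟩ := peel R (r := 46) (P := mUl) (by norm_num) (by decide +kernel) (by decide +kernel) h1
    have hu : u ≠ 0 := by
      rintro rfl
      rw [R.zero (by norm_num), one_mul] at hte
      exact htU (hte ▸ hw')
    have h2 : e 46 u ∈ T := by
      have h3 : e 46 u = t * w⁻¹ := by rw [hte]; group
      rw [h3]
      exact mul_mem ht (inv_mem (hU hw'))
    have hd : ∀ d, (nn 47).testBit d = true → d < 48 → ∀ s, ∀ t ∈ T, e d s * t * (e d s)⁻¹ ∈ T := fun d h hd48 s t ht =>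
      hn _ (le_SP hd48 h (R.e_mem hd48 s)) t ht
    have m45 := step R (r := 46) (d := 22) (m := 45) (by decide +kernel) (hd 22 (by decide +kernel) (by norm_num)) hu h2
    have m46 := step R (r := 45) (d := 25) (m := 46) (by decide +kernel) (hd 25 (by decide +kernel) (by norm_num))
      one_ne_zero (m45 1)
    have m43 := step R (r := 46) (d := 17) (m := 43) (by decide +kernel) (hd 17 (by decide +kernel) (by norm_num))
      one_ne_zero (m46 1)
    have m42 := step R (r := 43) (d := 22) (m := 42) (by decide +kernel) (hd 22 (by decide +kernel) (by norm_num))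
      one_ne_zero (m43 1)
    have m32 := step R (r := 46) (d := 6) (m := 32) (by decide +kernel) (hd 6 (by decide +kernel) (by norm_num))
      one_ne_zero (m46 1)
    have m31 := step R (r := 45) (d := 6) (m := 31) (by decide +kernel) (hd 6 (by decide +kernel) (by norm_num))
      one_ne_zero (m45 1)
    have m26 := step R (r := 43) (d := 6) (m := 26) (by decide +kernel) (hd 6 (by decide +kernel) (by norm_num))
      one_ne_zero (m43 1)
    have m24 := step R (r := 42) (d := 6) (m := 24) (by decide +kernel) (hd 6 (by decide +kernel) (by norm_num))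
      one_ne_zero (m42 1)
    refine le_antisymm hT (R.SP_le' fun r hr h t => ?_)
    by_cases h3 : mUl.testBit r = true
    · exact hU (le_SP hr h3 (R.e_mem hr t))
    · have h4 : ((List.range 48).all fun r => !mQl.testBit r || mUl.testBit r ||
          [24, 26, 31, 32, 42, 43, 45, 46].contains r) = true := by decide +kernel
      have h5 := List.all_eq_true.1 h4 r (List.mem_range.2 hr)
      rw [Bool.not_eq_true] at h3
      rw [h, h3] at h5
      have h6 : r ∈ [24, 26, 31, 32, 42, 43, 45, 46] := by simpa using h5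
      simp only [List.mem_cons, List.not_mem_nil, or_false] at h6
      rcases h6 with rfl | rfl | rfl | rfl | rfl | rfl | rfl | rfl
      · exact m24 t
      · exact m26 t
      · exact m31 t
      · exact m32 t
      · exact m42 t
      · exact m43 t
      · exact m45 t
      · exact m46 t

end Cfsg.Agent.KFacts.F4Side
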