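import Cfsg.Agent.KFacts.ChevTwoSysInst

/-!
`F₄` in characteristic two: centralisers of sets of root elements by bit masks (K-group facts for S1765, node D10).

A set of roots of `chevF4` is a mask `P < 2 ^ 48` (bit `r` = the root with index `r`).
* `masks` : bit `s` of `nn r` is `0 ≤ ⟨s, r^∨⟩`; `starM P` : the roots `s` with `0 ≤ ⟨s, r^∨⟩` for all `r ∈ P`;
* `spanM P` : a check that a character of the root lattice with values in a field of characteristic two, trivial on `P`,
  is trivial;
* `cent_mask` : the centraliser of nontrivial elements of the root groups in `P` lies in the group generated by the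
  root groups in `starM P`.
-/

set_option autoImplicit false
set_option Elab.async false

namespace Cfsg.Agent.KFacts.F4Star

open CoxeterSystem Cfsg.Agent.ChevalleyStructure.CoxeterGeom Cfsg.Agent.Tits.Roots Cfsg.Agent.Tits.Core
open Cfsg.Lie Cfsg.Agent.ChevalleyStructure Cfsg.Agent.ChevalleyStructure.Elts
  Cfsg.Agent.ChevalleyStructure.RootVec Cfsg.Agent.ChevalleyStructure.CoxeterGeomTypes
open Cfsg.Agent.Nodes Cfsg.Agent.Nodes.Reps Cfsg.Agent.Nodes.BNOf Cfsg.Agent.Nodes.RGDChev Cfsg.Agent.Nodes.Coroot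
  Cfsg.Agent.KFacts.ChevTwo Cfsg.Agent.KFacts.ChevTwoTab Cfsg.Agent.KFacts.ChevTwoInst

/-- bit `s` of the `r`-th entry: `0 ≤ ⟨s, r^∨⟩` -/
def masks : List ℕ := [
  2398118477823, 4770324545535, 9462746185727, 8589934591, 36721868472319, 72198378586111, 142738932269055,
    15522146009087, 42222916460543, 82099754758143, 154840673810431, 109048597183487, 181788474015231,
    221663120817919, 248360776793983, 68711054548895, 104170518458287, 174676980512719, 138737560292287,
    209279487284703, 244758234506991, 131317969574843, 201721350381019, 135993071365053, 208734024037854,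
    241598195003117, 243935739606766, 272017356806523, 276707541346941, 279078374110334, 268203442076537,
    270436867276154, 274852129832572, 280367009335175, 280920018885011, 281197258713765, 281336050595014,
    281405634759473, 281440305206610, 281457655506532, 281466384709744, 281467913472897, 281469297595778,
    281471614953092, 281474976677888, 281474874792208, 281474955045408, 281474965861440]

/-- pairs `(a, b)` with `a + b = c` or `a + b = 2 c` -/
def decs : List (List (ℕ × ℕ)) := [
  [(1, 23), (2, 21), (3, 18), (4, 16), (5, 15), (7, 11), (8, 9)],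
    [(0, 24), (2, 22), (3, 19), (4, 17), (6, 15), (7, 12), (8, 10)],
    [(0, 26), (1, 25), (3, 20), (5, 17), (6, 16), (7, 13), (9, 10)],
    [(0, 6), (0, 29), (1, 5), (1, 28), (2, 4), (2, 27), (4, 20), (5, 19), (6, 18), (7, 14), (8, 13), (9, 12), (10, 11)],
    [(0, 31), (1, 30), (3, 27), (5, 22), (6, 21), (8, 14), (11, 12)],
    [(0, 32), (2, 30), (3, 28), (4, 25), (6, 23), (9, 14), (11, 13)],
    [(1, 32), (2, 31), (3, 29), (4, 26), (5, 24), (10, 14), (12, 13)],
    [(0, 17), (0, 36), (1, 16), (1, 35), (2, 15), (2, 34), (3, 33), (8, 20), (9, 19), (10, 18), (11, 17), (12, 16), (13, 15)],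
    [(0, 22), (0, 38), (1, 21), (1, 37), (3, 34), (4, 15), (4, 33), (7, 27), (9, 22), (10, 21), (11, 19), (12, 18), (14, 15)],
    [(0, 25), (0, 39), (2, 23), (2, 37), (3, 35), (5, 16), (5, 33), (7, 28), (8, 25), (10, 23), (11, 20), (13, 18), (14, 16)],
    [(1, 26), (1, 39), (2, 24), (2, 38), (3, 36), (6, 17), (6, 33), (7, 29), (8, 26), (9, 24), (12, 20), (13, 19), (14, 17)],
    [(0, 30), (0, 40), (3, 37), (4, 23), (4, 35), (5, 21), (5, 34), (7, 30), (8, 28), (9, 27), (12, 23), (13, 21), (14, 18)],
    [(1, 31), (1, 40), (3, 38), (4, 24), (4, 36), (6, 22), (6, 34), (7, 31), (8, 29), (10, 27), (11, 24), (13, 22), (14, 19)],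
    [(2, 32), (2, 40), (3, 39), (5, 26), (5, 36), (6, 25), (6, 35), (7, 32), (9, 29), (10, 28), (11, 26), (12, 25), (14, 20)],
    [(3, 40), (4, 32), (4, 39), (5, 31), (5, 38), (6, 30), (6, 37), (8, 32), (9, 31), (10, 30), (11, 29), (12, 28), (13, 27)],
    [(0, 42), (1, 41), (7, 34), (8, 33), (16, 22), (17, 21), (18, 19)],
    [(0, 43), (2, 41), (7, 35), (9, 33), (15, 25), (17, 23), (18, 20)],
    [(1, 43), (2, 42), (7, 36), (10, 33), (15, 26), (16, 24), (19, 20)],
    [(0, 41), (0, 44), (3, 41), (7, 37), (8, 35), (9, 34), (11, 33), (15, 23), (15, 28), (16, 21), (16, 27), (19, 23), (20, 21)],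
    [(1, 42), (1, 44), (3, 42), (7, 38), (8, 36), (10, 34), (12, 33), (15, 24), (15, 29), (17, 22), (17, 27), (18, 24), (20, 22)],
    [(2, 43), (2, 44), (3, 43), (7, 39), (9, 36), (10, 35), (13, 33), (16, 26), (16, 29), (17, 25), (17, 28), (18, 26), (19, 25)],
    [(0, 45), (4, 41), (8, 37), (11, 34), (15, 30), (18, 27), (22, 23)],
    [(1, 45), (4, 42), (8, 38), (12, 34), (15, 31), (19, 27), (21, 24)],
    [(0, 46), (5, 41), (9, 37), (11, 35), (16, 30), (18, 28), (21, 25)],
    [(1, 47), (6, 42), (10, 38), (12, 36), (17, 31), (19, 29), (22, 26)],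
    [(2, 46), (5, 43), (9, 39), (13, 35), (16, 32), (20, 28), (23, 26)],
    [(2, 47), (6, 43), (10, 39), (13, 36), (17, 32), (20, 29), (24, 25)],
    [(3, 45), (4, 44), (4, 45), (8, 40), (11, 38), (12, 37), (14, 34), (18, 31), (19, 30), (21, 29), (21, 31), (22, 28), (22, 30)],
    [(3, 46), (5, 44), (5, 46), (9, 40), (11, 39), (13, 37), (14, 35), (18, 32), (20, 30), (23, 29), (23, 32), (25, 27), (25, 30)],
    [(3, 47), (6, 44), (6, 47), (10, 40), (12, 39), (13, 38), (14, 36), (19, 32), (20, 31), (24, 28), (24, 32), (26, 27), (26, 31)],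
    [(4, 46), (5, 45), (11, 40), (14, 37), (21, 32), (23, 31), (27, 28)],
    [(4, 47), (6, 45), (12, 40), (14, 38), (22, 32), (24, 30), (27, 29)],
    [(5, 47), (6, 46), (13, 40), (14, 39), (25, 31), (26, 30), (28, 29)],
    [(7, 44), (8, 43), (9, 42), (10, 41), (15, 39), (15, 43), (16, 38), (16, 42), (17, 37), (17, 41), (18, 36), (19, 35), (20, 34)],
    [(7, 45), (8, 44), (11, 42), (12, 41), (15, 40), (15, 45), (18, 38), (19, 37), (21, 36), (21, 42), (22, 35), (22, 41), (27, 33)],
    [(7, 46), (9, 44), (11, 43), (13, 41), (16, 40), (16, 46), (18, 39), (20, 37), (23, 36), (23, 43), (25, 34), (25, 41), (28, 33)],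
    [(7, 47), (10, 44), (12, 43), (13, 42), (17, 40), (17, 47), (19, 39), (20, 38), (24, 35), (24, 43), (26, 34), (26, 42), (29, 33)],
    [(8, 46), (9, 45), (11, 44), (14, 41), (18, 40), (21, 39), (21, 46), (23, 38), (23, 45), (27, 35), (28, 34), (30, 33), (30, 41)],
    [(8, 47), (10, 45), (12, 44), (14, 42), (19, 40), (22, 39), (22, 47), (24, 37), (24, 45), (27, 36), (29, 34), (31, 33), (31, 42)],
    [(9, 47), (10, 46), (13, 44), (14, 43), (20, 40), (25, 38), (25, 47), (26, 37), (26, 46), (28, 36), (29, 35), (32, 33), (32, 43)],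
    [(11, 47), (12, 46), (13, 45), (14, 44), (27, 39), (28, 38), (29, 37), (30, 36), (30, 47), (31, 35), (31, 46), (32, 34), (32, 45)],
    [(15, 46), (16, 45), (18, 44), (21, 43), (23, 42), (33, 37), (34, 35)],
    [(15, 47), (17, 45), (19, 44), (22, 43), (24, 41), (33, 38), (34, 36)],
    [(16, 47), (17, 46), (20, 44), (25, 42), (26, 41), (33, 39), (35, 36)],
    [(18, 47), (19, 46), (20, 45), (27, 43), (28, 42), (29, 41), (33, 40), (34, 39), (35, 38), (36, 37), (41, 47), (42, 46), (43, 45)],
    [(21, 47), (22, 46), (27, 44), (30, 42), (31, 41), (34, 40), (37, 38)],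
    [(23, 47), (25, 45), (28, 44), (30, 43), (32, 41), (35, 40), (37, 39)],
    [(24, 46), (26, 45), (29, 44), (31, 43), (32, 42), (36, 40), (38, 39)]]

def nn (r : ℕ) : ℕ := masks.getD r 0

/-- the mask of the short roots -/
def shortM : ℕ := 19783560757128

def full : ℕ := 2 ^ 48 - 1

def starM (P : ℕ) : ℕ := (List.range 48).foldl (fun acc r => if P.testBit r then Nat.land acc (nn r) else acc) full

def sb (S r : ℕ) : Bool := S.testBit r || S.testBit (47 - r)

def pass (S : ℕ) : ℕ := (List.range 48).foldl (fun acc c =>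
  if (decs.getD c []).any fun q => sb acc q.1 && sb acc q.2 then Nat.lor acc (2 ^ c) else acc) S

def spanM (P : ℕ) : Bool :=
  let S := pass (pass (pass P))
  sb S 33 && sb S 27 && sb S 25 && sb S 24

theorem masks_ok : ((List.range 48).all fun r => (List.range 48).all fun s =>
    (nn r).testBit s == decide (0 ≤ carB chevF4 r s)) = true := by decide +kernel

theorem masks_lt : (masks.all fun m => Nat.blt m (2 ^ 48)) = true := by decide +kernel

theorem decs_ok : ((List.range 48).all fun c => (decs.getD c []).all fun q =>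
    Nat.blt q.1 48 && Nat.blt q.2 48 &&
      ((List.range 4).all (fun i => decide (rt chevF4 q.1 i + rt chevF4 q.2 i = rt chevF4 c i)) ||
       (List.range 4).all (fun i => decide (rt chevF4 q.1 i + rt chevF4 q.2 i = 2 * rt chevF4 c i)))) = true := by
  decide +kernel

theorem simples_ok : chevF4.simple 0 = 33 ∧ chevF4.simple 1 = 27 ∧ chevF4.simple 2 = 25 ∧ chevF4.simple 3 = 24 ∧
    chevF4.nroots = 48 := by decide +kernel

/-- mask of `{s : 0 < ⟨s, r^∨⟩}` -/
def pp (r : ℕ) : ℕ := Nat.xor full (nn (47 - r))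

def longM : ℕ := Nat.xor full shortM

/-- `k c = m a + n b` -/
def lin (k c m a n b : ℕ) : Bool :=
  (List.range 4).all fun i => decide ((k : ℤ) * rt chevF4 c i = m * rt chevF4 a i + n * rt chevF4 b i)

/-- the roots in the cone of `a` and `b` -/
def shp (a b c : ℕ) : Bool :=
  let x := carB chevF4 b a
  let y := carB chevF4 a b
  c == a || c == b ||
  (if x = -1 ∧ y = -1 then lin 1 c 1 a 1 b
   else if x = -2 ∧ y = -1 then lin 1 c 1 a 1 b || lin 1 c 1 a 2 b
   else if x = -1 ∧ y = -2 then lin 1 c 1 a 1 b || lin 1 c 2 a 1 b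
   else if x = 0 ∧ y = 0 then
     (if longM.testBit a && longM.testBit b then lin 2 c 1 a 1 b
      else if shortM.testBit a && shortM.testBit b then lin 1 c 1 a 1 b else false)
   else false)

def okP (P a b : ℕ) : Bool := spanM P && (List.range 48).all fun c => !((starM P).testBit c) || shp a b c

/-- the full set `⟨c, a⟩ ≥ 0`, `⟨c, b⟩ ≥ 0` -/
def psi0 (a b : ℕ) : ℕ := Nat.land (nn a) (nn b)

/-- long roots `≥ 0`, short roots `> 0` -/
def psiL (a b : ℕ) : ℕ :=
  Nat.lor (Nat.land (Nat.land (nn a) (nn b)) longM) (Nat.land (Nat.land (pp a) (pp b)) shortM)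

/-- short roots `≥ 0`, long roots `> 0` -/
def psiS (a b : ℕ) : ℕ :=
  Nat.lor (Nat.land (Nat.land (nn a) (nn b)) shortM) (Nat.land (Nat.land (pp a) (pp b)) longM)

theorem chk0 : ([33, 27, 25, 24].all fun a => (List.range 48).all fun b =>
    Nat.beq (a + b) 47 || okP (psi0 a b) a b) = true := by decide +kernel

/-- `psiL`: not for two long roots, except orthogonal ones, and not for orthogonal roots of different length -/
theorem chkL : ([33, 27, 25, 24].all fun a => (List.range 48).all fun b =>
    Nat.beq (a + b) 47 || (longM.testBit a && longM.testBit b && !(carB chevF4 a b == 0)) ||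
      ((longM.testBit a != longM.testBit b) && carB chevF4 a b == 0) || okP (psiL a b) a b) = true := by decide +kernel

theorem chkS : ([33, 27, 25, 24].all fun a => (List.range 48).all fun b =>
    Nat.beq (a + b) 47 || (shortM.testBit a && shortM.testBit b && !(carB chevF4 a b == 0)) ||
      ((longM.testBit a != longM.testBit b) && carB chevF4 a b == 0) || okP (psiS a b) a b) = true := by decide +kernel

end Cfsg.Agent.KFacts.F4Star
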