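import Cfsg.Agent.KFacts.F4Typ

/-!
`F₄(q)`, `q ≥ 2` even: the lattice between `X_σ X_ρ` and `J₀`, commutators of `Q_s Q_l`, in a
chart `F4Rl.Rl` (K-group facts for OMEGA, NodeAll h1; F4).

* `two` : the groups `X_σ X_ρ < T < J₀` normalised by `C(X_σ X_ρ)` are `J_s`, `J_l`;
* `comm0`, `cen0`, `commJs`, `inf_Js`, `inf_J0`, `sup_QQ`, strict inclusions.
-/

set_option autoImplicit false
set_option Elab.async false
set_option linter.unusedSectionVars false

namespace Cfsg.Agent.KFacts.F4Two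

open Cfsg.Agent.KFacts.F4Star Cfsg.Agent.KFacts.F4Rl Cfsg.Agent.KFacts.F4Side Cfsg.Agent.KFacts.F4Form
open scoped commutatorElement

variable {F Y : Type*} [Field F] [CharP F 2] [Group Y] {e : ℕ → F → Y} {X : ℕ → Subgroup Y}

theorem star_J0 : starM mJ0 = mJ0 + 2 ^ 29 + 2 ^ 41 := by decide +kernel

/-- the union of two masks -/
theorem SP_sup (P Q : ℕ) : SP X (P ||| Q) = SP X P ⊔ SP X Q := by
  refine le_antisymm (SP_le fun r hr h => ?_) (sup_le (SP_le fun r hr h => le_SP hr ?_)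
    (SP_le fun r hr h => le_SP hr ?_))
  · rw [Nat.testBit_or, Bool.or_eq_true] at h
    rcases h with h | h
    · exact (le_SP hr h).trans le_sup_left
    · exact (le_SP hr h).trans le_sup_right
  · rw [Nat.testBit_or, h, Bool.true_or]
  · rw [Nat.testBit_or, h, Bool.or_true]

theorem SP_pow {r : ℕ} (hr : r < 48) : SP X (2 ^ r) = X r :=
  le_antisymm (SP_le fun s _ h => by rw [Nat.testBit_two_pow, decide_eq_true_iff] at h; rw [h])
    (le_SP hr Nat.testBit_two_pow_self)

theorem SP_eq {P Q : ℕ} (h : P = Q) : SP X P = SP X Q := by rw [h]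

theorem sup_Z : X 44 ⊔ X 47 = SP X (2 ^ 44 + 2 ^ 47) := by
  rw [← SP_pow (X := X) (show 44 < 48 by norm_num), ← SP_pow (X := X) (show 47 < 48 by norm_num), ← SP_sup]
  exact SP_eq (by decide +kernel)

theorem sup_QQ : SP X mQs ⊔ SP X mQl = SP X mQQ := by
  rw [← SP_sup]; exact SP_eq (by decide +kernel)

theorem sup_J0 : SP X mJs ⊔ SP X mJl = SP X mJ0 := by
  rw [← SP_sup]; exact SP_eq (by decide +kernel)

variable (R : Rl e X)

include R

/-- a product decomposition -/
theorem split {P P1 P2 : ℕ} (h : P = P1 ||| P2) (hn : comM P1 P2 P2 = true) {y : Y} (hy : y ∈ SP X P) :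
    ∃ a ∈ SP X P1, ∃ b ∈ SP X P2, y = a * b := by
  rw [h, SP_sup] at hy
  have h3 : y ∈ ((SP X P1 ⊔ SP X P2 : Subgroup Y) : Set Y) := hy
  rw [Subgroup.coe_mul_of_left_le_normalizer_right _ _ (R.norm_SP hn), Set.mem_mul] at h3
  obtain ⟨a, ha, b, hb, rfl⟩ := h3
  exact ⟨a, ha, b, hb, rfl⟩

/-- fixed points of `U` on `J₀ / X_σ X_ρ` -/
theorem fixed [Finite Y] (hp : IsPGroup 2 (SP X mPo)) {T : Subgroup Y} (h1 : ¬ T ≤ SP X (2 ^ 44 + 2 ^ 47))
    (h0 : SP X (2 ^ 44 + 2 ^ 47) ≤ T) (hT : T ≤ SP X mJ0) (hn : ∀ g ∈ SP X mPo, ∀ t ∈ T, g * t * g⁻¹ ∈ T) :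
    ∃ a b, (a ≠ 0 ∨ b ≠ 0) ∧ e 40 a * e 46 b ∈ T := by
  have hnZ : ∀ y ∈ SP X mPo, ∀ m ∈ SP X (2 ^ 44 + 2 ^ 47), y * m * y⁻¹ ∈ SP X (2 ^ 44 + 2 ^ 47) := fun y hy m hm =>
    (Subgroup.mem_normalizer_iff.1 (R.norm_SP (P := mPo) (N := 2 ^ 44 + 2 ^ 47) (by decide +kernel) hy) m).1 hm
  have : Fact (Nat.Prime 2) := ⟨Nat.prime_two⟩
  obtain ⟨t, ht, htU, hfix⟩ := Cfsg.Agent.GTwoFour.Tools.exists_fixed_mod hp
    (hT.trans (SP_mono (by decide +kernel))) (fun y hy n hn' => hn y hy n hn') hnZ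
    (by
      by_contra h2
      push Not at h2
      exact h1 fun x hx => h2 x hx)
  have hZ : ∀ z ∈ SP X (2 ^ 44 + 2 ^ 47), ∀ x ∈ SP X mPo, z * x = x * z := fun z hz x hx =>
    R.comm_zero (P := 2 ^ 44 + 2 ^ 47) (Q := mPo) (by decide +kernel) hz hx
  have hfix' : ∀ x ∈ SP X mPo, ⁅t, x⁆ ∈ SP X (2 ^ 44 + 2 ^ 47) := fun x hx => by
    rw [← commutatorElement_inv]; exact inv_mem (hfix x hx)
  have key : ∀ d c m, a1 d c m = true → mPo.testBit d = true → mQQ.testBit c = true →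
      ∀ s, t * e m s = e m s * t := by
    intro d c m h hd hc s
    obtain ⟨hd48, hc48, hm48⟩ := a1_lt h
    have hdm : e d s ∈ SP X mPo := le_SP hd48 hd (R.e_mem hd48 s)
    have hcm : e c 1 ∈ SP X mQQ := le_SP hc48 hc (R.e_mem hc48 1)
    have hcm' : e c 1 ∈ SP X mPo := SP_mono (by decide +kernel) hcm
    have a1' := hfix' _ hdm
    have a2' := hfix' _ hcm'
    have hZP : SP X (2 ^ 44 + 2 ^ 47) ≤ SP X mPo := SP_mono (by decide +kernel)
    have hm : ⁅e d s, e c 1⁆ ∈ SP X mPo := by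
      rw [commutatorElement_def]
      exact mul_mem (mul_mem (mul_mem hdm hcm') (inv_mem hdm)) (inv_mem hcm')
    rw [R.c1 d c m h, mul_one] at hm
    exact hw (a := ⁅t, e d s⁆) (b := ⁅t, e c 1⁆) (x := e d s) (y := e c 1) (conj_e R _ _) (conj_e R _ _)
      (by rw [R.c1 d c m h, mul_one]) (hZ _ a1' _ hcm') (hZ _ a1' _ (hZP a2')) (hZ _ a1' _ hm) (hZ _ a2' _ hdm)
      (hZ _ a2' _ hcm')
  have h2 : t ∈ SP X (starM 281464843272192) := by
    refine R.cm _ (by decide) t fun r hr h2 y hy => ?_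
    obtain ⟨s, rfl⟩ := (R.mem r hr y).1 hy
    have h4 : ((List.range 48).all fun r => !(281464843272192 : ℕ).testBit r ||
        comM mJ0 (2 ^ r) 0 ||
        ((List.range 48).any fun d => mPo.testBit d && (List.range 48).any fun c => mQQ.testBit c &&
          a1 d c r)) = true := by decide +kernel
    have h5 := List.all_eq_true.1 h4 r (List.mem_range.2 hr)
    rw [h2, Bool.not_true, Bool.false_or, Bool.or_eq_true] at h5
    rcases h5 with h5 | h5
    · exact R.comm_zero h5 (hT ht) (le_SP hr Nat.testBit_two_pow_self (R.e_mem hr s))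
    · obtain ⟨d, -, h6⟩ := List.any_eq_true.1 h5
      rw [Bool.and_eq_true] at h6
      obtain ⟨c, -, h7⟩ := List.any_eq_true.1 h6.2
      rw [Bool.and_eq_true] at h7
      exact key d c r h7.2 h6.1 h7.1 s
  rw [star_M2] at h2
  obtain ⟨a, w, hw', rfl⟩ := peel R (r := 40) (P := 2 ^ 44 + 2 ^ 46 + 2 ^ 47) (by norm_num) (by decide +kernel)
    (by decide +kernel) h2
  obtain ⟨b, w2, hw2, rfl⟩ := peel R (r := 46) (P := 2 ^ 44 + 2 ^ 47) (by norm_num) (by decide +kernel)
    (by decide +kernel) hw'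
  refine ⟨a, b, ?_, ?_⟩
  · by_contra h3
    push Not at h3
    rw [h3.1, h3.2, R.zero (by norm_num), R.zero (by norm_num), one_mul, one_mul] at htU
    exact htU hw2
  · have h3 : e 40 a * e 46 b = e 40 a * (e 46 b * w2) * w2⁻¹ := by group
    rw [h3]
    exact mul_mem ht (inv_mem (h0 hw2))

/-- from `X_40` to `J_s` -/
theorem gen_s {T : Subgroup Y} (h0 : SP X (2 ^ 44 + 2 ^ 47) ≤ T)
    (hn : ∀ g ∈ SP X (nn 44 &&& nn 47), ∀ t ∈ T, g * t * g⁻¹ ∈ T) {a : F} (ha : a ≠ 0) (h : e 40 a ∈ T) :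
    SP X mJs ≤ T := by
  have hd : ∀ d, (nn 44 &&& nn 47).testBit d = true → d < 48 → ∀ s, ∀ t ∈ T, e d s * t * (e d s)⁻¹ ∈ T :=
    fun d h hd48 s t ht => hn _ (le_SP hd48 h (R.e_mem hd48 s)) t ht
  have m38 := step R (r := 40) (d := 19) (m := 38) (by decide +kernel) (hd 19 (by decide +kernel) (by norm_num)) ha h
  have m39 := step R (r := 40) (d := 20) (m := 39) (by decide +kernel) (hd 20 (by decide +kernel) (by norm_num)) ha h
  have m36 := step R (r := 38) (d := 20) (m := 36) (by decide +kernel) (hd 20 (by decide +kernel) (by norm_num))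
    one_ne_zero (m38 1)
  have m40 := step R (r := 38) (d := 28) (m := 40) (by decide +kernel) (hd 28 (by decide +kernel) (by norm_num))
    one_ne_zero (m38 1)
  refine R.SP_le' fun r hr h1 t => ?_
  have h4 : ((List.range 48).all fun r => !mJs.testBit r || (2 ^ 44 + 2 ^ 47 : ℕ).testBit r ||
      [36, 38, 39, 40].contains r) = true := by decide +kernel
  have h5 := List.all_eq_true.1 h4 r (List.mem_range.2 hr)
  rw [h1, Bool.not_true, Bool.false_or, Bool.or_eq_true] at h5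
  rcases h5 with h5 | h5
  · exact h0 (le_SP hr h5 (R.e_mem hr t))
  · have h6 : r ∈ [36, 38, 39, 40] := by simpa using h5
    simp only [List.mem_cons, List.not_mem_nil, or_false] at h6
    rcases h6 with rfl | rfl | rfl | rfl
    · exact m36 t
    · exact m38 t
    · exact m39 t
    · exact m40 t

/-- from `X_46` to `J_l` -/
theorem gen_l {T : Subgroup Y} (h0 : SP X (2 ^ 44 + 2 ^ 47) ≤ T)
    (hn : ∀ g ∈ SP X (nn 44 &&& nn 47), ∀ t ∈ T, g * t * g⁻¹ ∈ T) {a : F} (ha : a ≠ 0) (h : e 45 a ∈ T) :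
    SP X mJl ≤ T := by
  have hd : ∀ d, (nn 44 &&& nn 47).testBit d = true → d < 48 → ∀ s, ∀ t ∈ T, e d s * t * (e d s)⁻¹ ∈ T :=
    fun d h hd48 s t ht => hn _ (le_SP hd48 h (R.e_mem hd48 s)) t ht
  have m46 := step R (r := 45) (d := 25) (m := 46) (by decide +kernel) (hd 25 (by decide +kernel) (by norm_num)) ha h
  have m45 := step R (r := 46) (d := 22) (m := 45) (by decide +kernel) (hd 22 (by decide +kernel) (by norm_num))
    one_ne_zero (m46 1)
  have m43 := step R (r := 46) (d := 17) (m := 43) (by decide +kernel) (hd 17 (by decide +kernel) (by norm_num))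
    one_ne_zero (m46 1)
  have m42 := step R (r := 43) (d := 22) (m := 42) (by decide +kernel) (hd 22 (by decide +kernel) (by norm_num))
    one_ne_zero (m43 1)
  refine R.SP_le' fun r hr h1 t => ?_
  have h4 : ((List.range 48).all fun r => !mJl.testBit r || (2 ^ 44 + 2 ^ 47 : ℕ).testBit r ||
      [42, 43, 45, 46].contains r) = true := by decide +kernel
  have h5 := List.all_eq_true.1 h4 r (List.mem_range.2 hr)
  rw [h1, Bool.not_true, Bool.false_or, Bool.or_eq_true] at h5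
  rcases h5 with h5 | h5
  · exact h0 (le_SP hr h5 (R.e_mem hr t))
  · have h6 : r ∈ [42, 43, 45, 46] := by simpa using h5
    simp only [List.mem_cons, List.not_mem_nil, or_false] at h6
    rcases h6 with rfl | rfl | rfl | rfl
    · exact m42 t
    · exact m43 t
    · exact m45 t
    · exact m46 t

/-- `e_40(a) ∉ U_s`, `a ≠ 0` -/
theorem e40_Us {a : F} (h : ∀ y ∈ SP X mQs, e 40 a * y = y * e 40 a) : a = 0 := by
  have h1 := h (e 33 1) (le_SP (by norm_num) (by decide +kernel) (R.e_mem (by norm_num) _))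
  have h2 := R.c1 40 33 44 (by decide +kernel) a 1
  rw [commutatorElement_eq_one_iff_mul_comm.2 h1, mul_one] at h2
  exact R.inj 44 (by norm_num) _ h2.symm

theorem e46_Ul {a : F} (h : ∀ y ∈ SP X mQl, e 46 a * y = y * e 46 a) : a = 0 := by
  have h1 := h (e 24 1) (le_SP (by norm_num) (by decide +kernel) (R.e_mem (by norm_num) _))
  have h2 := R.c1 46 24 47 (by decide +kernel) a 1
  rw [commutatorElement_eq_one_iff_mul_comm.2 h1, mul_one] at h2
  exact R.inj 47 (by norm_num) _ h2.symm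

/-- **`two`** : the two 4-dimensional modules. -/
theorem two [Finite Y] (hp : IsPGroup 2 (SP X mPo)) {T : Subgroup Y} (h1 : ¬ T ≤ SP X (2 ^ 44 + 2 ^ 47))
    (h0 : SP X (2 ^ 44 + 2 ^ 47) ≤ T) (hT : T ≤ SP X mJ0)
    (hn : ∀ g ∈ SP X (nn 44 &&& nn 47), ∀ t ∈ T, g * t * g⁻¹ ∈ T) :
    T = SP X mJs ∨ T = SP X mJl ∨ T = SP X mJ0 := by
  have hPE : SP X mPo ≤ SP X (nn 44 &&& nn 47) := SP_mono (by decide +kernel)
  have nJs : ∀ g ∈ SP X mPo, ∀ t ∈ SP X mJs, g * t * g⁻¹ ∈ SP X mJs := fun g hg t ht =>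
    (Subgroup.mem_normalizer_iff.1 (R.norm_SP (P := mPo) (N := mJs) (by decide +kernel) hg) t).1 ht
  have nJl : ∀ g ∈ SP X mPo, ∀ t ∈ SP X mJl, g * t * g⁻¹ ∈ SP X mJl := fun g hg t ht =>
    (Subgroup.mem_normalizer_iff.1 (R.norm_SP (P := mPo) (N := mJl) (by decide +kernel) hg) t).1 ht
  have hd : ∀ d, (nn 44 &&& nn 47).testBit d = true → d < 48 → ∀ s, ∀ t ∈ T, e d s * t * (e d s)⁻¹ ∈ T :=
    fun d h hd48 s t ht => hn _ (le_SP hd48 h (R.e_mem hd48 s)) t ht
  have cJsUl : ∀ x ∈ SP X mJs, ∀ y ∈ SP X mQl, x * y = y * x := fun x hx y hy =>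
    comm_Ul_Ql R (SP_mono (by decide +kernel) hx) hy
  have cJlQs : ∀ x ∈ SP X mJl, ∀ y ∈ SP X mQs, x * y = y * x := fun x hx y hy =>
    R.comm_zero (P := mJl) (Q := mQs) (by decide +kernel) hx hy
  have cZQs : ∀ x ∈ SP X (2 ^ 44 + 2 ^ 47), ∀ y ∈ SP X mPo, x * y = y * x := fun x hx y hy =>
    R.comm_zero (P := 2 ^ 44 + 2 ^ 47) (Q := mPo) (by decide +kernel) hx hy
  have zJs : SP X (2 ^ 44 + 2 ^ 47) ≤ SP X mJs := SP_mono (by decide +kernel)
  have zJl : SP X (2 ^ 44 + 2 ^ 47) ≤ SP X mJl := SP_mono (by decide +kernel)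
  -- the case `J_s ≤ T`
  have caseS : SP X mJs ≤ T → T = SP X mJs ∨ T = SP X mJ0 := by
    intro hs
    by_cases h2 : T ≤ SP X mJs
    · exact Or.inl (le_antisymm h2 hs)
    · right
      obtain ⟨a, b, hab, hm⟩ := fixed R hp (T := T ⊓ SP X mJl)
        (fun h3 => h2 fun t ht => by
          obtain ⟨x, hx, y, hy, rfl⟩ := split R (P := mJ0) (P1 := mJs) (P2 := mJl) (by decide +kernel)
            (by decide +kernel) (hT ht)
          have h4 : y ∈ T := by
            have h5 : y = x⁻¹ * (x * y) := by group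
            rw [h5]; exact mul_mem (inv_mem (hs hx)) ht
          exact mul_mem hx (zJs (h3 ⟨h4, hy⟩))) (le_inf h0 zJl)
        (inf_le_left.trans hT) fun g hg t ht => ⟨hn g (hPE hg) t ht.1, nJl g hg t ht.2⟩
      have hb : b ≠ 0 := by
        rintro rfl
        have h3 := hab.resolve_right (fun h => h rfl)
        rw [R.zero (by norm_num), mul_one] at hm
        exact h3 (e40_Us R fun y hy => cJlQs _ hm.2 y hy)
      have h3 : e 46 b ∈ T := by
        have h4 : e 46 b = (e 40 a)⁻¹ * (e 40 a * e 46 b) := by group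
        rw [h4]
        exact mul_mem (inv_mem (hs (le_SP (by norm_num) (by decide +kernel) (R.e_mem (by norm_num) _)))) hm.1
      have m45 := step R (r := 46) (d := 22) (m := 45) (by decide +kernel) (hd 22 (by decide +kernel) (by norm_num))
        hb h3
      refine le_antisymm hT ?_
      rw [← sup_J0]
      exact sup_le hs (gen_l R h0 hn one_ne_zero (m45 1))
  -- the case `J_l ≤ T`
  have caseL : SP X mJl ≤ T → T = SP X mJl ∨ T = SP X mJ0 := by
    intro hs
    by_cases h2 : T ≤ SP X mJl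
    · exact Or.inl (le_antisymm h2 hs)
    · right
      obtain ⟨a, b, hab, hm⟩ := fixed R hp (T := T ⊓ SP X mJs)
        (fun h3 => h2 fun t ht => by
          obtain ⟨x, hx, y, hy, rfl⟩ := split R (P := mJ0) (P1 := mJs) (P2 := mJl) (by decide +kernel)
            (by decide +kernel) (hT ht)
          have h4 : x ∈ T := by
            have h5 : x = (x * y) * y⁻¹ := by group
            rw [h5]; exact mul_mem ht (inv_mem (hs hy))
          exact mul_mem (zJl (h3 ⟨h4, hx⟩)) hy) (le_inf h0 zJs)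
        (inf_le_left.trans hT) fun g hg t ht => ⟨hn g (hPE hg) t ht.1, nJs g hg t ht.2⟩
      have hb : a ≠ 0 := by
        rintro rfl
        have h3 := hab.resolve_left (fun h => h rfl)
        rw [R.zero (by norm_num), one_mul] at hm
        exact h3 (e46_Ul R fun y hy => cJsUl _ hm.2 y hy)
      have h3 : e 40 a ∈ T := by
        have h4 : e 40 a = (e 40 a * e 46 b) * (e 46 b)⁻¹ := by group
        rw [h4]
        exact mul_mem hm.1 (inv_mem (hs (le_SP (by norm_num) (by decide +kernel) (R.e_mem (by norm_num) _))))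
      refine le_antisymm hT ?_
      rw [← sup_J0]
      exact sup_le (gen_s R h0 hn hb h3) hs
  obtain ⟨a, b, hab, hm⟩ := fixed R hp h1 h0 hT fun g hg t ht => hn g (hPE hg) t ht
  by_cases hb : b = 0
  · subst hb
    have h3 := hab.resolve_right (fun h => h rfl)
    rw [R.zero (by norm_num), mul_one] at hm
    rcases caseS (gen_s R h0 hn h3 hm) with h4 | h4
    · exact Or.inl h4
    · exact Or.inr (Or.inr h4)
  · have h3 : e 45 b ∈ T := by
      have h4 := mul_mem (hd 22 (by decide +kernel) (by norm_num) 1 _ hm) (inv_mem hm)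
      have h5 : e 22 1 * (e 40 a * e 46 b) * (e 22 1)⁻¹ * (e 40 a * e 46 b)⁻¹ =
          (e 22 1 * e 40 a) * e 46 b * (e 22 1)⁻¹ * (e 46 b)⁻¹ * (e 40 a)⁻¹ := by group
      rw [h5, R.c0 22 (by norm_num) 40 (by norm_num) (by decide +kernel)] at h4
      have h6 : e 40 a * e 22 1 * e 46 b * (e 22 1)⁻¹ * (e 46 b)⁻¹ * (e 40 a)⁻¹ =
          e 40 a * ⁅e 22 1, e 46 b⁆ * (e 40 a)⁻¹ := by rw [commutatorElement_def]; group
      rw [h6, R.c1 22 46 45 (by decide +kernel), R.c0 40 (by norm_num) 45 (by norm_num) (by decide +kernel),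
        mul_inv_cancel_right, one_mul] at h4
      exact h4
    rcases caseL (gen_l R h0 hn hb h3) with h4 | h4
    · exact Or.inr (Or.inl h4)
    · exact Or.inr (Or.inr h4)

/-! ### Commutators and intersections -/

theorem comm0 : ⁅SP X mQQ, SP X mQQ⁆ = SP X mJ0 := by
  refine le_antisymm (Subgroup.commutator_le.2 fun x hx y hy => ?_) (R.SP_le' fun r hr h t => ?_)
  · exact R.comm_SP (N := mJ0) (by decide +kernel) (by decide +kernel) (by decide +kernel) hx hy
  · have h4 : ((List.range 48).all fun r => !mJ0.testBit r ||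
        ((List.range 48).any fun d => mQQ.testBit d && (List.range 48).any fun c => mQQ.testBit c &&
          a1 d c r)) = true := by decide +kernel
    have h5 := List.all_eq_true.1 h4 r (List.mem_range.2 hr)
    rw [h, Bool.not_true, Bool.false_or] at h5
    obtain ⟨d, -, h6⟩ := List.any_eq_true.1 h5
    rw [Bool.and_eq_true] at h6
    obtain ⟨c, -, h7⟩ := List.any_eq_true.1 h6.2
    rw [Bool.and_eq_true] at h7
    obtain ⟨hd48, hc48, hm48⟩ := a1_lt h7.2
    have h8 := R.c1 d c r h7.2 t 1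
    rw [mul_one] at h8
    rw [← h8]
    exact Subgroup.commutator_mem_commutator (le_SP hd48 h6.1 (R.e_mem hd48 _)) (le_SP hc48 h7.1 (R.e_mem hc48 _))

omit [CharP F 2] in
theorem cen0' {x : Y} (h : ∀ y ∈ SP X mQQ, x * y = y * x) : x ∈ SP X (2 ^ 44 + 2 ^ 47) := by
  have h1 := R.cm mQQ (by decide) x fun r hr h1 y hy => h y (le_SP hr h1 hy)
  rw [star_QQ] at h1
  rwa [add_comm] at h1

theorem commJs : ⁅SP X mJs, SP X mQQ⁆ = X 44 := by
  refine le_antisymm (Subgroup.commutator_le.2 fun x hx y hy => comm_Js R hx hy) fun x hx => ?_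
  obtain ⟨t, rfl⟩ := (R.mem 44 (by norm_num) x).1 hx
  have h1 := R.c1 36 37 44 (by decide +kernel) t 1
  rw [mul_one] at h1
  rw [← h1]
  exact Subgroup.commutator_mem_commutator (le_SP (by norm_num) (by decide +kernel) (R.e_mem (by norm_num) _))
    (le_SP (by norm_num) (by decide +kernel) (R.e_mem (by norm_num) _))

/-- `e_29(a) ∈ Q_s` only for `a = 0` -/
theorem e29_Qs {a : F} (h : ∀ y ∈ SP X mUs, e 29 a * y = y * e 29 a) : a = 0 := by
  have h1 := h (e 41 1) (le_SP (by norm_num) (by decide +kernel) (R.e_mem (by norm_num) _))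
  have h2 := R.c2 41 29 44 47 (by decide +kernel) 1 a
  rw [commutatorElement_eq_one_iff_mul_comm.2 h1.symm, one_mul] at h2
  exact (mul_sep R (by norm_num) (by norm_num) (by norm_num) h2.symm).1

/-- `e_41(a) ∈ Q_l` only for `a = 0` -/
theorem e41_Ql {a : F} (h : ∀ y ∈ SP X mUl, e 41 a * y = y * e 41 a) : a = 0 := by
  have h1 := h (e 29 1) (le_SP (by norm_num) (by decide +kernel) (R.e_mem (by norm_num) _))
  have h2 := R.c2 41 29 44 47 (by decide +kernel) a 1
  rw [commutatorElement_eq_one_iff_mul_comm.2 h1, mul_one] at h2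
  exact (mul_sep R (by norm_num) (by norm_num) (by norm_num) h2.symm).1

theorem comm_Us_Qs {x y : Y} (hx : x ∈ SP X mUs) (hy : y ∈ SP X mQs) : x * y = y * x :=
  R.comm_zero (by decide +kernel) hx hy

/-- `U_l ∩ Q_s = J_s` -/
theorem inf_Js : SP X mUl ⊓ SP X mQs = SP X mJs := by
  refine le_antisymm ?_ (le_inf (SP_mono (by decide +kernel)) (SP_mono (by decide +kernel)))
  rintro u ⟨hu, hq⟩
  obtain ⟨a, j, hj, rfl⟩ := peel R (r := 29) (P := mJs) (by norm_num) (by decide +kernel) (by decide +kernel) hu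
  have hj' : j ∈ SP X mQs := SP_mono (by decide +kernel) hj
  have h1 : e 29 a ∈ SP X mQs := by
    have h2 : e 29 a = e 29 a * j * j⁻¹ := by group
    rw [h2]
    exact mul_mem hq (inv_mem hj')
  rw [e29_Qs R fun y hy => (comm_Us_Qs R hy h1).symm, R.zero (by norm_num), one_mul]
  exact hj

/-- `Q_s ∩ Q_l = J₀` -/
theorem inf_J0 : SP X mQs ⊓ SP X mQl = SP X mJ0 := by
  refine le_antisymm ?_ (le_inf (SP_mono (by decide +kernel)) (SP_mono (by decide +kernel)))
  rintro u ⟨hs, hl⟩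
  have h1 : u ∈ SP X (starM mJ0) := by
    refine R.cm mJ0 (by decide) u fun r hr h y hy => ?_
    have h2 : ((List.range 48).all fun r => !mJ0.testBit r || mUs.testBit r || mUl.testBit r) = true := by
      decide +kernel
    have h3 := List.all_eq_true.1 h2 r (List.mem_range.2 hr)
    rw [h, Bool.not_true, Bool.false_or, Bool.or_eq_true] at h3
    rcases h3 with h3 | h3
    · exact (comm_Us_Qs R (le_SP hr h3 hy) hs).symm
    · exact (comm_Ul_Ql R (le_SP hr h3 hy) hl).symm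
  rw [star_J0] at h1
  obtain ⟨a, w, hw, rfl⟩ := peel R (r := 29) (P := mJ0 + 2 ^ 41) (by norm_num) (by decide +kernel)
    (by decide +kernel) h1
  obtain ⟨b, w2, hw2, rfl⟩ := peel R (r := 41) (P := mJ0) (P' := mJ0 + 2 ^ 41) (by norm_num) (by decide +kernel)
    (by decide +kernel) hw
  have hws : w2 ∈ SP X mQs := SP_mono (P := mJ0) (by decide +kernel) hw2
  have hwl : w2 ∈ SP X mQl := SP_mono (P := mJ0) (by decide +kernel) hw2
  have h41 : e 41 b ∈ SP X mQs := le_SP (by norm_num) (by decide +kernel) (R.e_mem (by norm_num) _)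
  have h29 : e 29 a ∈ SP X mQl := le_SP (by norm_num) (by decide +kernel) (R.e_mem (by norm_num) _)
  have h2 : e 29 a ∈ SP X mQs := by
    have h3 : e 29 a = e 29 a * (e 41 b * w2) * (e 41 b * w2)⁻¹ := by group
    rw [h3]
    exact mul_mem hs (inv_mem (mul_mem h41 hws))
  have h4 : e 41 b ∈ SP X mQl := by
    have h3 : e 41 b = (e 29 a)⁻¹ * (e 29 a * (e 41 b * w2)) * w2⁻¹ := by group
    rw [h3]
    exact mul_mem (mul_mem (inv_mem h29) hl) (inv_mem hwl)
  rw [e29_Qs R fun y hy => (comm_Us_Qs R hy h2).symm, e41_Ql R fun y hy => (comm_Ul_Ql R hy h4).symm,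
    R.zero (by norm_num), R.zero (by norm_num), one_mul, one_mul]
  exact hw2

/-- `X_σ X_ρ < J_s` -/
theorem lt_Js : SP X (2 ^ 44 + 2 ^ 47) < SP X mJs := by
  refine lt_of_le_of_ne (SP_mono (by decide +kernel)) fun h => ?_
  have h1 : e 40 1 ∈ SP X (2 ^ 44 + 2 ^ 47) := by
    rw [h]; exact le_SP (by norm_num) (by decide +kernel) (R.e_mem (by norm_num) _)
  exact one_ne_zero (e40_Us R fun y hy => R.comm_zero (P := 2 ^ 44 + 2 ^ 47) (Q := mQs) (by decide +kernel) h1 hy)

/-- `X_σ X_ρ < J_l` -/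
theorem lt_Jl : SP X (2 ^ 44 + 2 ^ 47) < SP X mJl := by
  refine lt_of_le_of_ne (SP_mono (by decide +kernel)) fun h => ?_
  have h1 : e 46 1 ∈ SP X (2 ^ 44 + 2 ^ 47) := by
    rw [h]; exact le_SP (by norm_num) (by decide +kernel) (R.e_mem (by norm_num) _)
  exact one_ne_zero (e46_Ul R fun y hy => R.comm_zero (P := 2 ^ 44 + 2 ^ 47) (Q := mQl) (by decide +kernel) h1 hy)

/-- `J_s < J₀` -/
theorem Js_lt : SP X mJs < SP X mJ0 := by
  refine lt_of_le_of_ne (SP_mono (by decide +kernel)) fun h => ?_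
  have h1 : e 46 1 ∈ SP X mJs := by
    rw [h]; exact le_SP (by norm_num) (by decide +kernel) (R.e_mem (by norm_num) _)
  exact one_ne_zero (e46_Ul R fun y hy => comm_Ul_Ql R (SP_mono (by decide +kernel) h1) hy)

/-- `J_l < J₀` -/
theorem Jl_lt : SP X mJl < SP X mJ0 := by
  refine lt_of_le_of_ne (SP_mono (by decide +kernel)) fun h => ?_
  have h1 : e 40 1 ∈ SP X mJl := by
    rw [h]; exact le_SP (by norm_num) (by decide +kernel) (R.e_mem (by norm_num) _)
  exact one_ne_zero (e40_Us R fun y hy => comm_Us_Qs R (SP_mono (by decide +kernel) h1) hy)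

end Cfsg.Agent.KFacts.F4Two
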