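import Cfsg.Agent.KFacts.F4Form

/-!
`F₄(q)`, `q ≥ 2` even: the elements of `U_l`, in a chart `F4Rl.Rl` (K-group facts for OMEGA, NodeAll h1; F4).

* `typ` : every element of `U_l` lies in `X_ρ` or is conjugate under `C(X_ρ)` to `e_σ(a) e_ρ(b)`, `a ≠ 0`.
-/

set_option autoImplicit false
set_option Elab.async false
set_option linter.unusedSectionVars false

namespace Cfsg.Agent.KFacts.F4Typ

open Cfsg.Agent.KFacts.F4Star Cfsg.Agent.KFacts.F4Rl Cfsg.Agent.KFacts.F4Side Cfsg.Agent.KFacts.F4Form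
open scoped commutatorElement

variable {F Y : Type*} [Field F] [CharP F 2] [Group Y] {e : ℕ → F → Y} {X : ℕ → Subgroup Y}

variable (R : Rl e X)

include R

theorem e_comm_SP {r P : ℕ} (hr : r < 48) (h : comM (2 ^ r) P 0 = true) (t : F) {w : Y} (hw : w ∈ SP X P) :
    e r t * w = w * e r t :=
  R.comm_zero h (le_SP hr Nat.testBit_two_pow_self (R.e_mem hr t)) hw

/-- clearing a coordinate -/
theorem kill {a : F} (ha : a ≠ 0) {d r P P' : ℕ} (h1 : a1 d 44 r = true) (hr : comM (2 ^ r) P P = true)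
    (hP : ((List.range 48).all fun s => !P'.testBit s || Nat.beq s r || P.testBit s) = true)
    (hdr : (nn d).testBit r = true) (hd : comM (2 ^ d) P P = true) (hd47 : (nn d).testBit 47 = true)
    (h44r : (nn 44).testBit r = true)
    (hG : (nn 47).testBit d = true) {w : Y} (hw : w ∈ SP X P') (b : F) :
    ∃ g ∈ SP X (nn 47), ∃ w' ∈ SP X P, g * (e 44 a * w * e 47 b) * g⁻¹ = e 44 a * w' * e 47 b := by
  obtain ⟨hd48, -, hr48⟩ := a1_lt h1
  obtain ⟨c, w1, hw1, rfl⟩ := peel R hr48 hr hP hw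
  refine ⟨e d (c / a), le_SP hd48 hG (R.e_mem hd48 _), e d (c / a) * w1 * (e d (c / a))⁻¹,
    (Subgroup.mem_normalizer_iff.1 (R.norm_SP (P := 2 ^ d) hd (le_SP hd48 Nat.testBit_two_pow_self (R.e_mem hd48 _)))
      w1).1 hw1, ?_⟩
  obtain ⟨g, hg⟩ : ∃ g, g = e d (c / a) := ⟨_, rfl⟩
  have e1 : g * e 44 a * g⁻¹ = e r c * e 44 a := by
    rw [hg, conj1 R h1, div_mul_cancel₀ c ha]
  have e2 : g * e r c * g⁻¹ = e r c := by
    rw [hg, R.c0 d hd48 r hr48 hdr, mul_inv_cancel_right]
  have e3 : g * e 47 b * g⁻¹ = e 47 b := by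
    rw [hg, R.c0 d hd48 47 (by norm_num) hd47, mul_inv_cancel_right]
  rw [← hg]
  calc g * (e 44 a * (e r c * w1) * e 47 b) * g⁻¹
      = (g * e 44 a * g⁻¹) * (g * e r c * g⁻¹) * (g * w1 * g⁻¹) * (g * e 47 b * g⁻¹) := by group
    _ = e r c * (e 44 a * e r c) * (g * w1 * g⁻¹) * e 47 b := by rw [e1, e2, e3]; group
    _ = (e r c * e r c) * e 44 a * (g * w1 * g⁻¹) * e 47 b := by
      rw [R.c0 44 (by norm_num) r hr48 h44r]; group
    _ = _ := by rw [R.sq hr48, one_mul]

/-- `u ~ e_44(a) w e_47(b)`, `a ≠ 0`, implies `u ~ e_44(a) e_47(b')` -/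
theorem kill_all {a : F} (ha : a ≠ 0) {w : Y} (hw : w ∈ SP X 1993401696256) (b : F) :
    ∃ g ∈ SP X (nn 47), ∃ b', g * (e 44 a * w * e 47 b) * g⁻¹ = e 44 a * e 47 b' := by
  obtain ⟨g1, hg1, w1, hw1, e1⟩ := kill R ha (d := 14) (r := 40) (P := 893890068480) (P' := 1993401696256)
    (by decide +kernel)
    (by decide +kernel) (by decide +kernel) (by decide +kernel) (by decide +kernel) (by decide +kernel)
    (by decide +kernel) (by decide +kernel) hw b
  obtain ⟨g2, hg2, w2, hw2, e2⟩ := kill R ha (d := 13) (r := 39) (P := 344134254592) (P' := 893890068480)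
    (by decide +kernel)
    (by decide +kernel) (by decide +kernel) (by decide +kernel) (by decide +kernel) (by decide +kernel)
    (by decide +kernel) (by decide +kernel) hw1 b
  obtain ⟨g3, hg3, w3, hw3, e3⟩ := kill R ha (d := 12) (r := 38) (P := 69256347648) (P' := 344134254592)
    (by decide +kernel)
    (by decide +kernel) (by decide +kernel) (by decide +kernel) (by decide +kernel) (by decide +kernel)
    (by decide +kernel) (by decide +kernel) hw2 b
  obtain ⟨g4, hg4, w4, hw4, e4⟩ := kill R ha (d := 10) (r := 36) (P := 2 ^ 29) (P' := 69256347648)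
    (by decide +kernel)
    (by decide +kernel) (by decide +kernel) (by decide +kernel) (by decide +kernel) (by decide +kernel)
    (by decide +kernel) (by decide +kernel) hw3 b
  obtain ⟨c, rfl⟩ := SP_one R (by norm_num) hw4
  -- the last step
  obtain ⟨g, hg⟩ : ∃ g, g = e 6 (c / a) := ⟨_, rfl⟩
  have hgm : g ∈ SP X (nn 47) := hg ▸ le_SP (by norm_num) (by decide +kernel) (R.e_mem (by norm_num) _)
  have f1 : g * e 44 a * g⁻¹ = e 29 c * e 47 (c / a * a ^ 2) * e 44 a := by
    rw [hg, conj2 R (show a2 6 44 29 47 = true by decide +kernel), div_mul_cancel₀ c ha]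
  have f2 : g * e 29 c * g⁻¹ = e 29 c := by
    rw [hg, R.c0 6 (by norm_num) 29 (by norm_num) (by decide +kernel), mul_inv_cancel_right]
  have f3 : g * e 47 b * g⁻¹ = e 47 b := by
    rw [hg, R.c0 6 (by norm_num) 47 (by norm_num) (by decide +kernel), mul_inv_cancel_right]
  have f4 : g * (e 44 a * e 29 c * e 47 b) * g⁻¹ = e 44 a * e 47 (c / a * a ^ 2 + b) := by
    have c1 := R.c0 29 (by norm_num) 47 (by norm_num) (by decide +kernel) c (c / a * a ^ 2)
    have c2 := R.c0 44 (by norm_num) 29 (by norm_num) (by decide +kernel) a c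
    have c3 := R.c0 44 (by norm_num) 47 (by norm_num) (by decide +kernel) a (c / a * a ^ 2)
    calc g * (e 44 a * e 29 c * e 47 b) * g⁻¹
        = (g * e 44 a * g⁻¹) * (g * e 29 c * g⁻¹) * (g * e 47 b * g⁻¹) := by group
      _ = e 29 c * e 47 (c / a * a ^ 2) * (e 44 a * e 29 c) * e 47 b := by rw [f1, f2, f3]; group
      _ = (e 47 (c / a * a ^ 2) * e 29 c) * (e 29 c * e 44 a) * e 47 b := by rw [c1, c2]
      _ = e 47 (c / a * a ^ 2) * (e 29 c * e 29 c) * e 44 a * e 47 b := by group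
      _ = e 47 (c / a * a ^ 2) * e 44 a * e 47 b := by rw [R.sq (by norm_num), mul_one]
      _ = e 44 a * (e 47 (c / a * a ^ 2) * e 47 b) := by rw [← c3]; group
      _ = _ := by rw [← R.add 47 (by norm_num)]
  refine ⟨g * (g4 * (g3 * (g2 * g1))), mul_mem hgm (mul_mem hg4 (mul_mem hg3 (mul_mem hg2 hg1))),
    c / a * a ^ 2 + b, ?_⟩
  rw [← f4, ← e4, ← e3, ← e2, ← e1]
  group

/-- every element of `U_l` lies in `X_ρ` or is conjugate under `C(X_ρ)` to `e_σ(a) e_ρ(b)`, `a ≠ 0` -/
theorem typ {u : Y} (hu : u ∈ SP X mUl) :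
    u ∈ X 47 ∨ ∃ g ∈ SP X (nn 47), ∃ a, a ≠ 0 ∧ ∃ b, g * u * g⁻¹ = e 44 a * e 47 b := by
  obtain ⟨a, w0, hw0, rfl⟩ := peel R (r := 44) (P := 1993401696256 + 2 ^ 47) (P' := mUl) (by norm_num)
    (by decide +kernel) (by decide +kernel) hu
  obtain ⟨b, w, hw, rfl⟩ := peel R (r := 47) (P := 1993401696256) (P' := 1993401696256 + 2 ^ 47) (by norm_num)
    (by decide +kernel) (by decide +kernel) hw0
  have c47 : ∀ (b : F), e 47 b * w = w * e 47 b := fun b =>
    e_comm_SP R (by norm_num) (by decide +kernel) b hw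
  rw [c47]
  by_cases ha : a = 0
  · subst ha
    rw [R.zero (by norm_num), one_mul]
    -- raise
    have raise : ∀ g ∈ SP X (nn 47), ∀ a b', a ≠ 0 → g * (w * e 47 b) * g⁻¹ = e 44 a * w * e 47 b' →
        ∃ g ∈ SP X (nn 47), ∃ a, a ≠ 0 ∧ ∃ b', g * (w * e 47 b) * g⁻¹ = e 44 a * e 47 b' := by
      intro g hg a b' ha h
      obtain ⟨g1, hg1, b1, e1⟩ := kill_all R ha hw b'
      refine ⟨g1 * g, mul_mem hg1 hg, a, ha, b1, ?_⟩
      rw [← e1, ← h]; group
    obtain ⟨c, w1, hw1, rfl⟩ := peel R (r := 29) (P := 1992864825344) (P' := 1993401696256) (by norm_num)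
      (by decide +kernel) (by decide +kernel) hw
    by_cases hc : c = 0
    · subst hc
      rw [R.zero (by norm_num), one_mul] at *
      have hJs : SP X 1992864825344 ≤ SP X mJs := SP_mono (by decide +kernel)
      obtain ⟨t, ht⟩ := exists_Fm R (SP_mono (Q := mJ0) (by decide +kernel) hw1)
      by_cases h : ∃ i, t i ≠ 0
      · obtain ⟨i, hi⟩ := h
        have hd : ∀ i, (nn 47).testBit (dd i) = true := by decide +kernel
        have hd' : ∀ i, (nn (dd i)).testBit 47 = true := by decide +kernel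
        refine Or.inr (raise (e (dd i) 1) (le_SP (dd_lt i) (hd i) (R.e_mem (dd_lt i) _)) (t i) b hi ?_)
        have h1 := ht i 1
        rw [one_mul] at h1
        have h2 := R.c0 (dd i) (dd_lt i) 47 (by norm_num) (hd' i) 1 b
        calc e (dd i) 1 * (w1 * e 47 b) * (e (dd i) 1)⁻¹
            = (e (dd i) 1 * w1 * (e (dd i) 1)⁻¹) * (e (dd i) 1 * e 47 b * (e (dd i) 1)⁻¹) := by group
          _ = _ := by rw [conj_e R, h1, h2, mul_inv_cancel_right]
      · left
        push Not at h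
        have h0 : t = 0 := funext h
        -- coordinates
        obtain ⟨c1, w2, hw2, rfl⟩ := peel R (r := 36) (P := 1924145348608) (P' := 1992864825344) (by norm_num)
          (by decide +kernel) (by decide +kernel) hw1
        obtain ⟨c2, w3, hw3, rfl⟩ := peel R (r := 38) (P := 1649267441664) (P' := 1924145348608) (by norm_num)
          (by decide +kernel) (by decide +kernel) hw2
        obtain ⟨c3, w4, hw4, rfl⟩ := peel R (r := 39) (P := 2 ^ 40) (P' := 1649267441664) (by norm_num)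
          (by decide +kernel) (by decide +kernel) hw3
        obtain ⟨c4, rfl⟩ := SP_one R (by norm_num) hw4
        have hm : ∀ i u, e (cc i) u ∈ SP X mJ0 := fun i u =>
          SP_mono (P := mJs) (by decide +kernel) (le_SP (cc_lt i) (cc_Js i) (R.e_mem (cc_lt i) u))
        have h1 := Fm.mul R (hm 0 c1) (Fm.single R 0 c1) (Fm.mul R (hm 1 c2) (Fm.single R 1 c2)
          (Fm.mul R (hm 2 c3) (Fm.single R 2 c3) (Fm.single R 3 c4)))
        have h2 := Fm.unique R ht h1
        rw [h0] at h2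
        have i0 := congrFun h2 0
        have i1 := congrFun h2 1
        have i2 := congrFun h2 2
        have i3 := congrFun h2 3
        simp at i0 i1 i2 i3
        rw [← i0, ← i1, ← i2, ← i3, R.zero (by norm_num), R.zero (by norm_num), R.zero (by norm_num),
          R.zero (by norm_num), one_mul, one_mul, one_mul, one_mul]
        exact R.e_mem (by norm_num) _
    · refine Or.inr (raise (e 41 1) (le_SP (by norm_num) (by decide +kernel) (R.e_mem (by norm_num) _)) c
        (1 * c ^ 2 + b) hc ?_)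
      have f1 : e 41 1 * e 29 c * (e 41 1)⁻¹ = e 44 c * e 47 (1 * c ^ 2) * e 29 c := by
        rw [conj2 R (show a2 41 29 44 47 = true by decide +kernel), one_mul]
      have f2 : e 41 1 * w1 * (e 41 1)⁻¹ = w1 := by
        rw [e_comm_SP R (P := 1992864825344) (by norm_num) (by decide +kernel) 1 hw1, mul_inv_cancel_right]
      have f3 : e 41 1 * e 47 b * (e 41 1)⁻¹ = e 47 b := by
        rw [R.c0 41 (by norm_num) 47 (by norm_num) (by decide +kernel), mul_inv_cancel_right]
      calc e 41 1 * (e 29 c * w1 * e 47 b) * (e 41 1)⁻¹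
          = (e 41 1 * e 29 c * (e 41 1)⁻¹) * (e 41 1 * w1 * (e 41 1)⁻¹) * (e 41 1 * e 47 b * (e 41 1)⁻¹) := by group
        _ = e 44 c * (e 47 (1 * c ^ 2) * (e 29 c * w1)) * e 47 b := by rw [f1, f2, f3]; group
        _ = e 44 c * (e 29 c * w1) * (e 47 (1 * c ^ 2) * e 47 b) := by rw [c47]; group
        _ = _ := by rw [← R.add 47 (by norm_num)]
  · right
    obtain ⟨g, hg, b', e1⟩ := kill_all R ha hw b
    refine ⟨g, hg, a, ha, b', ?_⟩
    rw [← e1]; group

end Cfsg.Agent.KFacts.F4Typ
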