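import Cfsg.Agent.OddHalf.D8.SignKill

/-!
# `GoodL` for the automorphism group of an elementary abelian group of order 8

`goodL_mulAut`: if `A` has order 8 and exponent 2 then `MulAut A` (which is `L_3(2)`) satisfies `SignKill.GoodL`.
-/

set_option autoImplicit false
set_option Elab.async false

namespace Cfsg.Agent.KFacts.GoodLThree

open Cfsg.Agent.OddHalf.D8.SignKill

/-- the model -/
abbrev V8 := Multiplicative (ZMod 2) × Multiplicative (ZMod 2) × Multiplicative (ZMod 2)

/-- the element with number `n` -/
def vec (n : ℕ) : V8 :=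
  (Multiplicative.ofAdd (n : ZMod 2), Multiplicative.ofAdd ((n / 2 : ℕ) : ZMod 2),
    Multiplicative.ofAdd ((n / 4 : ℕ) : ZMod 2))

/-- the number of an element -/
def num (v : V8) : ℕ :=
  (Multiplicative.toAdd v.1).val + 2 * (Multiplicative.toAdd v.2.1).val +
    4 * (Multiplicative.toAdd v.2.2).val

theorem vec_num : ∀ v : V8, vec (num v) = v := by decide
theorem num_vec : ∀ n < 8, num (vec n) = n := by decide
theorem num_lt : ∀ v : V8, num v < 8 := by decide
theorem vec_xor : ∀ n < 8, ∀ m < 8, vec (n ^^^ m) = vec n * vec m := by decide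
theorem num_mul : ∀ v w : V8, num (v * w) = num v ^^^ num w := by decide
theorem num_eq_zero : ∀ v : V8, num v = 0 ↔ v = 1 := by decide
theorem vec_zero : vec 0 = 1 := by decide

/-- the map with code `c` -/
def app (c x : ℕ) : ℕ :=
  (cond (Nat.testBit x 0) (c % 8) 0) ^^^ (cond (Nat.testBit x 1) (c / 8 % 8) 0) ^^^
    (cond (Nat.testBit x 2) (c / 64 % 8) 0)

/-- product of codes -/
def mulc (c d : ℕ) : ℕ := app c (d % 8) + 8 * app c (d / 8 % 8) + 64 * app c (d / 64 % 8)

/-- invertible codes -/
def okc (c : ℕ) : Bool :=
  !(Nat.beq (app c 1) 0) && !(Nat.beq (app c 2) 0) && !(Nat.beq (app c 3) 0) &&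
    !(Nat.beq (app c 4) 0) && !(Nat.beq (app c 5) 0) && !(Nat.beq (app c 6) 0) &&
    !(Nat.beq (app c 7) 0)

/-- the code of an automorphism -/
def code (β : MulAut V8) : ℕ := num (β (vec 1)) + 8 * num (β (vec 2)) + 64 * num (β (vec 4))

theorem code_lt (β : MulAut V8) : code β < 512 := by
  have h1 := num_lt (β (vec 1))
  have h2 := num_lt (β (vec 2))
  have h3 := num_lt (β (vec 4))
  unfold code
  omega

theorem code_0 (β : MulAut V8) : code β % 8 = num (β (vec 1)) := by
  have h1 := num_lt (β (vec 1))
  unfold code
  omega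

theorem code_1 (β : MulAut V8) : code β / 8 % 8 = num (β (vec 2)) := by
  have h1 := num_lt (β (vec 1))
  have h2 := num_lt (β (vec 2))
  unfold code
  omega

theorem code_2 (β : MulAut V8) : code β / 64 % 8 = num (β (vec 4)) := by
  have h1 := num_lt (β (vec 1))
  have h2 := num_lt (β (vec 2))
  have h3 := num_lt (β (vec 4))
  unfold code
  omega

theorem tb (x : ℕ) (hx : x < 8) : Nat.testBit x 0 = [false, true, false, true, false, true, false, true].getD x false ∧
    Nat.testBit x 1 = [false, false, true, true, false, false, true, true].getD x false ∧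
    Nat.testBit x 2 = [false, false, false, false, true, true, true, true].getD x false := by
  revert x
  decide

theorem num_app (β : MulAut V8) {x : ℕ} (hx : x < 8) : num (β (vec x)) = app (code β) x := by
  unfold app
  rw [code_0, code_1, code_2]
  have h3 : vec 3 = vec 1 * vec 2 := by decide
  have h5 : vec 5 = vec 1 * vec 4 := by decide
  have h6 : vec 6 = vec 2 * vec 4 := by decide
  have h7 : vec 7 = vec 1 * vec 2 * vec 4 := by decide
  rw [(tb x hx).1, (tb x hx).2.1, (tb x hx).2.2]
  interval_cases x <;> simp only [List.getD_cons_zero, List.getD_cons_succ, cond_true, cond_false,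
    Nat.xor_zero, Nat.zero_xor]
  · rw [vec_zero, map_one]
    decide
  · rw [h3, map_mul, num_mul]
  · rw [h5, map_mul, num_mul]
  · rw [h6, map_mul, num_mul]
  · rw [h7, map_mul, map_mul, num_mul, num_mul]

theorem apply_eq (β : MulAut V8) (v : V8) : β v = vec (app (code β) (num v)) := by
  rw [← num_app β (num_lt v), vec_num, vec_num]

theorem code_injective : Function.Injective code := by
  intro β γ h
  ext1 v
  rw [apply_eq, apply_eq γ, h]

theorem code_mul (β γ : MulAut V8) : code (β * γ) = mulc (code β) (code γ) := by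
  unfold mulc
  rw [code_0, code_1, code_2, ← num_app β (num_lt _), ← num_app β (num_lt _),
    ← num_app β (num_lt _), vec_num, vec_num, vec_num]
  rfl

theorem code_one : code 1 = 273 := by decide

theorem okc_code (β : MulAut V8) : okc (code β) = true := by
  have h : ∀ x, 1 ≤ x → x < 8 → Nat.beq (app (code β) x) 0 = false := by
    intro x hx hx8
    rw [← num_app β hx8]
    by_contra hne
    rw [Bool.not_eq_false] at hne
    have h1 := (num_eq_zero _).1 (Nat.eq_of_beq_eq_true hne)
    rw [EmbeddingLike.map_eq_one_iff] at h1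
    have h2 := num_vec x hx8
    rw [h1, (num_eq_zero 1).2 rfl] at h2
    omega
  unfold okc
  rw [h 1 (by norm_num) (by norm_num), h 2 (by norm_num) (by norm_num),
    h 3 (by norm_num) (by norm_num), h 4 (by norm_num) (by norm_num),
    h 5 (by norm_num) (by norm_num), h 6 (by norm_num) (by norm_num),
    h 7 (by norm_num) (by norm_num)]
  rfl

theorem app_tab : ∀ c < 512, okc c = true → (∀ x < 8, app c x < 8) ∧
    (∀ x < 8, ∀ y < 8, app c (x ^^^ y) = app c x ^^^ app c y) := by
  decide +kernel

theorem app_ne : ∀ c < 512, okc c = true → ∀ x < 8, app c x = 0 → x = 0 := by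
  decide +kernel

/-- the automorphism with code `c` -/
noncomputable def mk (c : ℕ) (hc : c < 512) (h : okc c = true) : MulAut V8 :=
  MulEquiv.ofBijective
    ({ toFun := fun v => vec (app c (num v))
       map_one' := by
        have h1 : num 1 = 0 := by decide
        have h2 : app c 0 = 0 := by
          have h3 := (app_tab c hc h).2 0 (by norm_num) 0 (by norm_num)
          rwa [Nat.xor_self, Nat.xor_self] at h3
        show vec (app c (num 1)) = 1
        rw [h1, h2, vec_zero]
       map_mul' := by
        intro v w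
        rw [num_mul, (app_tab c hc h).2 _ (num_lt v) _ (num_lt w)]
        exact vec_xor _ ((app_tab c hc h).1 _ (num_lt v)) _ ((app_tab c hc h).1 _ (num_lt w)) } :
      V8 →* V8) (by
    rw [← Finite.injective_iff_bijective, injective_iff_map_eq_one]
    intro v hv
    have h1 := (num_eq_zero _).2 hv
    have h2 : num (vec (app c (num v))) = app c (num v) :=
      num_vec _ ((app_tab c hc h).1 _ (num_lt v))
    exact (num_eq_zero v).1 (app_ne c hc h _ (num_lt v) (h2.symm.trans h1)))

theorem mk_apply (c : ℕ) (hc : c < 512) (h : okc c = true) (v : V8) :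
    mk c hc h v = vec (app c (num v)) := rfl

theorem app_gens : ∀ c < 512, app c 1 + 8 * app c 2 + 64 * app c 4 = c := by decide +kernel

theorem code_mk (c : ℕ) (hc : c < 512) (h : okc c = true) : code (mk c hc h) = c := by
  have h1 := (app_tab c hc h).1
  unfold code
  rw [mk_apply, mk_apply, mk_apply, num_vec 1 (by norm_num), num_vec 2 (by norm_num),
    num_vec 4 (by norm_num), num_vec _ (h1 1 (by norm_num)), num_vec _ (h1 2 (by norm_num)),
    num_vec _ (h1 4 (by norm_num))]
  exact app_gens c hc

/-! ### The facts -/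

/-- every element is a product of two squares -/
def sqTab : List (ℕ × ℕ × ℕ) :=
  [(84, 273, 254), (85, 273, 340), (86, 92, 236), (87, 273, 468), (92, 86, 498), (93, 273, 372),
  (94, 273, 229), (95, 273, 442), (98, 273, 140), (99, 273, 445), (102, 273, 491),
  (103, 85, 171), (106, 273, 247), (107, 85, 174), (110, 273, 444), (111, 273, 141),
  (114, 273, 477), (115, 273, 142), (116, 85, 169), (117, 273, 380), (122, 85, 172),
  (123, 273, 236), (124, 273, 143), (125, 273, 348), (140, 273, 98), (141, 273, 499),
  (142, 273, 253), (143, 85, 359), (156, 273, 375), (157, 273, 106), (158, 85, 335),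
  (159, 273, 230), (161, 273, 239), (163, 86, 417), (165, 85, 98), (167, 273, 122),
  (169, 86, 244), (171, 273, 244), (172, 273, 478), (174, 273, 359), (177, 273, 417),
  (179, 273, 421), (181, 273, 423), (183, 273, 419), (185, 273, 481), (187, 273, 335),
  (188, 85, 417), (190, 273, 114), (204, 273, 431), (205, 85, 354), (206, 273, 498),
  (207, 273, 99), (212, 85, 330), (213, 273, 470), (214, 273, 107), (215, 273, 342),
  (225, 85, 234), (226, 273, 382), (229, 273, 426), (230, 273, 159), (233, 273, 158),
  (234, 273, 461), (236, 273, 123), (239, 85, 396), (241, 273, 489), (242, 85, 395),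
  (244, 273, 334), (247, 273, 157), (249, 273, 425), (250, 273, 156), (253, 273, 115),
  (254, 85, 111), (266, 273, 494), (267, 273, 282), (270, 86, 226), (271, 273, 314),
  (273, 273, 84), (275, 273, 405), (277, 273, 307), (279, 273, 163), (281, 273, 369),
  (282, 273, 267), (285, 85, 143), (286, 273, 303), (298, 85, 140), (299, 273, 318),
  (302, 273, 205), (303, 273, 286), (305, 273, 285), (307, 85, 442), (309, 273, 270),
  (311, 85, 229), (313, 273, 92), (314, 273, 271), (317, 86, 207), (318, 273, 299),
  (330, 86, 459), (331, 273, 410), (334, 273, 171), (335, 273, 500), (337, 273, 409),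
  (339, 85, 163), (340, 273, 85), (342, 273, 215), (345, 273, 169), (346, 273, 459),
  (348, 273, 125), (351, 85, 299), (354, 273, 415), (355, 273, 204), (358, 85, 282),
  (359, 273, 174), (369, 86, 204), (370, 273, 172), (372, 273, 93), (375, 273, 250),
  (377, 85, 270), (379, 273, 486), (380, 273, 117), (382, 273, 412), (394, 85, 461),
  (395, 273, 474), (396, 273, 379), (397, 273, 102), (401, 273, 339), (403, 273, 86),
  (405, 86, 307), (407, 85, 107), (409, 85, 115), (410, 273, 331), (412, 273, 226),
  (415, 273, 492), (417, 273, 177), (419, 273, 183), (421, 273, 179), (423, 273, 181),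
  (425, 273, 249), (426, 273, 94), (428, 86, 205), (431, 273, 355), (442, 273, 485),
  (443, 85, 157), (444, 273, 110), (445, 273, 207), (458, 273, 103), (459, 273, 346),
  (460, 85, 249), (461, 273, 234), (465, 273, 330), (467, 86, 330), (468, 273, 87),
  (470, 273, 213), (473, 85, 207), (474, 273, 395), (477, 273, 190), (478, 273, 370),
  (481, 273, 185), (482, 86, 206), (485, 273, 95), (486, 273, 396), (489, 273, 241),
  (491, 273, 397), (492, 273, 354), (494, 85, 183), (498, 273, 206), (499, 273, 111),
  (500, 273, 187), (501, 85, 226)]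

theorem sqTab_ok : ∀ p ∈ sqTab, p.2.1 < 512 ∧ okc p.2.1 = true ∧ p.2.2 < 512 ∧ okc p.2.2 = true ∧
    mulc (mulc p.2.1 p.2.1) (mulc p.2.2 p.2.2) = p.1 := by
  decide +kernel

theorem sqTab_cover : ∀ c < 512, okc c = true →
    (sqTab.any fun p => Nat.beq p.1 c) = true := by
  decide +kernel

/-- all involutions are conjugate to the one with code 84 -/
def cjTab : List (ℕ × ℕ) :=
  [(84, 84), (124, 92), (161, 140), (167, 95), (214, 86), (233, 141), (266, 98), (275, 99),
  (277, 85), (279, 87), (281, 163), (302, 94), (305, 142), (309, 93), (313, 143), (337, 277),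
  (345, 179), (401, 270), (403, 107), (458, 106), (465, 271)]

theorem cjTab_ok : ∀ p ∈ cjTab, p.2 < 512 ∧ okc p.2 = true ∧ mulc p.2 84 = mulc p.1 p.2 := by
  decide +kernel

theorem cjTab_cover : ∀ c < 512, okc c = true → mulc c c = 273 → c ≠ 273 →
    (cjTab.any fun p => Nat.beq p.1 c) = true := by
  decide +kernel

theorem inv_card : ((Finset.range 512).filter fun c =>
    okc c = true ∧ mulc c c = 273 ∧ c ≠ 273).card = 21 := by
  decide +kernel

theorem card_codes : ((Finset.range 512).filter fun c => okc c = true).card = 168 := by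
  decide +kernel

theorem cent_card : ∀ p ∈ cjTab, ((Finset.range 512).filter fun c =>
    okc c = true ∧ mulc c p.1 = mulc p.1 c).card = 8 := by
  decide +kernel

theorem four_tab : ∀ p ∈ cjTab, ∀ c < 512, okc c = true → mulc c p.1 = mulc p.1 c →
    ∀ q ∈ cjTab, mulc p.1 q.1 = mulc q.1 p.1 →
      mulc c q.1 = mulc p.1 c ∨ mulc c q.1 = mulc q.1 c ∨ mulc c q.1 = mulc (mulc p.1 q.1) c := by
  decide +kernel

theorem inv_iff (a : MulAut V8) : (a * a = 1 ∧ a ≠ 1) ↔
    (okc (code a) = true ∧ mulc (code a) (code a) = 273 ∧ code a ≠ 273) := by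
  rw [← code_mul, ← code_one]
  constructor
  · rintro ⟨h1, h2⟩
    exact ⟨okc_code a, by rw [h1], fun h => h2 (code_injective h)⟩
  · rintro ⟨-, h1, h2⟩
    exact ⟨code_injective h1, fun h => h2 (by rw [h])⟩

theorem mem_cjTab {a : MulAut V8} (h1 : a * a = 1) (h2 : a ≠ 1) :
    ∃ p ∈ cjTab, p.1 = code a := by
  have h := (inv_iff a).1 ⟨h1, h2⟩
  obtain ⟨p, hp, he⟩ := List.any_eq_true.1 (cjTab_cover _ (code_lt a) h.1 h.2.1 h.2.2)
  exact ⟨p, hp, Nat.eq_of_beq_eq_true he⟩

/-- counting automorphisms by codes -/
theorem card_eq (P : MulAut V8 → Prop) (p : ℕ → Prop) [DecidablePred p]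
    (h : ∀ a, P a ↔ p (code a)) (hp : ∀ c, p c → okc c = true) :
    Nat.card {a : MulAut V8 // P a} = ((Finset.range 512).filter p).card := by
  have h0 : Nat.card {c // c ∈ (Finset.range 512).filter p} = ((Finset.range 512).filter p).card := by
    rw [Nat.card_eq_fintype_card, Fintype.card_coe]
  rw [← h0]
  exact Nat.card_congr
    { toFun := fun a => ⟨code a.1, by
        rw [Finset.mem_filter, Finset.mem_range]
        exact ⟨code_lt _, (h _).1 a.2⟩⟩
      invFun := fun c => ⟨mk c.1 (Finset.mem_range.1 (Finset.mem_filter.1 c.2).1)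
          (hp _ (Finset.mem_filter.1 c.2).2), by
        rw [h, code_mk]
        exact (Finset.mem_filter.1 c.2).2⟩
      left_inv := fun a => Subtype.ext (code_injective (code_mk _ (code_lt a.1) (okc_code a.1)))
      right_inv := fun c => Subtype.ext (code_mk _ (Finset.mem_range.1 (Finset.mem_filter.1 c.2).1)
        (hp _ (Finset.mem_filter.1 c.2).2)) }

theorem goodL_V8 : GoodL (MulAut V8) where
  perf f l := by
    obtain ⟨p, hp, he⟩ := List.any_eq_true.1 (sqTab_cover _ (code_lt l) (okc_code l))
    have he := Nat.eq_of_beq_eq_true he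
    obtain ⟨h1, h2, h3, h4, h5⟩ := sqTab_ok p hp
    have h6 : l = (mk p.2.1 h1 h2 * mk p.2.1 h1 h2) * (mk p.2.2 h3 h4 * mk p.2.2 h3 h4) := by
      apply code_injective
      rw [code_mul, code_mul, code_mul, code_mk, code_mk, h5, he]
    rw [h6, map_mul, map_mul, map_mul, Int.units_mul_self, Int.units_mul_self, one_mul]
  inv := by
    rw [card_eq _ (fun c => okc c = true ∧ mulc c c = 273 ∧ c ≠ 273) inv_iff (fun c h => h.1),
      inv_card]
  conj a b ha ha1 hb hb1 := by
    have key : ∀ b : MulAut V8, b * b = 1 → b ≠ 1 →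
        IsConj (mk 84 (by norm_num) (by decide)) b := by
      intro b hb hb1
      obtain ⟨p, hp, he⟩ := mem_cjTab hb hb1
      obtain ⟨h1, h2, h3⟩ := cjTab_ok p hp
      rw [isConj_iff]
      refine ⟨mk p.2 h1 h2, ?_⟩
      rw [mul_inv_eq_iff_eq_mul]
      apply code_injective
      rw [code_mul, code_mul, code_mk, code_mk, h3, he]
    exact (key a ha ha1).symm.trans (key b hb hb1)
  four a b ha ha1 hb hb1 hne hab := by
    obtain ⟨p, hp, he⟩ := mem_cjTab ha ha1
    obtain ⟨q, hq, hqe⟩ := mem_cjTab hb hb1
    refine ⟨Subgroup.centralizer {a}, ?_, ?_, ?_⟩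
    · have h1 : Nat.card (Subgroup.centralizer ({a} : Set (MulAut V8))) = 8 := by
        have h2 := card_eq (fun r : MulAut V8 => r ∈ Subgroup.centralizer ({a} : Set (MulAut V8)))
          (fun c => okc c = true ∧ mulc c p.1 = mulc p.1 c) (fun r => by
            rw [Subgroup.mem_centralizer_singleton_iff, he, ← code_mul, ← code_mul]
            exact ⟨fun h => ⟨okc_code r, by rw [h]⟩, fun h => (code_injective h.2)⟩)
          (fun c h => h.1)
        rw [cent_card p hp] at h2
        exact h2
      rw [h1]
    · intro r hr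
      left
      rw [Subgroup.mem_centralizer_singleton_iff] at hr
      rw [hr, mul_inv_cancel_right]
    · intro r hr
      rw [Subgroup.mem_centralizer_singleton_iff] at hr
      have h1 : mulc (code r) p.1 = mulc p.1 (code r) := by
        rw [he, ← code_mul, ← code_mul, hr]
      have h2 : mulc p.1 q.1 = mulc q.1 p.1 := by
        rw [he, hqe, ← code_mul, ← code_mul, hab]
      have h3 := four_tab p hp _ (code_lt r) (okc_code r) h1 q hq h2
      rw [he, hqe, ← code_mul, ← code_mul, ← code_mul, ← code_mul, ← code_mul] at h3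
      rw [mul_inv_eq_iff_eq_mul, mul_inv_eq_iff_eq_mul, mul_inv_eq_iff_eq_mul]
      rcases h3 with h3 | h3 | h3
      · exact Or.inl (code_injective h3)
      · exact Or.inr (Or.inl (code_injective h3))
      · exact Or.inr (Or.inr (code_injective h3))
  n16 := by
    have h1 : Nat.card (MulAut V8) = 168 := by
      have h2 := card_eq (fun _ => True) (fun c => okc c = true) (fun a => by simp [okc_code])
        (fun c h => h)
      rw [card_codes] at h2
      rw [← h2]
      exact (Nat.card_congr (Equiv.subtypeUnivEquiv fun _ => trivial)).symm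
    rw [h1]
    norm_num

/-! ### Elementary abelian groups of order 8 -/

/-- Two groups of exponent 2 of the same finite order are isomorphic. -/
theorem nonempty_equiv {A B : Type*} [Group A] [Group B] [Finite A] [Finite B]
    (hA : ∀ a : A, a * a = 1) (hB : ∀ b : B, b * b = 1) (h : Nat.card A = Nat.card B) :
    Nonempty (A ≃* B) := by
  classical
  let _ : CommGroup A := { (inferInstance : Group A) with
    mul_comm := fun a b => by
      have h1 := hA (a * b)
      have h2 : a⁻¹ = a := inv_eq_of_mul_eq_one_left (hA a)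
      have h3 : b⁻¹ = b := inv_eq_of_mul_eq_one_left (hA b)
      rw [mul_eq_one_iff_eq_inv, mul_inv_rev, h2, h3] at h1
      exact h1 }
  let _ : CommGroup B := { (inferInstance : Group B) with
    mul_comm := fun a b => by
      have h1 := hB (a * b)
      have h2 : a⁻¹ = a := inv_eq_of_mul_eq_one_left (hB a)
      have h3 : b⁻¹ = b := inv_eq_of_mul_eq_one_left (hB b)
      rw [mul_eq_one_iff_eq_inv, mul_inv_rev, h2, h3] at h1
      exact h1 }
  let _ : Module (ZMod 2) (Additive A) := AddCommGroup.zmodModule (n := 2) (by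
    intro a
    rw [two_nsmul]
    exact hA a.toMul)
  let _ : Module (ZMod 2) (Additive B) := AddCommGroup.zmodModule (n := 2) (by
    intro a
    rw [two_nsmul]
    exact hB a.toMul)
  have : Finite (Additive A) := inferInstanceAs (Finite A)
  have : Finite (Additive B) := inferInstanceAs (Finite B)
  have hc : Module.finrank (ZMod 2) (Additive A) = Module.finrank (ZMod 2) (Additive B) := by
    have h1 := Module.natCard_eq_pow_finrank (K := ZMod 2) (V := Additive A)
    have h2 := Module.natCard_eq_pow_finrank (K := ZMod 2) (V := Additive B)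
    have h3 : Nat.card (Additive A) = Nat.card (Additive B) := h
    rw [h1, h2] at h3
    have h4 : 1 < Nat.card (ZMod 2) := by rw [Nat.card_zmod]; norm_num
    exact Nat.pow_right_injective h4 h3
  let e : Additive A ≃+ Additive B := (LinearEquiv.ofFinrankEq (R := ZMod 2) (Additive A)
    (Additive B) hc).toAddEquiv
  exact ⟨{ toFun := fun a => (e (Additive.ofMul a)).toMul
           invFun := fun b => (e.symm (Additive.ofMul b)).toMul
           left_inv := fun a => by simp
           right_inv := fun b => by simp
           map_mul' := fun a b => by simp }⟩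

/-- **`MulAut A` for `A` elementary abelian of order 8.** -/
theorem goodL_mulAut {A : Type*} [Group A] (hA : ∀ a : A, a * a = 1) (h : Nat.card A = 8) :
    GoodL (MulAut A) := by
  have : Finite A := Nat.finite_of_card_ne_zero (by rw [h]; norm_num)
  have hV : Nat.card V8 = 8 := by
    rw [Nat.card_eq_fintype_card]
    decide
  obtain ⟨e⟩ := nonempty_equiv (A := V8) (B := A) (by decide) hA (by rw [hV, h])
  exact GoodL.congr (MulAut.congr e) goodL_V8

end Cfsg.Agent.KFacts.GoodLThree
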