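import Mathlib

/-!
# Irreducibility of a graded group modulo its centre (K-facts (H4) of ODD D7)

`Gr Z Q X`: `Q / Z` is abelian, the direct product of the groups `X b Z / Z`. `Op g c`: the element `g` maps
`x ∈ X b` to `x y z`, `y ∈ X (c b)`, `z ∈ Z`, `y ≠ 1` for `x ≠ 1`, or to `x z` if `c b = none`.
* `exists_single`: if any two indices are separated by operators in `H`, then every `H`-invariant subgroup of `Q`, not
  contained in `Z`, contains an element `x z`, `1 ≠ x ∈ X b`, `z ∈ Z`;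
* `eq_of_le`: an invariant subgroup `N` with `X b ≤ N Z` for all `b` is `Q`, if `Z ≤ [Q, Q]`.
-/

set_option autoImplicit false

namespace Cfsg.Agent.KFacts.GrIrr

open scoped commutatorElement

variable {G ι : Type*} [Group G]

/-- `Z` and the groups `X b`, `b ∈ S`. -/
def QS (Z : Subgroup G) (X : ι → Subgroup G) (S : Set ι) : Subgroup G := Z ⊔ ⨆ b ∈ S, X b

theorem Z_le_QS {Z : Subgroup G} {X : ι → Subgroup G} {S : Set ι} : Z ≤ QS Z X S := le_sup_left

theorem X_le_QS {Z : Subgroup G} {X : ι → Subgroup G} {S : Set ι} {b : ι} (hb : b ∈ S) : X b ≤ QS Z X S :=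
  (le_iSup₂_of_le b hb le_rfl : X b ≤ ⨆ b ∈ S, X b).trans le_sup_right

theorem QS_le {Z : Subgroup G} {X : ι → Subgroup G} {S : Set ι} {H : Subgroup G} (hZ : Z ≤ H)
    (hX : ∀ b ∈ S, X b ≤ H) : QS Z X S ≤ H := sup_le hZ (iSup₂_le hX)

theorem QS_mono {Z : Subgroup G} {X : ι → Subgroup G} {S S' : Set ι} (h : S ⊆ S') : QS Z X S ≤ QS Z X S' :=
  QS_le Z_le_QS fun _ hb => X_le_QS (h hb)

/-- The other groups. -/
def OO (Z : Subgroup G) (X : ι → Subgroup G) (b : ι) : Subgroup G := QS Z X {b' | b' ≠ b}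

/-- `Q / Z` is the direct product of the `X b Z / Z`. -/
structure Gr (Z Q : Subgroup G) (X : ι → Subgroup G) : Prop where
  Z_le : Z ≤ Q
  X_le : ∀ b, X b ≤ Q
  gen : Q ≤ QS Z X Set.univ
  comm : ∀ x ∈ Q, ∀ y ∈ Q, ⁅x, y⁆ ∈ Z
  Zc : ∀ z ∈ Z, ∀ x ∈ Q, z * x = x * z
  ind : ∀ b, ∀ x ∈ X b, x ∈ OO Z X b → x = 1

namespace Gr

variable {Z Q : Subgroup G} {X : ι → Subgroup G} (F : Gr Z Q X)

include F

theorem QS_le_Q (S : Set ι) : QS Z X S ≤ Q := QS_le F.Z_le fun b _ => F.X_le b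

theorem eq_QS : Q = QS Z X Set.univ := le_antisymm F.gen (F.QS_le_Q _)

/-- elements of `Q` commute modulo `Z` -/
theorem swap {x y : G} (hx : x ∈ Q) (hy : y ∈ Q) : ∃ z ∈ Z, x * y = y * x * z := by
  refine ⟨(y * x)⁻¹ * (x * y), ?_, by group⟩
  have h1 := F.comm x⁻¹ (Q.inv_mem hx) y⁻¹ (Q.inv_mem hy)
  have h2 : (y * x)⁻¹ * (x * y) = ⁅x⁻¹, y⁻¹⁆ := by rw [commutatorElement_def]; group
  rw [h2]; exact h1

/-- A subgroup of `Q` containing `Z` is normalised by `Q`. -/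
theorem conj_mem {H : Subgroup G} (hZ : Z ≤ H) (hH : H ≤ Q) {x g : G} (hx : x ∈ H) (hg : g ∈ Q) :
    g * x * g⁻¹ ∈ H := by
  have h1 := hZ (F.comm g hg x (hH hx))
  rw [commutatorElement_def] at h1
  have : g * x * g⁻¹ = g * x * g⁻¹ * x⁻¹ * x := by group
  rw [this]
  exact H.mul_mem h1 hx

/-- decomposition -/
theorem dec {S : Set ι} {b : ι} (hb : b ∈ S) {v : G} (hv : v ∈ QS Z X S) :
    ∃ x ∈ X b, ∃ w ∈ QS Z X (S \ {b}), v = x * w := by
  have hle : QS Z X (S \ {b}) ≤ Q := F.QS_le_Q _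
  let K : Subgroup G :=
    { carrier := {v | ∃ x ∈ X b, ∃ w ∈ QS Z X (S \ {b}), v = x * w}
      one_mem' := ⟨1, one_mem _, 1, one_mem _, by group⟩
      mul_mem' := by
        rintro _ _ ⟨x, hx, w, hw, rfl⟩ ⟨x', hx', w', hw', rfl⟩
        refine ⟨x * x', mul_mem hx hx', x'⁻¹ * w * x' * w', mul_mem ?_ hw', by group⟩
        have := F.conj_mem Z_le_QS hle hw (Q.inv_mem (F.X_le b hx'))
        rwa [inv_inv] at this
      inv_mem' := by
        rintro _ ⟨x, hx, w, hw, rfl⟩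
        refine ⟨x⁻¹, inv_mem hx, x * w⁻¹ * x⁻¹, ?_, by group⟩
        exact F.conj_mem Z_le_QS hle (inv_mem hw) (F.X_le b hx) }
  have : QS Z X S ≤ K := by
    apply QS_le
    · intro z hz
      exact ⟨1, one_mem _, z, Z_le_QS hz, by group⟩
    · intro b' hb' x hx
      by_cases h : b' = b
      · subst h
        exact ⟨x, hx, 1, one_mem _, by group⟩
      · exact ⟨1, one_mem _, x, X_le_QS (show b' ∈ S \ {b} from ⟨hb', h⟩) hx, by group⟩
  exact this hv

theorem dec' (b : ι) {v : G} (hv : v ∈ Q) : ∃ x ∈ X b, ∃ w ∈ OO Z X b, v = x * w := by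
  obtain ⟨x, hx, w, hw, e⟩ := F.dec (Set.mem_univ b) (F.gen hv)
  exact ⟨x, hx, w, QS_mono (fun c hc => hc.2) hw, e⟩

theorem drop {S : Set ι} {b : ι} {v : G} (hv : v ∈ QS Z X S) (h : v ∈ OO Z X b) : v ∈ QS Z X (S \ {b}) := by
  by_cases hb : b ∈ S
  · obtain ⟨x, hx, w, hw, rfl⟩ := F.dec hb hv
    have h1 : w ∈ OO Z X b := QS_mono (fun c hc => hc.2) hw
    have h2 : x ∈ OO Z X b := by
      have : x = x * w * w⁻¹ := by group
      rw [this]; exact mul_mem h (inv_mem h1)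
    rw [F.ind b x hx h2, one_mul]
    exact hw
  · rwa [Set.diff_singleton_eq_self hb]

theorem drop_all [Finite ι] {S : Set ι} {v : G} (hv : v ∈ Q) (h : ∀ b ∈ S, v ∈ OO Z X b) : v ∈ QS Z X Sᶜ := by
  have key : ∀ S : Set ι, S.Finite → (∀ b ∈ S, v ∈ OO Z X b) → v ∈ QS Z X Sᶜ := by
    intro S hS
    induction S, hS using Set.Finite.induction_on with
    | empty =>
      intro _
      rw [Set.compl_empty]; exact F.gen hv
    | @insert a S _ _ ih =>
      intro h'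
      have h1 := ih fun b hb => h' b (Set.mem_insert_of_mem _ hb)
      have h2 := F.drop h1 (h' a (Set.mem_insert _ _))
      refine QS_mono ?_ h2
      intro c hc
      rw [Set.mem_compl_iff, Set.mem_insert_iff, not_or]
      exact ⟨hc.2, hc.1⟩
  exact key S (Set.toFinite S) h

omit F in
/-- The support. -/
def supp (Z : Subgroup G) (X : ι → Subgroup G) (v : G) : Set ι := {b | v ∉ OO Z X b}

theorem mem_Z_of_supp [Finite ι] {v : G} (hv : v ∈ Q) (h : supp Z X v = ∅) : v ∈ Z := by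
  have h1 := F.drop_all (S := Set.univ) hv fun b _ => by
    by_contra hb
    have : b ∈ supp Z X v := hb
    rw [h] at this
    exact this
  rw [Set.compl_univ] at h1
  have h2 : QS Z X (∅ : Set ι) ≤ Z := QS_le le_rfl (by simp)
  exact h2 h1

theorem supp_of_mem_Z {v : G} (h : v ∈ Z) : supp Z X v = ∅ := by
  ext b
  simp only [supp, Set.mem_setOf_eq, Set.mem_empty_iff_false, iff_false, not_not]
  exact Z_le_QS h

theorem single_of_supp [Finite ι] {v : G} (hv : v ∈ Q) {b : ι} (h : supp Z X v ⊆ {b}) :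
    ∃ x ∈ X b, ∃ z ∈ Z, v = x * z := by
  have h1 := F.drop_all (S := {b}ᶜ) hv fun c hc => by
    by_contra hb
    exact hc (h hb)
  rw [compl_compl] at h1
  obtain ⟨x, hx, w, hw, e⟩ := F.dec (Set.mem_singleton b) h1
  refine ⟨x, hx, w, ?_, e⟩
  have h2 : QS Z X (({b} : Set ι) \ {b}) ≤ Z := QS_le le_rfl (by simp)
  exact h2 hw

end Gr

/-- `δ_g(v)` -/
def dl (g v : G) : G := v⁻¹ * (g * v * g⁻¹)

/-- An operator: `x ↦ x y z`, `y ∈ X (c b)`. -/
structure Op (Z Q : Subgroup G) (X : ι → Subgroup G) (g : G) (c : ι → Option ι) : Prop where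
  inj : ∀ b b' d, c b = some d → c b' = some d → b = b'
  Qg : ∀ x ∈ Q, g * x * g⁻¹ ∈ Q
  Zg : ∀ z ∈ Z, g * z * g⁻¹ ∈ Z
  som : ∀ b d, c b = some d → ∀ x ∈ X b, ∃ y ∈ X d, ∃ z ∈ Z, dl g x = y * z ∧ (x ≠ 1 → y ≠ 1)
  non : ∀ b, c b = none → ∀ x ∈ X b, dl g x ∈ Z

namespace Op

variable {Z Q : Subgroup G} {X : ι → Subgroup G} {g : G} {c : ι → Option ι} (F : Gr Z Q X) (O : Op Z Q X g c)

include F O

theorem dl_mem {v : G} (hv : v ∈ Q) : dl g v ∈ Q := mul_mem (inv_mem hv) (O.Qg v hv)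

/-- `δ` is a homomorphism modulo `Z`. -/
theorem dl_mul {H : Subgroup G} (hZ : Z ≤ H) (hH : H ≤ Q) {v w : G} (hv : v ∈ Q) (hw : w ∈ Q) (h1 : dl g v ∈ H)
    (h2 : dl g w ∈ H) : dl g (v * w) ∈ H := by
  have e : dl g (v * w) = (w⁻¹ * dl g v * w) * dl g w := by unfold dl; group
  rw [e]
  have := F.conj_mem hZ hH h1 (Q.inv_mem hw)
  rw [inv_inv] at this
  exact mul_mem this h2

theorem dl_inv {H : Subgroup G} (hZ : Z ≤ H) (hH : H ≤ Q) {v : G} (hv : v ∈ Q) (h1 : dl g v ∈ H) :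
    dl g v⁻¹ ∈ H := by
  have e : dl g v⁻¹ = v * (dl g v)⁻¹ * v⁻¹ := by unfold dl; group
  rw [e]
  exact F.conj_mem hZ hH (inv_mem h1) hv

/-- The elements of `Q` with `δ v ∈ H`. -/
theorem dl_mem_of {H : Subgroup G} (hZ : Z ≤ H) (hH : H ≤ Q) {S : Set ι} (hS : ∀ b ∈ S, ∀ x ∈ X b, dl g x ∈ H)
    {v : G} (hv : v ∈ QS Z X S) : dl g v ∈ H := by
  let K : Subgroup G :=
    { carrier := {v | v ∈ Q ∧ dl g v ∈ H}
      one_mem' := ⟨one_mem _, by unfold dl; simp⟩
      mul_mem' := fun ha hb => ⟨mul_mem ha.1 hb.1, dl_mul F O hZ hH ha.1 hb.1 ha.2 hb.2⟩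
      inv_mem' := fun ha => ⟨inv_mem ha.1, dl_inv F O hZ hH ha.1 ha.2⟩ }
  have : QS Z X S ≤ K := by
    apply QS_le
    · intro z hz
      exact ⟨F.Z_le hz, hZ (mul_mem (inv_mem hz) (O.Zg z hz))⟩
    · intro b hb x hx
      exact ⟨F.X_le b hx, hS b hb x hx⟩
  exact (this hv).2

theorem dl_X {b d : ι} (hb : c b ≠ Option.some d) {x : G} (hx : x ∈ X b) : dl g x ∈ OO Z X d := by
  rcases hcb : c b with _ | e
  · exact Z_le_QS (O.non b hcb x hx)
  · obtain ⟨y, hy, z, hz, he, -⟩ := O.som b e hcb x hx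
    rw [he]
    refine mul_mem (X_le_QS (b := e) ?_ hy) (Z_le_QS hz)
    rintro rfl
    exact hb hcb

/-- `δ` on the complement of `b`. -/
theorem dl_OO {b d : ι} (hb : c b = Option.some d) {v : G} (hv : v ∈ OO Z X b) : dl g v ∈ OO Z X d := by
  refine dl_mem_of F O Z_le_QS (F.QS_le_Q _) (fun b' hb' x hx => ?_) hv
  exact dl_X F O (fun h => hb' (O.inj _ _ _ h hb)) hx

theorem supp_dl {v : G} (hv : v ∈ Q) (d : ι) :
    d ∈ Gr.supp Z X (dl g v) ↔ ∃ b ∈ Gr.supp Z X v, c b = Option.some d := by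
  constructor
  · intro hd
    by_contra hcon
    push Not at hcon
    apply hd
    by_cases hb : ∃ b, c b = Option.some d
    · obtain ⟨b, hb⟩ := hb
      have h1 : v ∈ OO Z X b := by
        by_contra h2
        exact hcon b h2 hb
      exact dl_OO F O hb h1
    · push Not at hb
      refine dl_mem_of F O Z_le_QS (F.QS_le_Q _) (S := Set.univ) (fun b' _ x hx => ?_) (F.gen hv)
      exact dl_X F O (hb b') hx
  · rintro ⟨b, hb, hcb⟩ hd
    obtain ⟨x, hx, w, hw, rfl⟩ := F.dec' b hv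
    have hx1 : x ≠ 1 := by
      rintro rfl
      apply hb
      rw [one_mul]; exact hw
    obtain ⟨y, hy, z, hz, he, hy1⟩ := O.som b d hcb x hx
    have hwQ : w ∈ Q := F.QS_le_Q _ hw
    have h1 : dl g (x * w) = (w⁻¹ * dl g x * w) * dl g w := by unfold dl; group
    have h2 : dl g w ∈ OO Z X d := dl_OO F O hcb hw
    have h3 : w⁻¹ * dl g x * w ∈ OO Z X d := by
      have : w⁻¹ * dl g x * w = dl g (x * w) * (dl g w)⁻¹ := by rw [h1]; group
      rw [this]; exact mul_mem hd (inv_mem h2)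
    have h4 : dl g x ∈ OO Z X d := by
      have h5 := F.conj_mem Z_le_QS (F.QS_le_Q _) h3 hwQ
      have : w * (w⁻¹ * dl g x * w) * w⁻¹ = dl g x := by group
      rwa [this] at h5
    rw [he] at h4
    have h5 : y ∈ OO Z X d := by
      have : y = y * z * z⁻¹ := by group
      rw [this]; exact mul_mem h4 (inv_mem (Z_le_QS hz))
    exact hy1 hx1 (F.ind d y hy h5)

end Op

variable {Z Q : Subgroup G} {X : ι → Subgroup G}

/-- **Every invariant subgroup not contained in `Z` contains an element with one component.** -/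
theorem exists_single [Finite ι] (F : Gr Z Q X) {H : Subgroup G}
    (sep : ∀ b b' : ι, b ≠ b' → ∃ g ∈ H, ∃ c, Op Z Q X g c ∧
      ((c b ≠ none ∧ c b' = none) ∨ (c b = none ∧ c b' ≠ none)))
    {N : Subgroup G} (hNQ : N ≤ Q) (hN : ∀ g ∈ H, ∀ x ∈ N, g * x * g⁻¹ ∈ N) (hNZ : ¬ N ≤ Z) :
    ∃ b, ∃ x ∈ X b, x ≠ 1 ∧ ∃ z ∈ Z, x * z ∈ N := by
  obtain ⟨v, hv, hvZ⟩ := Set.not_subset.1 hNZ
  have key : ∀ n : ℕ, ∀ v ∈ N, v ∉ Z → (Gr.supp Z X v).ncard = n →
      ∃ b, ∃ x ∈ X b, x ≠ 1 ∧ ∃ z ∈ Z, x * z ∈ N := by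
    intro n
    induction n using Nat.strong_induction_on with
    | _ n ih =>
    intro v hv hvZ hn
    have hvQ := hNQ hv
    have hne : (Gr.supp Z X v).Nonempty := by
      rw [Set.nonempty_iff_ne_empty]
      exact fun h => hvZ (F.mem_Z_of_supp hvQ h)
    obtain ⟨b, hb⟩ := hne
    by_cases hs : Gr.supp Z X v ⊆ {b}
    · obtain ⟨x, hx, z, hz, e⟩ := F.single_of_supp hvQ hs
      refine ⟨b, x, hx, ?_, z, hz, by rw [← e]; exact hv⟩
      rintro rfl
      apply hvZ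
      rw [e, one_mul]; exact hz
    · obtain ⟨b', hb', hbb'⟩ := Set.not_subset.1 hs
      have hbb : b ≠ b' := fun h => hbb' h.symm
      obtain ⟨g, hg, c, O, hc⟩ := sep b b' hbb
      have hsub := Op.supp_dl F O hvQ
      -- the support of `δ v` is smaller and not empty
      have hdN : dl g v ∈ N := mul_mem (inv_mem hv) (hN g hg v hv)
      obtain ⟨b1, hb1, hc1, b2, hb2, hc2⟩ : ∃ b1 ∈ Gr.supp Z X v, c b1 ≠ none ∧
          ∃ b2 ∈ Gr.supp Z X v, c b2 = none := by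
        rcases hc with ⟨h1, h2⟩ | ⟨h1, h2⟩
        · exact ⟨b, hb, h1, b', hb', h2⟩
        · exact ⟨b', hb', h2, b, hb, h1⟩
      obtain ⟨d1, hd1⟩ := Option.ne_none_iff_exists'.1 hc1
      have hcard : (Gr.supp Z X (dl g v)).ncard < (Gr.supp Z X v).ncard := by
        classical
        let f : ι → ι := fun b => (c b).getD b
        have h1 : Gr.supp Z X (dl g v) ⊆ f '' (Gr.supp Z X v \ {b2}) := by
          intro d hd
          obtain ⟨b3, hb3, hc3⟩ := (hsub d).1 hd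
          refine ⟨b3, ⟨hb3, ?_⟩, ?_⟩
          · rintro rfl
            rw [hc2] at hc3
            exact absurd hc3 (by simp)
          · show (c b3).getD b3 = d
            rw [hc3]; rfl
        calc (Gr.supp Z X (dl g v)).ncard ≤ (f '' (Gr.supp Z X v \ {b2})).ncard :=
              Set.ncard_le_ncard h1 (Set.toFinite _)
          _ ≤ (Gr.supp Z X v \ {b2}).ncard := Set.ncard_image_le (Set.toFinite _)
          _ < (Gr.supp Z X v).ncard := Set.ncard_sdiff_singleton_lt_of_mem hb2 (Set.toFinite _)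
      refine ih _ (hn ▸ hcard) _ hdN ?_ rfl
      intro hZ
      have h1 : d1 ∈ Gr.supp Z X (dl g v) := (hsub d1).2 ⟨b1, hb1, hd1⟩
      rw [F.supp_of_mem_Z hZ] at h1
      exact h1
  exact key _ v hv hvZ rfl

/-- **An invariant subgroup covering `Q / Z` is `Q`.** -/
theorem eq_of_le (F : Gr Z Q X) (hZ : Z ≤ ⁅Q, Q⁆) {N : Subgroup G} (hNQ : N ≤ Q)
    (h : ∀ b, ∀ x ∈ X b, ∃ z ∈ Z, x * z ∈ N) : N = Q := by
  have h1 : ∀ v ∈ Q, ∃ z ∈ Z, v * z ∈ N := by
    let K : Subgroup G :=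
      { carrier := {v | v ∈ Q ∧ ∃ z ∈ Z, v * z ∈ N}
        one_mem' := ⟨one_mem _, 1, one_mem _, by simp⟩
        mul_mem' := by
          rintro a b ⟨ha, z, hz, h1⟩ ⟨hb, z', hz', h2⟩
          refine ⟨mul_mem ha hb, z * z', mul_mem hz hz', ?_⟩
          have : a * b * (z * z') = a * z * (b * z') := by
            calc a * b * (z * z') = a * (b * z) * z' := by group
              _ = a * (z * b) * z' := by rw [F.Zc z hz b hb]
              _ = _ := by group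
          rw [this]; exact mul_mem h1 h2
        inv_mem' := by
          rintro a ⟨ha, z, hz, h1⟩
          refine ⟨inv_mem ha, z⁻¹, inv_mem hz, ?_⟩
          have : a⁻¹ * z⁻¹ = (a * z)⁻¹ := by rw [← F.Zc z hz a ha, mul_inv_rev]
          rw [this]; exact inv_mem h1 }
    intro v hv
    have : QS Z X Set.univ ≤ K := by
      apply QS_le
      · intro z hz
        exact ⟨F.Z_le hz, z⁻¹, inv_mem hz, by rw [mul_inv_cancel]; exact one_mem _⟩
      · intro b _ x hx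
        exact ⟨F.X_le b hx, h b x hx⟩
    exact (this (F.gen hv)).2
  have h2 : ⁅Q, Q⁆ ≤ N := by
    rw [Subgroup.commutator_le]
    intro x hx y hy
    obtain ⟨z, hz, hxz⟩ := h1 x hx
    obtain ⟨w, hw, hyw⟩ := h1 y hy
    have e1 : x * z * (y * w) * (x * z)⁻¹ * (y * w)⁻¹ = x * y * x⁻¹ * y⁻¹ := by
      have c1 := F.Zc z hz
      have c2 := F.Zc w hw
      calc x * z * (y * w) * (x * z)⁻¹ * (y * w)⁻¹ = x * (z * (y * w)) * z⁻¹ * x⁻¹ * (w⁻¹ * y⁻¹) := by group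
        _ = x * ((y * w) * z) * z⁻¹ * x⁻¹ * (w⁻¹ * y⁻¹) := by rw [c1 _ (mul_mem hy (F.Z_le hw))]
        _ = x * y * (w * x⁻¹) * (w⁻¹ * y⁻¹) := by group
        _ = x * y * (x⁻¹ * w) * (w⁻¹ * y⁻¹) := by rw [c2 _ (inv_mem hx)]
        _ = x * y * x⁻¹ * y⁻¹ := by group
    rw [commutatorElement_def, ← e1]
    exact mul_mem (mul_mem (mul_mem hxz hyw) (inv_mem hxz)) (inv_mem hyw)
  apply le_antisymm hNQ
  intro v hv
  obtain ⟨z, hz, hvz⟩ := h1 v hv
  have : v = v * z * z⁻¹ := by group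
  rw [this]
  exact mul_mem hvz (inv_mem (h2 (hZ hz)))

end Cfsg.Agent.KFacts.GrIrr
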