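import Cfsg.Agent.KFacts.LargeAut
import Cfsg.Agent.KFacts.LargeE

/-!
# Automorphisms fixing `z` and trivial on `Q/⟨z⟩`, when `C_K(z)` has a perfect subgroup `M` of index 2

`Large Q z`, `M ≤ C_K(z)` perfect of index at most 2 (HN, J4, Fi24'). `aut0`: an automorphism `α` with `α z = z` which is
trivial on `Q/⟨z⟩` is the conjugation by an element of `Q`.
`aut`: an automorphism of 2-power order fixing `z` and trivial on `M/Q` is the conjugation by an element of `Q`.
-/

set_option autoImplicit false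

namespace Cfsg.Agent.KFacts.LargeIndexTwo

open Cfsg.Agent.Co2Type.Quad Subgroup
open scoped commutatorElement

variable {K : Type*} [Group K] {Q : Subgroup K} {z : K}

/-- an automorphism centralising `Q` moves the elements of `C_K(z)` by `1` or `z` -/
theorem val_of_fix (h : Large Q z) {β : MulAut K} (hβQ : ∀ x ∈ Q, β x = x) {u : K} (hu : u * z = z * u) :
    β u = u ∨ β u = u * z := by
  have hui : u⁻¹ * z = z * u⁻¹ := by
    rw [inv_mul_eq_iff_eq_mul, ← mul_assoc, hu, mul_assoc, mul_inv_cancel, mul_one]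
  have hβz : β z = z := hβQ z h.z_mem
  have hcq : ∀ x ∈ Q, (u⁻¹ * β u) * x = x * (u⁻¹ * β u) := by
    intro x hx
    have h1 : u * x * u⁻¹ ∈ Q := h.conj_mem u hu x hx
    have h2 := hβQ _ h1
    rw [map_mul, map_mul, map_inv, hβQ x hx] at h2
    calc (u⁻¹ * β u) * x = u⁻¹ * (β u * x * (β u)⁻¹) * β u := by group
      _ = u⁻¹ * (u * x * u⁻¹) * β u := by rw [h2]
      _ = x * (u⁻¹ * β u) := by group
  have hcz : (u⁻¹ * β u) * z = z * (u⁻¹ * β u) := hcq z h.z_mem
  rcases h.cent _ (h.self _ hcz hcq) hcq with h1 | h1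
  · left
    exact (inv_mul_eq_one.1 h1).symm
  · right
    exact inv_mul_eq_iff_eq_mul.1 h1

/-- an automorphism centralising `Q` centralises every perfect subgroup of `C_K(z)` -/
theorem fix_perfect (h : Large Q z) {β : MulAut K} (hβQ : ∀ x ∈ Q, β x = x) {M : Subgroup K} (hM : ⁅M, M⁆ = M)
    (hMz : ∀ u ∈ M, u * z = z * u) : ∀ u ∈ M, β u = u := by
  have hz : ∀ u ∈ M, β u = u ∨ β u = u * z := fun u hu => val_of_fix h hβQ (hMz u hu)
  have h1 : ⁅M, M⁆ ≤ β.toMonoidHom.eqLocus (MonoidHom.id K) := by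
    rw [commutator_le]
    intro a ha b hb
    show β ⁅a, b⁆ = ⁅a, b⁆
    have haz := hMz a ha
    have hbz := hMz b hb
    have ci : ∀ {u : K}, u * z = z * u → z * u⁻¹ = u⁻¹ * z := by
      intro u hu
      rw [eq_inv_mul_iff_mul_eq, ← mul_assoc, hu, mul_assoc, mul_inv_cancel, mul_one]
    rw [commutatorElement_def, map_mul, map_mul, map_mul, map_inv, map_inv]
    have key : ∀ a' b' : K, (a' = a ∨ a' = a * z) → (b' = b ∨ b' = b * z) →
        a' * b' * a'⁻¹ * b'⁻¹ = a * b * a⁻¹ * b⁻¹ := by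
      rintro a' b' (rfl | rfl) (rfl | rfl)
      · rfl
      · rw [mul_inv_rev, h.z_inv]
        calc a' * (b * z) * a'⁻¹ * (z * b⁻¹) = a' * b * (z * a'⁻¹) * z * b⁻¹ := by group
          _ = a' * b * a'⁻¹ * (z * z) * b⁻¹ := by rw [ci haz]; group
          _ = a' * b * a'⁻¹ * b⁻¹ := by rw [h.z_sq, mul_one]
      · rw [mul_inv_rev, h.z_inv]
        calc a * z * b' * (z * a⁻¹) * b'⁻¹ = a * (z * b') * z * a⁻¹ * b'⁻¹ := by group
          _ = a * b' * (z * z) * a⁻¹ * b'⁻¹ := by rw [← hbz]; group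
          _ = a * b' * a⁻¹ * b'⁻¹ := by rw [h.z_sq, mul_one]
      · rw [mul_inv_rev, mul_inv_rev, h.z_inv]
        calc a * z * (b * z) * (z * a⁻¹) * (z * b⁻¹) = a * (z * b) * (z * z) * a⁻¹ * z * b⁻¹ := by group
          _ = a * b * (z * a⁻¹) * z * b⁻¹ := by rw [h.z_sq, ← hbz]; group
          _ = a * b * a⁻¹ * (z * z) * b⁻¹ := by rw [ci haz]; group
          _ = a * b * a⁻¹ * b⁻¹ := by rw [h.z_sq, mul_one]
    exact key _ _ (hz a ha) (hz b hb)
  intro u hu
  rw [← hM] at hu
  exact h1 hu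

/-- **Automorphisms trivial on `Q/⟨z⟩`**, `|C_K(z) : M| ≤ 2` with `M` perfect. The last two hypotheses exclude the
automorphisms that multiply the elements outside `M` by `z`. -/
theorem aut0 [Finite K] (h : Large Q z) {M : Subgroup K} (hM : ⁅M, M⁆ = M) (hMz : ∀ u ∈ M, u * z = z * u)
    (hidx : ∀ c d : K, c * z = z * c → d * z = z * d → c ∉ M → d ∉ M → c⁻¹ * d ∈ M) {n z' r0 : K}
    (hn : n * z * n⁻¹ = z') (hn' : n * z' * n⁻¹ = z * z') (hz'Q : z' ∈ Q) (hne : z' ≠ z)
    (hgen : Subgroup.closure ({c : K | c * z = z * c} ∪ {n}) = ⊤)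
    (hr0 : r0 ∈ Q) (hr0z : r0 * z' = z' * r0) (hr0M : n * r0 * n⁻¹ ∉ M)
    (no_tr : ∀ s : K, s * z = z * s →
      (∀ r ∈ Q, r * z' = z' * r → s * r * s⁻¹ = r ∨ s * r * s⁻¹ = r * (z * z')) →
      ∀ r ∈ Q, r * z' = z' * r → s * r * s⁻¹ = r)
    {α : MulAut K} (hz : α z = z) (ht : ∀ x ∈ Q, α x = x ∨ α x = x * z) :
    ∃ y ∈ Q, α = MulAut.conj y := by
  obtain ⟨y, hyQ, hy⟩ := LargeAut.exists_conj_on_Q h α hz ht
  set β : MulAut K := (MulAut.conj y)⁻¹ * α with hβ
  have hβa : ∀ x, β x = y⁻¹ * α x * y := fun x => by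
    rw [hβ, MulAut.mul_apply, ← map_inv, MulAut.conj_apply, inv_inv]
  have hβQ : ∀ x ∈ Q, β x = x := by
    intro x hx
    rw [hβa, hy x hx]; group
  have hβM := fix_perfect h hβQ hM hMz
  -- `β` centralises `C_K(z)`
  have hβC : ∀ u : K, u * z = z * u → β u = u := by
    by_contra hcon
    push Not at hcon
    obtain ⟨c, hc, hcβ⟩ := hcon
    have hcM : c ∉ M := fun hc' => hcβ (hβM c hc')
    have hcz : β c = c * z := (val_of_fix h hβQ hc).resolve_left hcβ
    have hout : ∀ d : K, d * z = z * d → d ∉ M → β d = d * z := by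
      intro d hd hdM
      have h1 := hβM _ (hidx c d hc hd hcM hdM)
      rw [map_mul, map_inv, hcz] at h1
      have h2 : β d = c * z * (c⁻¹ * d) := by
        rw [← h1]; group
      rw [h2]
      calc c * z * (c⁻¹ * d) = (c * z) * c⁻¹ * d := by group
        _ = z * d := by rw [hc]; group
        _ = d * z := hd.symm
    -- `s = n⁻¹ β(n)`
    set s : K := n⁻¹ * β n with hs
    have hβn : β n = n * s := by rw [hs]; group
    have hsz : s * z = z * s := by
      have h1 : β n * z * (β n)⁻¹ = z' := by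
        have h2 := hβQ z' hz'Q
        rw [← hn, map_mul, map_mul, map_inv, hβQ z h.z_mem, hn] at h2
        exact h2
      rw [hβn] at h1
      have h3 : s * z * s⁻¹ = n⁻¹ * (n * s * z * (n * s)⁻¹) * n := by group
      rw [h1] at h3
      have h4 : n⁻¹ * z' * n = z := by rw [← hn]; group
      rw [h4] at h3
      exact mul_inv_eq_iff_eq_mul.1 h3
    have hcz' : z' * z = z * z' := h.comm_z z' hz'Q
    have h5 : z' * z' = 1 := by
      rw [← hn]
      calc n * z * n⁻¹ * (n * z * n⁻¹) = n * (z * z) * n⁻¹ := by group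
        _ = 1 := by rw [h.z_sq]; group
    have h4 : n * (z * z') * n⁻¹ = z := by
      calc n * (z * z') * n⁻¹ = (n * z * n⁻¹) * (n * z' * n⁻¹) := by group
        _ = z' * (z * z') := by rw [hn, hn']
        _ = z' * (z' * z) := by rw [hcz']
        _ = (z' * z') * z := by group
        _ = z := by rw [h5, one_mul]
    have h2 : n⁻¹ * z * n = z * z' := by
      calc n⁻¹ * z * n = n⁻¹ * (n * (z * z') * n⁻¹) * n := by rw [h4]
        _ = z * z' := by group
    -- conjugates `n r n⁻¹` lie in `C_K(z)`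
    have hnr : ∀ r ∈ Q, r * z' = z' * r → (n * r * n⁻¹) * z = z * (n * r * n⁻¹) := by
      intro r hr hrz
      have hr1 : r * z = z * r := h.comm_z r hr
      have h6 : r * (z * z') = z * z' * r := by
        rw [← mul_assoc, hr1, mul_assoc, hrz, mul_assoc]
      calc (n * r * n⁻¹) * z = n * (r * (n⁻¹ * z * n)) * n⁻¹ := by group
        _ = n * (z * z' * r) * n⁻¹ := by rw [h2, h6]
        _ = n * (n⁻¹ * z * n * r) * n⁻¹ := by rw [h2]
        _ = z * (n * r * n⁻¹) := by group
    have hβr : ∀ r ∈ Q, β (n * r * n⁻¹) = n * (s * r * s⁻¹) * n⁻¹ := by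
      intro r hr
      rw [map_mul, map_mul, map_inv, hβQ r hr, hβn]
      group
    have hall := no_tr s hsz (by
      intro r hr hrz
      rcases val_of_fix h hβQ (hnr r hr hrz) with h1 | h1
      · left
        rw [hβr r hr] at h1
        have h6 : s * r * s⁻¹ = n⁻¹ * (n * (s * r * s⁻¹) * n⁻¹) * n := by group
        rw [h6, h1]; group
      · right
        rw [hβr r hr] at h1
        have h6 : s * r * s⁻¹ = n⁻¹ * (n * (s * r * s⁻¹) * n⁻¹) * n := by group
        rw [h6, h1, ← h2]; group)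
    have h1 := hout _ (hnr r0 hr0 hr0z) hr0M
    rw [hβr r0 hr0, hall r0 hr0 hr0z] at h1
    exact h.z_ne (mul_eq_left.1 h1.symm)
  have hzz : n * z * n⁻¹ ∈ Q := by rw [hn]; exact hz'Q
  have hzn : n * z * n⁻¹ ≠ z := by rw [hn]; exact hne
  rcases LargeE.eq_one_or_conj h hzz hzn hgen β hβC with h1 | h1
  · refine ⟨y, hyQ, ?_⟩
    rw [hβ, inv_mul_eq_one] at h1
    exact h1.symm
  · refine ⟨y * z, Q.mul_mem hyQ h.z_mem, ?_⟩
    rw [map_mul, ← h1, hβ, mul_inv_cancel_left]

/-- **Automorphisms of 2-power order trivial on `M/Q` are trivial on `Q/⟨z⟩`**, if `M` is irreducible on `Q/⟨z⟩`. -/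
theorem triv_of_two [Finite K] (h : Large Q z) {M : Subgroup K} (hMz : ∀ u ∈ M, u * z = z * u)
    (hQM : Q ≤ M)
    (hirr : ∀ N : Subgroup K, N ≤ Q → (∀ u ∈ M, ∀ x ∈ N, u * x * u⁻¹ ∈ N) → (∀ x ∈ N, x = 1 ∨ x = z) ∨ N = Q)
    (hQ : ∃ x ∈ Q, x ≠ 1 ∧ x ≠ z)
    {α : MulAut K} (hp : IsPGroup 2 (zpowers α)) (hz : α z = z) (hM : ∀ x ∈ M, x⁻¹ * α x ∈ Q) :
    ∀ x ∈ Q, α x = x ∨ α x = x * z := by
  classical
  have hαQ : ∀ x ∈ Q, α x ∈ Q := by
    intro x hx
    have h1 := Q.mul_mem hx (hM x (hQM hx))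
    rwa [mul_inv_cancel_left] at h1
  -- the subgroup of fixed elements modulo `z`
  let N : Subgroup K :=
    { carrier := {x | x ∈ Q ∧ (α x = x ∨ α x = x * z)}
      one_mem' := ⟨Q.one_mem, Or.inl (map_one α)⟩
      mul_mem' := by
        rintro x y ⟨hx, hx'⟩ ⟨hy, hy'⟩
        refine ⟨Q.mul_mem hx hy, ?_⟩
        have hyz : y * z = z * y := h.comm_z y hy
        rw [map_mul]
        rcases hx' with h1 | h1 <;> rcases hy' with h2 | h2 <;> rw [h1, h2]
        · left; rfl
        · right; rw [mul_assoc]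
        · right; rw [mul_assoc, mul_assoc, ← hyz]
        · left
          calc x * z * (y * z) = x * z * (z * y) := by rw [hyz]
            _ = x * (z * z) * y := by group
            _ = x * y := by rw [h.z_sq, mul_one]
      inv_mem' := by
        rintro x ⟨hx, hx'⟩
        refine ⟨Q.inv_mem hx, ?_⟩
        rw [map_inv]
        rcases hx' with h1 | h1
        · left; rw [h1]
        · right; rw [h1, mul_inv_rev, h.z_inv]
          exact (h.comm_z _ (Q.inv_mem hx)).symm }
  have hQt : ∀ a ∈ Q, ∀ x ∈ Q, a * x * a⁻¹ = x ∨ a * x * a⁻¹ = x * z := by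
    intro a ha x hx
    rcases h.comm a ha x hx with h1 | h1
    · left; rw [h1, mul_inv_cancel_right]
    · right
      have hz' : z * a⁻¹ = a⁻¹ * z := (h.comm_z _ (Q.inv_mem ha)).symm
      rw [h1, mul_assoc, hz', ← mul_assoc, mul_inv_cancel_right]
  have hN := hirr N (fun y hy => hy.1) (by
    rintro u hu y ⟨hyQ, hy⟩
    have huz := hMz u hu
    refine ⟨h.conj_mem u huz y hyQ, ?_⟩
    have e : α u = u * (u⁻¹ * α u) := by group
    have hyz : z * u⁻¹ = u⁻¹ * z := by
      rw [eq_inv_mul_iff_mul_eq, ← mul_assoc, huz, mul_assoc, mul_inv_cancel, mul_one]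
    have e2 : α (u * y * u⁻¹) = u * ((u⁻¹ * α u) * α y * (u⁻¹ * α u)⁻¹) * u⁻¹ := by
      rw [map_mul, map_mul, map_inv]; group
    rw [e2]
    have h1 : (u⁻¹ * α u) * α y * (u⁻¹ * α u)⁻¹ = y ∨ (u⁻¹ * α u) * α y * (u⁻¹ * α u)⁻¹ = y * z := by
      rcases hQt _ (hM u hu) _ (hαQ y hyQ) with h2 | h2 <;> rcases hy with h3 | h3 <;> rw [h2, h3]
      · left; rfl
      · right; rfl
      · right; rfl
      · left; rw [mul_assoc, h.z_sq, mul_one]
    rcases h1 with h1 | h1 <;> rw [h1]
    · left; rfl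
    · right
      calc u * (y * z) * u⁻¹ = u * y * (z * u⁻¹) := by group
        _ = u * y * u⁻¹ * z := by rw [hyz]; group)
  rcases hN with hN | hN
  · exfalso
    -- a nontrivial fixed vector
    obtain ⟨x0, hx0, hx01, hx0z⟩ := hQ
    let g : Q → Q := fun x => ⟨α x, hαQ x x.2⟩
    have hg_coe : ∀ x : Q, ((g x : Q) : K) = α x := fun _ => rfl
    let f : Function.End h.V := fun v => h.pr (g (Function.surjInv h.pr_surjective v))
    have hf : ∀ x : Q, f (h.pr x) = h.pr (g x) := by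
      intro x
      show h.pr _ = h.pr _
      have h2 : h.pr (Function.surjInv h.pr_surjective (h.pr x)) = h.pr x :=
        Function.surjInv_eq h.pr_surjective (h.pr x)
      rw [h.pr_eq_pr] at h2 ⊢
      rw [hg_coe, hg_coe]
      rcases h2 with h3 | h3
      · left; rw [h3]
      · right; rw [h3, map_mul, hz]
    have hfk : ∀ (j : ℕ) (x : Q), (f ^ j) (h.pr x) = h.pr (g^[j] x) := by
      intro j
      induction j with
      | zero => intro x; rfl
      | succ j ih =>
        intro x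
        rw [pow_succ, Function.iterate_succ_apply]
        show (f ^ j) (f (h.pr x)) = h.pr (g^[j] (g x))
        rw [hf, ih]
    obtain ⟨j, hj⟩ := hp ⟨α, mem_zpowers α⟩
    have hj' : α ^ 2 ^ j = 1 := congrArg Subtype.val hj
    have hαk : ∀ (i : ℕ) (x : Q), ((g^[i] x : Q) : K) = (α ^ i) (x : K) := by
      intro i
      induction i with
      | zero => intro x; rfl
      | succ i ih =>
        intro x
        rw [pow_succ, Function.iterate_succ_apply, ih, hg_coe]
        rfl
    have hfone : f ^ 2 ^ j = 1 := by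
      funext v
      obtain ⟨x, rfl⟩ := h.pr_surjective v
      rw [hfk]
      show _ = h.pr x
      congr 1
      apply Subtype.ext
      rw [hαk, hj']
      rfl
    have : Finite h.V := Finite.of_surjective _ h.pr_surjective
    have := Fintype.ofFinite h.V
    have h1 := Equiv.Perm.card_fixedPoints_modEq (p := 2) (n := j) (f := f) hfone
    have hne : h.pr ⟨x0, hx0⟩ ≠ 0 := by
      intro h1
      rcases h.pr_eq_zero.1 h1 with h2 | h2
      · exact hx01 h2
      · exact hx0z h2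
    have h2V : 2 ∣ Nat.card h.V := by
      have h1 : addOrderOf (h.pr ⟨x0, hx0⟩) = 2 := by
        apply addOrderOf_eq_prime
        · rw [two_nsmul]; exact h.add_self _
        · exact hne
      rw [← h1]
      exact addOrderOf_dvd_natCard _
    rw [Nat.card_eq_fintype_card] at h2V
    have h3 : 2 ∣ Fintype.card f.fixedPoints :=
      (Nat.modEq_zero_iff_dvd.1 (h1.symm.trans (Nat.modEq_zero_iff_dvd.2 h2V)))
    have h0 : (0 : h.V) ∈ f.fixedPoints := by
      show f 0 = 0
      have e0 : h.pr (1 : Q) = 0 := h.pr_eq_zero.2 (Or.inl rfl)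
      have e1 : g 1 = 1 := Subtype.ext (map_one α)
      rw [← e0, hf, e1]
    have h4 : 1 < Fintype.card f.fixedPoints := by
      have h5 : 0 < Fintype.card f.fixedPoints := Fintype.card_pos_iff.2 ⟨⟨0, h0⟩⟩
      obtain ⟨c, hc⟩ := h3
      omega
    obtain ⟨⟨v, hv⟩, hv0⟩ := Fintype.exists_ne_of_one_lt_card h4 ⟨0, h0⟩
    obtain ⟨x, rfl⟩ := h.pr_surjective v
    have h6 : h.pr (g x) = h.pr x := by rw [← hf]; exact hv
    have h7 : (x : K) ∈ N := by
      refine ⟨x.2, ?_⟩
      rcases h.pr_eq_pr.1 h6 with h8 | h8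
      · left; exact h8
      · right; exact h8
    apply hv0
    apply Subtype.ext
    show h.pr x = 0
    exact h.pr_eq_zero.2 (hN _ h7)
  · intro x hx
    have : x ∈ N := by rw [hN]; exact hx
    exact this.2

end Cfsg.Agent.KFacts.LargeIndexTwo
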