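import Cfsg.Agent.Co2Type.Quad

/-!
# Involutory automorphisms which almost centralise `C(q)`, `q ∈ Q` an involution

`Large Q z`, `β` an automorphism fixing `z`, `q ∈ Q`, `q ∉ ⟨z⟩`, `q² = 1`, `β q = q`, `β c ∈ {c, q c}` for the elements
`c` of `C(q)`, `β² = 1` on `Q`. If no involution `e ∈ Q` outside `⟨z, q⟩` is fixed modulo `⟨z, q⟩` by `C(z) ∩ C(q)`
(by a subset `U` of it), then `β` is trivial on `Q/⟨z⟩` (`triv`).
(The field `out2` of the sheets of `OddHalf/D4/Spor`.)
-/

set_option autoImplicit false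

namespace Cfsg.Agent.KFacts.LargeOutTwo

open Cfsg.Agent.Co2Type.Quad

variable {K : Type*} [Group K] {Q : Subgroup K} {z q : K}

/-- membership in `⟨z, q⟩` -/
def Z2 (z q x : K) : Prop := x = 1 ∨ x = z ∨ x = q ∨ x = q * z

/-- the double centraliser in `Q` -/
theorem bicomm (L : Large Q z) (hqQ : q ∈ Q) (hqq : q * q = 1) {r : K} (hr : r ∈ Q) (hrq : r * q ≠ q * r) {x : K}
    (hx : x ∈ Q) (h : ∀ y ∈ Q, y * q = q * y → x * y = y * x) : Z2 z q x := by
  have hc := L.comm_z
  have hrz := (L.comm r hr q hqQ).resolve_left hrq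
  -- an element of `Q` commuting with `C_Q(q)` and `r` is in `⟨z⟩`
  have key : ∀ x ∈ Q, (∀ y ∈ Q, y * q = q * y → x * y = y * x) → x * r = r * x → x = 1 ∨ x = z := by
    intro x hx h hxr
    refine L.cent x hx fun y hy => ?_
    rcases L.comm y hy q hqQ with h1 | h1
    · exact h y hy h1
    · have h2 : (y * r) * q = q * (y * r) := by
        calc y * r * q = y * (r * q) := by group
          _ = (y * q) * (r * z) := by rw [hrz]; group
          _ = q * y * (z * r) * z := by rw [h1]; group
          _ = q * (y * r) * (z * z) := by rw [← hc r hr]; group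
          _ = _ := by rw [L.z_sq, mul_one]
      have h3 := h _ (Q.mul_mem hy hr) h2
      have h4 : x * y * r = y * x * r := by
        calc x * y * r = x * (y * r) := by group
          _ = y * (r * x) := by rw [h3]; group
          _ = y * x * r := by rw [← hxr]; group
      exact mul_right_cancel h4
  by_cases hxr : x * r = r * x
  · rcases key x hx h hxr with h1 | h1
    · exact Or.inl h1
    · exact Or.inr (Or.inl h1)
  · have h1 := (L.comm x hx r hr).resolve_left hxr
    have h2 : (x * q) * r = r * (x * q) := by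
      have h3 : q * r = r * q * z := by
        rw [hrz, mul_assoc, L.z_sq, mul_one]
      calc x * q * r = x * (q * r) := by group
        _ = (x * r) * (q * z) := by rw [h3]; group
        _ = r * x * (z * q) * z := by rw [h1]; group
        _ = r * (x * q) * (z * z) := by rw [← hc q hqQ]; group
        _ = _ := by rw [L.z_sq, mul_one]
    have h4 := key (x * q) (Q.mul_mem hx hqQ) (fun y hy hyq => by
      calc x * q * y = x * (y * q) := by rw [hyq]; group
        _ = (x * y) * q := by group
        _ = y * (x * q) := by rw [h y hy hyq]; group) h2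
    have hqi : q⁻¹ = q := inv_eq_of_mul_eq_one_left hqq
    rcases h4 with h4 | h4
    · right; right; left
      rw [mul_eq_one_iff_eq_inv, hqi] at h4
      exact h4
    · right; right; right
      rw [← eq_mul_inv_iff_mul_eq, hqi, ← hc q hqQ] at h4
      exact h4

/-- the hypotheses -/
structure Hyp (Q : Subgroup K) (z q : K) (β : MulAut K) : Prop where
  L : Large Q z
  hz : β z = z
  hQ : ∀ x ∈ Q, β x ∈ Q
  hqQ : q ∈ Q
  hq1 : q ≠ 1
  hqz : q ≠ z
  hqq : q * q = 1
  hq : β q = q
  hD : ∀ c ∈ Q, c * q = q * c → β c = c ∨ β c = q * c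

/-- the elements commuting with `D = {x ∈ C_Q(q) | β x = x}` -/
def E (Q : Subgroup K) (q : K) (β : MulAut K) (e : K) : Prop :=
  e ∈ Q ∧ ∀ x ∈ Q, x * q = q * x → β x = x → e * x = x * e

namespace Hyp

variable {β : MulAut K}

theorem exists_r (H : Hyp Q z q β) : ∃ r ∈ Q, r * q ≠ q * r := by
  by_contra h
  push Not at h
  rcases H.L.cent q H.hqQ (fun y hy => (h y hy).symm) with h1 | h1
  · exact H.hq1 h1
  · exact H.hqz h1

theorem bic (H : Hyp Q z q β) {x : K} (hx : x ∈ Q) (h : ∀ y ∈ Q, y * q = q * y → x * y = y * x) : Z2 z q x := by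
  obtain ⟨r, hr, hrq⟩ := H.exists_r
  exact bicomm H.L H.hqQ H.hqq hr hrq hx h

theorem z2_fix (H : Hyp Q z q β) {x : K} (h : Z2 z q x) : β x = x := by
  rcases h with rfl | rfl | rfl | rfl
  · exact map_one β
  · exact H.hz
  · exact H.hq
  · rw [map_mul, H.hq, H.hz]

theorem q_mem_D (H : Hyp Q z q β) {e : K} (he : E Q q β e) : e * q = q * e := he.2 q H.hqQ rfl H.hq

/-- an element of `E` commuting with some `y ∈ C_Q(q)`, `β y ≠ y` -/
theorem z2_of_comm (H : Hyp Q z q β) {e : K} (he : E Q q β e) {y : K} (hy : y ∈ Q) (hyq : y * q = q * y)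
    (hβ : β y ≠ y) (hey : e * y = y * e) : Z2 z q e := by
  have hβy := (H.hD y hy hyq).resolve_left hβ
  refine H.bic he.1 fun x hx hxq => ?_
  rcases H.hD x hx hxq with h1 | h1
  · exact he.2 x hx hxq h1
  · have h2 : x * y⁻¹ ∈ Q := Q.mul_mem hx (Q.inv_mem hy)
    have hyq' : y⁻¹ * q = q * y⁻¹ := by
      rw [inv_mul_eq_iff_eq_mul, ← mul_assoc, hyq, mul_assoc, mul_inv_cancel, mul_one]
    have h3 : (x * y⁻¹) * q = q * (x * y⁻¹) := by
      rw [mul_assoc, hyq', ← mul_assoc, hxq, mul_assoc]
    have h4 : β (x * y⁻¹) = x * y⁻¹ := by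
      rw [map_mul, map_inv, h1, hβy, mul_inv_rev]
      calc q * x * (y⁻¹ * q⁻¹) = q * (x * y⁻¹) * q⁻¹ := by group
        _ = x * y⁻¹ * q * q⁻¹ := by rw [h3]
        _ = x * y⁻¹ := by group
    have h5 := he.2 _ h2 h3 h4
    calc e * x = e * (x * y⁻¹) * y := by group
      _ = (x * y⁻¹) * (e * y) := by rw [h5]; group
      _ = x * e := by rw [hey]; group

theorem fix_E (H : Hyp Q z q β) {e : K} (he : E Q q β e) : β e = e := by
  by_contra hβ
  exact hβ (H.z2_fix (H.z2_of_comm he he.1 (H.q_mem_D he) hβ rfl))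

theorem s_mem (H : Hyp Q z q β) {r : K} (hr : r ∈ Q) : E Q q β (r⁻¹ * β r) := by
  refine ⟨Q.mul_mem (Q.inv_mem hr) (H.hQ r hr), fun x hx hxq hβ => ?_⟩
  have hxz := H.L.comm_z x hx
  have h1 : (r⁻¹ * β r) * x * (r⁻¹ * β r)⁻¹ = r⁻¹ * (β (r * x * r⁻¹)) * r := by
    rw [map_mul, map_mul, map_inv, hβ]; group
  have h2 : β (r * x * r⁻¹) = r * x * r⁻¹ := by
    rcases H.L.comm r hr x hx with h | h
    · rw [h, mul_inv_cancel_right, hβ]
    · have e : r * x * r⁻¹ = x * z := by
        have := H.L.comm_z r hr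
        calc r * x * r⁻¹ = x * (r * z) * r⁻¹ := by rw [h]; group
          _ = x * z := by rw [this]; group
      rw [e, map_mul, hβ, H.hz]
  rw [h2] at h1
  rw [← mul_inv_eq_iff_eq_mul, h1]
  group

/-- elements of `E` are fixed modulo `⟨z, q⟩` by `C(z) ∩ C(q)` -/
theorem z2_conj (H : Hyp Q z q β) {e : K} (he : E Q q β e) {u : K} (huz : u * z = z * u) (huq : u * q = q * u)
    (hu : β u = u ∨ β u = q * u) : Z2 z q (e⁻¹ * (u⁻¹ * e * u)) := by
  have huz' : u⁻¹ * z = z * u⁻¹ := by
    rw [inv_mul_eq_iff_eq_mul, ← mul_assoc, huz, mul_assoc, mul_inv_cancel, mul_one]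
  have he' : E Q q β (u⁻¹ * e * u) := by
    constructor
    · have := H.L.conj_mem u⁻¹ huz' e he.1
      rwa [inv_inv] at this
    · intro x hx hxq hβ
      have h1 : u * x * u⁻¹ ∈ Q := H.L.conj_mem u huz x hx
      have h2 : u * x * u⁻¹ * q = q * (u * x * u⁻¹) := by
        have huq' : u⁻¹ * q = q * u⁻¹ := by
          rw [inv_mul_eq_iff_eq_mul, ← mul_assoc, huq, mul_assoc, mul_inv_cancel, mul_one]
        calc u * x * u⁻¹ * q = u * (x * q) * u⁻¹ := by rw [mul_assoc, huq']; group
          _ = (u * q) * x * u⁻¹ := by rw [hxq]; group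
          _ = _ := by rw [huq]; group
      have h3 : β (u * x * u⁻¹) = u * x * u⁻¹ := by
        rw [map_mul, map_mul, map_inv, hβ]
        rcases hu with h | h
        · rw [h]
        · rw [h, ← huq]
          calc u * q * x * (u * q)⁻¹ = u * (q * x) * q⁻¹ * u⁻¹ := by group
            _ = u * (x * q) * q⁻¹ * u⁻¹ := by rw [hxq]
            _ = _ := by group
      have h4 := he.2 _ h1 h2 h3
      calc u⁻¹ * e * u * x = u⁻¹ * (e * (u * x * u⁻¹)) * u := by group
        _ = u⁻¹ * ((u * x * u⁻¹) * e) * u := by rw [h4]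
        _ = _ := by group
  by_cases hz2 : Z2 z q e
  · have h1 : u⁻¹ * e * u = e := by
      have h2 : e * u = u * e := by
        rcases hz2 with rfl | rfl | rfl | rfl
        · rw [one_mul, mul_one]
        · exact huz.symm
        · exact huq.symm
        · rw [mul_assoc, ← huz, ← mul_assoc, ← huq, mul_assoc]
      rw [mul_assoc, h2, inv_mul_cancel_left]
    rw [h1, inv_mul_cancel]
    exact Or.inl rfl
  · have hz2' : ¬ Z2 z q (u⁻¹ * e * u) := by
      intro h
      apply hz2
      have h2 : e = u * (u⁻¹ * e * u) * u⁻¹ := by group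
      have h3 : u * (u⁻¹ * e * u) * u⁻¹ = u⁻¹ * e * u := by
        rw [mul_inv_eq_iff_eq_mul]
        rcases h with h | h | h | h <;> rw [h]
        · rw [one_mul, mul_one]
        · exact huz
        · exact huq
        · rw [← mul_assoc, huq, mul_assoc, huz, mul_assoc]
      rw [h2, h3]
      exact h
    refine H.bic (Q.mul_mem (Q.inv_mem he.1) he'.1) fun y hy hyq => ?_
    by_cases hβ : β y = y
    · have h1 := he.2 y hy hyq hβ
      have h2 := he'.2 y hy hyq hβ
      calc e⁻¹ * (u⁻¹ * e * u) * y = e⁻¹ * (u⁻¹ * e * u * y) := by group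
        _ = e⁻¹ * (y * e) * e⁻¹ * (u⁻¹ * e * u) := by rw [h2]; group
        _ = e⁻¹ * (e * y) * e⁻¹ * (u⁻¹ * e * u) := by rw [h1]
        _ = _ := by group
    · have h1 := (H.L.comm e he.1 y hy).resolve_left fun h => hz2 (H.z2_of_comm he hy hyq hβ h)
      have h2 := (H.L.comm _ he'.1 y hy).resolve_left fun h => hz2' (H.z2_of_comm he' hy hyq hβ h)
      have hyz := H.L.comm_z y hy
      have hez := H.L.comm_z e he.1
      have h3 : y * e = e * y * z := by rw [h1, mul_assoc, H.L.z_sq, mul_one]
      calc e⁻¹ * (u⁻¹ * e * u) * y = e⁻¹ * (u⁻¹ * e * u * y) := by group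
        _ = e⁻¹ * (y * e) * e⁻¹ * (u⁻¹ * e * u) * z := by rw [h2]; group
        _ = y * (z * e⁻¹) * (u⁻¹ * e * u) * z := by rw [h3]; group
        _ = y * e⁻¹ * (z * (u⁻¹ * e * u)) * z := by
            rw [show z * e⁻¹ = e⁻¹ * z by rw [eq_inv_mul_iff_mul_eq, ← mul_assoc, hez]; group]; group
        _ = y * (e⁻¹ * (u⁻¹ * e * u)) * (z * z) := by rw [← H.L.comm_z _ he'.1]; group
        _ = _ := by rw [H.L.z_sq, mul_one]

/-- **`β` is trivial on `Q/⟨z⟩`** -/
theorem triv (H : Hyp Q z q β) (hββ : ∀ x ∈ Q, β (β x) = x) (U : Set K)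
    (hU : ∀ u ∈ U, u * z = z * u ∧ u * q = q * u ∧ (β u = u ∨ β u = q * u))
    (hno : ∀ e ∈ Q, e * q = q * e → (∀ u ∈ U, Z2 z q (e⁻¹ * (u⁻¹ * e * u))) → e * e = 1 → Z2 z q e) :
    ∀ x ∈ Q, β x = x ∨ β x = x * z := by
  have hqi : q⁻¹ = q := inv_eq_of_mul_eq_one_left H.hqq
  have hs : ∀ r ∈ Q, Z2 z q (r⁻¹ * β r) := by
    intro r hr
    have h1 := H.s_mem hr
    refine hno _ h1.1 (H.q_mem_D h1) (fun u hu => H.z2_conj h1 (hU u hu).1 (hU u hu).2.1 (hU u hu).2.2) ?_
    have h2 := H.fix_E h1
    have h3 := hββ r hr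
    have h4 : β (β r) = r * ((r⁻¹ * β r) * (r⁻¹ * β r)) := by
      conv_lhs => rw [show β r = r * (r⁻¹ * β r) by group]
      rw [map_mul β r, h2]; group
    rw [h3] at h4
    exact (mul_eq_left.1 h4.symm)
  have hcase : ∀ r ∈ Q, (β r = r ∨ β r = r * z) ∨ (β r = r * q ∨ β r = r * (q * z)) := by
    intro r hr
    rcases hs r hr with h | h | h | h
    · left; left; rw [inv_mul_eq_iff_eq_mul, mul_one] at h; exact h
    · left; right; rwa [inv_mul_eq_iff_eq_mul] at h
    · right; left; rwa [inv_mul_eq_iff_eq_mul] at h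
    · right; right; rwa [inv_mul_eq_iff_eq_mul] at h
  -- the second case implies `[r, q] = 1`
  have hcom : ∀ r ∈ Q, (β r = r * q ∨ β r = r * (q * z)) → r * q = q * r := by
    intro r hr h
    have hqz' := H.L.comm_z q H.hqQ
    have hrz := H.L.comm_z r hr
    have h1 : β (r * r) = r * r := by
      rcases H.L.sq r hr with h1 | h1 <;> rw [h1]
      · exact map_one β
      · exact H.hz
    have h2 : (r * q) * (r * q) = r * r := by
      rw [map_mul] at h1
      rcases h with h | h
      · rw [h] at h1; exact h1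
      · rw [h] at h1
        rw [← h1]
        calc r * q * (r * q) = r * q * (r * q) * (z * z) := by rw [H.L.z_sq, mul_one]
          _ = r * q * r * (q * z) * z := by group
          _ = r * q * r * (z * q) * z := by rw [hqz']
          _ = r * q * r * z * (q * z) := by group
          _ = r * q * (r * z) * (q * z) := by group
          _ = r * (q * z) * (r * (q * z)) := by rw [hrz]; group
    have h3 : q * r * q = r := by
      have : r * (q * r * q) = r * r := by rw [← h2]; group
      exact mul_left_cancel this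
    calc r * q = q * r * q * q := by rw [h3]
      _ = q * r * (q * q) := by group
      _ = q * r := by rw [H.hqq, mul_one]
  obtain ⟨r₁, hr₁, hr₁q⟩ := H.exists_r
  intro x hx
  rcases hcase x hx with h | h
  · exact h
  · exfalso
    have hxq := hcom x hx h
    have h1 := (hcase r₁ hr₁).resolve_right fun h => hr₁q (hcom _ hr₁ h)
    have h2 : (r₁ * x) * q ≠ q * (r₁ * x) := by
      intro h3
      apply hr₁q
      have h4 : r₁ * q * x = q * r₁ * x := by
        calc r₁ * q * x = r₁ * (x * q) := by rw [hxq]; group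
          _ = _ := by rw [← mul_assoc, h3]; group
      exact mul_right_cancel h4
    have h3 := (hcase (r₁ * x) (Q.mul_mem hr₁ hx)).resolve_right fun h => h2 (hcom _ (Q.mul_mem hr₁ hx) h)
    rw [map_mul] at h3
    have hxz := H.L.comm_z x hx
    have hqz' := H.L.comm_z q H.hqQ
    -- compare
    have key : ∀ a b : K, (a = 1 ∨ a = z) → (b = 1 ∨ b = z) → r₁ * a * (x * (q * b)) = r₁ * x * 1 ∨
        r₁ * a * (x * (q * b)) = r₁ * x * z → False := by
      intro a b ha hb h
      have haz : a * x = x * a := by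
        rcases ha with rfl | rfl
        · rw [one_mul, mul_one]
        · exact hxz.symm
      have hab : a * q = q * a := by
        rcases ha with rfl | rfl
        · rw [one_mul, mul_one]
        · exact hqz'.symm
      have e : r₁ * a * (x * (q * b)) = r₁ * x * (q * (a * b)) := by
        calc r₁ * a * (x * (q * b)) = r₁ * (a * x) * (q * b) := by group
          _ = r₁ * x * (a * q) * b := by rw [haz]; group
          _ = _ := by rw [hab]; group
      have hzz := H.L.z_sq
      have hab' : a * b = 1 ∨ a * b = z := by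
        rcases ha with rfl | rfl <;> rcases hb with rfl | rfl
        · left; rw [mul_one]
        · right; rw [one_mul]
        · right; rw [mul_one]
        · left; exact hzz
      rw [e] at h
      rcases h with h | h <;> have h' := mul_left_cancel h
      · rcases hab' with h4 | h4
        · rw [h4, mul_one] at h'; exact H.hq1 h'
        · rw [h4, mul_eq_one_iff_eq_inv, H.L.z_inv] at h'; exact H.hqz h'
      · rcases hab' with h4 | h4
        · rw [h4, mul_one] at h'; exact H.hqz h'
        · rw [h4] at h'; exact H.hq1 (mul_eq_right.1 h')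
    have h1' : ∃ a : K, (a = 1 ∨ a = z) ∧ β r₁ = r₁ * a := by
      rcases h1 with h1 | h1
      · exact ⟨1, Or.inl rfl, by rw [mul_one]; exact h1⟩
      · exact ⟨z, Or.inr rfl, h1⟩
    have h' : ∃ b : K, (b = 1 ∨ b = z) ∧ β x = x * (q * b) := by
      rcases h with h | h
      · exact ⟨1, Or.inl rfl, by rw [mul_one]; exact h⟩
      · exact ⟨z, Or.inr rfl, h⟩
    obtain ⟨a, ha, ha'⟩ := h1'
    obtain ⟨b, hb, hb'⟩ := h'
    rw [ha', hb'] at h3
    refine key a b ha hb ?_
    rcases h3 with h3 | h3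
    · left; rw [mul_one]; exact h3
    · right; exact h3

end Hyp

end Cfsg.Agent.KFacts.LargeOutTwo
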