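import Mathlib
import Cfsg.Agent.OddHalf.Clean

/-!
# `|Out(K)| ≤ 2` from the automorphisms fixing a 2-central involution

Let `S` be a Sylow 2-subgroup of `K` with centre `{1, z}`. Every automorphism is an inner one times one fixing `z`
(Frattini). If for two automorphisms `α, β` fixing `z` one of `α`, `β`, `α β⁻¹` is inner, then `|Aut(K) : Inn(K)| ≤ 2`.
-/

set_option autoImplicit false

namespace Cfsg.Agent.KFacts.OutIdx

open scoped Pointwise
open Cfsg.Agent.OddHalf

variable {K : Type*} [Group K]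

/-- Frattini argument. -/
theorem exists_conj_z [Finite K] {z : K} (hz1 : z ≠ 1)
    (syl : ∃ S : Sylow 2 K, z ∈ S ∧ (∀ x ∈ S, x * z = z * x) ∧ ∀ y ∈ S, (∀ x ∈ S, x * y = y * x) → y = 1 ∨ y = z)
    (α : MulAut K) : ∃ g : K, α z = g * z * g⁻¹ := by
  obtain ⟨S, hzS, hz, hcen⟩ := syl
  obtain ⟨g, hg⟩ := MulAction.exists_smul_eq K S (α • S)
  have hmem : ∀ x : K, x ∈ (S : Subgroup K) ↔ α⁻¹ (g * x * g⁻¹) ∈ (S : Subgroup K) := by
    intro x
    have h1 : (g * x * g⁻¹) ∈ (g • S : Sylow 2 K) ↔ x ∈ (S : Subgroup K) := by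
      rw [Sylow.smul_def]
      constructor
      · intro h
        obtain ⟨y, hy, e⟩ := h
        have : g * y * g⁻¹ = g * x * g⁻¹ := e
        have e2 : y = x := mul_left_cancel (mul_right_cancel this)
        rw [← e2]; exact hy
      · intro h
        exact ⟨x, h, rfl⟩
    rw [← h1, hg]
    constructor
    · rintro ⟨y, hy, e⟩
      have e' : α y = g * x * g⁻¹ := e
      rw [← e', MulAut.inv_apply_self]
      exact hy
    · intro h
      exact ⟨_, h, MulAut.apply_inv_self K α _⟩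
  refine ⟨g, ?_⟩
  set y : K := g⁻¹ * α z * g with hy
  have hyz : g * y * g⁻¹ = α z := by rw [hy]; group
  have hyS : y ∈ (S : Subgroup K) := by
    rw [hmem, hyz, MulAut.inv_apply_self]
    exact hzS
  have h2 : ∀ x ∈ S, x * y = y * x := by
    intro x hx
    have h3 : α⁻¹ (g * x * g⁻¹) ∈ (S : Subgroup K) := (hmem x).1 hx
    have h4 := hz _ h3
    have h5 := congrArg α h4
    have h0 : α (α⁻¹ (g * x * g⁻¹)) = g * x * g⁻¹ := MulAut.apply_inv_self K α _
    rw [map_mul α, map_mul α, h0, ← hyz] at h5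
    have h6 : g * (x * y) * g⁻¹ = g * (y * x) * g⁻¹ := by
      calc g * (x * y) * g⁻¹ = g * x * g⁻¹ * (g * y * g⁻¹) := by group
        _ = g * y * g⁻¹ * (g * x * g⁻¹) := h5
        _ = g * (y * x) * g⁻¹ := by group
    exact mul_left_cancel (mul_right_cancel h6)
  rcases hcen y hyS h2 with h | h
  · exfalso
    rw [h, mul_one, mul_inv_cancel] at hyz
    exact hz1 (α.injective (by rw [← hyz, map_one]))
  · rw [h] at hyz; exact hyz.symm

theorem index_cases [Finite K] {z : K} (hz1 : z ≠ 1)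
    (syl : ∃ S : Sylow 2 K, z ∈ S ∧ (∀ x ∈ S, x * z = z * x) ∧ ∀ y ∈ S, (∀ x ∈ S, x * y = y * x) → y = 1 ∨ y = z)
    (h : ∀ α β : MulAut K, α z = z → β z = z → α ∈ (MulAut.conj : K →* MulAut K).range ∨
      β ∈ (MulAut.conj : K →* MulAut K).range ∨ α * β⁻¹ ∈ (MulAut.conj : K →* MulAut K).range) :
    (MulAut.conj : K →* MulAut K).range.index = 1 ∨ (MulAut.conj : K →* MulAut K).range.index = 2 := by
  set I := (MulAut.conj : K →* MulAut K).range with hI
  -- reduction to automorphisms fixing `z`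
  have hred : ∀ α : MulAut K, ∃ i ∈ I, ∃ α' : MulAut K, α' z = z ∧ α = i * α' := by
    intro α
    obtain ⟨g, hg⟩ := exists_conj_z hz1 syl α
    refine ⟨MulAut.conj g, ⟨g, rfl⟩, (MulAut.conj g)⁻¹ * α, ?_, by rw [mul_inv_cancel_left]⟩
    rw [MulAut.mul_apply, hg, ← map_inv, MulAut.conj_apply, inv_inv]
    group
  have hall : ∀ α β : MulAut K, α ∈ I ∨ β ∈ I ∨ α * β⁻¹ ∈ I := by
    intro α β
    obtain ⟨i, hi, α', hα', rfl⟩ := hred α
    obtain ⟨j, hj, β', hβ', rfl⟩ := hred β
    rcases h α' β' hα' hβ' with h1 | h1 | h1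
    · exact Or.inl (I.mul_mem hi h1)
    · exact Or.inr (Or.inl (I.mul_mem hj h1))
    · right; right
      have e : i * α' * (j * β')⁻¹ = i * (α' * β'⁻¹) * j⁻¹ := by group
      rw [e]
      exact I.mul_mem (I.mul_mem hi h1) (I.inv_mem hj)
  by_cases htop : I = ⊤
  · left; rw [htop, Subgroup.index_top]
  right
  obtain ⟨γ, hγ⟩ : ∃ γ, γ ∉ I := by
    by_contra hcon
    push Not at hcon
    exact htop ((Subgroup.eq_top_iff' I).2 hcon)
  rw [Subgroup.index_eq_two_iff]
  refine ⟨γ⁻¹, fun b => ?_⟩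
  by_cases hb : b ∈ I
  · right
    refine ⟨hb, fun hc => hγ ?_⟩
    have := I.mul_mem (I.inv_mem hc) hb
    rwa [mul_inv_rev, inv_inv, inv_mul_cancel_right] at this
  · left
    refine ⟨?_, hb⟩
    rcases hall b γ with h1 | h1 | h1
    · exact absurd h1 hb
    · exact absurd h1 hγ
    · exact h1

theorem out_of [Finite K]
    (h : (MulAut.conj : K →* MulAut K).range.index = 1 ∨ (MulAut.conj : K →* MulAut K).range.index = 2) :
    ¬ 4 ∣ (MulAut.conj : K →* MulAut K).range.index := by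
  rcases h with h | h <;> rw [h] <;> decide

theorem schreier_of [Finite K]
    (h : (MulAut.conj : K →* MulAut K).range.index = 1 ∨ (MulAut.conj : K →* MulAut K).range.index = 2) :
    ∃ n, TR.dser n (⊤ : Subgroup (MulAut K)) ≤ (MulAut.conj : K →* MulAut K).range := by
  refine ⟨1, ?_⟩
  rw [show (1 : ℕ) = 0 + 1 by rfl, TR.dser_succ', TR.dser_zero, Subgroup.commutator_le]
  rcases h with h | h
  · intro a _ b _
    rw [Subgroup.index_eq_one.1 h]
    exact Subgroup.mem_top _
  · intro a _ b _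
    rw [commutatorElement_def, Subgroup.mul_mem_iff_of_index_two h, Subgroup.mul_mem_iff_of_index_two h,
      Subgroup.mul_mem_iff_of_index_two h, inv_mem_iff, inv_mem_iff]
    tauto

end Cfsg.Agent.KFacts.OutIdx
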