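import Cfsg.Agent.OddHalf.CaseM.Sheet
import Cfsg.Agent.KFacts.SheetInner

/-!
# The sheet of case (M) for `SheetInner.Data` (helper922)

`sheetM_of_data` : `SheetM (centralizer {z}) Q` from `SheetInner.Data Q z L`, a prime `p > w` dividing `|L|` and
`|Q| ≤ 2 ^ (2 w + 1)`; `sheetM_map` : transport along an isomorphism (proof of helper950).
-/

set_option autoImplicit false

namespace Cfsg.Agent.KFacts.InnerCaseM

open Cfsg.Agent.KFacts.SheetInner Cfsg.Agent.OddHalf.D8.Sheet Cfsg.Agent.OddHalf.CaseM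

open scoped commutatorElement

section

variable {K : Type*} [Group K] {Q : Subgroup K} {z : K} {L : Type*} [Group L]
  {π : Subgroup.centralizer ({z} : Set K) →* L}

/-- normal subgroups of `C_K(z)` above `Q` -/
theorem normal_of [IsSimpleGroup L] (hs : Function.Surjective π) (hk : ∀ c, π c = 1 ↔ (c : K) ∈ Q) (N : Subgroup K)
    (hN : N ≤ Subgroup.centralizer ({z} : Set K)) (hQ : Q ≤ N)
    (hn : ∀ p ∈ Subgroup.centralizer ({z} : Set K), ∀ n ∈ N, p * n * p⁻¹ ∈ N) :
    ⁅N, Subgroup.centralizer ({z} : Set K)⁆ ≤ Q ∨ N = Subgroup.centralizer ({z} : Set K) := by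
  have h1 : (N.subgroupOf (Subgroup.centralizer ({z} : Set K))).Normal :=
    ⟨fun x hx g => hn g g.2 x hx⟩
  rcases (h1.map π hs).eq_bot_or_eq_top with h2 | h2
  · left
    have h3 : N ≤ Q := by
      intro x hx
      rw [← hk ⟨x, hN hx⟩]
      have h4 : π ⟨x, hN hx⟩ ∈ (N.subgroupOf (Subgroup.centralizer ({z} : Set K))).map π := ⟨_, hx, rfl⟩
      rw [h2, Subgroup.mem_bot] at h4
      exact h4
    rw [Subgroup.commutator_le]
    intro x hx y hy
    have h4 : x * (y * x⁻¹ * y⁻¹) ∈ N := N.mul_mem hx (hn y hy _ (N.inv_mem hx))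
    apply h3
    rw [commutatorElement_def]
    simpa only [mul_assoc] using h4
  · right
    apply le_antisymm hN
    intro x hx
    have h3 : π ⟨x, hx⟩ ∈ (N.subgroupOf (Subgroup.centralizer ({z} : Set K))).map π := by
      rw [h2]; exact Subgroup.mem_top _
    obtain ⟨y, hy, hyx⟩ := h3
    have h4 : π (y⁻¹ * ⟨x, hx⟩) = 1 := by rw [map_mul, map_inv, hyx, inv_mul_cancel]
    have h5 : (y : K)⁻¹ * x ∈ N := hQ ((hk _).1 h4)
    have h6 : (y : K) * ((y : K)⁻¹ * x) ∈ N := N.mul_mem hy h5
    rwa [mul_inv_cancel_left] at h6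

/-- a `p`-element of `C_K(z)` not central modulo `Q` -/
theorem exists_noncentral [Finite K] [IsSimpleGroup L] (hs : Function.Surjective π)
    (hk : ∀ c, π c = 1 ↔ (c : K) ∈ Q) (hnab : ∃ a b : L, a * b ≠ b * a) {p : ℕ} (hp : p.Prime)
    (hpL : p ∣ Nat.card L) : ∃ x ∈ Subgroup.centralizer ({z} : Set K), ∃ y ∈ Subgroup.centralizer ({z} : Set K),
    IsPGroup p (Subgroup.zpowers x) ∧ ⁅x, y⁆ ∉ Q := by
  have : Fact p.Prime := ⟨hp⟩
  have : Finite L := Finite.of_surjective π hs
  obtain ⟨b, hb⟩ := exists_prime_orderOf_dvd_card' p hpL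
  obtain ⟨c, rfl⟩ := hs b
  obtain ⟨k, m, hm, hkm⟩ := Nat.exists_eq_pow_mul_and_not_dvd (orderOf_pos c).ne' p hp.ne_one
  have h1 : π (c ^ m) ≠ 1 := by
    intro h2
    rw [map_pow] at h2
    exact hm (hb ▸ orderOf_dvd_of_pow_eq_one h2)
  -- the centre of `L` is trivial
  have hcen : ∃ y : L, π (c ^ m) * y ≠ y * π (c ^ m) := by
    by_contra hcon
    push Not at hcon
    have h2 : π (c ^ m) ∈ Subgroup.center L := Subgroup.mem_center_iff.2 fun g => (hcon g).symm
    rcases (inferInstance : (Subgroup.center L).Normal).eq_bot_or_eq_top with h3 | h3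
    · rw [h3, Subgroup.mem_bot] at h2
      exact h1 h2
    · obtain ⟨a, b, hab⟩ := hnab
      have h4 : b ∈ Subgroup.center L := by rw [h3]; exact Subgroup.mem_top _
      exact hab (Subgroup.mem_center_iff.1 h4 a)
  obtain ⟨y0, hy0⟩ := hcen
  obtain ⟨y, rfl⟩ := hs y0
  refine ⟨_, (c ^ m).2, _, y.2, ?_, ?_⟩
  · apply IsPGroup.of_card (n := k)
    rw [Nat.card_zpowers, Subgroup.orderOf_coe, orderOf_pow, hkm]
    rw [Nat.gcd_eq_right (dvd_mul_left m (p ^ k)), Nat.mul_div_cancel]
    exact Nat.pos_of_ne_zero fun h => hm (h ▸ dvd_zero p)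
  · intro h2
    have h3 : π ⁅c ^ m, y⁆ = 1 := (hk _).2 h2
    rw [map_commutatorElement, commutatorElement_eq_one_iff_mul_comm] at h3
    exact hy0 h3

end

/-- `SheetM` for `SheetInner.Data` -/
theorem sheetM_of_data {K : Type*} [Group K] [Finite K] {Q : Subgroup K} {z : K} {L : Type*} [Group L]
    (D : Data Q z L) {p w : ℕ} (hp : p.Prime) (hw : w < p) (hpL : p ∣ Nat.card L)
    (hcard : Nat.card Q ≤ 2 ^ (2 * w + 1)) : SheetM (Subgroup.centralizer ({z} : Set K)) Q := by
  have := D.simple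
  obtain ⟨π, hs, hk⟩ := D.quot
  obtain ⟨x, hx, y, hy, hxp, hxy⟩ := exists_noncentral hs hk D.nonab hp hpL
  refine SheetM.of_quasisimple D.sheet (normal_of hs hk) hp hw hcard hx hxp hy hxy ⟨0, ?_⟩ ⟨0, ?_⟩
  · rw [pow_zero, Subgroup.index_eq_one, MonoidHom.range_eq_top]
    intro α
    obtain ⟨k, hk⟩ := D.allInner α
    exact ⟨k, hk.symm⟩
  · rw [pow_zero, Subgroup.relIndex_self]

section

variable {K K' : Type*} [Group K] [Group K']

/-- `SheetM` along an isomorphism (proof of helper950) -/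
theorem sheetM_map (e : K ≃* K') {P R : Subgroup K} (h : SheetM P R) :
    SheetM (P.map (e : K →* K')) (R.map (e : K →* K')) := by
  have hinj : Function.Injective (Subgroup.map (e : K →* K')) := Subgroup.map_injective e.injective
  have key : ∀ S : Subgroup K', ∃ S0 : Subgroup K, S = S0.map (e : K →* K') := fun S =>
    ⟨S.comap (e : K →* K'), by rw [Subgroup.map_comap_eq_self_of_surjective e.surjective]⟩
  constructor
  · intro S hS hsub hp hne
    obtain ⟨S0, rfl⟩ := key S
    have hS0 : S0 ≤ P := (Subgroup.map_le_map_iff_of_injective e.injective).1 hS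
    have h2 : ⁅S0, S0⁆ = S0 := hinj (by rw [Subgroup.map_commutator]; exact hp)
    have h3 : S0 ≠ ⊥ := by
      rintro rfl
      exact hne (Subgroup.map_bot _)
    have h1 : (S0.subgroupOf P).IsSubnormal := by
      let f : P →* P.map (e : K →* K') := (e.subgroupMap P).toMonoidHom
      have h4 := hsub.comap f
      have h5 : ((S0.map (e : K →* K')).subgroupOf (P.map (e : K →* K'))).comap f = S0.subgroupOf P := by
        ext x
        rw [Subgroup.mem_comap, Subgroup.mem_subgroupOf, Subgroup.mem_subgroupOf]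
        show e (x : K) ∈ S0.map (e : K →* K') ↔ _
        constructor
        · rintro ⟨y, hy, hyx⟩
          have h6 : y = x := e.injective hyx
          rw [← h6]; exact hy
        · intro hx; exact ⟨_, hx, rfl⟩
      rwa [h5] at h4
    rw [← Subgroup.map_commutator, h.big S0 hS0 h1 h2 h3]
  · obtain ⟨w, hw, hi⟩ := h.idx
    refine ⟨w, ?_, ?_⟩
    · exact (Nat.card_congr (e.subgroupMap R).toEquiv).symm.le.trans hw
    · intro H hH hi2
      obtain ⟨H0, rfl⟩ := key H
      have hH0 : H0 ≤ P := (Subgroup.map_le_map_iff_of_injective e.injective).1 hH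
      rw [Subgroup.relIndex_map_map_of_injective _ _ e.injective] at hi2
      rw [hi H0 hH0 hi2]
  · intro α hodd hα
    let β : MulAut K := (e.trans α).trans e.symm
    have hβ : ∀ x, e (β x) = α (e x) := fun x => by
      show e (e.symm (α (e x))) = _
      rw [MulEquiv.apply_symm_apply]
    have hpow : ∀ (n : ℕ) x, e ((β ^ n) x) = (α ^ n) (e x) := by
      intro n
      induction n with
      | zero => intro x; rfl
      | succ n ih =>
        intro x
        rw [pow_succ, pow_succ, MulAut.mul_apply, MulAut.mul_apply, ih, hβ]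
    have hord : orderOf β ∣ orderOf α := by
      apply orderOf_dvd_of_pow_eq_one
      apply MulEquiv.ext
      intro x
      apply e.injective
      rw [hpow, pow_orderOf_eq_one]
      rfl
    have h1 : β = 1 := h.odd β (hodd.of_dvd_nat hord) (fun x hx => by
      apply e.injective
      rw [hβ]
      exact hα _ ⟨x, hx, rfl⟩)
    apply MulEquiv.ext
    intro y
    obtain ⟨x, rfl⟩ := e.surjective y
    rw [← hβ, h1]
    rfl

end

end Cfsg.Agent.KFacts.InnerCaseM
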