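import Cfsg.Agent.KFacts.QMinus
import Cfsg.Agent.KFacts.AutLarge
import Cfsg.Agent.KFacts.LargeO2
import Cfsg.Agent.J3Type.TwoCentral
import Cfsg.Agent.OddHalf.D8.Sheet

/-!
# The sheet of type (E) for groups with one class of involutions and centraliser `2^{1+4}_- : A₅` (helper279)

`sheetE`: let `K` be a finite group with one class of involutions, `z` an involution with a signed permutation model of
`C_K(z)` (`J3Type.OneClass.HasModel`), and `K = ⟨C_K(z), n₀⟩` with `n₀ z n₀⁻¹ ∈ Q`, `≠ z`. Then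
`OddHalf.D8.Sheet.SheetE z (C_K(z)) Q` holds. In particular `|Out(K)|₂ ≤ 2`.
-/

set_option autoImplicit false

namespace Cfsg.Agent.KFacts.J3Sheet

open Subgroup Cfsg.Agent.Co2Type.Quad Cfsg.Agent.KFacts.AutLarge
open Cfsg.Agent.J2Type.Model Cfsg.Agent.J2Type.CStruct Cfsg.Agent.J3Type.OneClass

theorem aux_v : ∀ i : Fin 5, i ≠ 0 → ∃ σ : Equiv.Perm (Fin 5), Equiv.Perm.sign σ = 1 ∧ σ 0 = 0 ∧ σ i ≠ i := by
  decide +kernel

theorem aux_vv : ∀ i j : Fin 5, i ≠ j → ∃ σ : Equiv.Perm (Fin 5), Equiv.Perm.sign σ = 1 ∧ σ 0 = 0 ∧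
    rr (σ i) (σ j) ≠ rr i j := by
  decide +kernel

theorem aux_ind : ∀ i j : Fin 5, (fun k : Fin 5 => if k = i then (0 : ZMod 2) else 1) =
    (fun k => if k = j then 0 else 1) → i = j := by
  decide +kernel

theorem int_sign (σ : Equiv.Perm (Fin 5)) (h : Equiv.Perm.sign σ ≠ 1) : Equiv.Perm.sign σ = -1 :=
  (Int.units_eq_one_or _).resolve_left h

variable {K : Type*} [Group K] {z : K} {Q : Subgroup (centralizer ({z} : Set K))}
  {v : Fin 5 → centralizer ({z} : Set K)} {ρ : centralizer ({z} : Set K) →* SP}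

theorem mem_iff {x : K} : x ∈ Q.map (centralizer ({z} : Set K)).subtype ↔
    ∃ h : x ∈ centralizer ({z} : Set K), (⟨x, h⟩ : centralizer ({z} : Set K)) ∈ Q := by
  constructor
  · rintro ⟨y, hy, rfl⟩
    exact ⟨y.2, hy⟩
  · rintro ⟨h, hx⟩
    exact ⟨_, hx, rfl⟩

theorem coe_mem_iff {x : centralizer ({z} : Set K)} :
    (x : K) ∈ Q.map (centralizer ({z} : Set K)).subtype ↔ x ∈ Q := by
  rw [mem_iff]
  exact ⟨fun ⟨_, h⟩ => h, fun h => ⟨x.2, h⟩⟩

theorem large [Finite K] (hc : Nat.card (centralizer ({z} : Set K)) = 1920) (M : IsModel Q (zc z) v ρ) :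
    Large (Q.map (centralizer ({z} : Set K)).subtype) z := by
  have S := QMinus.sheet hc M
  refine ⟨S.zR, S.ne, S.sq, S.comm, S.norm, ?_, ?_, ?_, ?_⟩
  · rintro _ ⟨x, hx, rfl⟩
    rcases QMinus.sq_mem M hx with h | h
    · exact Or.inl (congrArg Subtype.val h)
    · exact Or.inr (congrArg Subtype.val h)
  · rintro _ ⟨x, hx, rfl⟩ _ ⟨y, hy, rfl⟩
    rcases QMinus.comm_mem M hx hy with h | h
    · exact Or.inl (congrArg Subtype.val h)
    · right
      have h1 : x * y = y * x * zc z := by rw [h, ← M.z_comm]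
      exact congrArg Subtype.val h1
  · intro x hx h
    exact S.cen x h
  · intro g _ h
    rcases S.cen g h with h | h
    · rw [h]; exact one_mem _
    · rw [h]; exact S.zR

theorem irr [Finite K] (hc : Nat.card (centralizer ({z} : Set K)) = 1920) (M : IsModel Q (zc z) v ρ) :
    AutLarge.Irr (Q.map (centralizer ({z} : Set K)).subtype) z := (QMinus.sheet hc M).irr

/-! ### Equality modulo `⟨z⟩` -/

theorem eqz_rho (M : IsModel Q (zc z) v ρ) {x y : centralizer ({z} : Set K)} (h : Eqz z (x : K) y) : ρ x = ρ y := by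
  rcases h with h | h
  · rw [Subtype.ext h]
  · have h1 : x = y * zc z := Subtype.ext h
    rw [h1, map_mul, rho_z M, mul_one]

theorem eqz_of_rho (M : IsModel Q (zc z) v ρ) {x y : centralizer ({z} : Set K)} (h : ρ x = ρ y) : Eqz z (x : K) y := by
  obtain ⟨a, ha⟩ := eq_of_rho_eq M h
  rcases zmod2_cases a with rfl | rfl
  · rw [zp_zero, one_mul] at ha
    exact Or.inl (congrArg Subtype.val ha)
  · rw [zp_one, ← M.z_comm] at ha
    exact Or.inr (congrArg Subtype.val ha)

theorem eqz_zp (M : IsModel Q (zc z) v ρ) (a : ZMod 2) (x : centralizer ({z} : Set K)) :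
    Eqz z ((zp (zc z) a * x : centralizer ({z} : Set K)) : K) x :=
  eqz_of_rho M (by rw [map_mul, rho_zp M, one_mul])

theorem hcen (M : IsModel Q (zc z) v ρ) : ∀ y ∈ Q.map (centralizer ({z} : Set K)).subtype,
    (∀ c : K, c * z = z * c → Eqz z (c * (v 0 : K) * c⁻¹) (v 0) → Eqz z (c * y * c⁻¹) y) →
      Eqz z y 1 ∨ Eqz z y (v 0) := by
  rintro _ ⟨y, hy, rfl⟩ h
  have key : ∀ σ : Equiv.Perm (Fin 5), Equiv.Perm.sign σ = 1 → σ 0 = 0 →
      ∃ c : centralizer ({z} : Set K), (∀ i, c * v i * c⁻¹ = v (σ i)) ∧ ρ (c * y * c⁻¹) = ρ y := by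
    intro σ hσ h0
    obtain ⟨c, hc⟩ := QMinus.exists_c M σ hσ
    refine ⟨c, hc, ?_⟩
    apply eqz_rho M
    refine h c (mem_centralizer_singleton_iff.1 c.2) (Or.inl ?_)
    have := hc 0
    rw [h0] at this
    exact congrArg Subtype.val this
  rcases M.cover y hy with ⟨a, h1⟩ | ⟨a, i, h1⟩ | ⟨a, i, j, hij, h1⟩
  · left
    have := eqz_zp M a 1
    rw [mul_one, ← h1] at this
    exact this
  · right
    rcases eq_or_ne i 0 with rfl | hi
    · have := eqz_zp M a (v 0)
      rw [← h1] at this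
      exact this
    · exfalso
      obtain ⟨σ, hσ, h0, hne⟩ := aux_v i hi
      obtain ⟨c, hc, hρ⟩ := key σ hσ h0
      have e : c * y * c⁻¹ = zp (zc z) a * v (σ i) := by
        rw [h1, ← hc i, ← mul_assoc c, zp_comm' M]; group
      have e1 : ∀ x, ρ (zp (zc z) a * x) = ρ x := fun x => by rw [map_mul, rho_zp M, one_mul]
      rw [e, h1, e1, e1, rho_v M, rho_v M] at hρ
      exact hne (aux_ind _ _ (congrArg SP.s hρ))
  · exfalso
    obtain ⟨σ, hσ, h0, hne⟩ := aux_vv i j hij.ne
    obtain ⟨c, hc, hρ⟩ := key σ hσ h0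
    have e : c * y * c⁻¹ = zp (zc z) a * (v (σ i) * v (σ j)) := by
      rw [h1, ← hc i, ← hc j, ← mul_assoc c, zp_comm' M]; group
    have e1 : ∀ x, ρ (zp (zc z) a * x) = ρ x := fun x => by rw [map_mul, rho_zp M, one_mul]
    rw [e, h1, e1, e1, rho_vv M, rho_vv M] at hρ
    exact hne (congrArg SP.s hρ)

/-! ### Automorphisms and permutations -/

/-- `α` permutes the classes `{v i, z v i}` as `σ` -/
def PermOf (v : Fin 5 → centralizer ({z} : Set K)) (α : MulAut K) (σ : Equiv.Perm (Fin 5)) : Prop :=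
  ∀ i, Eqz z (α (v i : K)) (v (σ i))

theorem zz (M : IsModel Q (zc z) v ρ) : z * z = 1 := congrArg Subtype.val M.z_sq

theorem vz (x : centralizer ({z} : Set K)) : (x : K) * z = z * x := mem_centralizer_singleton_iff.1 x.2

theorem eqz_trans (M : IsModel Q (zc z) v ρ) {x y w : K} (h1 : Eqz z x y) (h2 : Eqz z y w) : Eqz z x w := by
  rcases h1 with rfl | rfl
  · exact h2
  · rcases h2 with rfl | rfl
    · exact Or.inr rfl
    · left; rw [mul_assoc, zz M, mul_one]

theorem eqz_symm (M : IsModel Q (zc z) v ρ) {x y : K} (h : Eqz z x y) : Eqz z y x := by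
  rcases h with rfl | rfl
  · exact Or.inl rfl
  · right; rw [mul_assoc, zz M, mul_one]

theorem eqz_map {α : MulAut K} (hα : α z = z) {x y : K} (h : Eqz z x y) : Eqz z (α x) (α y) := by
  rcases h with rfl | rfl
  · exact Or.inl rfl
  · right; rw [map_mul, hα]

theorem permOf_mul (M : IsModel Q (zc z) v ρ) {α β : MulAut K} (hα : α z = z) {σ τ : Equiv.Perm (Fin 5)}
    (h1 : PermOf v α σ) (h2 : PermOf v β τ) : PermOf v (α * β) (σ * τ) := by
  intro i
  rw [MulAut.mul_apply, Equiv.Perm.mul_apply]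
  exact eqz_trans M (eqz_map hα (h2 i)) (h1 (τ i))

theorem exists_perm [Finite K] (hc : Nat.card (centralizer ({z} : Set K)) = 1920) (M : IsModel Q (zc z) v ρ)
    {α : MulAut K} (hα : α z = z) : ∃ σ, PermOf v α σ := by
  have hne : ∃ x ∈ Q.map (centralizer ({z} : Set K)).subtype, x ≠ 1 ∧ x ≠ z := by
    refine ⟨v 0, ⟨_, M.v_mem 0, rfl⟩, fun h => ?_, fun h => ?_⟩
    · apply v_ne_one M 0 0
      rw [zp_zero, one_mul]; exact Subtype.ext h
    · apply zv_ne_z M 0 0
      rw [zp_zero, one_mul]; exact Subtype.ext h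
  have h1 : ∀ i, ∃ j, Eqz z (α (v i : K)) (v j) := by
    intro i
    have h2 := map_mem (large hc M) (irr hc M) hne hα (x := (v i : K)) ⟨_, M.v_mem i, rfl⟩
    obtain ⟨hx, hxQ⟩ := mem_iff.1 h2
    rcases invol_Q M hxQ (by
      apply Subtype.ext
      show α (v i : K) * α (v i : K) = 1
      rw [← map_mul]
      have : (v i : K) * v i = 1 := congrArg Subtype.val (M.v_sq i)
      rw [this, map_one]) (by
      intro h
      have h3 : α (v i : K) = 1 := congrArg Subtype.val h
      have h4 : (v i : K) = 1 := α.injective (h3.trans (map_one α).symm)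
      apply v_ne_one M i 0
      rw [zp_zero, one_mul]; exact Subtype.ext h4) with h | ⟨a, j, h⟩
    · exfalso
      have h3 : α (v i : K) = z := congrArg Subtype.val h
      have h4 : (v i : K) = z := α.injective (h3.trans hα.symm)
      apply zv_ne_z M 0 i
      rw [zp_zero, one_mul]; exact Subtype.ext h4
    · refine ⟨j, ?_⟩
      have h3 := eqz_zp M a (v j)
      rw [← h] at h3
      exact h3
  choose f hf using h1
  have hinj : Function.Injective f := by
    intro i j hij
    have h2 : Eqz z (α (v i : K)) (α (v j : K)) := by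
      have := hf j
      rw [← hij] at this
      exact eqz_trans M (hf i) (eqz_symm M this)
    have h3 : Eqz z (v i : K) (v j) := by
      rcases h2 with h2 | h2
      · exact Or.inl (α.injective h2)
      · right
        apply α.injective
        rw [h2, map_mul, hα]
    have h4 := eqz_rho M h3
    rw [rho_v M, rho_v M] at h4
    exact aux_ind _ _ (congrArg SP.s h4)
  exact ⟨Equiv.ofBijective f (Finite.injective_iff_bijective.1 hinj), hf⟩

section gen

variable [Finite K] (hc : Nat.card (centralizer ({z} : Set K)) = 1920) (M : IsModel Q (zc z) v ρ) {n₀ : K}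
  (hin : n₀ * z * n₀⁻¹ ∈ Q.map (centralizer ({z} : Set K)).subtype) (hnz : n₀ * z * n₀⁻¹ ≠ z)
  (hgen : closure ({c : K | c * z = z * c} ∪ {n₀}) = ⊤)
include hc M hin hnz hgen

/-- automorphisms of even type are inner -/
theorem inner_of_even {α : MulAut K} (hα : α z = z) {σ : Equiv.Perm (Fin 5)} (h : PermOf v α σ)
    (hσ : Equiv.Perm.sign σ = 1) : ∃ k, α = MulAut.conj k := by
  obtain ⟨c, hcv⟩ := QMinus.exists_c M σ hσ
  have hcz := vz c
  set β : MulAut K := (MulAut.conj (c : K))⁻¹ * α with hβ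
  have hβa : ∀ x, β x = (c : K)⁻¹ * α x * c := fun x => OutQ.conj_inv_mul_apply _ α x
  have hβz : β z = z := by
    rw [hβa, hα, mul_assoc, ← hcz]; group
  have hβv : ∀ i, Eqz z (β (v i : K)) (v i) := by
    intro i
    have h1 := h i
    have h2 : (c : K) * v i * (c : K)⁻¹ = v (σ i) := congrArg Subtype.val (hcv i)
    rw [← h2] at h1
    rw [hβa]
    rcases h1 with h1 | h1
    · left; rw [h1]; group
    · right
      rw [h1]
      calc (c : K)⁻¹ * ((c : K) * v i * (c : K)⁻¹ * z) * c = v i * ((c : K)⁻¹ * z * c) := by group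
        _ = v i * z := by
          congr 1
          rw [mul_assoc, ← hcz]; group
  -- the elements of `C` fixed modulo `z`
  let N : Subgroup (centralizer ({z} : Set K)) :=
    { carrier := {x | Eqz z (β (x : K)) x}
      one_mem' := Or.inl (map_one β)
      mul_mem' := by
        intro a b ha hb
        have hbz := vz b
        show Eqz z (β ((a : K) * b)) ((a : K) * b)
        rw [map_mul]
        rcases ha with h1 | h1 <;> rcases hb with h2 | h2 <;> rw [h1, h2]
        · left; rfl
        · right; group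
        · right
          rw [mul_assoc, ← hbz]; group
        · left
          calc (a : K) * z * (b * z) = a * (z * b) * z := by group
            _ = a * (b * z) * z := by rw [hbz]
            _ = a * b * (z * z) := by group
            _ = a * b := by rw [zz M, mul_one]
      inv_mem' := by
        intro a ha
        have haz := vz a⁻¹
        have hzi : z⁻¹ = z := inv_eq_of_mul_eq_one_left (zz M)
        show Eqz z (β ((a : K)⁻¹)) ((a : K)⁻¹)
        rw [map_inv]
        rcases ha with h1 | h1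
        · left; rw [h1]
        · right
          rw [h1, mul_inv_rev, hzi]
          exact haz.symm }
  have hQN : Q ≤ N := QMinus.Q_le M hβv
  obtain ⟨x, -, hx⟩ := eq_conj (large hc M) (QMinus.perfect M) hin hnz hgen β hβz (by
    rintro _ ⟨x, hx, rfl⟩
    exact hQN hx)
  refine ⟨c * x, ?_⟩
  rw [map_mul, ← hx, hβ, mul_inv_cancel_left]

theorem index_le (hodd : Odd (centralizer ({z} : Set K)).index) :
    (MulAut.conj : K →* MulAut K).range.index = 1 ∨ (MulAut.conj : K →* MulAut K).range.index = 2 := by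
  have fix : ∀ α : MulAut K, ∃ k : K, (MulAut.conj k * α : MulAut K) z = z := by
    intro α
    obtain ⟨k, hk⟩ := exists_conj_z (large hc M) hodd α
    refine ⟨k⁻¹, ?_⟩
    rw [MulAut.mul_apply, hk, MulAut.conj_apply]; group
  by_cases hall : ∀ α : MulAut K, α ∈ (MulAut.conj : K →* MulAut K).range
  · left
    rw [index_eq_one, eq_top_iff]
    exact fun α _ => hall α
  right
  push Not at hall
  obtain ⟨a, ha⟩ := hall
  -- fix `z`
  obtain ⟨k, hk⟩ := fix a
  set a' := MulAut.conj k * a with ha'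
  have ha'n : a' ∉ (MulAut.conj : K →* MulAut K).range := by
    intro h
    apply ha
    have := mul_mem (inv_mem (⟨k, rfl⟩ : MulAut.conj k ∈ (MulAut.conj : K →* MulAut K).range)) h
    rwa [ha', inv_mul_cancel_left] at this
  obtain ⟨σ, hσ⟩ := exists_perm hc M hk
  have hσ1 : Equiv.Perm.sign σ = -1 := by
    apply int_sign
    intro h
    obtain ⟨x, hx⟩ := inner_of_even hc M hin hnz hgen hk hσ h
    exact ha'n ⟨x, hx.symm⟩
  rw [index_eq_two_iff]
  refine ⟨a', fun b => ?_⟩
  by_cases hb : b ∈ (MulAut.conj : K →* MulAut K).range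
  · right
    refine ⟨hb, fun h => ha'n ?_⟩
    have := mul_mem (inv_mem hb) h
    rwa [inv_mul_cancel_left] at this
  · left
    refine ⟨?_, hb⟩
    obtain ⟨m, hm⟩ := fix b
    set b' := MulAut.conj m * b with hb'
    have hb'n : b' ∉ (MulAut.conj : K →* MulAut K).range := by
      intro h
      apply hb
      have := mul_mem (inv_mem (⟨m, rfl⟩ : MulAut.conj m ∈ (MulAut.conj : K →* MulAut K).range)) h
      rwa [hb', inv_mul_cancel_left] at this
    obtain ⟨τ, hτ⟩ := exists_perm hc M hm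
    have hτ1 : Equiv.Perm.sign τ = -1 := by
      apply int_sign
      intro h
      obtain ⟨x, hx⟩ := inner_of_even hc M hin hnz hgen hm hτ h
      exact hb'n ⟨x, hx.symm⟩
    obtain ⟨x, hx⟩ := inner_of_even hc M hin hnz hgen (α := b' * a') (by rw [MulAut.mul_apply, hk, hm])
      (permOf_mul M hm hτ hσ) (by rw [Equiv.Perm.sign_mul, hσ1, hτ1]; decide)
    have h1 : b' * a' ∈ (MulAut.conj : K →* MulAut K).range := ⟨x, hx.symm⟩
    have h2 := mul_mem (inv_mem (⟨m, rfl⟩ : MulAut.conj m ∈ (MulAut.conj : K →* MulAut K).range)) h1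
    rwa [hb', mul_assoc (MulAut.conj m), inv_mul_cancel_left] at h2

end gen

/-! ### The sheet -/

theorem odd_index [Finite K] (hone : ∀ x y : K, orderOf x = 2 → orderOf y = 2 → IsConj x y) (hz : orderOf z = 2) :
    Odd (centralizer ({z} : Set K)).index := by
  have hp : Fact (Nat.Prime 2) := ⟨Nat.prime_two⟩
  obtain ⟨-, S, -, hS⟩ := Cfsg.Agent.J3Type.TwoCentral.two_central hone z hz
  have h1 : (S : Subgroup K) ≤ centralizer ({z} : Set K) := fun x hx => mem_centralizer_singleton_iff.2 (hS x hx)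
  rw [← Nat.not_even_iff_odd, even_iff_two_dvd]
  exact fun h => S.not_dvd_index (h.trans (index_dvd_of_le h1))

/-- **The sheet of type (E)** for `J₃`. -/
theorem sheetE [Finite K] (hc : Nat.card (centralizer ({z} : Set K)) = 1920) (M : IsModel Q (zc z) v ρ)
    (hone : ∀ x y : K, orderOf x = 2 → orderOf y = 2 → IsConj x y) {n₀ : K}
    (hin : n₀ * z * n₀⁻¹ ∈ Q.map (centralizer ({z} : Set K)).subtype) (hnz : n₀ * z * n₀⁻¹ ≠ z)
    (hgen : closure ({c : K | c * z = z * c} ∪ {n₀}) = ⊤) :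
    Cfsg.Agent.OddHalf.D8.Sheet.SheetE z (centralizer ({z} : Set K))
      (Q.map (centralizer ({z} : Set K)).subtype) := by
  have S := QMinus.sheet hc M
  have hL := large hc M
  have hI := irr hc M
  have hz2 : orderOf z = 2 := orderOf_eq_prime (by rw [pow_two, S.sq]) S.ne
  have hodd := odd_index hone hz2
  have hv1 : ∀ i, (v i : K) ≠ 1 := by
    intro i h
    apply v_ne_one M i 0
    rw [zp_zero, one_mul]; exact Subtype.ext h
  have hvz : ∀ i, (v i : K) ≠ z := by
    intro i h
    apply zv_ne_z M 0 i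
    rw [zp_zero, one_mul]; exact Subtype.ext h
  have hv2 : ∀ i, (v i : K) * v i = 1 := fun i => congrArg Subtype.val (M.v_sq i)
  have hvR : ∀ i, (v i : K) ∈ Q.map (centralizer ({z} : Set K)).subtype := fun i => ⟨_, M.v_mem i, rfl⟩
  have hne : ∃ x ∈ Q.map (centralizer ({z} : Set K)).subtype, x ≠ 1 ∧ x ≠ z := ⟨_, hvR 0, hv1 0, hvz 0⟩
  have hRmax : ∀ B : Subgroup K, B ≤ centralizer ({z} : Set K) → IsPGroup 2 B →
      (∀ x ∈ centralizer ({z} : Set K), ∀ b ∈ B, x * b * x⁻¹ ∈ B) →
      B ≤ Q.map (centralizer ({z} : Set K)).subtype := by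
    intro B hB hB2 hBn
    exact LargeO2.le_of_normal hL hI hne hB2 (fun w hw => mem_centralizer_singleton_iff.1 (hB hw))
      (fun u hu w hw => hBn u (mem_centralizer_singleton_iff.2 hu) w hw)
  have hR2 : IsPGroup 2 (Q.map (centralizer ({z} : Set K)).subtype) := by
    rw [IsPGroup.iff_card]
    exact ⟨5, by rw [S.card]; norm_num⟩
  have hidx := index_le hc M hin hnz hgen hodd
  refine ⟨S.sq, S.ne, ?_, fun x hx => mem_centralizer_singleton_iff.1 hx, S.perf, ⟨0, le_refl _⟩, ?_, ?_, S.zR, ?_, hR2,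
    ?_, hRmax, ?_, ?_, ?_, ?_, ?_⟩
  · -- Sylow
    obtain ⟨T, hT⟩ := AutLarge.exists_sylow hodd
    have hRT := AutLarge.le_sylow hL T hT
    refine ⟨T, hRT S.zR, fun x hx => mem_centralizer_singleton_iff.1 (hT hx), ?_⟩
    intro y hy h
    exact S.cen y fun r hr => (h r (hRT hr)).symm
  · -- out
    rcases hidx with h | h <;> rw [h] <;> norm_num
  · -- Schreier
    refine ⟨1, ?_⟩
    show ⁅(⊤ : Subgroup (MulAut K)), ⊤⁆ ≤ _
    rcases hidx with h | h
    · rw [index_eq_one] at h
      rw [h]; exact le_top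
    · rw [Subgroup.commutator_le]
      intro a _ b _
      have hmul : ∀ {x y : MulAut K}, x * y ∈ (MulAut.conj : K →* MulAut K).range ↔
          (x ∈ (MulAut.conj : K →* MulAut K).range ↔ y ∈ (MulAut.conj : K →* MulAut K).range) :=
        fun {x y} => mul_mem_iff_of_index_two h
      rw [commutatorElement_def, hmul, hmul, hmul, inv_mem_iff, inv_mem_iff]
      tauto
  · exact fun x hx => (mem_iff.1 hx).1
  · exact fun x hx r hr => S.norm x (mem_centralizer_singleton_iff.1 hx) r hr
  · intro B hB hBn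
    exact hI B hB fun c hc => hBn c (mem_centralizer_singleton_iff.2 hc)
  · refine ⟨v 0, hvR 0, v 1, hvR 1, fun h => ?_⟩
    have h1 : v 0 * v 1 = v 1 * v 0 := Subtype.ext h
    exact absurd ((v_comm_iff M 0 1).1 h1) (by decide)
  · intro x _ h
    rcases S.cen x h with h | h
    · rw [h]; exact one_mem _
    · rw [h]; exact S.zR
  · -- aut
    intro α _ hα h
    refine eq_conj_of_comm hL hI (QMinus.perfect M) hin hnz hgen (hvR 0) (hv1 0) (hvz 0) (hcen M) α hα ?_
    intro c hc'
    have h1 := S.norm c hc' _ (h c (mem_centralizer_singleton_iff.2 hc'))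
    have e : c * (c⁻¹ * α c) * c⁻¹ = α c * c⁻¹ := by group
    rwa [e] at h1
  · -- ytrick
    obtain ⟨g0, hg0⟩ := isConj_iff.1 (hone z (v 0 : K) hz2 (orderOf_eq_prime (by rw [pow_two, hv2]) (hv1 0)))
    obtain ⟨u, hu, huQ⟩ := exists_outer M 0 ⟨g0, hg0⟩
    have hu1 : (u : K) ≠ 1 := fun h => huQ (by
      have : u = 1 := Subtype.ext h
      rw [this]; exact one_mem _)
    have huu : (u : K) * u = 1 := congrArg Subtype.val hu
    obtain ⟨k, hk⟩ := isConj_iff.1 (hone z (u : K) hz2 (orderOf_eq_prime (by rw [pow_two, huu]) hu1))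
    have huz := vz u
    have hwz : (k⁻¹ * z * k) * z = z * (k⁻¹ * z * k) := by
      rw [← hk] at huz
      calc (k⁻¹ * z * k) * z = k⁻¹ * (z * (k * z * k⁻¹)) * k := by group
        _ = k⁻¹ * ((k * z * k⁻¹) * z) * k := by rw [huz]
        _ = z * (k⁻¹ * z * k) := by group
    have hwP : k⁻¹ * z * k ∈ centralizer ({z} : Set K) := mem_centralizer_singleton_iff.2 hwz
    refine ⟨k, by rw [hk]; exact u.2, by rw [hk, coe_mem_iff]; exact huQ, hwP, ?_⟩
    intro β hβ
    set w : centralizer ({z} : Set K) := ⟨k⁻¹ * z * k, hwP⟩ with hw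
    have hww : w * w = 1 := by
      apply Subtype.ext
      show k⁻¹ * z * k * (k⁻¹ * z * k) = 1
      calc k⁻¹ * z * k * (k⁻¹ * z * k) = k⁻¹ * (z * z) * k := by group
        _ = 1 := by rw [S.sq]; group
    have hw1 : w ≠ 1 := by
      intro h
      have h1 : k⁻¹ * z * k = 1 := congrArg Subtype.val h
      apply S.ne
      calc z = k * (k⁻¹ * z * k) * k⁻¹ := by group
        _ = 1 := by rw [h1]; group
    have hwzc : w ≠ zc z := by
      intro h
      have h1 : k⁻¹ * z * k = z := congrArg Subtype.val h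
      apply huQ
      have h2 : (u : K) = z := by
        rw [← hk]
        calc k * z * k⁻¹ = k * (k⁻¹ * z * k) * k⁻¹ := by rw [h1]
          _ = z := by group
      have h3 : u = zc z := Subtype.ext h2
      rw [h3]; exact M.z_mem
    have hβz : β (zc z) = zc z := Subtype.ext hβ
    -- `β` preserves `Q`
    have hpres : ∀ γ : MulAut (centralizer ({z} : Set K)), γ (zc z) = zc z → ∀ x ∈ Q, γ x ∈ Q := by
      intro γ _ x hx
      have h1 : (Q.map γ.toMonoidHom).map (centralizer ({z} : Set K)).subtype ≤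
          Q.map (centralizer ({z} : Set K)).subtype := by
        apply hRmax
        · exact map_subtype_le _
        · exact (((isPGroup_Q hR2).map _).map _)
        · rintro y hy _ ⟨_, ⟨q, hq, rfl⟩, rfl⟩
          have hn := normal_Q M
          refine ⟨γ ((γ⁻¹ ⟨y, hy⟩) * q * (γ⁻¹ ⟨y, hy⟩)⁻¹), ⟨_, hn.conj_mem q hq _, rfl⟩, ?_⟩
          show ((γ ((γ⁻¹ ⟨y, hy⟩) * q * (γ⁻¹ ⟨y, hy⟩)⁻¹) : centralizer ({z} : Set K)) : K) = y * (γ q : K) * y⁻¹
          rw [map_mul, map_mul, map_inv, MulAut.apply_inv_self]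
          rfl
      exact coe_mem_iff.1 (h1 ⟨γ x, ⟨x, hx, rfl⟩, rfl⟩)
    have hpres' : ∀ x, β x ∈ Q → x ∈ Q := by
      intro x hx
      have h1 := hpres β⁻¹ (by rw [MulAut.inv_apply, MulEquiv.symm_apply_eq, hβz]) _ hx
      rwa [MulAut.inv_apply_self] at h1
    have hβww : β w * β w = 1 := by rw [← map_mul, hww, map_one]
    obtain ⟨p, hp⟩ : ∃ p, β w = p * w * p⁻¹ := by
      by_cases hwQ : w ∈ Q
      · obtain ⟨a, i, h1⟩ := (invol_Q M hwQ hww hw1).resolve_left hwzc
        obtain ⟨b, j, h2⟩ := (invol_Q M (hpres β hβz w hwQ) hβww (fun h => hw1 (by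
          rw [← map_one β] at h
          exact β.injective h))).resolve_left (fun h => hwzc (by
          rw [← hβz] at h
          exact β.injective h))
        obtain ⟨p, hp⟩ := trans_v M a b i j
        exact ⟨p, by rw [h1, hp, ← h2, h1]⟩
      · obtain ⟨p, hp⟩ := outer_conj M hww hwQ hβww (fun h => hwQ (hpres' w h))
        exact ⟨p, hp.symm⟩
    refine ⟨p, vz p, ?_⟩
    exact congrArg Subtype.val hp
where
  isPGroup_Q {K : Type _} [Group K] {z : K} {Q : Subgroup (centralizer ({z} : Set K))}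
      (h : IsPGroup 2 (Q.map (centralizer ({z} : Set K)).subtype)) : IsPGroup 2 Q := by
    exact h.of_equiv (Q.equivMapOfInjective _ (subtype_injective _)).symm

end Cfsg.Agent.KFacts.J3Sheet
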