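import Cfsg.Agent.KFacts.J3Elts

/-!
# The order of the centraliser of `z` in `3·J₃` (helper206)

Double counting: `z` fixes 255 nonzero isotropic vectors, the stabiliser of such a vector `p` has order 1152 and contains at least
26 conjugates of `z`; hence `26 |C(z)| ≤ 255 * 1152`.
-/

set_option autoImplicit false

namespace Cfsg.Agent.KFacts.J3W

open Cfsg.Spor Cfsg.Agent.J3.Core Cfsg.Agent.J3.Tab Cfsg.Agent.J3.Mono Cfsg.Agent.J3.Elts
open Cfsg.Agent.Lib.BitSet Cfsg.Agent.J3.Order Cfsg.Agent.J2Type.Model Matrix Cfsg.Agent.J3.Orbits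

/-- the pairs of bits exchanged by `z` -/
def prs : List (ℕ × ℕ) := [(2, 4), (3, 5), (6, 12), (7, 13), (8, 16), (9, 17), (10, 14), (11, 15)]

theorem prs_lt : ∀ p ∈ prs, p.1 < 18 ∧ p.2 < 18 := by decide

/-- mask of the vectors not fixed -/
def movMask : ℕ := prs.foldl (fun m p => m ||| (proj 18 p.1 ^^^ proj 18 p.2)) 0

theorem movMask_testBit {n : ℕ} (hn : n < 2 ^ 18) (h : ∀ p ∈ prs, n.testBit p.1 = n.testBit p.2) :
    movMask.testBit n = false := by
  have key : ∀ (L : List (ℕ × ℕ)) (m : ℕ), (∀ p ∈ L, p.1 < 18 ∧ p.2 < 18) →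
      (∀ p ∈ L, n.testBit p.1 = n.testBit p.2) → m.testBit n = false →
      (L.foldl (fun m p => m ||| (proj 18 p.1 ^^^ proj 18 p.2)) m).testBit n = false := by
    intro L
    induction L with
    | nil => intro m _ _ h; exact h
    | cons p L ih =>
      intro m h1 h2 h3
      rw [List.foldl_cons]
      apply ih _ (fun q hq => h1 q (List.mem_cons_of_mem _ hq)) (fun q hq => h2 q (List.mem_cons_of_mem _ hq))
      have h4 := h1 p List.mem_cons_self
      rw [Nat.testBit_or, Nat.testBit_xor, proj_testBit _ _ _ h4.1, proj_testBit _ _ _ h4.2,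
        h2 p List.mem_cons_self, h3, Bool.xor_self, Bool.or_false]
  exact key prs 0 prs_lt h (Nat.zero_testBit n)

/-- mask of the fixed nonzero isotropic vectors -/
def fixMask : ℕ := isoMask ^^^ (isoMask &&& movMask)

theorem chk_fix : pc 18 fixMask = 255 := by decide +kernel

theorem chk_iso : pc 18 isoMask = 130815 := by decide +kernel

theorem chk_bits : ∀ p ∈ prs, ∀ i < 18, (appT (bT 24) (2 ^ i)).testBit p.1 = (2 ^ i).testBit p.2 := by
  decide +kernel

theorem bits (n : ℕ) (hn : n < 2 ^ 18) : ∀ p ∈ prs, (appT (bT 24) n).testBit p.1 = n.testBit p.2 := by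
  intro p hp
  refine xor_induction (k := 18) (P := fun n => (appT (bT 24) n).testBit p.1 = n.testBit p.2) ?_ ?_ ?_ n hn
  · show (appT (bT 24) 0).testBit p.1 = (0 : ℕ).testBit p.2
    rw [appT_zero, Nat.zero_testBit, Nat.zero_testBit]
  · intro i hi
    exact chk_bits p hp i hi
  · intro a _ b _ ha hb
    show (appT (bT 24) (a ^^^ b)).testBit p.1 = (a ^^^ b).testBit p.2
    rw [appT_xor, Nat.testBit_xor, Nat.testBit_xor, ha, hb]

section

variable {F : Type*} [Field F] {ω : F} {G : Gens F ω}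

/-- the stabiliser of the vector 4160 -/
def stabP (ω : F) : Subgroup (threeJ3 F ω) :=
  @MulAction.stabilizer (threeJ3 F ω) (F9 → F) _ (vecAction ω) (dec ω 4160)

theorem mem_stabP {g : threeJ3 F ω} : g ∈ stabP ω ↔ mat ω g *ᵥ dec ω 4160 = dec ω 4160 :=
  @MulAction.mem_stabilizer_iff (threeJ3 F ω) (F9 → F) _ (vecAction ω) (dec ω 4160) g

theorem card_stabP [Fintype F] (hF : Fintype.card F = 4) (H : Good ω) :
    Nat.card (stabP ω) = 1152 := by
  classical
  have h0 := exists_orbit1 hF H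
  have h1 : Nat.card (@MulAction.orbit (threeJ3 F ω) (F9 → F) (vecAction ω).toSMul (dec ω 4160)) *
      Nat.card (stabP ω) = Nat.card (threeJ3 F ω) := by
    rw [← Nat.card_prod]
    exact Nat.card_congr
      (@MulAction.orbitProdStabilizerEquivGroup (threeJ3 F ω) (F9 → F) _ (vecAction ω) (dec ω 4160))
  have hS : ∀ n < 2 ^ 18, (isoMask.testBit n = true ↔
      ∃ g ∈ threeJ3 F ω, dec ω n = (g : Matrix F9 F9 F) *ᵥ dec ω 4160) := by
    intro n hn
    rw [← h0 n hn, isoMask_testBit n hn]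
    simp
  have h2 : @MulAction.orbit (threeJ3 F ω) (F9 → F) (vecAction ω).toSMul (dec ω 4160) =
      dec ω '' (((Finset.range (2 ^ 18)).filter (fun n => isoMask.testBit n = true) : Finset ℕ) :
        Set ℕ) := by
    ext v
    constructor
    · rintro ⟨g, rfl⟩
      obtain ⟨n, hn, e⟩ := exists_dec hF H (mat ω g *ᵥ dec ω 4160)
      refine ⟨n, ?_, e⟩
      rw [Finset.mem_coe, Finset.mem_filter, Finset.mem_range]
      exact ⟨hn, (hS n hn).mpr ⟨g, g.2, e⟩⟩
    · rintro ⟨n, hn, rfl⟩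
      rw [Finset.mem_coe, Finset.mem_filter, Finset.mem_range] at hn
      obtain ⟨g, hg, e⟩ := (hS n hn.1).mp hn.2
      exact ⟨⟨g, hg⟩, e.symm⟩
  have h3 : Nat.card (@MulAction.orbit (threeJ3 F ω) (F9 → F) (vecAction ω).toSMul (dec ω 4160)) =
      130815 := by
    rw [h2, Nat.card_coe_set_eq, Set.InjOn.ncard_image, Set.ncard_coe_finset,
      ← pc_eq_card, chk_iso]
    intro a ha b hb hab
    rw [Finset.mem_coe, Finset.mem_filter, Finset.mem_range] at ha hb
    exact dec_injOn H ha.1 hb.1 hab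
  rw [h3, card_threeJ3 hF H] at h1
  omega

/-- the elements moving `p` to a vector fixed by `z` -/
def setT (G : Gens F ω) : Set (threeJ3 F ω) :=
  {g | mat ω (zz G) *ᵥ (mat ω g *ᵥ dec ω 4160) = mat ω g *ᵥ dec ω 4160}

theorem exists_code [Fintype F] (hF : Fintype.card F = 4) (H : Good ω) (g : threeJ3 F ω) (hg : g ∈ setT G) :
    ∃ n : ((Finset.range (2 ^ 18)).filter (fun n => fixMask.testBit n = true) : Finset ℕ),
      dec ω n = mat ω g *ᵥ dec ω 4160 := by
  obtain ⟨n, hn, e⟩ := exists_dec hF H (mat ω g *ᵥ dec ω 4160)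
  have hg' : mat ω (zz G) *ᵥ (mat ω g *ᵥ dec ω 4160) = mat ω g *ᵥ dec ω 4160 := hg
  rw [← e, (rep_z H).2 n hn] at hg'
  have h1 : appT (bT 24) n = n := dec_injOn H (appT_lt (rep_z (G := G) H).1 n) hn hg'
  have h2 : movMask.testBit n = false := by
    apply movMask_testBit hn
    intro p hp
    have := bits n hn p hp
    rwa [h1] at this
  have h3 : isoMask.testBit n = true := by
    rw [isoMask_testBit n hn]
    have := (exists_orbit1 hF H n hn).2 ⟨g, g.2, e⟩
    simp [this.1, this.2]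
  refine ⟨⟨n, ?_⟩, e⟩
  rw [Finset.mem_filter, Finset.mem_range]
  refine ⟨hn, ?_⟩
  unfold fixMask
  rw [Nat.testBit_xor, Nat.testBit_and, h2, h3]
  rfl

theorem card_setT [Fintype F] (hF : Fintype.card F = 4) (H : Good ω) (G : Gens F ω) :
    Nat.card (setT G) ≤ 255 * 1152 := by
  classical
  choose f hf using fun g : setT G => exists_code hF H g.1 g.2
  have hex : ∀ n : ((Finset.range (2 ^ 18)).filter (fun n => fixMask.testBit n = true) : Finset ℕ),
      ∃ g : threeJ3 F ω, ∀ x : setT G, f x = n → g⁻¹ * x.1 ∈ stabP ω := by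
    intro n
    by_cases h : ∃ x : setT G, f x = n
    · obtain ⟨x, hx⟩ := h
      refine ⟨x.1, fun y hy => ?_⟩
      rw [mem_stabP, map_mul, ← mulVec_mulVec]
      have h1 : mat ω y.1 *ᵥ dec ω 4160 = mat ω x.1 *ᵥ dec ω 4160 := by
        rw [← hf y, ← hf x, hx, hy]
      rw [h1, mulVec_mulVec, ← map_mul, inv_mul_cancel, map_one, one_mulVec]
    · exact ⟨1, fun x hx => absurd ⟨x, hx⟩ h⟩
  choose r hr using hex
  have h1 : Nat.card (setT G) ≤ Nat.card
      (((Finset.range (2 ^ 18)).filter (fun n => fixMask.testBit n = true) : Finset ℕ) × stabP ω) := by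
    have : Finite (threeJ3 F ω) := by
      apply Nat.finite_of_card_ne_zero
      rw [card_threeJ3 hF H]; norm_num
    apply Nat.card_le_card_of_injective (fun x : setT G => (f x, (⟨_, hr (f x) x rfl⟩ : stabP ω)))
    intro x y hxy
    have e1 : f x = f y := congrArg Prod.fst hxy
    have e2 : (r (f x))⁻¹ * x.1 = (r (f y))⁻¹ * y.1 := congrArg (fun q => (q.2 : threeJ3 F ω)) hxy
    rw [e1] at e2
    exact Subtype.ext (mul_left_cancel e2)
  have h2 : Nat.card ((Finset.range (2 ^ 18)).filter (fun n => fixMask.testBit n = true) : Finset ℕ) = 255 := by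
    rw [Nat.card_eq_fintype_card, Fintype.card_coe, ← pc_eq_card, chk_fix]
  rw [Nat.card_prod, h2, card_stabP hF H] at h1
  exact h1

theorem card_cent_le [Fintype F] (hF : Fintype.card F = 4) (H : Good ω) (G : Gens F ω) :
    26 * Nat.card (Subgroup.centralizer ({zz G} : Set (threeJ3 F ω))) ≤ 255 * 1152 := by
  refine le_trans ?_ (card_setT hF H G)
  choose h hh using fun k : Fin 26 => pconj (G := G) H k.2
  have hp : ∀ k : Fin 26, h k * zz G * (h k)⁻¹ = pp G k := fun k => by rw [hh]; group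
  have hmem : ∀ (k : Fin 26) (c : Subgroup.centralizer ({zz G} : Set (threeJ3 F ω))),
      (c : threeJ3 F ω) * (h k)⁻¹ ∈ setT G := by
    intro k c
    have hc := Subgroup.mem_centralizer_singleton_iff.1 c.2
    have e : zz G * (c * (h k)⁻¹) = (c * (h k)⁻¹) * pp G k := by
      rw [← hp]
      calc zz G * (c * (h k)⁻¹) = (zz G * c) * (h k)⁻¹ := by group
        _ = (c * zz G) * (h k)⁻¹ := by rw [hc]
        _ = _ := by group
    show mat ω (zz G) *ᵥ (mat ω _ *ᵥ dec ω 4160) = _
    rw [mulVec_mulVec, ← map_mul, e, map_mul, ← mulVec_mulVec, pfix H k.2]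
  have hfin : Finite (threeJ3 F ω) := by
    apply Nat.finite_of_card_ne_zero
    rw [card_threeJ3 hF H]; norm_num
  have h26 : Nat.card (Fin 26) = 26 := by rw [Nat.card_eq_fintype_card, Fintype.card_fin]
  rw [← h26, ← Nat.card_prod]
  apply Nat.card_le_card_of_injective
    (fun q : Fin 26 × Subgroup.centralizer ({zz G} : Set (threeJ3 F ω)) =>
      (⟨(q.2 : threeJ3 F ω) * (h q.1)⁻¹, hmem q.1 q.2⟩ : setT G))
  rintro ⟨k, c⟩ ⟨l, d⟩ hkl
  have e : (c : threeJ3 F ω) * (h k)⁻¹ = d * (h l)⁻¹ := congrArg Subtype.val hkl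
  have hc := Subgroup.mem_centralizer_singleton_iff.1 c.2
  have hd := Subgroup.mem_centralizer_singleton_iff.1 d.2
  have h1 : ∀ (k : Fin 26) (c : Subgroup.centralizer ({zz G} : Set (threeJ3 F ω))),
      ((c : threeJ3 F ω) * (h k)⁻¹)⁻¹ * zz G * (c * (h k)⁻¹) = pp G k := by
    intro k c
    have hc := Subgroup.mem_centralizer_singleton_iff.1 c.2
    rw [← hp]
    calc ((c : threeJ3 F ω) * (h k)⁻¹)⁻¹ * zz G * (c * (h k)⁻¹) = h k * ((c : threeJ3 F ω)⁻¹ * (zz G * c)) * (h k)⁻¹ := by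
          group
      _ = h k * ((c : threeJ3 F ω)⁻¹ * (c * zz G)) * (h k)⁻¹ := by rw [hc]
      _ = _ := by group
  have h2 : pp G k = pp G l := by rw [← h1 k c, ← h1 l d, e]
  have h3 := p_inj H h2
  subst h3
  exact Prod.ext rfl (Subtype.ext (mul_right_cancel e))

end

end Cfsg.Agent.KFacts.J3W
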