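import Cfsg.Agent.J3Type.OneClass

/-!
# A certificate for centralisers `2^{1+4}_-.A₅` (helper206)

`Pent z v`: five involutions `v i` with `v i v j = z v j v i` and product 1, `z` central of order 2. If every even permutation of
the `v i` modulo `z` is induced by an element of `C` and `|C| < 3840`, then `C` is a model (`J2Type.Model.IsModel`).
-/

set_option autoImplicit false

namespace Cfsg.Agent.KFacts.ModelCert

open Cfsg.Agent.J2Type.Model Cfsg.Agent.J3Type.OneClass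

/-- five anticommuting involutions with product 1 -/
structure Pent {C : Type*} [Group C] (z : C) (v : Fin 5 → C) : Prop where
  z_ne : z ≠ 1
  z_sq : z * z = 1
  z_comm : ∀ c, c * z = z * c
  sq : ∀ i, v i * v i = 1
  anti : ∀ i j, i ≠ j → v i * v j = z * (v j * v i)
  prod : v 0 * v 1 * v 2 * v 3 * v 4 = 1

/-- `c` acts on the `v i` as `g` -/
def Rel {C : Type*} [Group C] (z : C) (v : Fin 5 → C) (c : C) (g : SP) : Prop :=
  ∀ i, c * v i * c⁻¹ = zp z (g.s i) * v (g.σ i)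

section

variable {C : Type*} [Group C] {z : C} {v : Fin 5 → C}

theorem Pent.inj (h : Pent z v) {a b : ZMod 2} {i j : Fin 5}
    (e : zp z a * v i = zp z b * v j) : a = b ∧ i = j := by
  have e2 : v i = zp z (a + b) * v j := by
    calc v i = (zp z a * zp z a) * v i := by rw [zp_self z h.z_sq, one_mul]
      _ = zp z a * (zp z a * v i) := by group
      _ = zp z a * (zp z b * v j) := by rw [e]
      _ = _ := by rw [zp_add z h.z_sq, mul_assoc]
  have hij : i = j := by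
    by_contra hij
    have h1 := h.anti i j hij
    rw [e2] at h1
    have h2 : v j * (zp z (a + b) * v j) = zp z (a + b) * (v j * v j) := by
      rw [← mul_assoc, zp_comm z h.z_comm, mul_assoc]
    rw [h2, mul_assoc, h.sq, mul_one] at h1
    exact h.z_ne (mul_eq_right.1 h1.symm)
  refine ⟨?_, hij⟩
  subst hij
  have e3 := mul_right_cancel e
  rcases zmod2_cases a with rfl | rfl <;> rcases zmod2_cases b with rfl | rfl
  · rfl
  · rw [zp_zero, zp_one] at e3; exact absurd e3.symm h.z_ne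
  · rw [zp_zero, zp_one] at e3; exact absurd e3 h.z_ne
  · rfl

theorem Pent.rel_unique (h : Pent z v) {c : C} {g g' : SP} (h1 : Rel z v c g) (h2 : Rel z v c g') :
    g = g' := by
  have h3 : ∀ i, g.s i = g'.s i ∧ g.σ i = g'.σ i := fun i => h.inj ((h1 i).symm.trans (h2 i))
  apply SP.ext
  · apply Equiv.ext
    intro i
    exact (h3 i).2
  · funext i
    exact (h3 i).1

theorem Pent.rel_mul (h : Pent z v) {c d : C} {g k : SP} (h1 : Rel z v c g) (h2 : Rel z v d k) :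
    Rel z v (c * d) (g * k) := by
  intro i
  calc c * d * v i * (c * d)⁻¹ = c * (d * v i * d⁻¹) * c⁻¹ := by group
    _ = c * (zp z (k.s i) * v (k.σ i)) * c⁻¹ := by rw [h2 i]
    _ = (c * zp z (k.s i)) * v (k.σ i) * c⁻¹ := by group
    _ = (zp z (k.s i) * c) * v (k.σ i) * c⁻¹ := by rw [zp_comm z h.z_comm]
    _ = zp z (k.s i) * (c * v (k.σ i) * c⁻¹) := by group
    _ = zp z (k.s i) * (zp z (g.s (k.σ i)) * v (g.σ (k.σ i))) := by rw [h1]
    _ = _ := by rw [mul_s, mul_σ, zp_add z h.z_sq, mul_assoc]; rfl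

theorem rel_one : Rel z v 1 1 := by
  intro i
  rw [one_s, one_σ, zp_zero]
  group
  rfl

theorem Pent.rel_inv (h : Pent z v) {c : C} {g : SP} (h1 : Rel z v c g) :
    Rel z v c⁻¹ g⁻¹ := by
  intro i
  have h2 := h1 (g.σ⁻¹ i)
  have h3 : g.σ (g.σ⁻¹ i) = i := g.σ.apply_symm_apply i
  rw [h3] at h2
  rw [inv_s, inv_σ]
  have h4 : v i = zp z (g.s (g.σ⁻¹ i)) * (c * v (g.σ⁻¹ i) * c⁻¹) := by
    rw [h2, ← mul_assoc, zp_self z h.z_sq, one_mul]
  rw [h4]
  calc c⁻¹ * (zp z (g.s (g.σ⁻¹ i)) * (c * v (g.σ⁻¹ i) * c⁻¹)) * c⁻¹⁻¹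
      = (c⁻¹ * zp z (g.s (g.σ⁻¹ i))) * c * v (g.σ⁻¹ i) := by group
    _ = (zp z (g.s (g.σ⁻¹ i)) * c⁻¹) * c * v (g.σ⁻¹ i) := by rw [zp_comm z h.z_comm]
    _ = _ := by group

theorem Pent.rel_v (h : Pent z v) (j : Fin 5) : Rel z v (v j) ⟨1, fun i => if i = j then 0 else 1⟩ := by
  intro i
  show v j * v i * (v j)⁻¹ = zp z (if i = j then 0 else 1) * v i
  by_cases hij : i = j
  · rw [if_pos hij, zp_zero, hij]; group
  · rw [if_neg hij, zp_one, h.anti j i (fun e => hij e.symm)]; group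

theorem Pent.rel_z (h : Pent z v) : Rel z v z 1 := by
  intro i
  rw [one_s, one_σ, zp_zero, one_mul, Equiv.Perm.one_apply, ← h.z_comm]
  group

theorem Pent.rel_zp (h : Pent z v) (a : ZMod 2) : Rel z v (zp z a) 1 := by
  rcases zmod2_cases a with rfl | rfl
  · rw [zp_zero]; exact rel_one
  · rw [zp_one]; exact h.rel_z

theorem Pent.parity (h : Pent z v) {c : C} {g : SP} (hg : Rel z v c g) :
    ∑ i, g.s i = if Equiv.Perm.sign g.σ = 1 then 0 else 1 := by
  have e1 : c * (v 0 * v 1 * v 2 * v 3 * v 4) * c⁻¹ = 1 := by rw [h.prod]; group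
  have e2 : c * (v 0 * v 1 * v 2 * v 3 * v 4) * c⁻¹ =
      (c * v 0 * c⁻¹) * (c * v 1 * c⁻¹) * (c * v 2 * c⁻¹) * (c * v 3 * c⁻¹) * (c * v 4 * c⁻¹) := by
    group
  have e3 : ∀ (a0 a1 a2 a3 a4 : ZMod 2) (b0 b1 b2 b3 b4 : C),
      (zp z a0 * b0) * (zp z a1 * b1) * (zp z a2 * b2) * (zp z a3 * b3) * (zp z a4 * b4) =
      zp z (a0 + a1 + a2 + a3 + a4) * (b0 * b1 * b2 * b3 * b4) := by
    intro a0 a1 a2 a3 a4 b0 b1 b2 b3 b4
    have key : ∀ (a : ZMod 2) (b : C) (a' : ZMod 2) (b' : C), (zp z a * b) * (zp z a' * b') =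
        zp z (a + a') * (b * b') := by
      intro a b a' b'
      calc (zp z a * b) * (zp z a' * b') = zp z a * (b * zp z a') * b' := by group
        _ = zp z a * (zp z a' * b) * b' := by rw [zp_comm z h.z_comm]
        _ = (zp z a * zp z a') * (b * b') := by group
        _ = _ := by rw [zp_add z h.z_sq]
    rw [key, key, key, key]
  rw [e2, hg, hg, hg, hg, hg, e3, prod_perm h.z_sq h.z_comm v h.anti h.prod,
    ← zp_add z h.z_sq] at e1
  rw [Fin.sum_univ_five]
  rcases zmod2_cases (g.s 0 + g.s 1 + g.s 2 + g.s 3 + g.s 4 +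
      if Equiv.Perm.sign g.σ = 1 then 0 else 1) with h1 | h1
  · have h2 := congrArg (fun t => t + (if Equiv.Perm.sign g.σ = 1 then (0 : ZMod 2) else 1)) h1
    simp only [add_assoc, CharTwo.add_self_eq_zero, add_zero, zero_add] at h2 ⊢
    exact h2
  · rw [h1, zp_one] at e1
    exact absurd e1 h.z_ne

/-- the signs with even sum come from products of the `v i` -/
theorem Pent.exists_sign (h : Pent z v) (s : Fin 5 → ZMod 2) (hs : ∑ i, s i = 0) :
    ((∃ a, Rel z v (zp z a) ⟨1, s⟩) ∨ (∃ j, Rel z v (v j) ⟨1, s⟩)) ∨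
      (∃ j k, j < k ∧ Rel z v (v j * v k) ⟨1, s⟩) := by
  have hcases : (s = 0) ∨ (∃ j, s = fun i => if i = j then 0 else 1) ∨
      ∃ j k : Fin 5, j < k ∧ s = fun i => (if i = k then 0 else 1) + (if i = j then 0 else 1) := by
    revert s; decide
  rcases hcases with rfl | ⟨j, rfl⟩ | ⟨j, k, hjk, rfl⟩
  · exact Or.inl (Or.inl ⟨0, h.rel_zp 0⟩)
  · exact Or.inl (Or.inr ⟨j, h.rel_v j⟩)
  · right
    refine ⟨j, k, hjk, ?_⟩
    have h1 := h.rel_mul (h.rel_v j) (h.rel_v k)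
    have h2 : (⟨1, fun i => if i = j then 0 else 1⟩ : SP) * ⟨1, fun i => if i = k then 0 else 1⟩ =
        ⟨1, fun i => (if i = k then 0 else 1) + (if i = j then 0 else 1)⟩ := by
      apply SP.ext
      · rw [mul_σ, mul_one]
      · funext i
        rw [mul_s]
        rfl
    rwa [h2] at h1

/-- the subgroup of the elements permuting the `v i` modulo `z` -/
def Pent.N (h : Pent z v) : Subgroup C where
  carrier := {c | ∃ g, Rel z v c g}
  one_mem' := ⟨1, rel_one⟩
  mul_mem' := by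
    rintro a b ⟨g, hg⟩ ⟨k, hk⟩
    exact ⟨g * k, h.rel_mul hg hk⟩
  inv_mem' := by
    rintro a ⟨g, hg⟩
    exact ⟨g⁻¹, h.rel_inv hg⟩

theorem Pent.mem_N (h : Pent z v) {c : C} : c ∈ h.N ↔ ∃ g, Rel z v c g := Iff.rfl

/-- the homomorphism to `SP` -/
theorem Pent.exists_rho (h : Pent z v) (hall : ∀ c, ∃ g, Rel z v c g) :
    ∃ ρ : C →* SP, ∀ c, Rel z v c (ρ c) := by
  choose f hf using hall
  refine ⟨MonoidHom.mk' f fun c d => ?_, hf⟩
  exact h.rel_unique (hf _) (h.rel_mul (hf c) (hf d))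

end

/-- even pairs -/
abbrev E0 : Type := {σ : Equiv.Perm (Fin 5) // Equiv.Perm.sign σ = 1} × {s : Fin 5 → ZMod 2 // ∑ i, s i = 0}

theorem card_E0 : Nat.card E0 = 960 := by
  rw [Nat.card_prod]
  have h1 : Nat.card {σ : Equiv.Perm (Fin 5) // Equiv.Perm.sign σ = 1} = 60 := by
    rw [Nat.card_eq_fintype_card]; decide +kernel
  have h2 : Nat.card {s : Fin 5 → ZMod 2 // ∑ i, s i = 0} = 16 := by
    rw [Nat.card_eq_fintype_card]; decide +kernel
  rw [h1, h2]

section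

variable {C : Type*} [Group C] [Finite C] {z : C} {v : Fin 5 → C}

instance : Finite SP := by
  apply Finite.of_injective (fun g : SP => (g.σ, g.s))
  intro a b hab
  exact SP.ext (congrArg Prod.fst hab) (congrArg Prod.snd hab)

/-- all even pairs are in the image -/
theorem Pent.even_mem (h : Pent z v) (hA : ∀ σ : Equiv.Perm (Fin 5), Equiv.Perm.sign σ = 1 →
    ∃ c s, Rel z v c ⟨σ, s⟩) {ρ : C →* SP} (hρ : ∀ c, Rel z v c (ρ c)) {g : SP}
    (h1 : Equiv.Perm.sign g.σ = 1) (h2 : ∑ i, g.s i = 0) : ∃ c, ρ c = g := by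
  obtain ⟨c, s, hc⟩ := hA g.σ h1
  have hs : ∑ i, s i = 0 := by
    have := h.parity hc
    rw [if_pos h1] at this
    exact this
  have hs0 : ∑ j, (g.s (g.σ⁻¹ j) + s (g.σ⁻¹ j)) = 0 := by
    rw [Finset.sum_add_distrib, Equiv.sum_comp (g.σ⁻¹) g.s, Equiv.sum_comp (g.σ⁻¹) s, h2, hs,
      add_zero]
  have hex : ∃ q, Rel z v q ⟨1, fun j => g.s (g.σ⁻¹ j) + s (g.σ⁻¹ j)⟩ := by
    rcases h.exists_sign _ hs0 with (⟨a, ha⟩ | ⟨j, hj⟩) | ⟨j, k, -, hjk⟩
    · exact ⟨_, ha⟩
    · exact ⟨_, hj⟩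
    · exact ⟨_, hjk⟩
  obtain ⟨q, hq⟩ := hex
  refine ⟨q * c, ?_⟩
  apply h.rel_unique (hρ _)
  have h3 := h.rel_mul hq hc
  have h4 : (⟨1, fun j => g.s (g.σ⁻¹ j) + s (g.σ⁻¹ j)⟩ : SP) * ⟨g.σ, s⟩ = g := by
    apply SP.ext
    · rw [mul_σ, one_mul]
    · funext i
      rw [mul_s]
      show s i + (g.s (g.σ⁻¹ (g.σ i)) + s (g.σ⁻¹ (g.σ i))) = g.s i
      rw [show g.σ⁻¹ (g.σ i) = i from g.σ.symm_apply_apply i, add_comm, add_assoc,
        CharTwo.add_self_eq_zero, add_zero]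
  rwa [h4] at h3

theorem card_range_ge {ρ : C →* SP} (h : ∀ g : SP, Equiv.Perm.sign g.σ = 1 → ∑ i, g.s i = 0 →
    ∃ c, ρ c = g) : 960 ≤ Nat.card ρ.range := by
  rw [← card_E0]
  apply Nat.card_le_card_of_injective (fun p : E0 => (⟨⟨p.1.1, p.2.1⟩, h _ p.1.2 p.2.2⟩ : ρ.range))
  rintro ⟨p, q⟩ ⟨p', q'⟩ hab
  have h1 : (⟨p.1, q.1⟩ : SP) = ⟨p'.1, q'.1⟩ := congrArg Subtype.val hab
  rw [SP.mk.injEq] at h1
  exact Prod.ext (Subtype.ext h1.1) (Subtype.ext h1.2)

theorem card_eq_mul (ρ : C →* SP) : Nat.card C = Nat.card ρ.ker * Nat.card ρ.range := by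
  rw [← Subgroup.index_ker, Subgroup.card_mul_index]

theorem Pent.two_le_ker (h : Pent z v) {ρ : C →* SP} (hρ : ∀ c, Rel z v c (ρ c)) :
    2 ≤ Nat.card ρ.ker := by
  have h1 : z ∈ ρ.ker := h.rel_unique (hρ z) h.rel_z
  have : Nontrivial ρ.ker := ⟨⟨⟨z, h1⟩, 1, fun e => h.z_ne (congrArg Subtype.val e)⟩⟩
  exact Finite.one_lt_card

theorem Pent.two_dvd_ker (h : Pent z v) {ρ : C →* SP} (hρ : ∀ c, Rel z v c (ρ c)) :
    2 ∣ Nat.card ρ.ker := by
  have h1 : z ∈ ρ.ker := h.rel_unique (hρ z) h.rel_z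
  have h2 : orderOf (⟨z, h1⟩ : ρ.ker) = 2 := by
    apply orderOf_eq_prime
    · rw [pow_two]; exact Subtype.ext h.z_sq
    · intro e; exact h.z_ne (congrArg Subtype.val e)
  rw [← h2]
  exact orderOf_dvd_natCard _

/-- every element permutes the `v i` -/
theorem Pent.all (h : Pent z v) (hA : ∀ σ : Equiv.Perm (Fin 5), Equiv.Perm.sign σ = 1 →
    ∃ c s, Rel z v c ⟨σ, s⟩) (hlt : Nat.card C < 3840) : ∀ c, ∃ g, Rel z v c g := by
  let zN : h.N := ⟨z, 1, h.rel_z⟩
  let vN : Fin 5 → h.N := fun i => ⟨v i, _, h.rel_v i⟩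
  have hN : Pent zN vN := by
    refine ⟨fun e => h.z_ne (congrArg Subtype.val e), Subtype.ext h.z_sq, fun c => Subtype.ext (h.z_comm c),
      fun i => Subtype.ext (h.sq i), fun i j hij => Subtype.ext (h.anti i j hij), Subtype.ext h.prod⟩
  have hzp : ∀ a, ((zp zN a : h.N) : C) = zp z a := by
    intro a
    rcases zmod2_cases a with rfl | rfl
    · rw [zp_zero, zp_zero]; rfl
    · rw [zp_one, zp_one]
  have hrel : ∀ (c : h.N) (g : SP), Rel zN vN c g ↔ Rel z v (c : C) g := by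
    intro c g
    constructor
    · intro h1 i
      have := congrArg Subtype.val (h1 i)
      rw [← hzp]
      exact this
    · intro h1 i
      apply Subtype.ext
      have := h1 i
      rw [← hzp] at this
      exact this
  obtain ⟨ρ, hρ⟩ := hN.exists_rho (fun c => by
    obtain ⟨g, hg⟩ := c.2
    exact ⟨g, (hrel c g).2 hg⟩)
  have h1 : 960 ≤ Nat.card ρ.range := by
    apply card_range_ge
    intro g hg1 hg2
    apply hN.even_mem _ hρ hg1 hg2
    intro σ hσ
    obtain ⟨c, s, hc⟩ := hA σ hσ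
    exact ⟨⟨c, _, hc⟩, s, (hrel _ _).2 hc⟩
  have h2 := hN.two_le_ker hρ
  have h3 := card_eq_mul ρ
  have h4 : 1920 ≤ Nat.card h.N := by
    rw [h3]
    calc 1920 = 2 * 960 := by norm_num
      _ ≤ _ := Nat.mul_le_mul h2 h1
  have h5 := Subgroup.card_mul_index h.N
  have h6 : h.N.index = 1 := by
    have h7 : h.N.index ≠ 0 := Subgroup.index_ne_zero_of_finite
    by_contra h8
    have h9 : 2 ≤ h.N.index := by omega
    have : 1920 * 2 ≤ Nat.card h.N * h.N.index := Nat.mul_le_mul h4 h9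
    omega
  have h7 := Subgroup.index_eq_one.1 h6
  intro c
  have : c ∈ h.N := by rw [h7]; trivial
  exact this

/-- **the certificate** -/
theorem Pent.model (h : Pent z v) (hA : ∀ σ : Equiv.Perm (Fin 5), Equiv.Perm.sign σ = 1 →
    ∃ c s, Rel z v c ⟨σ, s⟩) (hlt : Nat.card C < 3840) :
    Nat.card C = 1920 ∧ ∃ (Q : Subgroup C) (ρ : C →* SP), IsModel Q z v ρ := by
  obtain ⟨ρ, hρ⟩ := h.exists_rho (h.all hA hlt)
  have hev : ∀ g : SP, Equiv.Perm.sign g.σ = 1 → ∑ i, g.s i = 0 → ∃ c, ρ c = g := fun g h1 h2 =>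
    h.even_mem hA hρ h1 h2
  have h1 := card_range_ge hev
  have h2 := h.two_dvd_ker hρ
  have h3 := card_eq_mul ρ
  have h4 : Nat.card ρ.ker = 2 := by
    have h5 : Nat.card ρ.ker < 4 := by
      by_contra h5
      have : 4 * 960 ≤ Nat.card ρ.ker * Nat.card ρ.range := Nat.mul_le_mul (by omega) h1
      omega
    have h6 := h.two_le_ker hρ
    omega
  -- the sign is even
  have hsgn : ∀ c, Equiv.Perm.sign (ρ c).σ = 1 := by
    by_contra hcon
    push Not at hcon
    obtain ⟨c, hc⟩ := hcon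
    let sg : SP →* ℤˣ := ⟨⟨fun g => Equiv.Perm.sign g.σ, by rw [one_σ, map_one]⟩, fun a b => by
      show Equiv.Perm.sign (a * b).σ = _
      rw [mul_σ, map_mul]⟩
    have h5 : 2 * 960 ≤ Nat.card ρ.range := by
      let f : E0 × Fin 2 → ρ.range := fun p =>
        if p.2 = 0 then ⟨⟨p.1.1.1, p.1.2.1⟩, hev _ p.1.1.2 p.1.2.2⟩
        else ⟨⟨p.1.1.1, p.1.2.1⟩, hev _ p.1.1.2 p.1.2.2⟩ * ⟨ρ c, c, rfl⟩
      have hf : Function.Injective f := by
        have hpos : ∀ p : E0 × Fin 2, p.2 = 0 → (f p : SP) = ⟨p.1.1.1, p.1.2.1⟩ := by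
          intro p hp
          show ((if p.2 = 0 then _ else _ : ρ.range) : SP) = _
          rw [if_pos hp]
        have hneg : ∀ p : E0 × Fin 2, p.2 ≠ 0 → (f p : SP) = ⟨p.1.1.1, p.1.2.1⟩ * ρ c := by
          intro p hp
          show ((if p.2 = 0 then _ else _ : ρ.range) : SP) = _
          rw [if_neg hp]
          rfl
        have hs : ∀ p : E0, sg ⟨p.1.1, p.2.1⟩ = 1 := fun p => p.1.2
        have key : ∀ p q : E0 × Fin 2, p.2 = 0 → q.2 ≠ 0 → (f p : SP) ≠ f q := by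
          intro p q hp hq e
          rw [hpos p hp, hneg q hq] at e
          have e2 := congrArg sg e
          rw [map_mul, hs, hs, one_mul] at e2
          exact hc e2.symm
        have hE : ∀ p q : E0, (⟨p.1.1, p.2.1⟩ : SP) = ⟨q.1.1, q.2.1⟩ → p = q := by
          intro p q hpq
          rw [SP.mk.injEq] at hpq
          exact Prod.ext (Subtype.ext hpq.1) (Subtype.ext hpq.2)
        intro p q hpq
        have hpq' : (f p : SP) = f q := congrArg Subtype.val hpq
        by_cases hp : p.2 = 0 <;> by_cases hq : q.2 = 0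
        · rw [hpos p hp, hpos q hq] at hpq'
          exact Prod.ext (hE _ _ hpq') (hp.trans hq.symm)
        · exact absurd hpq' (key p q hp hq)
        · exact absurd hpq'.symm (key q p hq hp)
        · rw [hneg p hp, hneg q hq] at hpq'
          have h6 : p.2 = q.2 := by
            have h7 := p.2.isLt
            have h8 := q.2.isLt
            have h9 : p.2.val ≠ 0 := fun e => hp (Fin.ext e)
            have h10 : q.2.val ≠ 0 := fun e => hq (Fin.ext e)
            apply Fin.ext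
            omega
          exact Prod.ext (hE _ _ (mul_right_cancel hpq')) h6
      have h6 := Nat.card_le_card_of_injective f hf
      rw [Nat.card_prod, card_E0, Nat.card_eq_fintype_card, Fintype.card_fin] at h6
      omega
    have : 2 * (2 * 960) ≤ Nat.card ρ.ker * Nat.card ρ.range := Nat.mul_le_mul (by omega) h5
    omega
  have hsum : ∀ c, ∑ i, (ρ c).s i = 0 := fun c => by
    have := h.parity (hρ c)
    rwa [if_pos (hsgn c)] at this
  have hrange : Nat.card ρ.range = 960 := by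
    apply le_antisymm _ h1
    rw [← card_E0]
    apply Nat.card_le_card_of_injective (fun g : ρ.range => ((⟨⟨(g : SP).σ, by
      obtain ⟨c, hc⟩ := g.2; rw [← hc]; exact hsgn c⟩, ⟨(g : SP).s, by
      obtain ⟨c, hc⟩ := g.2; rw [← hc]; exact hsum c⟩⟩ : E0)))
    intro a b hab
    apply Subtype.ext
    apply SP.ext
    · exact congrArg (fun p : E0 => p.1.1) hab
    · exact congrArg (fun p : E0 => p.2.1) hab
  have hcard : Nat.card C = 1920 := by rw [h3, h4, hrange]
  have hker : ∀ c, ρ c = 1 ↔ c = 1 ∨ c = z := by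
    intro c
    constructor
    · intro hc
      obtain ⟨w, hw1, hwu⟩ := (Nat.card_eq_two_iff' (1 : ρ.ker)).1 h4
      have hz : (⟨z, h.rel_unique (hρ z) h.rel_z⟩ : ρ.ker) = w :=
        hwu _ (fun e => h.z_ne (congrArg Subtype.val e))
      by_cases hc1 : c = 1
      · exact Or.inl hc1
      · right
        have h5 : (⟨c, hc⟩ : ρ.ker) = w := hwu _ (fun e => hc1 (congrArg Subtype.val e))
        exact congrArg Subtype.val (h5.trans hz.symm)
    · rintro (rfl | rfl)
      · exact map_one ρ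
      · exact h.rel_unique (hρ _) h.rel_z
  let π : C →* Equiv.Perm (Fin 5) :=
    { toFun := fun c => (ρ c).σ
      map_one' := by rw [map_one]; rfl
      map_mul' := fun a b => by rw [map_mul]; rfl }
  have hQ : ∀ c, c ∈ π.ker ↔ (ρ c).σ = 1 := fun c => Iff.rfl
  refine ⟨hcard, π.ker, ρ, h.z_ne, h.z_sq, h.z_comm, ?_, ?_, h.sq, h.anti, h.prod, fun a b i j e => h.inj e,
    fun c i => hρ c i, hker, ?_, hQ, ?_⟩
  · rw [hQ, (hker z).2 (Or.inr rfl)]; rfl
  · intro i
    rw [hQ, h.rel_unique (hρ (v i)) (h.rel_v i)]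
  · intro g
    exact ⟨by rintro ⟨c, rfl⟩; exact ⟨hsgn c, hsum c⟩, fun hg => hev g hg.1 hg.2⟩
  · intro q hq
    have hq1 : (ρ q).σ = 1 := hq
    have hfin : ∀ w : C, Rel z v w ⟨1, (ρ q).s⟩ → ∃ a, q = zp z a * w := by
      intro w hw
      have h5 : ρ w = ρ q := by
        rw [h.rel_unique (hρ w) hw]
        apply SP.ext
        · exact hq1.symm
        · rfl
      have h6 : ρ (q * w⁻¹) = 1 := by rw [map_mul, map_inv, h5, mul_inv_cancel]
      rcases (hker _).1 h6 with h7 | h7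
      · exact ⟨0, by rw [zp_zero, one_mul]; exact mul_inv_eq_one.1 h7⟩
      · exact ⟨1, by rw [zp_one]; exact mul_inv_eq_iff_eq_mul.1 h7⟩
    rcases h.exists_sign _ (hsum q) with (⟨a, ha⟩ | ⟨j, hj⟩) | ⟨j, k, hjk, hjk'⟩
    · left
      obtain ⟨b, hb⟩ := hfin _ ha
      exact ⟨b + a, by rw [hb, zp_add z h.z_sq]⟩
    · right; left
      obtain ⟨b, hb⟩ := hfin _ hj
      exact ⟨b, j, hb⟩
    · right; right
      obtain ⟨b, hb⟩ := hfin _ hjk'
      exact ⟨b, j, k, hjk, hb⟩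

end

/-- **the certificate in a group `K`** -/
theorem hasModel {K : Type*} [Group K] [Finite K] {z : K} (hz1 : z ≠ 1) (hz2 : z * z = 1)
    (v : Fin 5 → K) (hvz : ∀ i, v i * z = z * v i) (hsq : ∀ i, v i * v i = 1)
    (hanti : ∀ i j, i ≠ j → v i * v j = z * (v j * v i)) (hprod : v 0 * v 1 * v 2 * v 3 * v 4 = 1)
    (hA : ∀ σ : Equiv.Perm (Fin 5), Equiv.Perm.sign σ = 1 → ∃ c : K, c * z = z * c ∧
      ∃ s : Fin 5 → ZMod 2, ∀ i, c * v i = zp z (s i) * v (σ i) * c)
    (hlt : Nat.card (Subgroup.centralizer ({z} : Set K)) < 3840) :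
    HasModel z ∧ ∃ (Q : Subgroup (Subgroup.centralizer ({z} : Set K)))
      (ρ : Subgroup.centralizer ({z} : Set K) →* SP), IsModel Q (zc z)
        (fun i => ⟨v i, Subgroup.mem_centralizer_singleton_iff.2 (hvz i)⟩) ρ := by
  let w : Fin 5 → Subgroup.centralizer ({z} : Set K) :=
    fun i => ⟨v i, Subgroup.mem_centralizer_singleton_iff.2 (hvz i)⟩
  have h : Pent (zc z) w := by
    refine ⟨fun e => hz1 (congrArg Subtype.val e), Subtype.ext hz2,
      fun c => Subtype.ext (Subgroup.mem_centralizer_singleton_iff.1 c.2),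
      fun i => Subtype.ext (hsq i), fun i j hij => Subtype.ext (hanti i j hij), Subtype.ext hprod⟩
  have hzp : ∀ a, ((zp (zc z) a : Subgroup.centralizer ({z} : Set K)) : K) = zp z a := by
    intro a
    rcases zmod2_cases a with rfl | rfl
    · rw [zp_zero, zp_zero]; rfl
    · rw [zp_one, zp_one]
  obtain ⟨h1, Q, ρ, M⟩ := h.model (by
    intro σ hσ
    obtain ⟨c, hc, s, hs⟩ := hA σ hσ
    refine ⟨⟨c, Subgroup.mem_centralizer_singleton_iff.2 hc⟩, s, fun i => ?_⟩
    rw [mul_inv_eq_iff_eq_mul]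
    apply Subtype.ext
    show c * v i = ((zp (zc z) (s i) : Subgroup.centralizer ({z} : Set K)) : K) * v (σ i) * c
    rw [hzp]
    exact hs i) hlt
  have h2 : orderOf z = 2 := by
    apply orderOf_eq_prime
    · rw [pow_two]; exact hz2
    · exact hz1
  exact ⟨⟨h2, h1, Q, w, ρ, M⟩, Q, ρ, M⟩

end Cfsg.Agent.KFacts.ModelCert
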