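import Cfsg.Agent.KFacts.J3Words
import Cfsg.Agent.KFacts.ModelCert
import Cfsg.Agent.J3.Simple

/-!
# Elements of `3·J₃` around the involution `z = B_{-1}` (helper206)
-/

set_option autoImplicit false

namespace Cfsg.Agent.KFacts.J3W

open Cfsg.Spor Cfsg.Agent.J3.Core Cfsg.Agent.J3.Tab Cfsg.Agent.J3.Mono Cfsg.Agent.J3.Elts
open Cfsg.Agent.Lib.BitSet Cfsg.Agent.J3.Order Cfsg.Agent.J2Type.Model Matrix

section

variable {F : Type*} [Field F] {ω : F} (G : Gens F ω)

/-- the letters -/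
def bl (k : ℕ) : threeJ3 F ω :=
  if k < 9 then G.a (z9 k)
  else if k < 18 then G.d (z9 (k - 9))
  else if k < 27 then G.b (z9 (k - 18))
  else if k = 27 then G.e
  else if k = 28 then G.e * G.e
  else G.c

/-- words -/
def ev : List ℕ → threeJ3 F ω
  | [] => 1
  | k :: w => bl G k * ev w

theorem z9_ne : ∀ k : ℕ, k < 27 → 18 ≤ k → k ≠ 18 → z9 (k - 18) ≠ 0 := by
  intro k h1 h2 h3
  interval_cases k <;> first | exact absurd rfl h3 | decide

theorem rep_bl (H : Good ω) {k : ℕ} (hk : k < 30) (h18 : k ≠ 18) : RepG ω (bT k) (bl G k) := by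
  have h := List.all_eq_true.1 chk_bT k (List.mem_range.2 hk)
  unfold bl
  by_cases h1 : k < 9
  · rw [if_pos h1] at h ⊢
    rw [beqL_eq h]; exact rA G H _
  rw [if_neg h1] at h ⊢
  by_cases h2 : k < 18
  · rw [if_pos h2] at h ⊢
    rw [beqL_eq h]; exact rD G H _
  rw [if_neg h2] at h ⊢
  by_cases h3 : k < 27
  · rw [if_pos h3] at h ⊢
    rw [Bool.or_eq_true] at h
    rcases h with h | h
    · exact absurd (Nat.eq_of_beq_eq_true h) h18
    · rw [beqL_eq h]; exact rB G H _ (z9_ne k h3 (by omega) h18)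
  rw [if_neg h3] at h ⊢
  by_cases h4 : k = 27
  · rw [if_pos h4] at h ⊢
    rw [beqL_eq h]; exact rE G H
  rw [if_neg h4] at h ⊢
  by_cases h5 : k = 28
  · rw [if_pos h5] at h ⊢
    rw [beqL_eq h]; exact (rE G H).mul (rE G H)
  rw [if_neg h5] at h ⊢
  rw [beqL_eq h]; exact rC G H

theorem rep_ev (H : Good ω) : ∀ w : List ℕ, okW w = true → RepG ω (evT w) (ev G w)
  | [], _ => repG_one H
  | k :: w, h => by
    have h' : ((Nat.blt k 30 && !(Nat.beq k 18)) && okW w) = true := h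
    rw [Bool.and_eq_true, Bool.and_eq_true] at h'
    have h18 : k ≠ 18 := by
      rintro rfl
      exact absurd h'.1.2 (by decide)
    exact (rep_bl G H (Nat.le_of_ble_eq_true h'.1.1) h18).mul (rep_ev H w h'.2)

/-- the involution `z = B_{-1}` -/
def zz : threeJ3 F ω := bl G 24

/-- the five involutions -/
def vv (i : Fin 5) : threeJ3 F ω := ev G (get [] vf i)

/-- three elements of `C(z)` -/
def cc (k : ℕ) : threeJ3 F ω := ev G (get [] cw k)

/-- 26 conjugates of `z` -/
def pp (k : ℕ) : threeJ3 F ω := ev G (get [] pf k)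

/-- `z ↦ v₀ ↦ z v₀ ↦ z` -/
def nn : threeJ3 F ω := ev G nw

/-- an outer involution of `C(z)` -/
def uu : threeJ3 F ω := ev G uf

variable {G}

theorem rep_z (H : Good ω) : RepG ω (bT 24) (zz G) := rep_bl G H (by norm_num) (by norm_num)

theorem rep_v (H : Good ω) (i : Fin 5) : RepG ω (get [] vTs i) (vv G i) := by
  have h := rep_ev G H _ (chk_vok i).2
  rwa [beqL_eq (chk_vT i)] at h

theorem rep_c (H : Good ω) {k : ℕ} (hk : k < 3) : RepG ω (get [] cTs k) (cc G k) := by
  have h := rep_ev G H _ (chk_cok ⟨k, hk⟩)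
  rwa [beqL_eq (chk_cT ⟨k, hk⟩)] at h

theorem rep_p (H : Good ω) {k : ℕ} (hk : k < 26) : RepG ω (get [] pTs k) (pp G k) := by
  have h0 := List.all_eq_true.1 chk_pok k (List.mem_range.2 hk)
  rw [Bool.and_eq_true] at h0
  have h := rep_ev G H _ h0.2
  rwa [beqL_eq (List.all_eq_true.1 chk_pT k (List.mem_range.2 hk))] at h

theorem rep_n (H : Good ω) : RepG ω nT (nn G) := by
  have h := rep_ev G H _ chk_nok
  rwa [beqL_eq chk_nT] at h

theorem rep_u (H : Good ω) : RepG ω uT (uu G) := by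
  have h := rep_ev G H _ chk_uok.2
  rwa [beqL_eq chk_uT] at h

/-! ### relations -/

theorem zsq (H : Good ω) : zz G * zz G = 1 :=
  ((rep_z H).mul (rep_z H)).ext (repG_one H) (beqL_eq chk_zsq)

theorem vsq (H : Good ω) (i : Fin 5) : vv G i * vv G i = 1 :=
  ((rep_v H i).mul (rep_v H i)).ext (repG_one H) (beqL_eq (chk_vsq i))

theorem vz (H : Good ω) (i : Fin 5) : vv G i * zz G = zz G * vv G i :=
  ((rep_v H i).mul (rep_z H)).ext ((rep_z H).mul (rep_v H i)) (beqL_eq (chk_vz i))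

theorem vanti (H : Good ω) (i j : Fin 5) (hij : i ≠ j) : vv G i * vv G j = zz G * (vv G j * vv G i) :=
  ((rep_v H i).mul (rep_v H j)).ext ((rep_z H).mul ((rep_v H j).mul (rep_v H i))) (beqL_eq (chk_vanti i j hij))

theorem vprod (H : Good ω) : vv G 0 * vv G 1 * vv G 2 * vv G 3 * vv G 4 = 1 :=
  (((((rep_v H 0).mul (rep_v H 1)).mul (rep_v H 2)).mul (rep_v H 3)).mul (rep_v H 4)).ext (repG_one H)
    (beqL_eq chk_vprod)

theorem vconj (H : Good ω) (i : Fin 5) : ∃ g : threeJ3 F ω, g * zz G = vv G i * g :=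
  ⟨ev G (get [] vw i), ((rep_ev G H _ (chk_vok i).1).mul (rep_z H)).ext
    ((rep_v H i).mul (rep_ev G H _ (chk_vok i).1)) (beqL_eq (chk_vconj i))⟩

theorem uconj (H : Good ω) : ∃ g : threeJ3 F ω, g * zz G = uu G * g :=
  ⟨ev G uw, ((rep_ev G H _ chk_uok.1).mul (rep_z H)).ext
    ((rep_u H).mul (rep_ev G H _ chk_uok.1)) (beqL_eq chk_uconj)⟩

theorem pconj (H : Good ω) {k : ℕ} (hk : k < 26) : ∃ g : threeJ3 F ω, g * zz G = pp G k * g := by
  have h0 := List.all_eq_true.1 chk_pok k (List.mem_range.2 hk)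
  rw [Bool.and_eq_true] at h0
  exact ⟨ev G (get [] pw k), ((rep_ev G H _ h0.1).mul (rep_z H)).ext
    ((rep_p H hk).mul (rep_ev G H _ h0.1))
    (beqL_eq (List.all_eq_true.1 chk_pconj k (List.mem_range.2 hk)))⟩

theorem pfix (H : Good ω) {k : ℕ} (hk : k < 26) : mat ω (pp G k) *ᵥ dec ω 4160 = dec ω 4160 := by
  rw [(rep_p H hk).2 4160 (by norm_num),
    Nat.eq_of_beq_eq_true (List.all_eq_true.1 chk_pfix k (List.mem_range.2 hk))]

theorem p_inj (H : Good ω) {i j : Fin 26} (h : pp G i = pp G j) : i = j := by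
  by_contra hij
  obtain ⟨z, hz⟩ := chk_pne i j hij
  have r1 := rep_p (G := G) H i.2
  have r2 := rep_p (G := G) H j.2
  rw [h] at r1
  exact hz (r1.cols_eq H r2 z)

theorem cz (H : Good ω) {k : ℕ} (hk : k < 3) : cc G k * zz G = zz G * cc G k :=
  ((rep_c H hk).mul (rep_z H)).ext ((rep_z H).mul (rep_c H hk)) (beqL_eq (chk_cz ⟨k, hk⟩))

/-- `z` to a sign -/
def sg (a : ℕ) : ZMod 2 := if a = 0 then 0 else 1

theorem rep_zp (H : Good ω) (a : ℕ) : RepG ω (zpT a) (zp (zz G) (sg a)) := by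
  unfold zpT sg
  by_cases h : a = 0
  · rw [if_pos h, if_pos h, zp_zero]; exact repG_one H
  · rw [if_neg h, if_neg h, zp_one]; exact rep_z H

theorem ca_eq (H : Good ω) {k : ℕ} (hk : k < 3) (i : Fin 5) :
    cc G k * vv G i = zp (zz G) (sg (get 0 (get [] ca k) i)) * vv G (pk k i) * cc G k :=
  ((rep_c H hk).mul (rep_v H i)).ext (((rep_zp H _).mul (rep_v H _)).mul (rep_c H hk))
    (beqL_eq (chk_ca ⟨k, hk⟩ i))

theorem nz (H : Good ω) : nn G * zz G = vv G 0 * nn G :=
  ((rep_n H).mul (rep_z H)).ext ((rep_v H 0).mul (rep_n H)) (beqL_eq chk_nz)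

theorem nv (H : Good ω) : nn G * vv G 0 = zz G * vv G 0 * nn G :=
  ((rep_n H).mul (rep_v H 0)).ext (((rep_z H).mul (rep_v H 0)).mul (rep_n H)) (beqL_eq chk_nv)

theorem uz (H : Good ω) : uu G * zz G = zz G * uu G :=
  ((rep_u H).mul (rep_z H)).ext ((rep_z H).mul (rep_u H)) (beqL_eq chk_uz)

theorem ua_eq (H : Good ω) (i : Fin 5) :
    uu G * vv G i = zp (zz G) (sg (get 0 ua i)) *
      vv G ((Equiv.swap 0 3 * Equiv.swap 2 4 : Equiv.Perm (Fin 5)) i) * uu G :=
  ((rep_u H).mul (rep_v H i)).ext (((rep_zp H _).mul (rep_v H _)).mul (rep_u H))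
    (beqL_eq (chk_ua i))

/-- every even permutation of the `v i` is induced by an element of `C(z)` -/
theorem exists_even (H : Good ω) (σ : Equiv.Perm (Fin 5)) (hσ : Equiv.Perm.sign σ = 1) :
    ∃ c : threeJ3 F ω, c * zz G = zz G * c ∧
      ∃ s : Fin 5 → ZMod 2, ∀ i, c * vv G i = zp (zz G) (s i) * vv G (σ i) * c := by
  have key : ∀ w : List ℕ, (w.all fun k => Nat.blt k 3) = true → ∃ c : threeJ3 F ω, c * zz G = zz G * c ∧
      ∃ s : Fin 5 → ZMod 2, ∀ i, c * vv G i = zp (zz G) (s i) * vv G (pkW w i) * c := by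
    intro w
    induction w with
    | nil =>
      intro _
      refine ⟨1, by rw [one_mul, mul_one], fun _ => 0, fun i => ?_⟩
      rw [zp_zero, one_mul, one_mul, mul_one]
      rfl
    | cons k w ih =>
      intro h
      rw [List.all_cons, Bool.and_eq_true] at h
      have hk : k < 3 := Nat.le_of_ble_eq_true h.1
      obtain ⟨c, hc, s, hs⟩ := ih h.2
      refine ⟨cc G k * c, ?_, fun i => s i + sg (get 0 (get [] ca k) (pkW w i)), fun i => ?_⟩
      · rw [mul_assoc, hc, ← mul_assoc, cz H hk, mul_assoc]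
      · have hzc : ∀ a : ZMod 2, cc G k * zp (zz G) a = zp (zz G) a * cc G k := by
          intro a
          rcases zmod2_cases a with rfl | rfl
          · rw [zp_zero, one_mul, mul_one]
          · rw [zp_one, cz H hk]
        calc cc G k * c * vv G i = cc G k * (c * vv G i) := by group
          _ = cc G k * (zp (zz G) (s i) * vv G (pkW w i) * c) := by rw [hs]
          _ = (cc G k * zp (zz G) (s i)) * vv G (pkW w i) * c := by group
          _ = zp (zz G) (s i) * (cc G k * vv G (pkW w i)) * c := by rw [hzc]; group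
          _ = zp (zz G) (s i) * (zp (zz G) (sg (get 0 (get [] ca k) (pkW w i))) *
                vv G (pk k (pkW w i)) * cc G k) * c := by rw [ca_eq H hk]
          _ = zp (zz G) (s i) * zp (zz G) (sg (get 0 (get [] ca k) (pkW w i))) *
                vv G (pk k (pkW w i)) * (cc G k * c) := by group
          _ = _ := by
            rw [← zp_add (zz G) (zsq H)]
            rfl
  have h1 := chk_A5 σ hσ
  have hlt : 25 * (σ 0).val + 5 * (σ 1).val + (σ 2).val < 125 := by
    have := (σ 0).isLt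
    have := (σ 1).isLt
    have := (σ 2).isLt
    omega
  have h2 := key _ (List.all_eq_true.1 chk_aw _ (List.mem_range.2 hlt))
  rw [← h1] at h2
  exact h2

end

end Cfsg.Agent.KFacts.J3W
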