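import Cfsg.Agent.J3Type.OneClass

/-!
# One class of involutions (helper206)
-/

set_option autoImplicit false

namespace Cfsg.Agent.KFacts.OneClassOf

open Cfsg.Agent.J2Type.Model Cfsg.Agent.J2Type.CStruct Cfsg.Agent.J3Type.OneClass Subgroup

/-- an involution of `K` has a conjugate commuting with `z` if `C(z)` has odd index -/
theorem exists_conj_comm {K : Type*} [Group K] [Finite K] {z : K}
    (hodd : ¬ 2 ∣ (centralizer ({z} : Set K)).index) {t : K} (ht : t * t = 1) :
    ∃ g : K, (g * t * g⁻¹) * z = z * (g * t * g⁻¹) := by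
  have hp : Fact (Nat.Prime 2) := ⟨Nat.prime_two⟩
  have hP : IsPGroup 2 (zpowers t) := by
    rintro ⟨a, ha⟩
    obtain ⟨i, rfl⟩ := mem_zpowers_iff.1 ha
    refine ⟨1, Subtype.ext ?_⟩
    show (t ^ i) ^ (2 ^ 1) = 1
    rw [pow_one, pow_two, ← zpow_add, ← two_mul, zpow_mul]
    have : t ^ (2 : ℤ) = 1 := by
      rw [show (2 : ℤ) = 1 + 1 by norm_num, zpow_add, zpow_one, ht]
    rw [this, one_zpow]
  obtain ⟨q, hq⟩ := hP.nonempty_fixed_point_of_prime_not_dvd_card (K ⧸ centralizer ({z} : Set K))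
    (by rwa [← Subgroup.index])
  obtain ⟨g, rfl⟩ := QuotientGroup.mk_surjective q
  have h1 : (⟨t, mem_zpowers t⟩ : zpowers t) • (g : K ⧸ centralizer ({z} : Set K)) = g := hq _
  have h2 : ((t * g : K) : K ⧸ centralizer ({z} : Set K)) = g := h1
  rw [eq_comm, QuotientGroup.eq] at h2
  refine ⟨g⁻¹, ?_⟩
  rw [inv_inv]
  have h3 := mem_centralizer_singleton_iff.1 h2
  rw [← mul_assoc] at h3
  exact h3

/-- one class of involutions -/
theorem one_class {K : Type*} [Group K] [Finite K] {z : K}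
    (hodd : ¬ 2 ∣ (centralizer ({z} : Set K)).index)
    {Q : Subgroup (centralizer ({z} : Set K))} {v : Fin 5 → centralizer ({z} : Set K)}
    {ρ : centralizer ({z} : Set K) →* SP} (M : IsModel Q (zc z) v ρ)
    (hv : ∃ g : K, g * z * g⁻¹ = (v 0 : K)) {u : centralizer ({z} : Set K)} (hu : u * u = 1)
    (huQ : u ∉ Q) (hconj : ∃ g : K, g * z * g⁻¹ = (u : K)) {t : K} (ht1 : t ≠ 1) (ht : t * t = 1) :
    ∃ g : K, g * z * g⁻¹ = t := by
  obtain ⟨g, hg⟩ := exists_conj_comm hodd ht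
  set y : K := g * t * g⁻¹ with hy
  have hyy : y * y = 1 := by
    rw [hy]
    calc g * t * g⁻¹ * (g * t * g⁻¹) = g * (t * t) * g⁻¹ := by group
      _ = 1 := by rw [ht]; group
  have hy1 : y ≠ 1 := by
    intro h
    apply ht1
    have : t = g⁻¹ * y * g := by rw [hy]; group
    rw [this, h]; group
  let w : centralizer ({z} : Set K) := ⟨y, mem_centralizer_singleton_iff.2 hg⟩
  have hww : w * w = 1 := Subtype.ext hyy
  have hw1 : w ≠ 1 := fun h => hy1 (congrArg Subtype.val h)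
  -- it is enough to treat `w`
  suffices h : ∃ k : K, k * z * k⁻¹ = y by
    obtain ⟨k, hk⟩ := h
    refine ⟨g⁻¹ * k, ?_⟩
    have : t = g⁻¹ * y * g := by rw [hy]; group
    rw [this, ← hk]; group
  by_cases hwQ : w ∈ Q
  · rcases invol_Q M hwQ hww hw1 with h | ⟨a, i, h⟩
    · exact ⟨1, by rw [one_mul, inv_one, mul_one]; exact (congrArg Subtype.val h).symm⟩
    · obtain ⟨c, hc⟩ := trans_v M 0 a 0 i
      obtain ⟨k, hk⟩ := hv
      refine ⟨c * k, ?_⟩
      have h2 := congrArg Subtype.val (hc.trans h.symm)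
      have h3 : (c : K) * (v 0 : K) * (c : K)⁻¹ = y := by
        rw [zp_zero, one_mul] at h2
        exact h2
      rw [← h3, ← hk]; group
  · obtain ⟨c, hc⟩ := outer_conj M hu huQ hww hwQ
    obtain ⟨k, hk⟩ := hconj
    refine ⟨c * k, ?_⟩
    have h3 : (c : K) * (u : K) * (c : K)⁻¹ = y := congrArg Subtype.val hc
    rw [← h3, ← hk]; group

end Cfsg.Agent.KFacts.OneClassOf
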