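import Cfsg.Agent.KFacts.J3Cent
import Cfsg.Agent.KFacts.OneClassOf

/-!
# `J₃`: the centraliser of an involution is `2^{1+4}_-.A₅`, one class of involutions, generation (helper206)
-/

set_option autoImplicit false

namespace Cfsg.Agent.KFacts.J3W

open Cfsg.Spor Cfsg.Agent.J3.Core Cfsg.Agent.J3.Tab Cfsg.Agent.J3.Mono Cfsg.Agent.J3.Elts
open Cfsg.Agent.Lib.BitSet Cfsg.Agent.J3.Order Cfsg.Agent.J2Type.Model Cfsg.Agent.J3.Simple
open Cfsg.Agent.J3.Nineteen Cfsg.Agent.J3Type.OneClass Cfsg.Agent.J2Type.CStruct Subgroup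

section

variable {F : Type*} [Field F] {ω : F} {G : Gens F ω}

theorem zz_not_center (H : Good ω) : zz G ∉ center (threeJ3 F ω) := by
  intro h
  have h2 := mem_center_iff.1 h (bl G 3)
  obtain ⟨z, hz⟩ := chk_zne
  have r1 := (rep_bl G H (k := 3) (by norm_num) (by norm_num)).mul (rep_z (G := G) H)
  have r2 := (rep_z (G := G) H).mul (rep_bl G H (k := 3) (by norm_num) (by norm_num))
  rw [h2] at r1
  exact hz (r2.cols_eq H r1 z)

theorem center_cube [Fintype F] (hF : Fintype.card F = 4) (H : Good ω) {x : threeJ3 F ω}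
    (hx : x ∈ center (threeJ3 F ω)) (hxx : x * x = 1) : x = 1 := by
  have h1 : (⟨x, hx⟩ : center (threeJ3 F ω)) ^ 3 = 1 := by
    have h0 := pow_card_eq_one' (x := (⟨x, hx⟩ : center (threeJ3 F ω)))
    have h3 := card_center hF H
    exact (congrArg (fun n => (⟨x, hx⟩ : center (threeJ3 F ω)) ^ n) h3).symm.trans h0
  have h2 : x ^ 3 = 1 := congrArg Subtype.val h1
  rw [pow_succ, pow_two, hxx, one_mul] at h2
  exact h2

variable {K : Type*} [Group K] {f : threeJ3 F ω →* K}

theorem f_ne [Fintype F] (H : Good ω) (hk : f.ker = center _) : f (zz G) ≠ 1 := by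
  intro h
  exact zz_not_center (G := G) H (hk ▸ h)

/-- centralising elements lift -/
theorem lift_comm [Fintype F] (hF : Fintype.card F = 4) (H : Good ω) (hk : f.ker = center _) {g : threeJ3 F ω}
    (hg : f g * f (zz G) = f (zz G) * f g) : g * zz G = zz G * g := by
  set x := g * zz G * g⁻¹ * (zz G)⁻¹ with hx
  have h1 : x ∈ center (threeJ3 F ω) := by
    rw [← hk, MonoidHom.mem_ker, hx]
    simp only [map_mul, map_inv]
    rw [hg]; group
  have h2 : g * zz G * g⁻¹ = x * zz G := by rw [hx]; group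
  have h3 : (x * zz G) * (x * zz G) = 1 := by
    rw [← h2]
    calc g * zz G * g⁻¹ * (g * zz G * g⁻¹) = g * (zz G * zz G) * g⁻¹ := by group
      _ = 1 := by rw [zsq H]; group
  have h4 : x * x = 1 := by
    have h5 : zz G * x = x * zz G := mem_center_iff.1 h1 (zz G)
    calc x * x = x * (x * (zz G * zz G)) := by rw [zsq H, mul_one]
      _ = x * ((x * zz G) * zz G) := by group
      _ = x * ((zz G * x) * zz G) := by rw [h5]
      _ = (x * zz G) * (x * zz G) := by group
      _ = 1 := h3
  rw [center_cube hF H h1 h4, one_mul] at h2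
  exact mul_inv_eq_iff_eq_mul.1 h2

theorem card_cent_lt [Fintype F] (hF : Fintype.card F = 4) (H : Good ω) (hf : Function.Surjective f)
    (hk : f.ker = center _) : Nat.card (centralizer ({f (zz G)} : Set K)) < 3840 := by
  have hfin : Finite (threeJ3 F ω) := by
    apply Nat.finite_of_card_ne_zero
    rw [card_threeJ3 hF H]; norm_num
  have hlift : ∀ c : centralizer ({f (zz G)} : Set K), ∃ g : centralizer ({zz G} : Set (threeJ3 F ω)),
      f g = c := by
    intro c
    obtain ⟨g, hg⟩ := hf (c : K)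
    have h1 := mem_centralizer_singleton_iff.1 c.2
    rw [← hg] at h1
    exact ⟨⟨g, mem_centralizer_singleton_iff.2 (lift_comm hF H hk h1)⟩, hg⟩
  choose l hl using hlift
  have h1 : Nat.card (center (threeJ3 F ω) × centralizer ({f (zz G)} : Set K)) ≤
      Nat.card (centralizer ({zz G} : Set (threeJ3 F ω))) := by
    apply Nat.card_le_card_of_injective (fun q => (⟨(q.1 : threeJ3 F ω) * l q.2, by
      apply mul_mem
      · exact center_le_centralizer _ q.1.2
      · exact (l q.2).2⟩ : centralizer ({zz G} : Set (threeJ3 F ω))))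
    rintro ⟨a, c⟩ ⟨b, d⟩ hab
    have e1 : (a : threeJ3 F ω) * l c = b * l d := congrArg Subtype.val hab
    have e2 := congrArg f e1
    have ha : f a = 1 := by
      have : (a : threeJ3 F ω) ∈ f.ker := by rw [hk]; exact a.2
      exact this
    have hb : f b = 1 := by
      have : (b : threeJ3 F ω) ∈ f.ker := by rw [hk]; exact b.2
      exact this
    rw [map_mul, map_mul, ha, hb, one_mul, one_mul, hl, hl] at e2
    have e3 : c = d := Subtype.ext e2
    subst e3
    exact Prod.ext (Subtype.ext (mul_right_cancel e1)) rfl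
  have h2 := card_cent_le hF H G
  rw [Nat.card_prod, card_center hF H] at h1
  omega

theorem card_K [Fintype F] (hF : Fintype.card F = 4) (H : Good ω) (hf : Function.Surjective f)
    (hk : f.ker = center _) : Nat.card K = 50232960 := by
  have h1 := card_J3 hF H
  have e := QuotientGroup.quotientKerEquivOfSurjective f hf
  rw [← Nat.card_congr e.toEquiv, ← h1, hk]

theorem f_zp (a : ZMod 2) : f (zp (zz G) a) = zp (f (zz G)) a := by
  rcases zmod2_cases a with rfl | rfl
  · rw [zp_zero, zp_zero, map_one]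
  · rw [zp_one, zp_one]

theorem hmul {x y x' y' : threeJ3 F ω} (h : x * y = x' * y') : f x * f y = f x' * f y' := by
  rw [← map_mul, h, map_mul]

/-- the model -/
theorem j3_model [Fintype F] (hF : Fintype.card F = 4) (H : Good ω) (hf : Function.Surjective f)
    (hk : f.ker = center _) : HasModel (f (zz G)) ∧ ∃ (Q : Subgroup (centralizer ({f (zz G)} : Set K)))
      (ρ : centralizer ({f (zz G)} : Set K) →* SP), IsModel Q (zc (f (zz G)))
        (fun i => ⟨f (vv G i), mem_centralizer_singleton_iff.2 (hmul (vz H i))⟩) ρ := by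
  have hfinK : Finite K := by
    apply Nat.finite_of_card_ne_zero
    rw [card_K hF H hf hk]; norm_num
  refine ModelCert.hasModel (f_ne H hk) ?_ _ (fun i => hmul (vz H i)) ?_ ?_ ?_ ?_ ?_
  · rw [← map_mul, zsq H, map_one]
  · intro i
    rw [← map_mul, vsq H, map_one]
  · intro i j hij
    rw [← map_mul, vanti H i j hij, map_mul, map_mul]
  · rw [← map_mul, ← map_mul, ← map_mul, ← map_mul, vprod H, map_one]
  · intro σ hσ
    obtain ⟨c, hc, s, hs⟩ := exists_even (G := G) H σ hσ
    refine ⟨f c, hmul hc, s, fun i => ?_⟩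
    rw [← map_mul, hs, map_mul, map_mul, f_zp]
  · exact card_cent_lt hF H hf hk

theorem gen_rel (H : Good ω) (w : List ℕ) (P : Subgroup (threeJ3 F ω)) (hC : ∀ c, c * zz G = zz G * c → c ∈ P)
    (hn : nn G ∈ P) (hb : bl G 22 * zz G = zz G * bl G 22) : ∃ h ∈ P, RepG ω (gevT w) h := by
  induction w with
  | nil => exact ⟨1, P.one_mem, repG_one H⟩
  | cons k w ih =>
    obtain ⟨h, hh, hr⟩ := ih
    have hk : ∃ g ∈ P, RepG ω (gT k) g := by
      unfold gT
      by_cases h0 : k = 0
      · rw [if_pos h0]; exact ⟨_, hn, rep_n H⟩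
      rw [if_neg h0]
      by_cases h1 : k = 1
      · rw [if_pos h1]; exact ⟨_, P.mul_mem hn hn, (rep_n H).mul (rep_n H)⟩
      rw [if_neg h1]
      by_cases h2 : k = 2
      · rw [if_pos h2]; exact ⟨_, hC _ hb, rep_bl G H (by norm_num) (by norm_num)⟩
      rw [if_neg h2]
      by_cases h3 : k = 3
      · rw [if_pos h3]; exact ⟨_, hC _ (cz (G := G) H (k := 1) (by norm_num)), rep_c H (by norm_num)⟩
      rw [if_neg h3]
      exact ⟨_, hC _ (cz (G := G) H (k := 2) (by norm_num)), rep_c H (by norm_num)⟩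
    obtain ⟨g, hg, hgr⟩ := hk
    exact ⟨g * h, P.mul_mem hg hh, hgr.mul hr⟩

theorem bz (H : Good ω) {i : ℕ} (hi : i < 12) (h0 : i ≠ 0) : bl G (18 + i) * zz G = zz G * bl G (18 + i) := by
  have h := List.all_eq_true.1 chk_Bz i (List.mem_range.2 hi)
  rw [Bool.or_eq_true] at h
  rcases h with h | h
  · exact absurd (Nat.eq_of_beq_eq_true h) h0
  · exact ((rep_bl G H (by omega) (by omega)).mul (rep_z H)).ext
      ((rep_z H).mul (rep_bl G H (by omega) (by omega))) (beqL_eq h)

theorem exists_z9 : ∀ Z : F9, ∃ i < 9, z9 i = Z := by decide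

/-- **generation**: `C(z)` and `n` generate `3·J₃` -/
theorem gen_top [Fintype F] (hF : Fintype.card F = 4) (H : Good ω) (P : Subgroup (threeJ3 F ω))
    (hC : ∀ c, c * zz G = zz G * c → c ∈ P) (hn : nn G ∈ P) : P = ⊤ := by
  have hb22 : bl G 22 * zz G = zz G * bl G 22 := bz (G := G) H (i := 4) (by norm_num) (by norm_num)
  have key : ∀ x y h : threeJ3 F ω, h ∈ P → x * y = 1 → x * zz G * y * h = h * zz G → x ∈ P := by
    intro x y h hh hxy he
    have hy : y = x⁻¹ := (inv_eq_of_mul_eq_one_right hxy).symm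
    have h1 : (h⁻¹ * x) * zz G = zz G * (h⁻¹ * x) := by
      rw [hy] at he
      have h2 : x * zz G = h * zz G * h⁻¹ * x := by rw [← he]; group
      calc h⁻¹ * x * zz G = h⁻¹ * (x * zz G) := by group
        _ = h⁻¹ * (h * zz G * h⁻¹ * x) := by rw [h2]
        _ = _ := by group
    have h3 := P.mul_mem hh (hC _ h1)
    rwa [mul_inv_cancel_left] at h3
  have hneg : ∀ i < 9, get 0 [0, 2, 1, 6, 8, 7, 3, 5, 4] i < 9 := by decide
  refine G.eq_top H ?_ ?_ ?_ ?_ ?_ ?_
  · intro x n hx
    apply hC
    apply mat_injective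
    rw [map_mul, map_mul, hx, smul_mul_assoc, mul_smul_comm, one_mul, mul_one]
  · intro Z
    obtain ⟨i, hi, rfl⟩ := exists_z9 Z
    have hA : G.a (z9 i) = bl G i := by
      unfold bl; rw [if_pos hi]
    rw [hA]
    have hi' := hneg i hi
    obtain ⟨h, hh, hr⟩ := gen_rel H (get [] hA_ i) P hC hn hb22
    refine key (bl G i) (bl G (get 0 [0, 2, 1, 6, 8, 7, 3, 5, 4] i)) h hh ?_ ?_
    · exact ((rep_bl G H (by omega) (by omega)).mul (rep_bl G H (by omega) (by omega))).ext (repG_one H)
        (beqL_eq (List.all_eq_true.1 chk_invA i (List.mem_range.2 hi)))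
    · exact ((((rep_bl G H (by omega) (by omega)).mul (rep_z H)).mul
        (rep_bl G H (by omega) (by omega))).mul hr).ext (hr.mul (rep_z H))
        (beqL_eq (List.all_eq_true.1 chk_genA i (List.mem_range.2 hi)))
  · intro Z
    obtain ⟨i, hi, rfl⟩ := exists_z9 Z
    have hD : G.d (z9 i) = bl G (9 + i) := by
      unfold bl
      rw [if_neg (by omega), if_pos (by omega), Nat.add_sub_cancel_left]
    rw [hD]
    have hi' := hneg i hi
    obtain ⟨h, hh, hr⟩ := gen_rel H (get [] hD_ i) P hC hn hb22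
    refine key (bl G (9 + i)) (bl G (9 + get 0 [0, 2, 1, 6, 8, 7, 3, 5, 4] i)) h hh ?_ ?_
    · exact ((rep_bl G H (by omega) (by omega)).mul (rep_bl G H (by omega) (by omega))).ext (repG_one H)
        (beqL_eq (List.all_eq_true.1 chk_invD i (List.mem_range.2 hi)))
    · exact ((((rep_bl G H (by omega) (by omega)).mul (rep_z H)).mul
        (rep_bl G H (by omega) (by omega))).mul hr).ext (hr.mul (rep_z H))
        (beqL_eq (List.all_eq_true.1 chk_genD i (List.mem_range.2 hi)))
  · intro Z hZ
    obtain ⟨i, hi, rfl⟩ := exists_z9 Z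
    have h0 : i ≠ 0 := by
      rintro rfl
      exact hZ (by decide)
    have hB : G.b (z9 i) = bl G (18 + i) := by
      unfold bl
      rw [if_neg (by omega), if_neg (by omega), if_pos (by omega), Nat.add_sub_cancel_left]
    rw [hB]
    exact hC _ (bz H (by omega) h0)
  · have hE : G.e = bl G (18 + 9) := by
      unfold bl
      rw [if_neg (by omega), if_neg (by omega), if_neg (by omega), if_pos (by omega)]
    rw [hE]
    exact hC _ (bz H (by norm_num) (by norm_num))
  · have hE : G.c = bl G (18 + 11) := by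
      unfold bl
      rw [if_neg (by omega), if_neg (by omega), if_neg (by omega), if_neg (by omega), if_neg (by omega)]
    rw [hE]
    exact hC _ (bz H (by norm_num) (by norm_num))

end

end Cfsg.Agent.KFacts.J3W
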