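import Cfsg.Agent.J3.Order

/-!
# Words and tables in `3·J₃` around the involution `z = B_{-1}` (helper206)

Letters (codes): `A_Z` : 0..8, `D_Z` : 9..17, `B_Z` : 18..26 (18 is not used), `E_0` : 27, `E_0²` : 28, `C_1` : 29.
The first letter of a word is applied last. All relations are checked on tables.
-/

set_option autoImplicit false

namespace Cfsg.Agent.KFacts.J3W

open Cfsg.Spor Cfsg.Agent.J3.Core Cfsg.Agent.J3.Tab Cfsg.Agent.J3.Mono Cfsg.Agent.J3.Elts
open Cfsg.Agent.Lib.BitSet Cfsg.Agent.J3.Order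

/-- tables of the letters -/
def bTs : List (List ℕ) := [
   [1, 2, 4, 8, 16, 32, 64, 128, 256, 512, 1024, 2048, 4096, 8192, 16384, 32768, 65536, 131072],
   [1, 2, 8, 12, 48, 16, 64, 128, 512, 768, 3072, 1024, 4096, 8192, 32768, 49152, 196608, 65536],
   [1, 2, 12, 4, 32, 48, 64, 128, 768, 256, 2048, 3072, 4096, 8192, 49152, 16384, 131072, 196608],
   [1, 2, 4, 8, 16, 32, 128, 192, 512, 768, 2048, 3072, 12288, 4096, 49152, 16384, 196608, 65536],
   [1, 2, 8, 12, 48, 16, 128, 192, 768, 256, 1024, 2048, 12288, 4096, 16384, 32768, 131072, 196608],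
   [1, 2, 12, 4, 32, 48, 128, 192, 256, 512, 3072, 1024, 12288, 4096, 32768, 49152, 65536, 131072],
   [1, 2, 4, 8, 16, 32, 192, 64, 768, 256, 3072, 1024, 8192, 12288, 32768, 49152, 131072, 196608],
   [1, 2, 8, 12, 48, 16, 192, 64, 256, 512, 2048, 3072, 8192, 12288, 49152, 16384, 65536, 131072],
   [1, 2, 12, 4, 32, 48, 192, 64, 512, 768, 1024, 2048, 8192, 12288, 16384, 32768, 196608, 65536],
   [1, 2, 4, 8, 16, 32, 64, 128, 256, 512, 1024, 2048, 4096, 8192, 16384, 32768, 65536, 131072],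
   [4, 8, 16, 32, 1, 2, 256, 512, 3072, 1024, 64, 128, 16384, 32768, 131072, 196608, 4096, 8192],
   [16, 32, 1, 2, 4, 8, 1024, 2048, 64, 128, 512, 768, 65536, 131072, 4096, 8192, 49152, 16384],
   [64, 128, 256, 512, 1024, 2048, 4096, 8192, 32768, 49152, 196608, 65536, 1, 2, 4, 8, 16, 32],
   [256, 512, 1024, 2048, 128, 192, 16384, 32768, 65536, 131072, 4096, 8192, 12, 4, 16, 32, 1, 2],
   [1024, 2048, 192, 64, 256, 512, 65536, 131072, 4096, 8192, 16384, 32768, 32, 48, 1, 2, 4, 8],
   [4096, 8192, 16384, 32768, 65536, 131072, 1, 2, 4, 8, 16, 32, 64, 128, 768, 256, 2048, 3072],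
   [16384, 32768, 65536, 131072, 12288, 4096, 8, 12, 16, 32, 1, 2, 256, 512, 1024, 2048, 64, 128],
   [65536, 131072, 8192, 12288, 16384, 32768, 48, 16, 1, 2, 4, 8, 1024, 2048, 64, 128, 256, 512],
   [1, 2, 4, 8, 16, 32, 64, 128, 256, 512, 1024, 2048, 4096, 8192, 16384, 32768, 65536, 131072],
   [1, 2, 4096, 8192, 64, 128, 4, 8, 16384, 32768, 256, 512, 16, 32, 65536, 131072, 1024, 2048],
   [1, 2, 64, 128, 4096, 8192, 16, 32, 1024, 2048, 65536, 131072, 4, 8, 256, 512, 16384, 32768],
   [1, 2, 4, 8, 16, 32, 64, 128, 256, 512, 1024, 2048, 4096, 8192, 16384, 32768, 65536, 131072],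
   [1, 2, 16384, 32768, 1024, 2048, 256, 512, 16, 32, 4096, 8192, 65536, 131072, 64, 128, 4, 8],
   [1, 2, 256, 512, 65536, 131072, 1024, 2048, 4096, 8192, 4, 8, 16384, 32768, 16, 32, 64, 128],
   [1, 2, 16, 32, 4, 8, 4096, 8192, 65536, 131072, 16384, 32768, 64, 128, 1024, 2048, 256, 512],
   [1, 2, 65536, 131072, 256, 512, 16384, 32768, 64, 128, 16, 32, 1024, 2048, 4, 8, 4096, 8192],
   [1, 2, 1024, 2048, 16384, 32768, 65536, 131072, 4, 8, 64, 128, 256, 512, 4096, 8192, 16, 32],
   [1, 2, 8, 12, 32, 48, 128, 192, 768, 256, 3072, 1024, 8192, 12288, 49152, 16384, 196608, 65536],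
   [1, 2, 12, 4, 48, 16, 192, 64, 512, 768, 2048, 3072, 12288, 4096, 32768, 49152, 131072, 196608],
   [1, 2, 4164, 8328, 4176, 8352, 4116, 8232, 66816, 133632, 17664, 35328, 84, 168, 82944, 165888, 82176, 164352]]

/-- words conjugating `z` to the `v i` -/
def vw : List (List ℕ) := [
   [8, 29, 5],
   [3, 29, 3],
   [6, 29, 10, 10, 29, 10],
   [6, 29, 8, 11, 29, 10, 1],
   [6, 29, 8, 10, 29, 11, 1]]

/-- words of the `v i` -/
def vf : List (List ℕ) := [
   [8, 29, 5, 24, 7, 29, 4],
   [3, 29, 3, 24, 6, 29, 6],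
   [6, 29, 10, 10, 29, 10, 24, 11, 29, 11, 11, 29, 3],
   [6, 29, 8, 11, 29, 10, 1, 24, 2, 11, 29, 10, 4, 29, 3],
   [6, 29, 8, 10, 29, 11, 1, 24, 2, 10, 29, 11, 4, 29, 3]]

/-- tables of the `v i` -/
def vTs : List (List ℕ) := [
   [1, 2, 84, 168, 4116, 8232, 4164, 8328, 82944, 165888, 66816, 133632, 4176, 8352, 82176, 164352, 17664, 35328],
   [1, 2, 4164, 8328, 4176, 8352, 4116, 8232, 66816, 133632, 17664, 35328, 84, 168, 82944, 165888, 82176, 164352],
   [87381, 174762, 25045, 45674, 78997, 137450, 5497, 10910, 117061, 151178, 149329, 231842, 86125, 172214, 218629, 109322, 105745, 189986],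
   [178941, 253782, 58326, 29035, 212118, 70891, 8058, 9631, 117131, 151245, 149411, 231921, 249966, 90295, 222731, 113421, 109859, 194097],
   [257961, 95742, 145559, 204009, 41687, 62313, 168047, 254133, 113970, 185875, 226830, 105223, 6779, 12189, 149490, 231763, 117198, 151111]]

/-- words of three elements of `C(z)` -/
def cw : List (List ℕ) := [
   [27],
   [16, 4, 29, 17, 29, 16, 4],
   [1, 12, 29, 15, 29, 12, 1]]

/-- their tables -/
def cTs : List (List ℕ) := [
   [1, 2, 8, 12, 32, 48, 128, 192, 768, 256, 3072, 1024, 8192, 12288, 49152, 16384, 196608, 65536],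
   [8381, 12502, 242130, 119395, 80838, 138571, 138539, 206397, 12644, 4792, 1200, 2256, 115307, 148413, 24588, 45060, 69848, 139372],
   [183809, 214786, 100100, 182536, 215312, 101920, 180288, 213120, 112667, 187437, 222006, 110875, 7680, 9984, 198558, 68071, 35303, 52857]]

/-- permutations -/
def cp : List (List ℕ) := [
   [0, 1, 4, 2, 3],
   [2, 1, 0, 4, 3],
   [0, 2, 1, 4, 3]]

/-- signs -/
def ca : List (List ℕ) := [
   [0, 0, 1, 0, 1],
   [1, 0, 1, 1, 1],
   [0, 1, 1, 1, 1]]

/-- words conjugating `z` to 26 involutions fixing the vector 4160 -/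
def pw : List (List ℕ) := [
   [],
   [1],
   [2],
   [29, 1],
   [29, 2],
   [2, 29, 1],
   [11, 29, 10],
   [10, 29, 11],
   [3, 29, 3],
   [4, 29, 3],
   [5, 29, 3],
   [11, 29, 10, 1],
   [10, 29, 11, 1],
   [11, 29, 2, 10],
   [11, 1, 29, 10],
   [11, 2, 29, 10],
   [27, 11, 29, 10],
   [28, 11, 29, 10],
   [10, 29, 11, 2],
   [10, 1, 29, 11],
   [2, 10, 29, 11],
   [27, 10, 29, 11],
   [28, 10, 29, 11],
   [3, 10, 29, 3],
   [4, 10, 29, 3],
   [5, 10, 29, 3]]

/-- words of these involutions -/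
def pf : List (List ℕ) := [
   [24],
   [1, 24, 2],
   [2, 24, 1],
   [29, 1, 24, 2, 29],
   [29, 2, 24, 1, 29],
   [2, 29, 1, 24, 2, 29, 1],
   [11, 29, 10, 24, 11, 29, 10],
   [10, 29, 11, 24, 10, 29, 11],
   [3, 29, 3, 24, 6, 29, 6],
   [4, 29, 3, 24, 6, 29, 8],
   [5, 29, 3, 24, 6, 29, 7],
   [11, 29, 10, 1, 24, 2, 11, 29, 10],
   [10, 29, 11, 1, 24, 2, 10, 29, 11],
   [11, 29, 2, 10, 24, 11, 1, 29, 10],
   [11, 1, 29, 10, 24, 11, 29, 2, 10],
   [11, 2, 29, 10, 24, 11, 29, 1, 10],
   [27, 11, 29, 10, 24, 11, 29, 10, 28],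
   [28, 11, 29, 10, 24, 11, 29, 10, 27],
   [10, 29, 11, 2, 24, 1, 10, 29, 11],
   [10, 1, 29, 11, 24, 10, 29, 2, 11],
   [2, 10, 29, 11, 24, 10, 29, 11, 1],
   [27, 10, 29, 11, 24, 10, 29, 11, 28],
   [28, 10, 29, 11, 24, 10, 29, 11, 27],
   [3, 10, 29, 3, 24, 6, 29, 11, 6],
   [4, 10, 29, 3, 24, 6, 29, 11, 8],
   [5, 10, 29, 3, 24, 6, 29, 11, 7]]

/-- their tables -/
def pTs : List (List ℕ) := [
   [1, 2, 16, 32, 4, 8, 4096, 8192, 65536, 131072, 16384, 32768, 64, 128, 1024, 2048, 256, 512],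
   [1, 2, 32, 48, 12, 4, 4096, 8192, 131072, 196608, 49152, 16384, 64, 128, 2048, 3072, 768, 256],
   [1, 2, 48, 16, 8, 12, 4096, 8192, 196608, 65536, 32768, 49152, 64, 128, 3072, 1024, 512, 768],
   [1, 2, 12512, 4208, 8332, 12484, 120, 156, 147712, 229888, 115712, 149504, 4152, 8220, 18688, 36352, 67328, 133376],
   [1, 2, 8368, 12496, 12488, 4172, 108, 180, 213248, 98816, 99328, 182272, 4140, 8244, 19712, 34304, 67072, 133888],
   [1, 2, 4176, 8352, 4164, 8328, 84, 168, 82176, 164352, 82944, 165888, 4116, 8232, 17664, 35328, 66816, 133632],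
   [87361, 174722, 20816, 41632, 66564, 133128, 252421, 93962, 13509, 6218, 79313, 137826, 248389, 85898, 73861, 143562, 91281, 178402],
   [87361, 174722, 16656, 33312, 70724, 141448, 171793, 255266, 25989, 47818, 8593, 13026, 167761, 247202, 94661, 168522, 28881, 36962],
   [1, 2, 4164, 8328, 4176, 8352, 4116, 8232, 66816, 133632, 17664, 35328, 84, 168, 82944, 165888, 82176, 164352],
   [1, 2, 12484, 4168, 8336, 12512, 4152, 8220, 133376, 200192, 50944, 18688, 120, 156, 149504, 232448, 115456, 147712],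
   [1, 2, 8324, 12488, 12496, 4192, 4140, 8244, 199936, 67072, 34304, 51968, 108, 180, 216064, 99328, 98816, 180992],
   [128961, 153922, 62432, 20848, 199692, 66564, 122378, 157455, 14538, 7247, 75681, 145906, 118346, 149391, 139402, 209103, 119905, 157874],
   [158081, 245442, 33312, 49968, 141452, 212164, 155187, 239377, 31181, 40518, 9139, 12753, 151155, 231313, 151885, 238214, 61683, 20561],
   [108161, 195522, 41648, 62416, 133128, 199692, 185871, 224005, 15567, 5189, 71281, 142226, 181839, 215941, 204943, 78021, 111857, 186450],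
   [237121, 124802, 29152, 37488, 66572, 133124, 153353, 239886, 10375, 15561, 71506, 141731, 149321, 231822, 135239, 204937, 128210, 153699],
   [187201, 224642, 25008, 45776, 66568, 133132, 105741, 189958, 7238, 9355, 75411, 146401, 101709, 181894, 209094, 69707, 103507, 190625],
   [257921, 95682, 37456, 58272, 133124, 199688, 89863, 173321, 9358, 14535, 75186, 146131, 85831, 165257, 69710, 139399, 87154, 174227],
   [178881, 253762, 54096, 24992, 199684, 66568, 169222, 256523, 5195, 10381, 71011, 142001, 165190, 248459, 78027, 135245, 95459, 170097],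
   [228801, 104002, 49968, 16656, 212168, 70732, 187682, 222771, 23881, 42638, 8866, 13299, 183650, 214707, 221577, 111310, 45282, 53363],
   [237121, 124802, 16672, 33328, 74892, 145604, 121137, 159250, 22855, 44681, 13266, 4451, 117105, 151186, 156039, 242377, 53330, 24739],
   [187201, 224642, 16688, 33296, 79048, 137292, 218657, 109362, 32198, 38475, 4691, 9121, 214625, 101298, 217414, 107147, 41107, 61665],
   [257921, 95682, 33296, 49952, 137284, 208008, 251155, 92705, 21838, 43655, 4466, 8851, 247123, 84641, 90510, 176839, 24754, 45267],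
   [178881, 253762, 49936, 16672, 203844, 74888, 88594, 175907, 30155, 39501, 12771, 4721, 84562, 167843, 86347, 172685, 20579, 41137],
   [16641, 33282, 4, 8, 16656, 33312, 134208, 197760, 16401, 32802, 9344, 14528, 138240, 205824, 273, 546, 78016, 135232],
   [33281, 49922, 4, 8, 49936, 16672, 67648, 134272, 16419, 32817, 13504, 6208, 71680, 142336, 291, 561, 69696, 139392],
   [49921, 16642, 4, 8, 33296, 49952, 197696, 67712, 16434, 32787, 5184, 10368, 201728, 75776, 306, 531, 73856, 143552]]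

/-- word of `n` -/
def nw : List ℕ := [8, 29, 5]

/-- table of `n` -/
def nT : List ℕ := [1, 2, 4232, 8396, 12400, 4240, 12340, 4120, 198144, 68352, 52480, 17920, 152, 236, 100352, 183296, 213504, 99072]

/-- words in `n, n², b(1,1), x, y` taking `z` to `z^A` -/
def hA_ : List (List ℕ) := [
   [],
   [2, 1, 2, 1, 2, 0],
   [2, 1, 2, 0, 2, 0],
   [2, 0, 2, 1, 2, 1],
   [1, 2, 1, 2, 0],
   [0, 2, 1, 2, 1],
   [2, 0, 2, 0, 2, 0],
   [0, 2, 0, 2, 0],
   [1, 2, 0, 2, 0]]

/-- words in `n, n², b(1,1), x, y` taking `z` to `z^D` -/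
def hD_ : List (List ℕ) := [
   [],
   [3, 4, 1, 2, 1, 2, 0, 3, 0],
   [4, 2, 0, 2, 0, 2, 1, 3, 0],
   [4, 2, 0, 3, 1, 3, 0, 3, 0],
   [3, 0, 2, 0, 2, 1, 3, 0],
   [3, 0, 3, 0, 2, 1, 2, 1],
   [4, 2, 0, 3, 0, 2, 1, 2, 1],
   [3, 0, 3, 1, 3, 0, 3, 0],
   [3, 0, 2, 1, 2, 0, 3, 1]]

/-- word conjugating `z` to an outer involution -/
def uw : List ℕ := [14, 1, 29, 17, 3]

/-- word of this involution -/
def uf : List ℕ := [14, 1, 29, 17, 3, 24, 6, 13, 29, 2, 16]

/-- its table -/
def uT : List ℕ := [4201, 8382, 210631, 72521, 160723, 233825, 229737, 115390, 73836, 143540, 28676, 36872, 72489, 142654, 1232, 2144, 4536, 8924]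

def up : List ℕ := [3, 1, 4, 0, 2]

def ua : List ℕ := [1, 0, 1, 1, 1]

/-- words for the even permutations, by the first three values -/
def aw : List (List ℕ) := [
   [],
   [],
   [],
   [],
   [],
   [],
   [],
   [],
   [0, 0],
   [0],
   [],
   [2],
   [],
   [2, 0],
   [2, 0, 0],
   [],
   [0, 0, 2],
   [2, 0, 2],
   [],
   [0, 0, 2, 0],
   [],
   [0, 2],
   [0, 2, 0],
   [0, 2, 0, 0],
   [],
   [],
   [],
   [1, 2, 1],
   [1, 2, 1, 0],
   [0, 1, 2, 1],
   [],
   [],
   [],
   [],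
   [],
   [2, 1],
   [],
   [],
   [2, 1, 0, 0],
   [2, 1, 0],
   [0, 0, 2, 1],
   [],
   [1, 0, 2, 1],
   [],
   [1, 0, 2, 1, 0],
   [0, 2, 1],
   [],
   [2, 1, 0, 2],
   [0, 2, 1, 0],
   [],
   [],
   [1, 2],
   [],
   [1, 2, 0, 0],
   [1, 2, 0],
   [1],
   [],
   [],
   [1, 0],
   [1, 0, 0],
   [],
   [],
   [],
   [],
   [],
   [1, 0, 2, 0],
   [1, 0, 2],
   [],
   [],
   [1, 0, 2, 0, 0],
   [0, 2, 0, 1],
   [1, 0, 0, 2],
   [],
   [1, 0, 0, 2, 0],
   [],
   [],
   [0, 0, 1, 2],
   [2, 0, 1, 2],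
   [],
   [2, 0, 1, 2, 0],
   [0, 0, 1],
   [],
   [1, 0, 1],
   [],
   [0, 0, 1, 0],
   [2, 0, 1],
   [2, 0, 1, 0],
   [],
   [],
   [2, 0, 1, 0, 0],
   [],
   [],
   [],
   [],
   [],
   [0, 2, 0, 0, 1],
   [0, 2, 1, 0, 1],
   [0, 2, 0, 0, 1, 0],
   [],
   [],
   [],
   [0, 1, 2],
   [1, 2, 0, 1],
   [0, 1, 2, 0],
   [],
   [0, 1],
   [],
   [0, 1, 0],
   [0, 1, 0, 0],
   [],
   [2, 0, 0, 1],
   [2, 1, 0, 1],
   [],
   [2, 0, 0, 1, 0],
   [],
   [0, 0, 2, 0, 1],
   [0, 1, 0, 0, 2],
   [0, 1, 0, 0, 2, 0],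
   [],
   [],
   [],
   [],
   [],
   [],
   []]

/-- table of a letter -/
def bT (k : ℕ) : List ℕ := get (tS 0) bTs k

/-- table of a word -/
def evT : List ℕ → List ℕ
  | [] => tS 0
  | k :: w => compT (bT k) (evT w)

/-- the identity, or `z` -/
def zpT (a : ℕ) : List ℕ := if a = 0 then tS 0 else bT 24

/-- the letters used in a word -/
def okW (w : List ℕ) : Bool := w.all fun k => Nat.blt k 30 && !(Nat.beq k 18)

/-- permutations of the `v i` -/
def pk (k : ℕ) : Equiv.Perm (Fin 5) :=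
  if k = 0 then Equiv.swap 2 4 * Equiv.swap 4 3
  else if k = 1 then Equiv.swap 0 2 * Equiv.swap 3 4
  else Equiv.swap 1 2 * Equiv.swap 3 4

def pkW : List ℕ → Equiv.Perm (Fin 5)
  | [] => 1
  | k :: w => pk k * pkW w

theorem chk_bT : ((List.range 30).all fun k => if k < 9 then beqL (bT k) (tA (z9 k))
    else if k < 18 then beqL (bT k) (tD (z9 (k - 9)))
    else if k < 27 then (Nat.beq k 18 || beqL (bT k) (tB (z9 (k - 18))))
    else if k = 27 then beqL (bT k) tE
    else if k = 28 then beqL (bT k) (compT tE tE) else beqL (bT k) tC) = true := by decide +kernel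

theorem chk_A5 : ∀ σ : Equiv.Perm (Fin 5), Equiv.Perm.sign σ = 1 →
    σ = pkW (get [] aw (25 * (σ 0).val + 5 * (σ 1).val + (σ 2).val)) := by decide +kernel

theorem chk_aw : (List.range 125).all (fun i => (get [] aw i).all fun k => Nat.blt k 3) = true := by
  decide +kernel

theorem chk_vok : ∀ i : Fin 5, okW (get [] vw i) = true ∧ okW (get [] vf i) = true := by decide +kernel

theorem chk_vT : ∀ i : Fin 5, beqL (evT (get [] vf i)) (get [] vTs i) = true := by decide +kernel

theorem chk_vconj : ∀ i : Fin 5, beqL (cols (compT (evT (get [] vw i)) (bT 24)))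
    (cols (compT (get [] vTs i) (evT (get [] vw i)))) = true := by decide +kernel

theorem chk_vsq : ∀ i : Fin 5, beqL (cols (compT (get [] vTs i) (get [] vTs i))) (cols (tS 0)) = true := by
  decide +kernel

theorem chk_vz : ∀ i : Fin 5, beqL (cols (compT (get [] vTs i) (bT 24)))
    (cols (compT (bT 24) (get [] vTs i))) = true := by
  decide +kernel

theorem chk_vanti : ∀ i j : Fin 5, i ≠ j → beqL (cols (compT (get [] vTs i) (get [] vTs j)))
    (cols (compT (bT 24) (compT (get [] vTs j) (get [] vTs i)))) = true := by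
  decide +kernel

theorem chk_vprod : beqL (cols (compT (compT (compT (compT (get [] vTs 0) (get [] vTs 1)) (get [] vTs 2))
    (get [] vTs 3)) (get [] vTs 4))) (cols (tS 0)) = true := by
  decide +kernel

theorem chk_zsq : beqL (cols (compT (bT 24) (bT 24))) (cols (tS 0)) = true := by decide +kernel

theorem chk_zne : ∃ z : F9, (cols (compT (bT 24) (bT 3))).getD (idx z) 0 ≠
    (cols (compT (bT 3) (bT 24))).getD (idx z) 0 := by decide +kernel

theorem chk_cok : ∀ i : Fin 3, okW (get [] cw i) = true := by decide +kernel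

theorem chk_cT : ∀ i : Fin 3, beqL (evT (get [] cw i)) (get [] cTs i) = true := by decide +kernel

theorem chk_cz : ∀ i : Fin 3, beqL (cols (compT (get [] cTs i) (bT 24)))
    (cols (compT (bT 24) (get [] cTs i))) = true := by
  decide +kernel

theorem chk_ca : ∀ k : Fin 3, ∀ i : Fin 5, beqL (cols (compT (get [] cTs k) (get [] vTs i)))
    (cols (compT (compT (zpT (get 0 (get [] ca k) i)) (get [] vTs (pk k i))) (get [] cTs k))) = true := by
  decide +kernel

theorem chk_pok : (List.range 26).all (fun i => okW (get [] pw i) && okW (get [] pf i)) = true := by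
  decide +kernel

theorem chk_pT : (List.range 26).all (fun i => beqL (evT (get [] pf i)) (get [] pTs i)) = true := by
  decide +kernel

theorem chk_pconj : (List.range 26).all (fun i => beqL (cols (compT (evT (get [] pw i)) (bT 24)))
    (cols (compT (get [] pTs i) (evT (get [] pw i))))) = true := by decide +kernel

theorem chk_pfix : (List.range 26).all (fun i => Nat.beq (appT (get [] pTs i) 4160) 4160) = true := by
  decide +kernel

theorem chk_pne : ∀ i j : Fin 26, i ≠ j → ∃ z : F9, (cols (get [] pTs i)).getD (idx z) 0 ≠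
    (cols (get [] pTs j)).getD (idx z) 0 := by decide +kernel

theorem chk_nok : okW nw = true := by decide +kernel

theorem chk_nT : beqL (evT nw) nT = true := by decide +kernel

theorem chk_nz : beqL (cols (compT nT (bT 24))) (cols (compT (get [] vTs 0) nT)) = true := by decide +kernel

theorem chk_nv : beqL (cols (compT nT (get [] vTs 0))) (cols (compT (compT (bT 24) (get [] vTs 0)) nT)) = true := by
  decide +kernel

theorem chk_uok : okW uw = true ∧ okW uf = true := by decide +kernel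

theorem chk_uT : beqL (evT uf) uT = true := by decide +kernel

theorem chk_uconj : beqL (cols (compT (evT uw) (bT 24))) (cols (compT uT (evT uw))) = true := by
  decide +kernel

theorem chk_uz : beqL (cols (compT uT (bT 24))) (cols (compT (bT 24) uT)) = true := by decide +kernel

theorem chk_ua : ∀ i : Fin 5, beqL (cols (compT uT (get [] vTs i)))
    (cols (compT (compT (zpT (get 0 ua i)) (get [] vTs ((Equiv.swap 0 3 * Equiv.swap 2 4 : Equiv.Perm (Fin 5)) i)))
      uT)) = true := by
  decide +kernel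

/-- the letters of the generation words: `n, n², b(1,1), x, y` -/
def gT (k : ℕ) : List ℕ :=
  if k = 0 then nT else if k = 1 then compT nT nT else if k = 2 then bT 22
  else if k = 3 then get [] cTs 1 else get [] cTs 2

def gevT : List ℕ → List ℕ
  | [] => tS 0
  | k :: w => compT (gT k) (gevT w)

/-- `x z x⁻¹ = h z h⁻¹` follows from `x z = w x` and `h z = w h`; here `w = x z x'` -/
theorem chk_genA : (List.range 9).all (fun i => beqL
    (cols (compT (compT (compT (bT i) (bT 24)) (bT (get 0 [0, 2, 1, 6, 8, 7, 3, 5, 4] i))) (gevT (get [] hA_ i))))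
    (cols (compT (gevT (get [] hA_ i)) (bT 24)))) = true := by decide +kernel

theorem chk_genD : (List.range 9).all (fun i => beqL
    (cols (compT (compT (compT (bT (9 + i)) (bT 24)) (bT (9 + get 0 [0, 2, 1, 6, 8, 7, 3, 5, 4] i))) (gevT (get [] hD_ i))))
    (cols (compT (gevT (get [] hD_ i)) (bT 24)))) = true := by decide +kernel

theorem chk_invA : (List.range 9).all (fun i => beqL
    (cols (compT (bT i) (bT (get 0 [0, 2, 1, 6, 8, 7, 3, 5, 4] i)))) (cols (tS 0))) = true := by decide +kernel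

theorem chk_invD : (List.range 9).all (fun i => beqL
    (cols (compT (bT (9 + i)) (bT (9 + get 0 [0, 2, 1, 6, 8, 7, 3, 5, 4] i)))) (cols (tS 0))) = true := by decide +kernel

theorem chk_Bz : (List.range 12).all (fun i => Nat.beq i 0 || beqL
    (cols (compT (bT (18 + i)) (bT 24))) (cols (compT (bT 24) (bT (18 + i))))) = true := by decide +kernel

end Cfsg.Agent.KFacts.J3W
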