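import Cfsg.Agent.KFacts.LargeSheet
import Cfsg.Agent.MonsterU.ModelChart
import Cfsg.Agent.MonsterU.AmalSideOf
import Cfsg.Agent.ConwayFacts.AutCo1

/-!
# K-facts of type (E) for the Monster (helper756)

For every finite simple group with a chart (`Q = 2^{1+24}`, `C(z)/Q = Co1`): `conj_of_type_four`, `exists_outside`,
`perfect`; for the group of the `196884`-dimensional model the automorphisms centralising `C(z)` (`eq_one_or_conj`).
-/

set_option autoImplicit false

open Cfsg

namespace Cfsg.Agent.KFacts.MonsterE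

open Cfsg.Agent.MonsterU.Ch
open Cfsg.Agent.MonsterU.Lam2 (L2 IsType cl bf bf_cl b0)
open Cfsg.Agent.MonsterU
open Cfsg.Spor (Co1)

variable {G : Type*} [Group G] {Q : Subgroup G} {z : G} {eta : G → L2}
  {pi : Subgroup.centralizer ({z} : Set G) →* Co1}

/-- Elements of `Q` over vectors of type 4 are conjugate to `z`. -/
theorem conj_of_type_four [Finite G] [IsSimpleGroup G] (h : Chart Q z eta pi) {x : G} (hx : x ∈ Q)
    (h4 : IsType 4 (eta x)) : ∃ k : G, k * z * k⁻¹ = x := by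
  obtain ⟨g, hin, hne, hg4⟩ := Fused.exists_type_four h
  set y := g * z * g⁻¹ with hy
  obtain ⟨s, hs⟩ := AmalSideOf.exists_smul_f0 h4
  obtain ⟨t, ht⟩ := AmalSideOf.exists_smul_f0 hg4
  obtain ⟨c, hc⟩ := h.pi_surj (s⁻¹ * t)
  have h1 : eta ((c : G) * y * (c : G)⁻¹) = eta x := by
    rw [h.eta_conj c y hin, hc, mul_smul, ht, ← hs, inv_smul_smul]
  have hcz : (c : G) * z = z * c := Subgroup.mem_centralizer_singleton_iff.1 c.2
  have h2 : (c : G) * y * (c : G)⁻¹ ∈ Q := h.large.conj_mem _ hcz _ hin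
  rcases (h.eta_eq h2 hx).1 h1 with h3 | h3
  · refine ⟨c * g, ?_⟩
    rw [← h3, hy]; group
  · have hx1 : x ≠ 1 := by
      rintro rfl
      rw [h.eta_one] at h4
      have h5 : (c : G) * y * (c : G)⁻¹ = z := by rw [h3, one_mul]
      apply hne
      calc y = (c : G)⁻¹ * ((c : G) * y * (c : G)⁻¹) * c := by group
        _ = (c : G)⁻¹ * (z * c) := by rw [h5]; group
        _ = z := by rw [← hcz]; group
    have hxz : x ≠ z := by
      rintro rfl
      have h5 : (c : G) * y * (c : G)⁻¹ = 1 := by rw [h3, h.large.z_sq]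
      have h6 : y = 1 := by
        calc y = (c : G)⁻¹ * ((c : G) * y * (c : G)⁻¹) * c := by group
          _ = 1 := by rw [h5]; group
      apply h.large.z_ne
      calc x = g⁻¹ * y * g := by rw [hy]; group
        _ = 1 := by rw [h6]; group
    obtain ⟨τ, hτQ, hτ⟩ := LargeExtra.Base.exists_not_comm h.large hx hx1 hxz
    refine ⟨τ⁻¹ * (c * g), ?_⟩
    have h5 : τ * x * τ⁻¹ = x * z := by
      have h6 : τ * z = z * τ := h.large.comm_z τ hτQ
      calc τ * x * τ⁻¹ = x * τ * z * τ⁻¹ := by rw [hτ]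
        _ = x * (τ * z) * τ⁻¹ := by group
        _ = x * z := by rw [h6]; group
    calc τ⁻¹ * (c * g) * z * (τ⁻¹ * (c * g))⁻¹ = τ⁻¹ * ((c : G) * y * (c : G)⁻¹) * τ := by rw [hy]; group
      _ = x := by rw [h3, ← h5]; group

/-- the vector `(3^5, -1^19)` -/
def vG : GolayPt → ℤ := fun p =>
  if p = none ∨ p = some 0 ∨ p = some 1 ∨ p = some 3 ∨ p = some 4 then 3 else -1

/-- the vector `(4, -4, 0, ...)` -/
def vF : GolayPt → ℤ := fun p => if p = none then 4 else if p = some 0 then -4 else 0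

theorem vG_mem : vG ∈ leechSet := Spor.mem_leechSet_of_const_mod_four _ (-1) (-1) (by decide) (by decide) (by decide)
theorem vF_mem : vF ∈ leechSet := Spor.mem_leechSet_of_const_mod_four _ 0 0 (by decide) (by decide) (by decide)

def lG : leechLattice := ⟨vG, AddSubgroup.subset_closure vG_mem⟩
def lF : leechLattice := ⟨vF, AddSubgroup.subset_closure vF_mem⟩

theorem type_one : IsType 4 (cl (lE + (lB + lD))) :=
  ⟨lE + (lB + lD), by show sqNorm (vE + (vB + vD)) = 16 * 4; decide, rfl⟩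

theorem type_two : IsType 4 (cl lG) := ⟨lG, by show sqNorm vG = 16 * 4; decide, rfl⟩

theorem type_three : IsType 4 (cl (lB + lF)) :=
  ⟨lB + lF, by show sqNorm (vB + vF) = 16 * 4; decide, rfl⟩

theorem bf_one_two : bf (cl (lE + (lB + lD))) (cl lG) = 0 := by
  rw [bf_cl]
  show ((dotInt (vE + (vB + vD)) vG / 8 : ℤ) : ZMod 2) = 0
  have : dotInt (vE + (vB + vD)) vG = 32 := by decide
  rw [this]; decide

theorem bf_one_three : bf (cl (lE + (lB + lD))) (cl (lB + lF)) = 0 := by
  rw [bf_cl]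
  show ((dotInt (vE + (vB + vD)) (vB + vF) / 8 : ℤ) : ZMod 2) = 0
  have : dotInt (vE + (vB + vD)) (vB + vF) = 32 := by decide
  rw [this]; decide

theorem bf_two_three : bf (cl lG) (cl (lB + lF)) = 1 := by
  rw [bf_cl]
  show ((dotInt vG (vB + vF) / 8 : ℤ) : ZMod 2) = 1
  have : dotInt vG (vB + vF) = 24 := by decide
  rw [this]; decide

/-- **(P3) for the Monster.** -/
theorem exists_outside [Finite G] [IsSimpleGroup G] (h : Chart Q z eta pi) :
    ∃ k : G, (k * z * k⁻¹) * z = z * (k * z * k⁻¹) ∧ k * z * k⁻¹ ∉ Q := by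
  obtain ⟨x, hx, ex⟩ := h.eta_surj (cl (lE + (lB + lD)))
  obtain ⟨a, ha, ea⟩ := h.eta_surj (cl lG)
  obtain ⟨b, hb, eb⟩ := h.eta_surj (cl (lB + lF))
  obtain ⟨g, hg⟩ := conj_of_type_four h hx (by rw [ex]; exact type_one)
  have hxa : x * a = a * x := (h.comm_iff hx ha).2 (by rw [ex, ea]; exact bf_one_two)
  have hxb : x * b = b * x := (h.comm_iff hx hb).2 (by rw [ex, eb]; exact bf_one_three)
  have hab : a * b ≠ b * a := by
    intro h1
    have h2 := (h.comm_iff ha hb).1 h1
    rw [ea, eb, bf_two_three] at h2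
    revert h2; decide
  refine LargeE.exists_outside h.large (g := g) (conj_of_type_four h ha (by rw [ea]; exact type_two))
    (conj_of_type_four h hb (by rw [eb]; exact type_three)) (by rw [hg]; exact hxa) (by rw [hg]; exact hxb) ha hb ?_ hab
  rw [hg]
  intro hxz
  rw [hxz, h.eta_z] at ex
  have h2 : IsType 4 (0 : L2) := by rw [ex]; exact type_one
  obtain ⟨k, hk⟩ := IsType.trans (Or.inr (Or.inr rfl)) h2 type_two
  rw [smul_zero] at hk
  have h3 := bf_two_three
  rw [← hk, Lam2.bf_zero_left] at h3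
  revert h3; decide

/-- `Co1` is not commutative. -/
theorem nab_Co1 : ∃ a b : Co1, a * b ≠ b * a := by
  by_contra hcon
  push Not at hcon
  have hs : IsSimpleGroup Co1 := Cfsg.Agent.S0399.result.1
  have hc : Nat.card Co1 = 4157776806543360000 := CoFrameF.card_Co1
  let _ : CommGroup Co1 := { (inferInstance : Group Co1) with mul_comm := hcon }
  have hp : (Nat.card Co1).Prime := IsSimpleGroup.prime_card
  rw [hc] at hp
  revert hp
  norm_num

section nor

variable [Finite G]

theorem simple_Co1 : IsSimpleGroup Co1 := Cfsg.Agent.S0399.result.1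

theorem map_Q (h : Chart Q z eta pi) (β : MulAut (Subgroup.centralizer ({z} : Set G)))
    {x : Subgroup.centralizer ({z} : Set G)} (hx : (x : G) ∈ Q) : (β x : G) ∈ Q := by
  have := simple_Co1
  have hle : Q ≤ Subgroup.centralizer ({z} : Set G) := LargeExtra.Nine.ToCent.le_cent h.large
  have hn := LargeExtra.Nine.ToCent.normal h.large
  have hQ2 : IsPGroup 2 (Q.subgroupOf (Subgroup.centralizer ({z} : Set G))) :=
    (LargeExtra.Base.isPGroup h.large).of_injective (Subgroup.subgroupOfEquivOfLe hle).toMonoidHom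
      (Subgroup.subgroupOfEquivOfLe hle).injective
  let B : Subgroup G := ((Q.subgroupOf (Subgroup.centralizer ({z} : Set G))).map β.toMonoidHom).map
    (Subgroup.centralizer ({z} : Set G)).subtype
  have h1 : B ≤ Q := by
    refine LargeSheet.le_of_normal nab_Co1 h.pi_surj h.pi_eq_one (B := B) ?_ ((hQ2.map _).map _) ?_
    · rintro _ ⟨y, -, rfl⟩
      exact y.2
    · rintro g hg _ ⟨_, ⟨y, hy, rfl⟩, rfl⟩
      refine ⟨⟨g, hg⟩ * β y * ⟨g, hg⟩⁻¹, ⟨β.symm ⟨g, hg⟩ * y * (β.symm ⟨g, hg⟩)⁻¹, hn.conj_mem y hy _, ?_⟩, rfl⟩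
      show β (β.symm ⟨g, hg⟩ * y * (β.symm ⟨g, hg⟩)⁻¹) = _
      rw [map_mul, map_mul, map_inv, MulEquiv.apply_symm_apply]
  exact h1 ⟨β x, ⟨x, Subgroup.mem_subgroupOf.2 hx, rfl⟩, rfl⟩

/-- **Every automorphism of `C(z)` acts on `Q/⟨z⟩` like an element of `C(z)`.** -/
theorem nor (h : Chart Q z eta pi) (β : MulAut (Subgroup.centralizer ({z} : Set G))) :
    ∃ c₀ : Subgroup.centralizer ({z} : Set G), ∀ q : Subgroup.centralizer ({z} : Set G), (q : G) ∈ Q →
      (β q : G) = c₀ * q * (c₀ : G)⁻¹ ∨ (β q : G) = c₀ * q * (c₀ : G)⁻¹ * z := by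
  have hL := h.large
  have hmem : ∀ x ∈ Q, x ∈ Subgroup.centralizer ({z} : Set G) := fun x hx =>
    Subgroup.mem_centralizer_singleton_iff.2 (hL.comm_z x hx)
  -- `z` is fixed
  have hzC : ∀ β : MulAut (Subgroup.centralizer ({z} : Set G)), (β ⟨z, hmem z hL.z_mem⟩ : G) = z := by
    intro β
    rcases LargeE.cent_eq hL (y := (β ⟨z, hmem z hL.z_mem⟩ : G))
      (Subgroup.mem_centralizer_singleton_iff.1 (β ⟨z, hmem z hL.z_mem⟩).2) (by
        intro x hx
        obtain ⟨d, hd⟩ := β.surjective ⟨x, hmem x hx⟩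
        have h1 : β ⟨z, hmem z hL.z_mem⟩ * β d = β d * β ⟨z, hmem z hL.z_mem⟩ := by
          rw [← map_mul, ← map_mul]
          congr 1
          exact Subtype.ext (Subgroup.mem_centralizer_singleton_iff.1 d.2).symm
        rw [hd] at h1
        exact congrArg Subtype.val h1) with h1 | h1
    · exfalso
      apply hL.z_ne
      have h2 : (⟨z, hmem z hL.z_mem⟩ : Subgroup.centralizer ({z} : Set G)) = 1 := by
        apply β.injective
        rw [map_one]
        exact Subtype.ext h1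
      exact congrArg Subtype.val h2
    · exact h1
  obtain ⟨s, hs⟩ := h.exists_sec
  -- the induced map on `L2`
  let f : MulAut (Subgroup.centralizer ({z} : Set G)) → L2 → L2 := fun β v => eta (β ⟨s v, hmem _ (s v).2⟩ : G)
  have hf : ∀ (β : MulAut (Subgroup.centralizer ({z} : Set G))) (x : G) (hx : x ∈ Q),
      f β (eta x) = eta (β ⟨x, hmem x hx⟩ : G) := by
    intro β x hx
    show eta (β ⟨s (eta x), hmem _ (s (eta x)).2⟩ : G) = _
    rcases (h.eta_eq (s (eta x)).2 hx).1 (hs (eta x)) with h1 | h1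
    · have h2 : (⟨s (eta x), hmem _ (s (eta x)).2⟩ : Subgroup.centralizer ({z} : Set G)) = ⟨x, hmem x hx⟩ :=
        Subtype.ext h1
      rw [h2]
    · have h2 : (⟨s (eta x), hmem _ (s (eta x)).2⟩ : Subgroup.centralizer ({z} : Set G)) =
          ⟨x, hmem x hx⟩ * ⟨z, hmem z hL.z_mem⟩ := Subtype.ext h1
      rw [h2, map_mul, Subgroup.coe_mul, hzC]
      rw [h.eta_mul _ (map_Q h β (x := ⟨x, hmem x hx⟩) hx) _ hL.z_mem, h.eta_z, add_zero]
  have hfinv : ∀ (β : MulAut (Subgroup.centralizer ({z} : Set G))) (v : L2), f β.symm (f β v) = v := by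
    intro β v
    obtain ⟨x, hx, rfl⟩ := h.eta_surj v
    rw [hf β x hx, hf β.symm _ (map_Q h β (x := ⟨x, hmem x hx⟩) hx)]
    have h1 : (⟨(β ⟨x, hmem x hx⟩ : G), hmem _ (map_Q h β (x := ⟨x, hmem x hx⟩) hx)⟩ :
        Subgroup.centralizer ({z} : Set G)) = β ⟨x, hmem x hx⟩ := rfl
    rw [h1, MulEquiv.symm_apply_apply]
  have hfadd : ∀ v w : L2, f β (v + w) = f β v + f β w := by
    intro v w
    obtain ⟨x, hx, rfl⟩ := h.eta_surj v
    obtain ⟨y, hy, rfl⟩ := h.eta_surj w
    rw [← h.eta_mul x hx y hy, hf β _ (Q.mul_mem hx hy), hf β x hx, hf β y hy]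
    have h1 : (⟨x * y, hmem _ (Q.mul_mem hx hy)⟩ : Subgroup.centralizer ({z} : Set G)) =
        ⟨x, hmem x hx⟩ * ⟨y, hmem y hy⟩ := rfl
    rw [h1, map_mul, Subgroup.coe_mul,
      h.eta_mul _ (map_Q h β (x := ⟨x, hmem x hx⟩) hx) _ (map_Q h β (x := ⟨y, hmem y hy⟩) hy)]
  let F : L2 ≃+ L2 :=
    { toFun := f β
      invFun := f β.symm
      left_inv := hfinv β
      right_inv := fun v => hfinv β.symm v
      map_add' := hfadd }
  -- the induced automorphism of `Co1`
  let φ : Subgroup.centralizer ({z} : Set G) →* Co1 := pi.comp β.toMonoidHom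
  have hφs : Function.Surjective φ := h.pi_surj.comp β.surjective
  have hker : pi.ker = φ.ker := by
    ext c
    rw [MonoidHom.mem_ker, MonoidHom.mem_ker]
    show pi c = 1 ↔ pi (β c) = 1
    rw [h.pi_eq_one, h.pi_eq_one]
    constructor
    · exact fun hc => map_Q h β hc
    · intro hc
      have h1 := map_Q h β.symm (x := β c) hc
      rwa [MulEquiv.symm_apply_apply] at h1
  let α : MulAut Co1 := ((QuotientGroup.quotientKerEquivOfSurjective pi h.pi_surj).symm.trans
    (QuotientGroup.quotientMulEquivOfEq hker)).trans (QuotientGroup.quotientKerEquivOfSurjective φ hφs)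
  have hα : ∀ c : Subgroup.centralizer ({z} : Set G), α (pi c) = pi (β c) := by
    intro c
    have h1 : (QuotientGroup.quotientKerEquivOfSurjective pi h.pi_surj).symm (pi c) = QuotientGroup.mk c := by
      rw [MulEquiv.symm_apply_eq]; rfl
    show (QuotientGroup.quotientKerEquivOfSurjective φ hφs) ((QuotientGroup.quotientMulEquivOfEq hker)
      ((QuotientGroup.quotientKerEquivOfSurjective pi h.pi_surj).symm (pi c))) = _
    rw [h1]; rfl
  have hN : ConwayFacts.NormL2.Nor F α := by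
    intro g v
    obtain ⟨c, rfl⟩ := h.pi_surj g
    obtain ⟨x, hx, rfl⟩ := h.eta_surj v
    have hcx : (c : G) * x * (c : G)⁻¹ ∈ Q :=
      hL.conj_mem _ (Subgroup.mem_centralizer_singleton_iff.1 c.2) x hx
    show f β (pi c • eta x) = α (pi c) • f β (eta x)
    rw [← h.eta_conj c x hx, hf β _ hcx, hf β x hx, hα]
    have h1 : (⟨(c : G) * x * (c : G)⁻¹, hmem _ hcx⟩ : Subgroup.centralizer ({z} : Set G)) =
        c * ⟨x, hmem x hx⟩ * c⁻¹ := rfl
    rw [h1, map_mul, map_mul, map_inv, Subgroup.coe_mul, Subgroup.coe_mul, Subgroup.coe_inv]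
    exact h.eta_conj (β c) _ (map_Q h β (x := ⟨x, hmem x hx⟩) hx)
  obtain ⟨t, ht⟩ := ConwayFacts.NormPerm.exists_smul hN
  obtain ⟨c₀, rfl⟩ := h.pi_surj t
  refine ⟨c₀, fun q hq => ?_⟩
  have h1 : eta (β q : G) = eta ((c₀ : G) * q * (c₀ : G)⁻¹) := by
    rw [h.eta_conj c₀ q hq, ← ht]
    exact (hf β q hq).symm
  exact (h.eta_eq (map_Q h β hq) (hL.conj_mem _ (Subgroup.mem_centralizer_singleton_iff.1 c₀.2) q hq)).1 h1

end nor

/-- **The data of the sheet of the Monster.** -/
theorem data [Finite G] [IsSimpleGroup G] (h : Chart Q z eta pi)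
    (hirr : ∀ N : Subgroup G, N ≤ Q → (∀ g : G, g * z = z * g → ∀ n ∈ N, g * n * g⁻¹ ∈ N) →
      (∀ n ∈ N, n = 1 ∨ n = z) ∨ N = Q)
    (hodd : Odd (Subgroup.centralizer ({z} : Set G)).index)
    (hgen : ∃ n₀ : G, n₀ * z * n₀⁻¹ ∈ Q ∧ n₀ * z * n₀⁻¹ ≠ z ∧
      Subgroup.closure ({c : G | c * z = z * c} ∪ {n₀}) = ⊤) : LargeSheet.Data Q z Co1 pi where
  large := h.large
  nab := nab_Co1
  surj := h.pi_surj
  ker := h.pi_eq_one
  irr := hirr
  ex := by
    obtain ⟨n₀, h1, h2, -⟩ := hgen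
    refine ⟨_, h1, fun h3 => h.large.z_ne ?_, h2⟩
    calc z = n₀⁻¹ * (n₀ * z * n₀⁻¹) * n₀ := by group
      _ = 1 := by rw [h3]; group
  odd := hodd
  nor := nor h
  gen := hgen
  out := exists_outside h

section model

open Cfsg.Agent.MonsterX.Model Cfsg.Agent.MonsterX.MainSimple Cfsg.Agent.MonsterX.MainBasic

variable {W : Type} [AddCommGroup W] [Module ℚ W] {M : MData W}

/-- the data of `LargeSheet` for the group of the model -/
theorem data_model (hG : MGroup M Co1) (hR : MRep M) (hL : MLat M) (hO : MOrbit M) (hT : MTrans M) :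
    ∃ π : Subgroup.centralizer ({zG hG} : Set M.G) →* Co1,
      LargeSheet.Data (M.Q.subgroupOf M.G) (zG hG) Co1 π := by
  have hfin := G_finite hO
  have hsimp := isSimple hG hR hL hO hT
  have hco := simple_Co1
  have hcard := MonsterX.MainOrder.card_G hG hR hL hO
  have H := hyp hG hR hL hO hT
  have hmem := mem_cent_iff hG hR hL hO hT
  obtain ⟨eta, pi, h⟩ := ModelChart.chart hG hR hL hO hT
  have hcardC : Nat.card (Subgroup.centralizer ({zG hG} : Set M.G)) = 2 ^ 25 * 4157776806543360000 := by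
    rw [← card_C hG]
    refine Nat.card_congr ⟨fun x => ⟨(x : M.G), (hmem _).1 x.2⟩, fun c => ⟨⟨c, C_le c.2⟩, (hmem _).2 c.2⟩,
      fun x => rfl, fun c => rfl⟩
  have hodd : Odd (Subgroup.centralizer ({zG hG} : Set M.G)).index := by
    have h1 := (Subgroup.centralizer ({zG hG} : Set M.G)).card_mul_index
    rw [hcard, hcardC] at h1
    have h2 : (Subgroup.centralizer ({zG hG} : Set M.G)).index = 5791748068511982636944259375 := by omega
    rw [h2]
    exact ⟨2895874034255991318472129687, by norm_num⟩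
  refine ⟨_, data h (fun N hN hinv => H.irr N hN fun c hc =>
    hinv c (Subgroup.mem_centralizer_singleton_iff.1 hc)) hodd ⟨⟨M.τ, τ_mem⟩, hO.τ_z,
      fun h1 => hO.τ_z_ne (congrArg Subtype.val h1), ?_⟩⟩
  -- generation
  rw [eq_top_iff]
  rintro ⟨g, hg⟩ -
  have key : M.G ≤ (Subgroup.closure ({c : M.G | c * zG hG = zG hG * c} ∪ {⟨M.τ, τ_mem⟩})).map M.G.subtype := by
    refine (Subgroup.closure_le _).2 ?_
    rintro x (hx | hx)
    · refine ⟨⟨x, C_le hx⟩, Subgroup.subset_closure (Or.inl ?_), rfl⟩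
      exact Subtype.ext (hG.z_comm x hx)
    · rw [Set.mem_singleton_iff] at hx
      subst hx
      exact ⟨⟨M.τ, τ_mem⟩, Subgroup.subset_closure (Or.inr rfl), rfl⟩
  obtain ⟨y, hy, hyg⟩ := key hg
  have : y = ⟨g, hg⟩ := Subtype.ext hyg
  rwa [← this]

/-- **The sheet for the group of the model.** -/
theorem sheet_model (hG : MGroup M Co1) (hR : MRep M) (hL : MLat M) (hO : MOrbit M) (hT : MTrans M) :
    OddHalf.D8.Sheet.SheetE (zG hG) (Subgroup.centralizer ({zG hG} : Set M.G)) (M.Q.subgroupOf M.G) := by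
  have hfin := G_finite hO
  have hco := simple_Co1
  obtain ⟨π, D⟩ := data_model hG hR hL hO hT
  exact D.sheet

/-- **Every automorphism of the group of the model is inner.** -/
theorem inner_model (hG : MGroup M Co1) (hR : MRep M) (hL : MLat M) (hO : MOrbit M) (hT : MTrans M)
    (α : MulAut M.G) : ∃ g : M.G, α = MulAut.conj g := by
  have hfin := G_finite hO
  have hco := simple_Co1
  obtain ⟨π, D⟩ := data_model hG hR hL hO hT
  exact D.inner α

end model

end Cfsg.Agent.KFacts.MonsterE
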