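import Cfsg.Agent.KFacts.MonsterRow
import Cfsg.Agent.KFacts.InnerCaseM

/-!
# ODD half, D8, K = M: the sheet of case (M)

`sheetM_of_large` : `CaseM.SheetM` for `LargeSheet.Data`; `sheets_model`, `facts_of` : the Monster (`w = 12`,
`p = 13`, `|Q| = 2 ^ 25`).
-/

set_option autoImplicit false

namespace Cfsg.Agent.KFacts.MonsterM

open Cfsg Cfsg.Spor Cfsg.Agent.OddHalf Cfsg.Agent.OddHalf.D8.Sheet Cfsg.Agent.OddHalf.CaseM
open Cfsg.Agent.MonsterX.Model Cfsg.Agent.MonsterX.MainSimple Cfsg.Agent.MonsterX.MainBasic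

universe u

/-- `SheetM` for `LargeSheet.Data` -/
theorem sheetM_of_large {K : Type*} [Group K] [Finite K] {Q : Subgroup K} {z : K} {L : Type*} [Group L]
    [IsSimpleGroup L] {π : Subgroup.centralizer ({z} : Set K) →* L} (D : LargeSheet.Data Q z L π) {p w : ℕ}
    (hp : p.Prime) (hw : w < p) (hpL : p ∣ Nat.card L) (hcard : Nat.card Q ≤ 2 ^ (2 * w + 1)) :
    SheetM (Subgroup.centralizer ({z} : Set K)) Q := by
  obtain ⟨x, hx, y, hy, hxp, hxy⟩ := InnerCaseM.exists_noncentral D.surj D.ker D.nab hp hpL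
  refine SheetM.of_quasisimple D.sheet (InnerCaseM.normal_of D.surj D.ker) hp hw hcard hx hxp hy hxy
    ⟨0, ?_⟩ ⟨0, ?_⟩
  · rw [pow_zero, Subgroup.index_eq_one, MonoidHom.range_eq_top]
    intro α
    obtain ⟨k, hk⟩ := D.inner α
    exact ⟨k, hk.symm⟩
  · rw [pow_zero, Subgroup.relIndex_self]

variable {W : Type} [AddCommGroup W] [Module ℚ W] {M : MData W}

/-- both sheets of the group of the model -/
theorem sheets_model (hG : MGroup M Co1) (hR : MRep M) (hL : MLat M) (hO : MOrbit M) (hT : MTrans M) :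
    SheetE (zG hG) (Subgroup.centralizer ({zG hG} : Set M.G)) (M.Q.subgroupOf M.G) ∧
      SheetM (Subgroup.centralizer ({zG hG} : Set M.G)) (M.Q.subgroupOf M.G) := by
  have hfin := G_finite hO
  have hco := MonsterE.simple_Co1
  obtain ⟨π, D⟩ := MonsterE.data_model hG hR hL hO hT
  refine ⟨D.sheet, sheetM_of_large D (p := 13) (w := 12) (by norm_num) (by norm_num) ?_ ?_⟩
  · rw [hG.card]; norm_num
  · have h1 : Nat.card (M.Q.subgroupOf M.G) = 2 ^ 25 := by
      rw [← hG.Q_card]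
      exact Nat.card_congr (Subgroup.subgroupOfEquivOfLe (hG.Q_le.trans C_le)).toEquiv
    rw [h1]

/-- both sheets of every group isomorphic to the Monster -/
theorem facts_of (hG : MGroup M Co1) (hR : MRep M) (hL : MLat M) (hO : MOrbit M) (hT : MTrans M)
    (hM : Nonempty (M.G ≃* Spor.Monster)) {K : Type*} [Group K] (hK : Spor.IsoM K) :
    ∃ (z : K) (P R : Subgroup K), SheetE z P R ∧ SheetM P R := by
  obtain ⟨e⟩ := hM
  obtain ⟨f⟩ := hK
  obtain ⟨h1, h2⟩ := sheets_model hG hR hL hO hT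
  exact ⟨_, _, _, SheetIso.sheetE_map (e.trans f.symm) h1, InnerCaseM.sheetM_map (e.trans f.symm) h2⟩

end Cfsg.Agent.KFacts.MonsterM
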