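import Cfsg.Agent.KFacts.MonsterE
import Cfsg.Agent.KFacts.SheetIso
import Cfsg.Agent.OddHalf.D8.MainE

/-!
# ODD half, D8: the row of the Monster

`exists_sheet`: every group isomorphic to `Spor.Monster` has a sheet of type (E), for every model `M` isomorphic to
`Spor.Monster`. `row`: the row, from `MainE.row`.
-/

set_option autoImplicit false

namespace Cfsg.Agent.KFacts.MonsterRow

open Cfsg Cfsg.Spor Cfsg.Agent.OddHalf Cfsg.Agent.OddHalf.D8.Sheet
open Cfsg.Agent.MonsterX.Model Cfsg.Agent.MonsterX.MainSimple Cfsg.Agent.MonsterX.MainBasic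

universe u

variable {W : Type} [AddCommGroup W] [Module ℚ W] {M : MData W}

theorem exists_sheet (hG : MGroup M Co1) (hR : MRep M) (hL : MLat M) (hO : MOrbit M) (hT : MTrans M)
    (hM : Nonempty (M.G ≃* Spor.Monster)) {K : Type*} [Group K] (hK : Spor.IsoM K) :
    ∃ (z : K) (P R : Subgroup K), SheetE z P R := by
  obtain ⟨e⟩ := hM
  obtain ⟨f⟩ := hK
  exact ⟨_, _, _, SheetIso.sheetE_map (e.trans f.symm) (MonsterE.sheet_model hG hR hL hO hT)⟩

theorem row (hG : MGroup M Co1) (hR : MRep M) (hL : MLat M) (hO : MOrbit M) (hT : MTrans M)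
    (hM : Nonempty (M.G ≃* Spor.Monster)) (hF : D8.MainE.FrontOuter.{u}) (hC : D8.MainE.NoComponent.{u}) :
    D8.Rows.Row.{u} (fun K _ => Spor.IsoM K) :=
  D8.MainE.row hF hC fun _ _ _ hK => exists_sheet hG hR hL hO hT hM hK

end Cfsg.Agent.KFacts.MonsterRow
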