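import Cfsg.Agent.KFacts.MulBound
import Cfsg.Agent.MonsterN.CoverB

/-!
# The 2-part of the Schur multiplier of the Baby Monster is at most 2

`not_four_dvd`: a central subgroup of a finite perfect group `K` with quotient `Spor.BabyMonster` has order not divisible
by 4.  The double cover is unique (`MonsterN.CoverB`), and there is no cyclic 4: the nodes of the double cover lift
once more with the exact Coxeter relations, so the ninth power of the `E₇` word is an involution, but it should have
order four.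
-/

set_option autoImplicit false
set_option linter.style.haveILetI false

namespace Cfsg.Agent.KFacts.MulBaby

open Cfsg Subgroup Cfsg.Agent.KFacts.MulTwo Cfsg.Agent.KFacts.MulDef Cfsg.Agent.KFacts.MulBound
open Cfsg.Agent.TwoESix.Cox10 Cfsg.Agent.TwoESix.Lift Cfsg.Agent.R01.Lifts Cfsg.Agent.MonsterN.CoverB

universe u

theorem Dbl.ext {L X : Type*} [Group L] [Group X] {π : L →* X} {c : L} (h : Dbl π c) : Ext π c where
  surj := h.surj
  zz := h.sq
  zne := h.ne
  ker := h.ker
  comm x := (h.cen x).symm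

/-- Any two perfect double covers of the Baby Monster are isomorphic over it. -/
theorem uniq {L M : Type*} [Group L] [Group M] {π : L →* Spor.BabyMonster} {ρ : M →* Spor.BabyMonster} {c : L} {d : M}
    (h1 : Dbl π c) (h2 : Dbl ρ d) : ∃ θ : L ≃* M, ∀ x, ρ (θ x) = π x := by
  obtain ⟨θ, -, h⟩ := exists_mulEquiv (Dbl.ext h1) (Dbl.ext h2) h1.perf h2.perf
  exact ⟨θ, h⟩

/-- No cyclic 4. -/
theorem false_of_cyclic {K : Type u} [Group K] (hK : commutator K = ⊤) {f : K →* Spor.BabyMonster}
    (hf : Function.Surjective f) (hZ : ∀ x, f x = 1 → ∀ g, x * g = g * x) {y : K} (hy : f y = 1)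
    (hyy : y * y ≠ 1) (hy4 : y * y * (y * y) = 1)
    (h4 : ∀ x, f x = 1 → x = 1 ∨ x = y * y ∨ x = y ∨ x = y * (y * y)) : False := by
  have hy1 : y ≠ 1 := fun h => hyy (by rw [h, one_mul])
  have hyk : f (y * y) = 1 := by rw [map_mul, hy, one_mul]
  obtain ⟨N, hn, hle, hmem, hd⟩ := dbl_quot hK hf hZ (c := y * y) (y := y) hyk hy hy4
    ⟨hy1, fun h => hy1 (by simpa using h.symm)⟩ (Or.inr rfl) h4
  obtain ⟨m, b, hm, hb, hr, -⟩ := exists_nodes (Dbl.ext hd) hd.perf
  -- the extension `K → K / N`
  have hE : Ext (QuotientGroup.mk' N) (y * y) := by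
    refine ⟨QuotientGroup.mk'_surjective N, hy4, hyy, fun x => ?_, fun x => (hZ _ hyk x).symm⟩
    rw [← hmem]
    exact QuotientGroup.eq_one_iff x
  obtain ⟨k, hk, hl, -⟩ := exists_cox' hE hr.lift hr.spider hr.e231
  have h1 := ev_eq_ev hl chk_sq
  rw [ev_append, ev_rep, ev_nil] at h1
  have h2 : QuotientGroup.mk' N (ev k W213 ^ 9) = QuotientGroup.mk' N y := by
    rw [map_pow, ev_map, ← hr.e213]
    congr 2
    funext i; exact hk i
  rcases (hE.map_eq).1 h2 with h3 | h3
  · rw [h3] at h1; exact hyy h1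
  · rw [h3] at h1
    apply hyy
    calc y * y = (y * y) * (y * y * (y * y)) := by rw [hy4, mul_one]
      _ = y * (y * y) * (y * (y * y)) := by group
      _ = 1 := h1

/-- No kernel of order 4. -/
theorem false_of_four {K : Type u} [Group K] [Finite K] (hK : commutator K = ⊤) {f : K →* Spor.BabyMonster}
    (hf : Function.Surjective f) (hZ : ∀ x, f x = 1 → ∀ g, x * g = g * x) (hcard : Nat.card f.ker = 4) : False := by
  classical
  by_cases hy : ∃ y, f y = 1 ∧ y * y ≠ 1
  · -- cyclic
    obtain ⟨y, hy, hyy⟩ := hy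
    have hy4 : y * y * (y * y) = 1 := by
      have h1 : (⟨y, hy⟩ : f.ker) ^ Nat.card f.ker = 1 := pow_card_eq_one'
      rw [hcard] at h1
      have h2 := congrArg Subtype.val h1
      simp only [SubmonoidClass.coe_pow, OneMemClass.coe_one] at h2
      rw [← h2, pow_succ, pow_succ, pow_two, mul_assoc (y * y)]
    refine false_of_cyclic hK hf hZ hy hyy hy4 ?_
    have hy1 : y ≠ 1 := fun h => hyy (by rw [h, one_mul])
    have n1 : y * y ≠ y := fun h => hy1 (by simpa using h)
    have n3 : y * y ≠ y * (y * y) := fun h => n1 (mul_left_cancel h).symm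
    have n2 : y * (y * y) ≠ 1 := fun h => by
      have e : y * y * (y * y) = y * (y * (y * y)) := by group
      rw [e, h, mul_one] at hy4
      exact hy1 hy4
    have n4 : y ≠ y * (y * y) := fun h => hyy (by simpa using h.symm)
    intro x hx
    exact four_elems hcard (by rw [MonoidHom.mem_ker, map_mul, hy, one_mul]) hy
      (by rw [MonoidHom.mem_ker, map_mul, map_mul, hy, one_mul, one_mul]) hyy hy1 n2 n1 n3 n4 x hx
  · -- elementary
    push Not at hy
    have hex : ∃ a b : f.ker, a ≠ 1 ∧ b ≠ 1 ∧ a ≠ b := by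
      have hfin : Fintype f.ker := Fintype.ofFinite _
      have : 2 < (Finset.univ : Finset f.ker).card := by
        rw [Finset.card_univ, ← Nat.card_eq_fintype_card, hcard]; norm_num
      obtain ⟨a, ha⟩ : ∃ a : f.ker, a ∉ ({1} : Finset f.ker) := by
        by_contra hcon
        push Not at hcon
        have := Finset.card_le_card (fun x _ => hcon x : (Finset.univ : Finset f.ker) ⊆ {1})
        rw [Finset.card_singleton] at this
        omega
      obtain ⟨b, hb⟩ : ∃ b : f.ker, b ∉ ({1, a} : Finset f.ker) := by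
        by_contra hcon
        push Not at hcon
        have := Finset.card_le_card (fun x _ => hcon x : (Finset.univ : Finset f.ker) ⊆ {1, a})
        have := Finset.card_le_two (a := 1) (b := a)
        omega
      simp only [Finset.mem_singleton] at ha
      simp only [Finset.mem_insert, Finset.mem_singleton, not_or] at hb
      exact ⟨a, b, ha, hb.1, fun h => hb.2 h.symm⟩
    obtain ⟨⟨c, hc⟩, ⟨y, hyk⟩, hc1, hy1, hcy⟩ := hex
    have hc1' : c ≠ 1 := fun h => hc1 (Subtype.ext h)
    have hy1' : y ≠ 1 := fun h => hy1 (Subtype.ext h)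
    have hcy' : c ≠ y := fun h => hcy (Subtype.ext h)
    have hcc : c * c = 1 := hy c hc
    have hyy : y * y = 1 := hy y hyk
    have hyc4 : f (y * c) = 1 := by rw [map_mul, hyk, one_mul]; exact hc
    have h4 : ∀ x, f x = 1 → x = 1 ∨ x = c ∨ x = y ∨ x = y * c := by
      have n2 : y * c ≠ 1 := fun h => hcy' (by
        have := congrArg (y * ·) h
        simp only [mul_one, ← mul_assoc, hyy, one_mul] at this
        exact this)
      have n3 : c ≠ y * c := fun h => hy1' (by simpa using h.symm)
      have n4 : y ≠ y * c := fun h => hc1' (by simpa using h.symm)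
      intro x hx
      exact four_elems hcard hc hyk hyc4 hc1' hy1' n2 hcy' n3 n4 x hx
    have hcomm : y * c = c * y := hZ y hyk c
    have h4' : ∀ x, f x = 1 → x = 1 ∨ x = y ∨ x = c ∨ x = c * y := by
      intro x hx
      rcases h4 x hx with h | h | h | h
      · left; exact h
      · right; right; left; exact h
      · right; left; exact h
      · right; right; right; rw [h, hcomm]
    obtain ⟨N, hn, hle, hmem, hd⟩ := dbl_quot hK hf hZ (c := c) (y := y) hc hyk hcc ⟨hy1', hcy'.symm⟩
      (Or.inl hyy) h4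
    obtain ⟨M, hm, hle', hmem', hd'⟩ := dbl_quot hK hf hZ (c := y) (y := c) hyk hc hyy ⟨hc1', hcy'⟩
      (Or.inl hcc) h4'
    obtain ⟨θ, hθ⟩ := uniq hd hd'
    have heq : QuotientGroup.mk' M = θ.toMonoidHom.comp (QuotientGroup.mk' N) := by
      refine hom_eq_of_perfect hK (π := QuotientGroup.lift M f hle') (fun x hx g => ?_) (fun k => ?_)
      · rcases (hd'.ker x).1 hx with rfl | rfl
        · rw [one_mul, mul_one]
        · exact hd'.cen g
      · show f k = _
        exact (hθ (QuotientGroup.mk' N k)).symm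
    have h5 : QuotientGroup.mk' M c = 1 := by
      rw [heq]
      show θ (QuotientGroup.mk' N c) = 1
      rw [show QuotientGroup.mk' N c = 1 from (QuotientGroup.eq_one_iff c).2 ((hmem c).2 (Or.inr rfl)), map_one]
    rcases (hmem' c).1 ((QuotientGroup.eq_one_iff c).1 h5) with h6 | h6
    · exact hc1' h6
    · exact hcy' h6

/-- **Bound**: the 2-part of the multiplier of the Baby Monster is at most 2. -/
theorem not_four_dvd {K : Type u} [Group K] [Finite K] (hK : commutator K = ⊤) {f : K →* Spor.BabyMonster}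
    (hf : Function.Surjective f) (hZ : f.ker ≤ center K) : ¬ 4 ∣ Nat.card f.ker := by
  intro h4
  obtain ⟨Z₁, hle1, hc1⟩ := exists_index_two hZ (dvd_trans (by norm_num) h4)
  have h2 : 2 ∣ Nat.card Z₁ := by
    rw [hc1] at h4
    exact Nat.dvd_of_mul_dvd_mul_left (by norm_num : 0 < 2) (by simpa using h4)
  obtain ⟨Z₀, hle0, hc0⟩ := exists_index_two (hle1.trans hZ) h2
  have hle : Z₀ ≤ f.ker := hle0.trans hle1
  have hcomm : ∀ a ∈ f.ker, ∀ b : K, b * a = a * b := fun a ha b => mem_center_iff.1 (hZ ha) b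
  have hn : Z₀.Normal := ⟨fun n hn g => by
    rw [hcomm n (hle hn) g, mul_inv_cancel_right]; exact hn⟩
  let π : K ⧸ Z₀ →* Spor.BabyMonster := QuotientGroup.lift Z₀ f hle
  have hq : Function.Surjective (QuotientGroup.mk' Z₀) := QuotientGroup.mk'_surjective _
  refine false_of_four (K := K ⧸ Z₀) (commutator_top_of_surj _ hq hK) (f := π)
    (fun p => by obtain ⟨k, rfl⟩ := hf p; exact ⟨QuotientGroup.mk' Z₀ k, rfl⟩) ?_ ?_
  · intro x hx g
    obtain ⟨x, rfl⟩ := hq x
    obtain ⟨g, rfl⟩ := hq g
    rw [← map_mul, ← map_mul, hcomm x hx g]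
  · have hker : π.ker = f.ker.map (QuotientGroup.mk' Z₀) := by
      ext x
      obtain ⟨x, rfl⟩ := hq x
      constructor
      · intro hx
        exact ⟨x, hx, rfl⟩
      · rintro ⟨y, hy, hyx⟩
        rw [← hyx]
        exact hy
    have h5 : Nat.card (f.ker.map (QuotientGroup.mk' Z₀)) * Nat.card Z₀ = Nat.card f.ker := by
      have h6 := Subgroup.card_mul_index (Z₀.subgroupOf f.ker)
      have h7 : Nat.card (Z₀.subgroupOf f.ker) = Nat.card Z₀ :=
        Nat.card_congr (subgroupOfEquivOfLe hle).toEquiv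
      have h8 : Nat.card (f.ker.map (QuotientGroup.mk' Z₀)) = (Z₀.subgroupOf f.ker).index := by
        let g : f.ker →* K ⧸ Z₀ := (QuotientGroup.mk' Z₀).comp f.ker.subtype
        have h9 : g.ker = Z₀.subgroupOf f.ker := by
          ext x
          show QuotientGroup.mk' Z₀ x.1 = 1 ↔ x.1 ∈ Z₀
          exact QuotientGroup.eq_one_iff x.1
        have h10 : g.range = f.ker.map (QuotientGroup.mk' Z₀) := by
          rw [MonoidHom.range_comp, Subgroup.range_subtype]
        rw [← h9, ← h10]
        exact (Subgroup.index_ker g).symm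
      rw [h8, mul_comm, ← h6, h7]
    rw [hker]
    have hpos := Nat.card_pos (α := Z₀)
    have h11 : Nat.card f.ker = 4 * Nat.card Z₀ := by rw [hc1, hc0]; ring
    rw [h11] at h5
    exact Nat.eq_of_mul_eq_mul_right hpos h5

/-- The plain form: a central 2-subgroup with quotient the Baby Monster has order at most 2. -/
theorem card_le_two {K : Type u} [Group K] [Finite K] (hK : commutator K = ⊤) {Z : Subgroup K} [Z.Normal]
    (hZ : Z ≤ center K) (hp : IsPGroup 2 Z) (e : (K ⧸ Z) ≃* Spor.BabyMonster) : Nat.card Z ≤ 2 := by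
  let f : K →* Spor.BabyMonster := e.toMonoidHom.comp (QuotientGroup.mk' Z)
  have hk : f.ker = Z := by
    ext x
    show e (QuotientGroup.mk' Z x) = 1 ↔ _
    rw [← map_one e, e.injective.eq_iff]
    exact QuotientGroup.eq_one_iff x
  have h1 := not_four_dvd hK (f := f) (e.surjective.comp (QuotientGroup.mk'_surjective Z)) (by rw [hk]; exact hZ)
  rw [hk] at h1
  obtain ⟨n, hn⟩ := IsPGroup.iff_card.1 hp
  rw [hn] at h1 ⊢
  by_contra hcon
  apply h1
  have h2 : 2 ≤ n := by
    by_contra h3
    have : n ≤ 1 := by omega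
    apply hcon
    calc 2 ^ n ≤ 2 ^ 1 := Nat.pow_le_pow_right (by norm_num) this
      _ = 2 := by norm_num
  exact Dvd.intro_left _ (by rw [show (4 : ℕ) = 2 ^ 2 by norm_num, ← pow_add, Nat.sub_add_cancel h2])

end Cfsg.Agent.KFacts.MulBaby
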