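import Cfsg.Agent.KFacts.MulDef

/-!
# The 2-part of the Schur multiplier is at most 2

`OneCover X`: any two finite perfect double covers of `X` are isomorphic over `X` and in each of them the central
involution `c` is a commutator `⁅x, w⁆` with `x * x` in `{1, c}` (that is: the two lifts of some involution of `X` are
conjugate).  Then (`OneCover.not_four_dvd`) a central subgroup `Z` of a finite perfect group `K` with `K / Z ≃* X` has
order not divisible by 4.
-/

set_option autoImplicit false
set_option linter.style.haveILetI false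

namespace Cfsg.Agent.KFacts.MulBound

open Subgroup Cfsg.Agent.KFacts.MulTwo Cfsg.Agent.KFacts.MulDef
open scoped commutatorElement

universe u v

/-- Two homomorphisms of a perfect group which agree modulo a central kernel are equal. -/
theorem hom_eq_of_perfect {K L X : Type*} [Group K] [Group L] [Group X] (hK : commutator K = ⊤)
    {π : L →* X} (hπ : ∀ x, π x = 1 → ∀ g, x * g = g * x) {f g : K →* L}
    (h : ∀ k, π (f k) = π (g k)) : f = g := by
  have key : ∀ k, ∃ z, π z = 1 ∧ g k = z * f k := fun k =>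
    ⟨g k * (f k)⁻¹, by rw [map_mul, map_inv, h, mul_inv_cancel], by group⟩
  have hle : commutator K ≤ MonoidHom.eqLocus f g := by
    rw [commutator_def, commutator_le]
    intro a _ b _
    show f ⁅a, b⁆ = g ⁅a, b⁆
    rw [map_commutatorElement, map_commutatorElement]
    obtain ⟨z, hz, ha⟩ := key a
    obtain ⟨w, hw, hb⟩ := key b
    rw [ha, hb]
    have hzc := hπ z hz
    have hwc := hπ w hw
    generalize f a = p
    generalize f b = q
    simp only [commutatorElement_def]
    have e1 : z * p * (w * q) = (p * q) * (z * w) := by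
      calc z * p * (w * q) = z * (p * w) * q := by simp only [mul_assoc]
        _ = z * (w * p) * q := by rw [hwc]
        _ = (z * w) * (p * q) := by simp only [mul_assoc]
        _ = (p * q) * (z * w) := hπ (z * w) (by rw [map_mul, hz, hw, one_mul]) _
    have e2 : w * q * (z * p) = (q * p) * (z * w) := by
      calc w * q * (z * p) = w * (q * z) * p := by simp only [mul_assoc]
        _ = w * (z * q) * p := by rw [hzc]
        _ = (w * z) * (q * p) := by simp only [mul_assoc]
        _ = (z * w) * (q * p) := by rw [hzc w]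
        _ = (q * p) * (z * w) := hπ (z * w) (by rw [map_mul, hz, hw, one_mul]) _
    calc p * q * p⁻¹ * q⁻¹ = (p * q) * (q * p)⁻¹ := by group
      _ = ((p * q) * (z * w)) * ((q * p) * (z * w))⁻¹ := by group
      _ = (z * p * (w * q)) * (w * q * (z * p))⁻¹ := by rw [e1, e2]
      _ = z * p * (w * q) * (z * p)⁻¹ * (w * q)⁻¹ := by group
  rw [hK] at hle
  ext k
  exact hle (mem_top k)

/-- one double cover, whose central involution is a commutator as explained above -/
structure OneCover (X : Type v) [Group X] : Prop where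
  uniq : ∀ (L M : Type) [Group L] [Group M] [Finite L] [Finite M] (π : L →* X) (ρ : M →* X) (c : L) (d : M),
    Dbl π c → Dbl ρ d → ∃ θ : L ≃* M, ∀ x, ρ (θ x) = π x
  real : ∀ (L : Type) [Group L] [Finite L] (π : L →* X) (c : L), Dbl π c →
    ∃ x w : L, π (x * x) = 1 ∧ ⁅x, w⁆ = c

theorem exists_type_zero (L : Type u) [Group L] [Finite L] : ∃ (L' : Type) (_ : Group L') (_ : Finite L'),
    Nonempty (L ≃* L') := by
  have : Small.{0} L := by
    obtain ⟨n, ⟨e⟩⟩ := Finite.exists_equiv_fin L
    exact small_map e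
  exact ⟨Shrink.{0} L, inferInstance, Finite.of_equiv L (equivShrink L), ⟨(Shrink.mulEquiv (α := L)).symm⟩⟩

/-- the quotient by a central subgroup of order 2 of a perfect group, with a kernel of order 4 -/
theorem dbl_quot {X : Type v} [Group X] {K : Type u} [Group K] (hK : commutator K = ⊤) {f : K →* X}
    (hf : Function.Surjective f) (hZ : ∀ x, f x = 1 → ∀ g, x * g = g * x) {c y : K} (hc : f c = 1) (hy : f y = 1)
    (hcc : c * c = 1) (hyc : y ≠ 1 ∧ y ≠ c) (hyy : y * y = 1 ∨ y * y = c)
    (h4 : ∀ x, f x = 1 → x = 1 ∨ x = c ∨ x = y ∨ x = y * c) :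
    ∃ (N : Subgroup K) (_ : N.Normal) (hle : N ≤ f.ker), (∀ x, x ∈ N ↔ x = 1 ∨ x = c) ∧
      Dbl (QuotientGroup.lift N f hle) (QuotientGroup.mk' N y) := by
  let N : Subgroup K :=
    { carrier := {x | x = 1 ∨ x = c}
      one_mem' := Or.inl rfl
      mul_mem' := by
        rintro a b (rfl | rfl) (rfl | rfl)
        · left; rw [one_mul]
        · right; rw [one_mul]
        · right; rw [mul_one]
        · left; exact hcc
      inv_mem' := by
        rintro a (rfl | rfl)
        · left; rw [inv_one]
        · right; exact inv_eq_of_mul_eq_one_left hcc }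
  have hmem : ∀ x, x ∈ N ↔ x = 1 ∨ x = c := fun x => Iff.rfl
  have hn : N.Normal := ⟨fun n hn g => by
    have : g * n * g⁻¹ = n := by
      rcases (hmem n).1 hn with rfl | rfl
      · group
      · rw [← hZ n hc, mul_inv_cancel_right]
    rwa [this]⟩
  have hle : N ≤ f.ker := by
    intro n hn
    rcases (hmem n).1 hn with rfl | rfl
    · exact map_one f
    · exact hc
  have hq1 : ∀ x, QuotientGroup.mk' N x = 1 ↔ x ∈ N := fun x => QuotientGroup.eq_one_iff x
  have hq : Function.Surjective (QuotientGroup.mk' N) := QuotientGroup.mk'_surjective _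
  refine ⟨N, hn, hle, hmem, ⟨?_, ?_, ?_, ?_⟩, ?_, ?_⟩
  · intro h
    rcases (hmem y).1 ((hq1 y).1 h) with h1 | h1
    · exact hyc.1 h1
    · exact hyc.2 h1
  · rw [← map_mul, hq1, hmem]; exact hyy
  · intro x
    obtain ⟨x, rfl⟩ := hq x
    rw [← map_mul, ← map_mul, hZ y hy x]
  · exact commutator_top_of_surj _ hq hK
  · intro p
    obtain ⟨k, rfl⟩ := hf p
    exact ⟨QuotientGroup.mk' N k, rfl⟩
  · intro x
    obtain ⟨x, rfl⟩ := hq x
    show f x = 1 ↔ _
    constructor
    · intro hx
      rcases h4 x hx with rfl | rfl | rfl | rfl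
      · left; exact map_one _
      · left; exact (hq1 _).2 (Or.inr rfl)
      · right; rfl
      · right
        rw [map_mul, (hq1 c).2 (Or.inr rfl), mul_one]
    · rintro (h1 | h1)
      · exact hle ((hq1 x).1 h1)
      · have h2 : QuotientGroup.mk' N (y⁻¹ * x) = 1 := by rw [map_mul, map_inv, h1, inv_mul_cancel]
        have h3 : f (y⁻¹ * x) = 1 := hle ((hq1 _).1 h2)
        rw [map_mul, map_inv, hy, inv_one, one_mul] at h3
        exact h3

theorem four_elems {K : Type*} [Group K] {H : Subgroup K} (hcard : Nat.card H = 4) {a b c : K}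
    (ha : a ∈ H) (hb : b ∈ H) (hc : c ∈ H) (a1 : a ≠ 1) (b1 : b ≠ 1) (c1 : c ≠ 1) (hab : a ≠ b) (hac : a ≠ c)
    (hbc : b ≠ c) : ∀ x ∈ H, x = 1 ∨ x = a ∨ x = b ∨ x = c := by
  classical
  intro x hx
  let s : Finset H := {1, ⟨a, ha⟩, ⟨b, hb⟩, ⟨c, hc⟩}
  have hs : s.card = 4 := by
    rw [Finset.card_insert_of_notMem, Finset.card_insert_of_notMem, Finset.card_insert_of_notMem,
      Finset.card_singleton]
    · simp only [Finset.mem_singleton]
      exact fun h => hbc (congrArg Subtype.val h)
    · simp only [Finset.mem_insert, Finset.mem_singleton, not_or]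
      exact ⟨fun h => hab (congrArg Subtype.val h), fun h => hac (congrArg Subtype.val h)⟩
    · simp only [Finset.mem_insert, Finset.mem_singleton, not_or]
      exact ⟨fun h => a1 (congrArg Subtype.val h).symm, fun h => b1 (congrArg Subtype.val h).symm,
        fun h => c1 (congrArg Subtype.val h).symm⟩
  have : Finite H := Nat.finite_of_card_ne_zero (by rw [hcard]; norm_num)
  have hfin : Fintype H := Fintype.ofFinite _
  have huniv : s = Finset.univ := Finset.eq_univ_of_card s (by rw [hs, ← Nat.card_eq_fintype_card, hcard])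
  have hx' : (⟨x, hx⟩ : H) ∈ s := by rw [huniv]; exact Finset.mem_univ _
  simp only [s, Finset.mem_insert, Finset.mem_singleton] at hx'
  rcases hx' with h | h | h | h
  · left; exact congrArg Subtype.val h
  · right; left; exact congrArg Subtype.val h
  · right; right; left; exact congrArg Subtype.val h
  · right; right; right; exact congrArg Subtype.val h

theorem OneCover.uniq' {X : Type v} [Group X] (h : OneCover X) {L M : Type u} [Group L] [Group M] [Finite L]
    [Finite M] {π : L →* X} {ρ : M →* X} {c : L} {d : M} (h1 : Dbl π c) (h2 : Dbl ρ d) :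
    ∃ θ : L ≃* M, ∀ x, ρ (θ x) = π x := by
  obtain ⟨L', _, _, ⟨e⟩⟩ := exists_type_zero L
  obtain ⟨M', _, _, ⟨e'⟩⟩ := exists_type_zero M
  obtain ⟨θ, hθ⟩ := h.uniq L' M' _ _ _ _ (h1.of_equiv e (MulEquiv.refl X)) (h2.of_equiv e' (MulEquiv.refl X))
  refine ⟨(e.trans θ).trans e'.symm, fun x => ?_⟩
  have := hθ (e x)
  simpa using this

theorem OneCover.real' {X : Type v} [Group X] (h : OneCover X) {L : Type u} [Group L] [Finite L]
    {π : L →* X} {c : L} (h1 : Dbl π c) : ∃ x w : L, π (x * x) = 1 ∧ ⁅x, w⁆ = c := by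
  obtain ⟨L', _, _, ⟨e⟩⟩ := exists_type_zero L
  obtain ⟨x, w, hx, hw⟩ := h.real L' _ _ (h1.of_equiv e (MulEquiv.refl X))
  refine ⟨e.symm x, e.symm w, ?_, ?_⟩
  · simpa using hx
  · rw [← map_commutatorElement, hw, e.symm_apply_apply]

/-- kernel of order 4 -/
theorem OneCover.false_of_four {X : Type v} [Group X] (h : OneCover X) {K : Type u} [Group K] [Finite K]
    (hK : commutator K = ⊤) {f : K →* X} (hf : Function.Surjective f)
    (hZ : ∀ x, f x = 1 → ∀ g, x * g = g * x) (hcard : Nat.card f.ker = 4) : False := by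
  classical
  by_cases hy : ∃ y, f y = 1 ∧ y * y ≠ 1
  · -- cyclic
    obtain ⟨y, hy, hyy⟩ := hy
    have hy4 : y * y * (y * y) = 1 := by
      have h1 : (⟨y, hy⟩ : f.ker) ^ Nat.card f.ker = 1 := pow_card_eq_one'
      rw [hcard] at h1
      have h2 := congrArg Subtype.val h1
      simp only [SubmonoidClass.coe_pow, OneMemClass.coe_one] at h2
      rw [← h2, pow_succ, pow_succ, pow_two, mul_assoc (y * y)]
    have h4 : ∀ x, f x = 1 → x = 1 ∨ x = y * y ∨ x = y ∨ x = y * (y * y) := by
      have hy1 : y ≠ 1 := fun h => hyy (by rw [h, one_mul])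
      have n1 : y * y ≠ y := fun h => hy1 (by simpa using h)
      have n3 : y * y ≠ y * (y * y) := fun h => n1 (mul_left_cancel h).symm
      have n2 : y * (y * y) ≠ 1 := fun h => by
        have e : y * y * (y * y) = y * (y * (y * y)) := by group
        rw [e, h, mul_one] at hy4
        exact hy1 hy4
      have n4 : y ≠ y * (y * y) := fun h => hyy (by simpa using h.symm)
      intro x hx
      exact four_elems hcard (by rw [MonoidHom.mem_ker, map_mul, hy, one_mul]) hy
        (by rw [MonoidHom.mem_ker, map_mul, map_mul, hy, one_mul, one_mul]) hyy hy1 n2 n1 n3 n4 x hx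
    have hy1 : y ≠ 1 := fun h => hyy (by rw [h, one_mul])
    obtain ⟨N, hn, hle, hmem, hd⟩ := dbl_quot hK hf hZ (c := y * y) (y := y)
      (by rw [map_mul, hy, one_mul]) hy hy4 ⟨hy1, fun h => hy1 (by simpa using h.symm)⟩ (Or.inr rfl) h4
    obtain ⟨x, w, hx, hw⟩ := h.real' hd
    obtain ⟨x, rfl⟩ := QuotientGroup.mk'_surjective N x
    obtain ⟨w, rfl⟩ := QuotientGroup.mk'_surjective N w
    rw [← map_mul] at hx
    have hx' : f (x * x) = 1 := hx
    have hw' : ⁅x, w⁆ * y⁻¹ ∈ N := by
      rw [← QuotientGroup.eq_one_iff (N := N)]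
      show QuotientGroup.mk' N (⁅x, w⁆ * y⁻¹) = 1
      rw [map_mul, map_inv, map_commutatorElement, hw, mul_inv_cancel]
    obtain ⟨k, hk, hkk⟩ : ∃ k, (k = 1 ∨ k = y * y) ∧ ⁅x, w⁆ = k * y :=
      ⟨⁅x, w⁆ * y⁻¹, (hmem _).1 hw', by group⟩
    have hc1 : f ⁅x, w⁆ = 1 := by
      rw [hkk, map_mul, hy, mul_one]
      rcases hk with rfl | rfl
      · exact map_one f
      · rw [map_mul, hy, one_mul]
    have h2 := noFour (x := x) (w := w) (fun g => hZ _ hx' g) (fun g => hZ _ hc1 g)
    rw [hkk] at h2
    apply hyy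
    rcases hk with rfl | rfl
    · rwa [one_mul] at h2
    · have e : y * y * y * (y * y * y) = y * y * (y * y) * (y * y) := by group
      rw [e, hy4, one_mul] at h2
      exact h2
  · -- elementary
    push Not at hy
    have hex : ∃ a b : f.ker, a ≠ 1 ∧ b ≠ 1 ∧ a ≠ b := by
      have hfin : Fintype f.ker := Fintype.ofFinite _
      have : 2 < (Finset.univ : Finset f.ker).card := by
        rw [Finset.card_univ, ← Nat.card_eq_fintype_card, hcard]; norm_num
      obtain ⟨a, ha⟩ : ∃ a : f.ker, a ∉ ({1} : Finset f.ker) := by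
        by_contra hcon
        push Not at hcon
        have := Finset.card_le_card (fun x _ => hcon x : (Finset.univ : Finset f.ker) ⊆ {1})
        rw [Finset.card_singleton] at this
        omega
      obtain ⟨b, hb⟩ : ∃ b : f.ker, b ∉ ({1, a} : Finset f.ker) := by
        by_contra hcon
        push Not at hcon
        have := Finset.card_le_card (fun x _ => hcon x : (Finset.univ : Finset f.ker) ⊆ {1, a})
        have := Finset.card_le_two (a := 1) (b := a)
        omega
      simp only [Finset.mem_singleton] at ha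
      simp only [Finset.mem_insert, Finset.mem_singleton, not_or] at hb
      exact ⟨a, b, ha, hb.1, fun h => hb.2 h.symm⟩
    obtain ⟨⟨c, hc⟩, ⟨y, hyk⟩, hc1, hy1, hcy⟩ := hex
    have hc1' : c ≠ 1 := fun h => hc1 (Subtype.ext h)
    have hy1' : y ≠ 1 := fun h => hy1 (Subtype.ext h)
    have hcy' : c ≠ y := fun h => hcy (Subtype.ext h)
    have hcc : c * c = 1 := hy c hc
    have hyy : y * y = 1 := hy y hyk
    have hyc4 : f (y * c) = 1 := by rw [map_mul, hyk, one_mul]; exact hc
    have h4 : ∀ x, f x = 1 → x = 1 ∨ x = c ∨ x = y ∨ x = y * c := by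
      have n2 : y * c ≠ 1 := fun h => hcy' (by
        have := congrArg (y * ·) h
        simp only [mul_one, ← mul_assoc, hyy, one_mul] at this
        exact this)
      have n3 : c ≠ y * c := fun h => hy1' (by simpa using h.symm)
      have n4 : y ≠ y * c := fun h => hc1' (by simpa using h.symm)
      intro x hx
      exact four_elems hcard hc hyk hyc4 hc1' hy1' n2 hcy' n3 n4 x hx
    have hcomm : y * c = c * y := hZ y hyk c
    have h4' : ∀ x, f x = 1 → x = 1 ∨ x = y ∨ x = c ∨ x = c * y := by
      intro x hx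
      rcases h4 x hx with h | h | h | h
      · left; exact h
      · right; right; left; exact h
      · right; left; exact h
      · right; right; right; rw [h, hcomm]
    obtain ⟨N, hn, hle, hmem, hd⟩ := dbl_quot hK hf hZ (c := c) (y := y) hc hyk hcc ⟨hy1', hcy'.symm⟩
      (Or.inl hyy) h4
    obtain ⟨M, hm, hle', hmem', hd'⟩ := dbl_quot hK hf hZ (c := y) (y := c) hyk hc hyy ⟨hc1', hcy'⟩
      (Or.inl hcc) h4'
    obtain ⟨θ, hθ⟩ := h.uniq' hd hd'
    have heq : QuotientGroup.mk' M = θ.toMonoidHom.comp (QuotientGroup.mk' N) := by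
      refine hom_eq_of_perfect hK (π := QuotientGroup.lift M f hle') (fun x hx g => ?_) (fun k => ?_)
      · rcases (hd'.ker x).1 hx with rfl | rfl
        · rw [one_mul, mul_one]
        · exact hd'.cen g
      · show f k = _
        exact (hθ (QuotientGroup.mk' N k)).symm
    have h5 : QuotientGroup.mk' M c = 1 := by
      rw [heq]
      show θ (QuotientGroup.mk' N c) = 1
      rw [show QuotientGroup.mk' N c = 1 from (QuotientGroup.eq_one_iff c).2 ((hmem c).2 (Or.inr rfl)), map_one]
    rcases (hmem' c).1 ((QuotientGroup.eq_one_iff c).1 h5) with h6 | h6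
    · exact hc1' h6
    · exact hcy' h6

/-- **Bound**: the 2-part of the multiplier is at most 2. -/
theorem OneCover.not_four_dvd {X : Type v} [Group X] (h : OneCover X) {K : Type u} [Group K] [Finite K]
    (hK : commutator K = ⊤) {f : K →* X} (hf : Function.Surjective f) (hZ : f.ker ≤ center K) :
    ¬ 4 ∣ Nat.card f.ker := by
  intro h4
  obtain ⟨Z₁, hle1, hc1⟩ := exists_index_two hZ (dvd_trans (by norm_num) h4)
  have h2 : 2 ∣ Nat.card Z₁ := by
    rw [hc1] at h4
    exact Nat.dvd_of_mul_dvd_mul_left (by norm_num : 0 < 2) (by simpa using h4)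
  obtain ⟨Z₀, hle0, hc0⟩ := exists_index_two (hle1.trans hZ) h2
  have hle : Z₀ ≤ f.ker := hle0.trans hle1
  have hcomm : ∀ a ∈ f.ker, ∀ b : K, b * a = a * b := fun a ha b => mem_center_iff.1 (hZ ha) b
  have hn : Z₀.Normal := ⟨fun n hn g => by
    rw [hcomm n (hle hn) g, mul_inv_cancel_right]; exact hn⟩
  let π : K ⧸ Z₀ →* X := QuotientGroup.lift Z₀ f hle
  have hq : Function.Surjective (QuotientGroup.mk' Z₀) := QuotientGroup.mk'_surjective _
  refine h.false_of_four (K := K ⧸ Z₀) (commutator_top_of_surj _ hq hK) (f := π)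
    (fun p => by obtain ⟨k, rfl⟩ := hf p; exact ⟨QuotientGroup.mk' Z₀ k, rfl⟩) ?_ ?_
  · intro x hx g
    obtain ⟨x, rfl⟩ := hq x
    obtain ⟨g, rfl⟩ := hq g
    rw [← map_mul, ← map_mul, hcomm x hx g]
  · have hker : π.ker = f.ker.map (QuotientGroup.mk' Z₀) := by
      ext x
      obtain ⟨x, rfl⟩ := hq x
      constructor
      · intro hx
        exact ⟨x, hx, rfl⟩
      · rintro ⟨y, hy, hyx⟩
        rw [← hyx]
        exact hy
    have h5 : Nat.card (f.ker.map (QuotientGroup.mk' Z₀)) * Nat.card Z₀ = Nat.card f.ker := by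
      have h6 := Subgroup.card_mul_index (Z₀.subgroupOf f.ker)
      have h7 : Nat.card (Z₀.subgroupOf f.ker) = Nat.card Z₀ :=
        Nat.card_congr (subgroupOfEquivOfLe hle).toEquiv
      have h8 : Nat.card (f.ker.map (QuotientGroup.mk' Z₀)) = (Z₀.subgroupOf f.ker).index := by
        let g : f.ker →* K ⧸ Z₀ := (QuotientGroup.mk' Z₀).comp f.ker.subtype
        have h9 : g.ker = Z₀.subgroupOf f.ker := by
          ext x
          show QuotientGroup.mk' Z₀ x.1 = 1 ↔ x.1 ∈ Z₀
          exact QuotientGroup.eq_one_iff x.1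
        have h10 : g.range = f.ker.map (QuotientGroup.mk' Z₀) := by
          rw [MonoidHom.range_comp, Subgroup.range_subtype]
        rw [← h9, ← h10]
        exact (Subgroup.index_ker g).symm
      rw [h8, mul_comm, ← h6, h7]
    rw [hker]
    have hpos := Nat.card_pos (α := Z₀)
    have h11 : Nat.card f.ker = 4 * Nat.card Z₀ := by rw [hc1, hc0]; ring
    rw [h11] at h5
    exact Nat.eq_of_mul_eq_mul_right hpos h5

end Cfsg.Agent.KFacts.MulBound
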