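import Mathlib
import Cfsg.Agent.SporadicRecognition.AltCover

/-!
# Central subgroups of order 2 of perfect groups: criteria for their non-existence

`Ctr c`: `c` is a central involution of the perfect group `L`.

* `Ctr.hom_eq_one` (MUL-0): a homomorphism of a subgroup `P ∋ c` of odd index to an abelian group kills `c`.
* `Ctr.false_of_compl`: no subgroup `P` of odd index is a direct product of `⟨c⟩` and another subgroup.
* `exists_invariant_hom`: an `R`-invariant homomorphism `A → {±1}` with value `-1` at `c` can be replaced by a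
  `P`-invariant one if `|P : R|` is odd.
* `sq_eq_one_of_trans` : `A` with all squares in `⟨c⟩` is elementary abelian if `P` is transitive on the non-trivial
  elements of `A / ⟨c⟩` and `|A / ⟨c⟩| ≥ 8`.
* `exists_compl` (MUL-A): an invariant complement of `⟨c⟩` in `A` if `P` is doubly transitive on the non-trivial elements
  of `A / ⟨c⟩`.
-/

set_option autoImplicit false
set_option linter.style.haveILetI false

namespace Cfsg.Agent.KFacts.MulTwo

open Subgroup

/-- `c` is a central involution of the perfect group `L`. -/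
structure Ctr {L : Type*} [Group L] (c : L) : Prop where
  ne : c ≠ 1
  sq : c * c = 1
  cen : ∀ x : L, c * x = x * c
  perf : commutator L = ⊤

section zero

variable {L : Type*} [Group L] {c : L}

/-- (MUL-0) -/
theorem Ctr.hom_eq_one [Finite L] (h : Ctr c) {P : Subgroup L} (hcP : c ∈ P) (hP : ¬ 2 ∣ P.index)
    {B : Type*} [CommGroup B] (φ : P →* B) : φ ⟨c, hcP⟩ = 1 := by
  have h1 : ∀ (k : ℕ) (g₀ : L), g₀⁻¹ * c ^ k * g₀ ∈ P → g₀⁻¹ * c ^ k * g₀ = c ^ k := by
    intro k g₀ _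
    have h2 : Commute c g₀ := h.cen g₀
    rw [mul_assoc, (h2.pow_left k).eq]; group
  have h3 := MonoidHom.transfer_eq_pow φ c h1
  have h4 : MonoidHom.transfer φ c = 1 := by
    have h5 : (MonoidHom.transfer φ).ker = ⊤ := by
      rw [eq_top_iff, ← h.perf]
      exact Abelianization.commutator_subset_ker _
    have : c ∈ (MonoidHom.transfer φ).ker := by rw [h5]; exact mem_top _
    exact this
  have h5 : c ^ P.index = c := by
    obtain ⟨k, hk⟩ := Nat.odd_iff.2 (Nat.two_dvd_ne_zero.1 hP)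
    rw [hk, pow_succ, pow_mul, pow_two, h.sq, one_pow, one_mul]
  have h6 : (⟨c ^ P.index, MonoidHom.transfer_eq_pow_aux c h1⟩ : P) = ⟨c, hcP⟩ := Subtype.ext h5
  rw [h4, h6] at h3
  exact h3.symm

/-- No subgroup of odd index is a direct product of `⟨c⟩` and a subgroup `P₁`. -/
theorem Ctr.false_of_compl [Finite L] (h : Ctr c) {P P₁ : Subgroup L} (hcP : c ∈ P) (hP : ¬ 2 ∣ P.index)
    (hc : c ∉ P₁) (hx : ∀ x ∈ P, x ∈ P₁ ∨ c * x ∈ P₁) : False := by
  classical
  let φ : P →* ℤˣ :=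
    { toFun := fun x => if (x : L) ∈ P₁ then 1 else -1
      map_one' := by simp
      map_mul' := by
        have key : ∀ x : P, (x : L) ∉ P₁ → c * x ∈ P₁ := fun x hx' => (hx x x.2).resolve_left hx'
        have key2 : ∀ x : P, c * (x : L) ∈ P₁ → (x : L) ∉ P₁ := by
          intro x h1 h2
          apply hc
          have := mul_mem h1 (inv_mem h2)
          rwa [mul_assoc, mul_inv_cancel, mul_one] at this
        intro x y
        show (if ((x * y : P) : L) ∈ P₁ then (1 : ℤˣ) else -1) = (if (x : L) ∈ P₁ then 1 else -1) *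
          (if (y : L) ∈ P₁ then 1 else -1)
        by_cases h1 : (x : L) ∈ P₁
        · by_cases h2 : (y : L) ∈ P₁
          · have h3 : ((x * y : P) : L) ∈ P₁ := mul_mem h1 h2
            rw [if_pos h1, if_pos h2, if_pos h3, one_mul]
          · have h3 : c * ((x * y : P) : L) ∈ P₁ := by
              have e : c * ((x * y : P) : L) = x * (c * y) := by
                rw [coe_mul, ← mul_assoc, h.cen x, mul_assoc]
              rw [e]
              exact mul_mem h1 (key y h2)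
            rw [if_pos h1, if_neg h2, if_neg (key2 _ h3), one_mul]
        · by_cases h2 : (y : L) ∈ P₁
          · have h3 : c * ((x * y : P) : L) ∈ P₁ := by
              have e : c * ((x * y : P) : L) = (c * x) * y := by rw [coe_mul, mul_assoc]
              rw [e]
              exact mul_mem (key x h1) h2
            rw [if_neg h1, if_pos h2, if_neg (key2 _ h3), mul_one]
          · have h3 : ((x * y : P) : L) ∈ P₁ := by
              have e : ((x * y : P) : L) = (c * x) * (c * y) := by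
                rw [coe_mul, h.cen x, mul_assoc, ← mul_assoc c c, h.sq, one_mul]
              rw [e]
              exact mul_mem (key x h1) (key y h2)
            rw [if_neg h1, if_neg h2, if_pos h3]
            rfl }
  have h1 := h.hom_eq_one hcP hP φ
  have h2 : φ ⟨c, hcP⟩ = -1 := if_neg hc
  rw [h2] at h1
  exact absurd h1 (by decide)

end zero

/-! ### Averaging -/

/-- A homomorphism `φ : A → {±1}` invariant under `R ≤ P`, `|P : R|` odd, with `φ c = -1` for a central element `c`, can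
be replaced by a `P`-invariant one. -/
theorem exists_invariant_hom {L : Type*} [Group L] {c : L} (hcen : ∀ x : L, c * x = x * c) {A : Subgroup L}
    (hcA : c ∈ A) {P R : Subgroup L} [Finite P] (hRP : R ≤ P) (hodd : ¬ 2 ∣ R.relIndex P)
    (hPA : ∀ g ∈ P, ∀ a ∈ A, g⁻¹ * a * g ∈ A) (φ : A →* ℤˣ) (hφc : φ ⟨c, hcA⟩ = -1)
    (hφ : ∀ g (hg : g ∈ R) a (ha : a ∈ A), φ ⟨g⁻¹ * a * g, hPA g (hRP hg) a ha⟩ = φ ⟨a, ha⟩) :
    ∃ Φ : A →* ℤˣ, Φ ⟨c, hcA⟩ = -1 ∧
      ∀ g (hg : g ∈ P) a (ha : a ∈ A), Φ ⟨g⁻¹ * a * g, hPA g hg a ha⟩ = Φ ⟨a, ha⟩ := by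
  classical
  haveI : Fintype (P ⧸ R.subgroupOf P) := Fintype.ofFinite _
  -- the value at a coset
  have hwd : ∀ (a : A) (g g' : P), (g : P ⧸ R.subgroupOf P) = g' →
      φ ⟨(g : L)⁻¹ * a * g, hPA g g.2 a a.2⟩ = φ ⟨(g' : L)⁻¹ * a * g', hPA g' g'.2 a a.2⟩ := by
    intro a g g' hgg
    rw [QuotientGroup.eq] at hgg
    have hr : ((g : L)⁻¹ * g') ∈ R := hgg
    have := hφ _ hr _ (hPA g g.2 a a.2)
    rw [← this]
    congr 1
    apply Subtype.ext
    show ((g : L)⁻¹ * g')⁻¹ * ((g : L)⁻¹ * a * g) * ((g : L)⁻¹ * g') = (g' : L)⁻¹ * a * g'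
    group
  let F : A → (P ⧸ R.subgroupOf P) → ℤˣ := fun a q =>
    φ ⟨((q.out : P) : L)⁻¹ * a * (q.out : P), hPA _ (q.out : P).2 a a.2⟩
  have hF : ∀ (a : A) (g : P), F a (g : P ⧸ R.subgroupOf P) = φ ⟨(g : L)⁻¹ * a * g, hPA g g.2 a a.2⟩ := by
    intro a g
    exact hwd a _ g (Quotient.out_eq' _)
  refine ⟨{ toFun := fun a => ∏ q, F a q
            map_one' := ?_
            map_mul' := ?_ }, ?_, ?_⟩
  · apply Finset.prod_eq_one
    intro q _
    have : (⟨((q.out : P) : L)⁻¹ * ((1 : A) : L) * (q.out : P), hPA _ (q.out : P).2 _ (1 : A).2⟩ : A) = 1 := by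
      apply Subtype.ext
      show ((q.out : P) : L)⁻¹ * 1 * (q.out : P) = 1
      group
    show φ _ = 1
    rw [this, map_one]
  · intro a b
    rw [← Finset.prod_mul_distrib]
    apply Finset.prod_congr rfl
    intro q _
    show φ _ = φ _ * φ _
    rw [← map_mul]
    congr 1
    apply Subtype.ext
    show ((q.out : P) : L)⁻¹ * (a * b) * (q.out : P) = ((q.out : P) : L)⁻¹ * a * (q.out : P) *
      (((q.out : P) : L)⁻¹ * b * (q.out : P))
    group
  · show ∏ q, F ⟨c, hcA⟩ q = -1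
    have h1 : ∀ q ∈ Finset.univ, F ⟨c, hcA⟩ q = -1 := by
      intro q _
      show φ _ = -1
      rw [← hφc]
      congr 1
      apply Subtype.ext
      show ((q.out : P) : L)⁻¹ * c * (q.out : P) = c
      rw [mul_assoc, hcen]; group
    rw [Finset.prod_congr rfl h1, Finset.prod_const, Finset.card_univ, ← Nat.card_eq_fintype_card]
    have h2 : Nat.card (P ⧸ R.subgroupOf P) = R.relIndex P := rfl
    rw [h2]
    exact Odd.neg_one_pow (Nat.odd_iff.2 (Nat.two_dvd_ne_zero.1 hodd))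
  · intro g hg a ha
    show ∏ q, F ⟨g⁻¹ * a * g, hPA g hg a ha⟩ q = ∏ q, F ⟨a, ha⟩ q
    apply Fintype.prod_bijective (fun q => (⟨g, hg⟩ : P) • q) (MulAction.bijective _)
    intro q
    induction q using QuotientGroup.induction_on with
    | H x =>
      have e : (⟨g, hg⟩ : P) • (x : P ⧸ R.subgroupOf P) = ((⟨g, hg⟩ * x : P) : P ⧸ R.subgroupOf P) := rfl
      rw [e, hF, hF]
      congr 1
      apply Subtype.ext
      show (x : L)⁻¹ * (g⁻¹ * a * g) * x = ((⟨g, hg⟩ * x : P) : L)⁻¹ * a * ((⟨g, hg⟩ * x : P) : L)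
      rw [coe_mul]
      group

/-! ### Elementary abelian sections -/

section elem

variable {L : Type*} [Group L] {c : L} {A P : Subgroup L}

/-- Squares in `⟨c⟩`: commutators lie in `⟨c⟩`. -/
theorem comm_or (hcen : ∀ x : L, c * x = x * c) (hsq : c * c = 1) (hA : ∀ a ∈ A, a * a = 1 ∨ a * a = c) {a b : L}
    (ha : a ∈ A) (hb : b ∈ A) : a * b = b * a ∨ a * b = b * a * c := by
  have hci : c⁻¹ = c := inv_eq_of_mul_eq_one_left hsq
  -- `x⁻¹ = x` or `x⁻¹ = x c`
  have hinv : ∀ x ∈ A, ∃ e : L, (e = 1 ∨ e = c) ∧ x⁻¹ = x * e := by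
    intro x hx
    rcases hA x hx with h | h
    · exact ⟨1, Or.inl rfl, by rw [mul_one]; exact inv_eq_of_mul_eq_one_left h⟩
    · refine ⟨c, Or.inr rfl, ?_⟩
      apply inv_eq_of_mul_eq_one_right
      rw [← mul_assoc, h, hsq]
  obtain ⟨e1, h1, h1'⟩ := hinv a ha
  obtain ⟨e2, h2, h2'⟩ := hinv b hb
  obtain ⟨e3, h3, h3'⟩ := hinv (a * b) (mul_mem ha hb)
  have hce : ∀ e : L, (e = 1 ∨ e = c) → ∀ x : L, e * x = x * e := by
    rintro e (rfl | rfl) x
    · rw [one_mul, mul_one]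
    · exact hcen x
  -- `b⁻¹ a⁻¹ = a b e3`, so `b a e1 e2 = a b e3`
  have h4 : b * a * (e1 * e2) = a * b * e3 := by
    have : (a * b)⁻¹ = b * e2 * (a * e1) := by rw [mul_inv_rev, h1', h2']
    rw [h3'] at this
    rw [this, mul_assoc b e2, ← mul_assoc e2 a, hce e2 h2 a, mul_assoc a e2, hce e2 h2 e1]
    group
  have h5 : ∃ e : L, (e = 1 ∨ e = c) ∧ a * b = b * a * e := by
    have he : ∀ e f : L, (e = 1 ∨ e = c) → (f = 1 ∨ f = c) → (e * f = 1 ∨ e * f = c) := by
      rintro e f (rfl | rfl) (rfl | rfl)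
      · left; rw [one_mul]
      · right; rw [one_mul]
      · right; rw [mul_one]
      · left; exact hsq
    refine ⟨e1 * e2 * e3, he _ _ (he _ _ h1 h2) h3, ?_⟩
    have h6 : e3 * e3 = 1 := by rcases h3 with rfl | rfl; · rw [one_mul]
                                · exact hsq
    rw [← mul_assoc, h4, mul_assoc, h6, mul_one]
  obtain ⟨e, rfl | rfl, h6⟩ := h5
  · left; rw [h6, mul_one]
  · right; exact h6

/-- `A` is elementary abelian if `P` is transitive on the non-trivial elements of `A / ⟨c⟩` (at least 7 of them). -/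
theorem sq_eq_one_of_trans (hc1 : c ≠ 1) (hcen : ∀ x : L, c * x = x * c) (hsq : c * c = 1) (hcA : c ∈ A)
    (hA : ∀ a ∈ A, a * a = 1 ∨ a * a = c)
    (htr : ∀ a ∈ A, ∀ b ∈ A, a ≠ 1 → a ≠ c → b ≠ 1 → b ≠ c → ∃ g ∈ P, g * a * g⁻¹ = b ∨ g * a * g⁻¹ = b * c)
    (h8 : ∀ a ∈ A, ∀ b ∈ A, ∃ d ∈ A, d ∉ closure ({a, b, c} : Set L))
    (h4 : ∀ a ∈ A, ∃ b ∈ A, b ∉ closure ({a, c} : Set L)) : ∀ a ∈ A, a * a = 1 := by
  -- squares are constant on `A \ ⟨c⟩`
  have hcon : ∀ a ∈ A, ∀ b ∈ A, a ≠ 1 → a ≠ c → b ≠ 1 → b ≠ c → a * a = b * b := by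
    intro a ha b hb ha1 hac hb1 hbc
    obtain ⟨g, -, hg⟩ := htr a ha b hb ha1 hac hb1 hbc
    have h1 : g * (a * a) * g⁻¹ = b * b := by
      have e : g * (a * a) * g⁻¹ = (g * a * g⁻¹) * (g * a * g⁻¹) := by group
      rw [e]
      rcases hg with hg | hg
      · rw [hg]
      · rw [hg, mul_assoc b c, ← mul_assoc c b, hcen b, mul_assoc b c, hsq, mul_one]
    rcases hA a ha with h2 | h2
    · rw [h2] at h1 ⊢
      rw [← h1]; group
    · rw [h2] at h1 ⊢
      rw [← h1, ← hcen g]; group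
  intro a ha
  by_contra hne
  have hac : a * a = c := (hA a ha).resolve_left hne
  have ha1 : a ≠ 1 := by rintro rfl; exact hne (one_mul _)
  have hac' : a ≠ c := by rintro rfl; exact hne hsq
  have hall : ∀ b ∈ A, b ≠ 1 → b ≠ c → b * b = c := fun b hb h1 h2 => by
    rw [← hcon a ha b hb ha1 hac' h1 h2, hac]
  -- elements outside `⟨c⟩` with product outside `⟨c⟩` do not commute
  have hnc : ∀ x ∈ A, ∀ y ∈ A, x ≠ 1 → x ≠ c → y ≠ 1 → y ≠ c → x * y ≠ 1 → x * y ≠ c → x * y = y * x * c := by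
    intro x hx y hy h1 h2 h3 h5 h6 h7
    rcases comm_or hcen hsq hA hx hy with h | h
    · exfalso
      have h8 := hall (x * y) (mul_mem hx hy) h6 h7
      have h9 : x * y * (x * y) = x * x * (y * y) := by
        calc x * y * (x * y) = x * (y * x) * y := by group
          _ = x * (x * y) * y := by rw [h]
          _ = x * x * (y * y) := by group
      rw [h9, hall x hx h1 h2, hall y hy h3 h5, hsq] at h8
      exact hc1 h8.symm
    · exact h
  obtain ⟨b, hb, hb'⟩ := h4 a ha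
  obtain ⟨d, hd, hd'⟩ := h8 a ha b hb
  have hcl : closure ({a, c} : Set L) ≤ closure ({a, b, c} : Set L) := closure_mono (by
    rintro x (rfl | rfl)
    · exact Or.inl rfl
    · exact Or.inr (Or.inr rfl))
  have ma : a ∈ closure ({a, b, c} : Set L) := subset_closure (Or.inl rfl)
  have mb : b ∈ closure ({a, b, c} : Set L) := subset_closure (Or.inr (Or.inl rfl))
  have mc : c ∈ closure ({a, b, c} : Set L) := subset_closure (Or.inr (Or.inr rfl))
  have ma' : a ∈ closure ({a, c} : Set L) := subset_closure (Or.inl rfl)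
  have mc' : c ∈ closure ({a, c} : Set L) := subset_closure (Or.inr rfl)
  have hb1 : b ≠ 1 := by rintro rfl; exact hb' (one_mem _)
  have hbc : b ≠ c := by rintro rfl; exact hb' mc'
  have hd1 : d ≠ 1 := by rintro rfl; exact hd' (one_mem _)
  have hdc : d ≠ c := by rintro rfl; exact hd' mc
  have e1 := hnc a ha b hb ha1 hac' hb1 hbc (fun h => hb' (by
    rw [eq_inv_of_mul_eq_one_right h]; exact inv_mem ma')) (fun h => hb' (by
    have : b = a⁻¹ * c := by rw [← h]; group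
    rw [this]; exact mul_mem (inv_mem ma') mc'))
  have e2 := hnc a ha d hd ha1 hac' hd1 hdc (fun h => hd' (by
    rw [eq_inv_of_mul_eq_one_right h]; exact inv_mem ma)) (fun h => hd' (by
    have : d = a⁻¹ * c := by rw [← h]; group
    rw [this]; exact mul_mem (inv_mem ma) mc))
  have e3 := hnc a ha (b * d) (mul_mem hb hd) ha1 hac' (fun h => hd' (by
    rw [eq_inv_of_mul_eq_one_right h]; exact inv_mem mb)) (fun h => hd' (by
    have : d = b⁻¹ * c := by rw [← h]; group
    rw [this]; exact mul_mem (inv_mem mb) mc)) (fun h => hd' (by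
    have : d = b⁻¹ * (a⁻¹ * (a * (b * d))) := by group
    rw [this, h]; exact mul_mem (inv_mem mb) (mul_mem (inv_mem ma) (one_mem _)))) (fun h => hd' (by
    have : d = b⁻¹ * (a⁻¹ * (a * (b * d))) := by group
    rw [this, h]; exact mul_mem (inv_mem mb) (mul_mem (inv_mem ma) mc)))
  -- but `a` commutes with `b d`
  have e4 : a * (b * d) = b * d * a := by
    calc a * (b * d) = (a * b) * d := by group
      _ = b * a * c * d := by rw [e1]
      _ = b * (a * (c * d)) := by group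
      _ = b * (a * (d * c)) := by rw [hcen d]
      _ = b * (a * d) * c := by group
      _ = b * (d * a * c) * c := by rw [e2]
      _ = b * d * a * (c * c) := by group
      _ = b * d * a := by rw [hsq, mul_one]
  rw [e4] at e3
  exact hc1 (mul_eq_left.1 e3.symm)

/-- **(MUL-A)** an invariant complement. -/
theorem exists_compl (hc1 : c ≠ 1) (hcen : ∀ x : L, c * x = x * c) (hsq : c * c = 1) (hcA : c ∈ A)
    (hA : ∀ a ∈ A, a * a = 1) (hPA : ∀ g ∈ P, ∀ a ∈ A, g * a * g⁻¹ ∈ A) {a₀ : L} (ha₀ : a₀ ∈ A) (ha₀1 : a₀ ≠ 1)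
    (ha₀c : a₀ ≠ c)
    (htr : ∀ a ∈ A, a ≠ 1 → a ≠ c → ∃ g ∈ P, g * a₀ * g⁻¹ = a ∨ g * a₀ * g⁻¹ = a * c)
    (htr2 : ∀ a ∈ A, ∀ b ∈ A, ∀ a' ∈ A, ∀ b' ∈ A, a ≠ 1 → a ≠ c → b ≠ 1 → b ≠ c → a * b ≠ 1 → a * b ≠ c →
      a' ≠ 1 → a' ≠ c → b' ≠ 1 → b' ≠ c → a' * b' ≠ 1 → a' * b' ≠ c →
      ∃ g ∈ P, (g * a * g⁻¹ = a' ∨ g * a * g⁻¹ = a' * c) ∧ (g * b * g⁻¹ = b' ∨ g * b * g⁻¹ = b' * c))
    (hno : ∀ g ∈ P, g * a₀ * g⁻¹ ≠ a₀ * c) :
    ∃ A₁ : Subgroup L, A₁ ≤ A ∧ (∀ g ∈ P, ∀ a ∈ A₁, g * a * g⁻¹ ∈ A₁) ∧ c ∉ A₁ ∧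
      ∀ a ∈ A, a ∈ A₁ ∨ c * a ∈ A₁ := by
  classical
  have hci : c⁻¹ = c := inv_eq_of_mul_eq_one_left hsq
  have hcomm : ∀ x ∈ A, ∀ y ∈ A, x * y = y * x := by
    intro x hx y hy
    have h1 := hA _ (mul_mem hx hy)
    have h2 : (x * y)⁻¹ = x * y := inv_eq_of_mul_eq_one_left h1
    rw [← h2, mul_inv_rev, inv_eq_of_mul_eq_one_left (hA x hx), inv_eq_of_mul_eq_one_left (hA y hy)]
  -- the orbit
  let O : Set L := {a | ∃ g ∈ P, g * a₀ * g⁻¹ = a}
  have hOA : ∀ a ∈ O, a ∈ A := by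
    rintro _ ⟨g, hg, rfl⟩
    exact hPA g hg a₀ ha₀
  have hO1 : ∀ a ∈ O, a ≠ 1 := by
    rintro _ ⟨g, hg, rfl⟩ h
    apply ha₀1
    have : a₀ = g⁻¹ * (g * a₀ * g⁻¹) * g := by group
    rw [this, h]; group
  have hOc : ∀ a ∈ O, a ≠ c := by
    rintro _ ⟨g, hg, rfl⟩ h
    apply ha₀c
    have : a₀ = g⁻¹ * (g * a₀ * g⁻¹) * g := by group
    rw [this, h, mul_assoc, hcen]; group
  have hOP : ∀ g ∈ P, ∀ a ∈ O, g * a * g⁻¹ ∈ O := by
    rintro g hg _ ⟨k, hk, rfl⟩
    exact ⟨g * k, mul_mem hg hk, by group⟩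
  have hOO : ∀ a ∈ O, c * a ∉ O := by
    rintro _ ⟨g, hg, rfl⟩ ⟨k, hk, h⟩
    apply hno (g⁻¹ * k) (mul_mem (inv_mem hg) hk)
    calc g⁻¹ * k * a₀ * (g⁻¹ * k)⁻¹ = g⁻¹ * (k * a₀ * k⁻¹) * g := by group
      _ = g⁻¹ * (c * (g * a₀ * g⁻¹)) * g := by rw [h]
      _ = (g⁻¹ * c) * g * a₀ := by group
      _ = c * a₀ := by rw [← hcen g⁻¹]; group
      _ = a₀ * c := hcen _
  have hOr : ∀ a ∈ A, a ≠ 1 → a ≠ c → a ∈ O ∨ c * a ∈ O := by
    intro a ha h1 h2
    obtain ⟨g, hg, h3 | h3⟩ := htr a ha h1 h2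
    · exact Or.inl ⟨g, hg, h3⟩
    · exact Or.inr ⟨g, hg, by rw [h3, hcen]⟩
  -- the product of two elements of the orbit
  have hprod : (∀ x ∈ O, ∀ y ∈ O, x ≠ y → x * y ∈ O) ∨ (∀ x ∈ O, ∀ y ∈ O, x ≠ y → c * (x * y) ∈ O) := by
    have hne : ∀ x ∈ O, ∀ y ∈ O, x ≠ y → x * y ≠ 1 ∧ x * y ≠ c := by
      intro x hx y hy hxy
      constructor
      · intro h
        apply hxy
        rw [eq_inv_of_mul_eq_one_left h, inv_eq_of_mul_eq_one_left (hA y (hOA y hy))]
      · intro h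
        apply hOO x hx
        have : c * x = y := by
          rw [← h, mul_assoc, hcomm y (hOA y hy) x (hOA x hx), ← mul_assoc, hA x (hOA x hx), one_mul]
        rw [this]; exact hy
    by_cases hex : ∃ x ∈ O, ∃ y ∈ O, x ≠ y ∧ x * y ∈ O
    · left
      obtain ⟨x, hx, y, hy, hxy, hxyO⟩ := hex
      intro x' hx' y' hy' hxy'
      obtain ⟨g, hg, hga, hgb⟩ := htr2 x (hOA x hx) y (hOA y hy) x' (hOA _ hx') y' (hOA _ hy') (hO1 x hx)
        (hOc x hx) (hO1 y hy) (hOc y hy) (hne x hx y hy hxy).1 (hne x hx y hy hxy).2 (hO1 x' hx') (hOc x' hx')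
        (hO1 y' hy') (hOc y' hy') (hne x' hx' y' hy' hxy').1 (hne x' hx' y' hy' hxy').2
      have fix : ∀ u ∈ O, ∀ v ∈ O, (g * u * g⁻¹ = v ∨ g * u * g⁻¹ = v * c) → g * u * g⁻¹ = v := by
        intro u hu v hv huv
        rcases huv with h | h
        · exact h
        · exfalso
          apply hOO v hv
          rw [hcen, ← h]
          exact hOP g hg u hu
      have e1 := fix x hx x' hx' hga
      have e2 := fix y hy y' hy' hgb
      have : x' * y' = g * (x * y) * g⁻¹ := by rw [← e1, ← e2]; group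
      rw [this]
      exact hOP g hg _ hxyO
    · right
      push Not at hex
      intro x hx y hy hxy
      exact (hOr (x * y) (mul_mem (hOA x hx) (hOA y hy)) (hne x hx y hy hxy).1 (hne x hx y hy hxy).2).resolve_left
        (hex x hx y hy hxy)
  -- the subgroup
  have mk : ∀ O' : Set L, (∀ a ∈ O', a ∈ A) → (∀ x ∈ O', ∀ y ∈ O', x ≠ y → x * y ∈ O') →
      (∀ g ∈ P, ∀ a ∈ O', g * a * g⁻¹ ∈ O') → c ∉ O' → (∀ a ∈ A, a ≠ 1 → a ≠ c → a ∈ O' ∨ c * a ∈ O') →
      ∃ A₁ : Subgroup L, A₁ ≤ A ∧ (∀ g ∈ P, ∀ a ∈ A₁, g * a * g⁻¹ ∈ A₁) ∧ c ∉ A₁ ∧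
        ∀ a ∈ A, a ∈ A₁ ∨ c * a ∈ A₁ := by
    intro O' h1 h2 h3 h4 h5
    let A₁ : Subgroup L :=
      { carrier := {x | x = 1 ∨ x ∈ O'}
        one_mem' := Or.inl rfl
        mul_mem' := by
          rintro x y (rfl | hx) (rfl | hy)
          · left; rw [one_mul]
          · right; rwa [one_mul]
          · right; rwa [mul_one]
          · by_cases hxy : x = y
            · left; rw [← hxy]; exact hA x (h1 x hx)
            · right; exact h2 x hx y hy hxy
        inv_mem' := by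
          rintro x (rfl | hx)
          · left; rw [inv_one]
          · right
            show x⁻¹ ∈ O'
            rwa [inv_eq_of_mul_eq_one_left (hA x (h1 x hx))] }
    refine ⟨A₁, ?_, ?_, ?_, ?_⟩
    · rintro x (rfl | hx)
      · exact one_mem _
      · exact h1 x hx
    · rintro g hg x (rfl | hx)
      · left; group
      · right; exact h3 g hg x hx
    · rintro (h | h)
      · exact hc1 h
      · exact h4 h
    · intro a ha
      by_cases e1 : a = 1
      · left; rw [e1]; exact one_mem _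
      by_cases e2 : a = c
      · right; rw [e2, hsq]; exact one_mem _
      rcases h5 a ha e1 e2 with h | h
      · left; exact Or.inr h
      · right; exact Or.inr h
  rcases hprod with hp | hp
  · exact mk O hOA hp hOP (fun h => hOc c h rfl) hOr
  · refine mk {x | c * x ∈ O} ?_ ?_ ?_ ?_ ?_
    · intro a ha
      have := mul_mem hcA (hOA _ ha)
      rwa [← mul_assoc, hsq, one_mul] at this
    · intro x hx y hy hxy
      have h1 := hp (c * x) hx (c * y) hy (fun h => hxy (mul_left_cancel h))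
      show c * (x * y) ∈ O
      have e : c * x * (c * y) = x * y := by
        rw [hcen x, mul_assoc, ← mul_assoc c c, hsq, one_mul]
      rwa [e] at h1
    · intro g hg a ha
      show c * (g * a * g⁻¹) ∈ O
      have e : c * (g * a * g⁻¹) = g * (c * a) * g⁻¹ := by
        rw [← mul_assoc, ← mul_assoc, hcen g]; group
      rw [e]
      exact hOP g hg _ ha
    · intro h
      have h' : c * c ∈ O := h
      rw [hsq] at h'
      exact hO1 1 h' rfl
    · intro a ha h1 h2
      rcases hOr a ha h1 h2 with h | h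
      · right
        show c * (c * a) ∈ O
        rwa [← mul_assoc, hsq, one_mul]
      · left; exact h

end elem

end Cfsg.Agent.KFacts.MulTwo
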