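import Mathlib
import Cfsg.Agent.KFacts.MulTwo

/-!
# Central extensions by a group of order two (`Cov π c`) and squares

`Ext π c`: `π : L →* X` is onto with kernel `{1, c}`, `c` a central involution of `L`; `Cov π c`: moreover `L` is
perfect.

* `Cov.false_of_subgroup`, `Cov.false_of_hom`, `Cov.false_of_section`: no splitting over a subgroup of odd index.
* `NoSq c`: `c` is not a square in `L`, i.e. every involution of `X` lifts to an involution. Then commuting
  involutions have commuting lifts etc.
* `Ext.good_of_seven`: an involution of `X` lifts to an involution, if it is conjugate to the seven involutions of a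
  subgroup `⟨a, b, d⟩`.
* `Ext.lift_rel`: the Carmichael relations of the alternating groups lift.
* `odd_card_center`: a perfect group `K` with `K / Z(K) ≅ X` has a centre of odd order, if there is no `Cov π c`
  over `X`.
-/

set_option autoImplicit false
set_option linter.style.haveILetI false

namespace Cfsg.Agent.KFacts.MulCov

open Subgroup
open Cfsg.Agent.KFacts.MulTwo

universe u v

/-- `π : L → X` is a central extension by the group `{1, c}` of order two. -/
structure Ext {L : Type u} {X : Type v} [Group L] [Group X] (π : L →* X) (c : L) : Prop where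
  ne : c ≠ 1
  sq : c * c = 1
  cen : ∀ x : L, c * x = x * c
  surj : Function.Surjective π
  ker : ∀ x, π x = 1 ↔ x = 1 ∨ x = c

/-- `π : L → X` is a central extension by the group `{1, c}` of order two, `L` perfect. -/
structure Cov {L : Type u} {X : Type v} [Group L] [Group X] (π : L →* X) (c : L) : Prop extends Ext π c where
  perf : commutator L = ⊤

theorem Cov.toCtr {L : Type u} {X : Type v} [Group L] [Group X] {π : L →* X} {c : L} (h : Cov π c) : Ctr c :=
  ⟨h.ne, h.sq, h.cen, h.perf⟩

/-- `c` is not a square. -/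
def NoSq {L : Type u} [Group L] (c : L) : Prop := ∀ x : L, x * x ≠ c

section basic

variable {L : Type u} {X : Type v} [Group L] [Group X] {π : L →* X} {c : L}

theorem Ext.map_c (h : Ext π c) : π c = 1 := (h.ker c).2 (Or.inr rfl)

theorem Ext.inv_c (h : Ext π c) : c⁻¹ = c := inv_eq_of_mul_eq_one_left h.sq

theorem Ext.eq_or (h : Ext π c) {x y : L} (hxy : π x = π y) : x = y ∨ x = y * c := by
  have h1 : π (y⁻¹ * x) = 1 := by rw [map_mul, map_inv, hxy, inv_mul_cancel]
  rcases (h.ker _).1 h1 with h2 | h2
  · left; exact (inv_mul_eq_one.1 h2).symm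
  · right; rw [← h2, mul_inv_cancel_left]

theorem Ext.pow_c_even (h : Ext π c) (k : ℕ) : c ^ (2 * k) = 1 := by
  rw [pow_mul, pow_two, h.sq, one_pow]

theorem Ext.pow_c_odd (h : Ext π c) {n : ℕ} (hn : Odd n) : c ^ n = c := by
  obtain ⟨k, rfl⟩ := hn
  rw [pow_succ, h.pow_c_even, one_mul]

/-- powers of odd exponent can be arranged -/
theorem Ext.exists_pow_odd (h : Ext π c) {g : X} {n : ℕ} (hn : Odd n) (hg : g ^ n = 1) :
    ∃ y, π y = g ∧ y ^ n = 1 := by
  obtain ⟨x, rfl⟩ := h.surj g
  rw [← map_pow] at hg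
  rcases (h.ker _).1 hg with h1 | h1
  · exact ⟨x, rfl, h1⟩
  · refine ⟨x * c, by rw [map_mul, h.map_c, mul_one], ?_⟩
    have hc : Commute x c := (h.cen x).symm
    rw [hc.mul_pow, h1, h.pow_c_odd hn, h.sq]

/-- conjugating by `c` is trivial -/
theorem Ext.conj_eq (h : Ext π c) {x y : L} (hxy : π x = π y) (z : L) : x * z * x⁻¹ = y * z * y⁻¹ := by
  rcases h.eq_or hxy with rfl | rfl
  · rfl
  · rw [mul_inv_rev, h.inv_c, mul_assoc y c z, h.cen z, mul_assoc, mul_assoc z c, ← mul_assoc c c, h.sq, one_mul,
      mul_assoc]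

/-- an element of odd order modulo `c` centralises all the elements that it centralises modulo `c` -/
theorem Ext.comm_of_odd (h : Ext π c) {g a : L} {n : ℕ} (hn : Odd n) (hg : π g ^ n = 1)
    (hc : π g * π a = π a * π g) : g * a = a * g := by
  have h1 : π (g * a) = π (a * g) := by rw [map_mul, map_mul, hc]
  rcases h.eq_or h1 with h2 | h2
  · exact h2
  · exfalso
    -- `g a g⁻¹ = a c`
    have h3 : ∀ k : ℕ, g ^ k * a = a * g ^ k * c ^ k := by
      intro k
      induction k with
      | zero => simp
      | succ k ih =>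
        have hcg : Commute c g := h.cen g
        have hcc : g * (c ^ k) = c ^ k * g := (hcg.pow_left k).symm.eq
        calc g ^ (k + 1) * a = g * (g ^ k * a) := by rw [pow_succ']; group
          _ = g * (a * g ^ k * c ^ k) := by rw [ih]
          _ = (g * a) * g ^ k * c ^ k := by group
          _ = a * g * c * g ^ k * c ^ k := by rw [h2]
          _ = a * g * (c * g ^ k) * c ^ k := by group
          _ = a * g * (g ^ k * c) * c ^ k := by rw [h.cen]
          _ = a * g ^ (k + 1) * c ^ (k + 1) := by rw [pow_succ' g, pow_succ' c]; group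
    have h4 := h3 n
    rw [h.pow_c_odd hn] at h4
    rw [← map_pow] at hg
    have h5 : g ^ n * a = a * g ^ n := by
      rcases (h.ker _).1 hg with h6 | h6
      · rw [h6, one_mul, mul_one]
      · rw [h6]; exact h.cen a
    rw [h5] at h4
    exact h.ne (mul_eq_left.1 h4.symm)

end basic

/-! ### Splitting over subgroups of odd index -/

section split

variable {L : Type u} {X : Type v} [Group L] [Finite L] [Group X] {π : L →* X} {c : L}

theorem Cov.false_of_subgroup (h : Cov π c) {P : Subgroup X} (hP : ¬ 2 ∣ P.index) {P₁ : Subgroup L} (hc : c ∉ P₁)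
    (hPP : P ≤ P₁.map π) : False := by
  refine h.toCtr.false_of_compl (P := P.comap π) (P₁ := P₁) ?_ ?_ hc ?_
  · rw [mem_comap, h.map_c]; exact one_mem _
  · rwa [index_comap_of_surjective _ h.surj]
  · intro x hx
    obtain ⟨y, hy, hyx⟩ := hPP (mem_comap.1 hx)
    rcases h.eq_or hyx.symm with rfl | rfl
    · exact Or.inl hy
    · right
      rw [h.cen, mul_assoc, h.sq, mul_one]
      exact hy

theorem Cov.false_of_hom (h : Cov π c) {P : Subgroup X} (hP : ¬ 2 ∣ P.index) (s : P →* L)
    (hs : ∀ x, π (s x) = x) : False := by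
  refine h.false_of_subgroup hP (P₁ := s.range) ?_ ?_
  · rintro ⟨x, hx⟩
    have h1 := hs x
    rw [hx, h.map_c] at h1
    have h2 : x = 1 := Subtype.ext h1.symm
    rw [h2, map_one] at hx
    exact h.ne hx.symm
  · intro x hx
    exact ⟨s ⟨x, hx⟩, ⟨_, rfl⟩, hs _⟩

theorem Cov.false_of_section (h : Cov π c) (s : X →* L) (hs : ∀ x, π (s x) = x) : False := by
  refine h.false_of_subgroup (P := ⊤) (by rw [index_top]; norm_num) (P₁ := s.range) ?_ ?_
  · rintro ⟨x, hx⟩
    have h1 := hs x
    rw [hx, h.map_c] at h1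
    rw [← h1, map_one] at hx
    exact h.ne hx.symm
  · intro x _
    exact ⟨s x, ⟨_, rfl⟩, hs _⟩

end split

/-! ### Squares -/

section squares

variable {L : Type u} {X : Type v} [Group L] [Group X] {π : L →* X} {c : L}

theorem Ext.mul_self_or (h : Ext π c) {x : L} (hx : π x * π x = 1) : x * x = 1 ∨ x * x = c := by
  rw [← map_mul] at hx
  exact (h.ker _).1 hx

theorem Ext.mul_self_eq (h : Ext π c) {x y : L} (hxy : π x = π y) : x * x = y * y := by
  rcases h.eq_or hxy with rfl | rfl
  · rfl
  · rw [mul_assoc, ← mul_assoc c y c, h.cen y, mul_assoc y c c, h.sq, mul_one]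

/-- conjugate involutions of `X` behave in the same way -/
theorem Ext.mul_self_of_isConj (h : Ext π c) {x y : L} (hxy : IsConj (π x) (π y)) (hx : π x * π x = 1) :
    y * y = x * x := by
  obtain ⟨g, hg⟩ := isConj_iff.1 hxy
  obtain ⟨k, rfl⟩ := h.surj g
  have h1 : π (k * x * k⁻¹) = π y := by rw [map_mul, map_mul, map_inv, hg]
  rw [← h.mul_self_eq h1]
  have h2 : k * x * k⁻¹ * (k * x * k⁻¹) = k * (x * x) * k⁻¹ := by group
  rw [h2]
  rcases h.mul_self_or hx with h3 | h3
  · rw [h3, mul_one, mul_inv_cancel]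
  · rw [h3, ← h.cen, mul_inv_cancel_right]

/-- the seven involutions of an elementary abelian group of order eight cannot all lift to elements of order four -/
theorem eq_one_of_seven {c s x y z : L} (hcc : c * c = 1) (hs : s = 1 ∨ s = c) (hcen : ∀ w : L, c * w = w * c)
    (hx : x * x = s) (hy : y * y = s)
    (hz : z * z = s) (hxy : x * y * (x * y) = s) (hxz : x * z * (x * z) = s) (hyz : y * z * (y * z) = s)
    (hxyz : x * (y * z) * (x * (y * z)) = s) : s = 1 := by
  have hss : s * s = 1 := by rcases hs with rfl | rfl; · exact one_mul 1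
                             · exact hcc
  have hsc : ∀ w, s * w = w * s := by
    intro w
    rcases hs with rfl | rfl
    · rw [one_mul, mul_one]
    · exact hcen w
  -- `a b = b a s`
  have key : ∀ a b : L, a * a = s → b * b = s → a * b * (a * b) = s → a * b = b * a * s := by
    intro a b ha hb hab
    have h1 : a * (b * a) * b = a * (a * b * s) * b := by
      calc a * (b * a) * b = a * b * (a * b) := by group
        _ = s := hab
        _ = s * (s * s) := by rw [hss, mul_one]
        _ = (a * a) * (b * b) * s := by rw [ha, hb, mul_assoc]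
        _ = a * (a * b) * (b * s) := by group
        _ = a * (a * b) * (s * b) := by rw [hsc b]
        _ = a * (a * b * s) * b := by group
    have h2 : b * a = a * b * s := mul_left_cancel (mul_right_cancel h1)
    rw [h2, mul_assoc, hss, mul_one]
  have h1 := key x y hx hy hxy
  have h2 := key x z hx hz hxz
  have h3 := key x (y * z) hx hyz hxyz
  have h4 : x * (y * z) = y * z * x := by
    calc x * (y * z) = (x * y) * z := by group
      _ = y * x * s * z := by rw [h1]
      _ = y * x * (s * z) := by group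
      _ = y * x * (z * s) := by rw [hsc]
      _ = y * (x * z) * s := by group
      _ = y * (z * x * s) * s := by rw [h2]
      _ = y * z * x * (s * s) := by group
      _ = y * z * x := by rw [hss, mul_one]
  rw [h4] at h3
  exact mul_eq_left.1 h3.symm

/-- all the lifts of the involution `a` are involutions -/
def Good (π : L →* X) (a : X) : Prop := ∀ x, π x = a → x * x = 1

theorem Good.of_isConj (h : Ext π c) {a b : X} (ha : Good π a) (ha2 : a * a = 1) (hab : IsConj a b) : Good π b := by
  rintro y rfl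
  obtain ⟨x, rfl⟩ := h.surj a
  rw [h.mul_self_of_isConj hab ha2]
  exact ha x rfl

theorem Ext.good_of_seven (h : Ext π c) {a b d : X} (ha : a * a = 1) (hb : IsConj a b) (hd : IsConj a d)
    (hab : IsConj a (a * b)) (had : IsConj a (a * d)) (hbd : IsConj a (b * d)) (habd : IsConj a (a * (b * d))) :
    Good π a := by
  obtain ⟨x, rfl⟩ := h.surj a
  obtain ⟨y, rfl⟩ := h.surj b
  obtain ⟨z, rfl⟩ := h.surj d
  have h1 : x * x = 1 := by
    apply eq_one_of_seven (x := x) (y := y) (z := z) h.sq (h.mul_self_or ha) h.cen rfl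
    · exact h.mul_self_of_isConj hb ha
    · exact h.mul_self_of_isConj hd ha
    · rw [← map_mul] at hab; exact h.mul_self_of_isConj hab ha
    · rw [← map_mul] at had; exact h.mul_self_of_isConj had ha
    · rw [← map_mul] at hbd; exact h.mul_self_of_isConj hbd ha
    · rw [← map_mul, ← map_mul] at habd; exact h.mul_self_of_isConj habd ha
  intro w hw
  rw [h.mul_self_eq hw, h1]

/-- the same with an element `g` of order seven: `a i = g ^ i * a * g ^ (-i)`, `a 0 * a 1 = a 3` etc. -/
theorem Ext.good_of_singer (h : Ext π c) {g : X} (a : ℕ → X) (hc : ∀ i < 6, g * a i = a (i + 1) * g)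
    (ha : a 0 * a 0 = 1) (h01 : a 0 * a 1 = a 3) (h02 : a 0 * a 2 = a 6) (h12 : a 1 * a 2 = a 4)
    (h04 : a 0 * a 4 = a 5) : Good π (a 0) := by
  have hcj : ∀ i < 7, IsConj (a 0) (a i) := by
    intro i
    induction i with
    | zero => intro _; exact IsConj.refl _
    | succ i ih =>
      intro hi
      refine (ih (by omega)).trans (isConj_iff.2 ⟨g, ?_⟩)
      rw [hc i (by omega), mul_inv_cancel_right]
  refine h.good_of_seven (b := a 1) (d := a 2) ha (hcj 1 (by norm_num)) (hcj 2 (by norm_num)) ?_ ?_ ?_ ?_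
  · rw [h01]; exact hcj 3 (by norm_num)
  · rw [h02]; exact hcj 6 (by norm_num)
  · rw [h12]; exact hcj 4 (by norm_num)
  · rw [h12, h04]; exact hcj 5 (by norm_num)

/-- `c` is not a square if all the involutions of `X` are conjugate to good ones -/
theorem Ext.noSq (h : Ext π c) (hall : ∀ a : X, a * a = 1 → a ≠ 1 → Good π a) : NoSq c := by
  intro x hx
  have h1 : π x * π x = 1 := by rw [← map_mul, hx, h.map_c]
  have h2 : π x ≠ 1 := by
    intro h2
    rcases (h.ker _).1 h2 with rfl | rfl
    · rw [one_mul] at hx; exact h.ne hx.symm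
    · rw [h.sq] at hx; exact h.ne hx.symm
  exact h.ne (hx ▸ hall _ h1 h2 x rfl)

/-- one class of involutions and 2-rank at least 3 -/
theorem Ext.noSq_of_one_class (h : Ext π c) (h1 : ∀ a b : X, a * a = 1 → b * b = 1 → a ≠ 1 → b ≠ 1 → IsConj a b)
    {a b d : X} (ha : a * a = 1) (hb : b * b = 1) (hd : d * d = 1) (hab : a * b = b * a) (had : a * d = d * a)
    (hbd : b * d = d * b) (ha1 : a ≠ 1) (hb1 : b ≠ 1) (hba : b ≠ a) (hd1 : d ≠ 1) (hda : d ≠ a) (hdb : d ≠ b)
    (hdab : d ≠ a * b) : NoSq c := by
  have m2 : ∀ u v : X, u * u = 1 → v * v = 1 → u * v = v * u → u * v * (u * v) = 1 := by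
    intro u v hu hv huv
    calc u * v * (u * v) = u * (v * u) * v := by group
      _ = (u * u) * (v * v) := by rw [← huv]; group
      _ = 1 := by rw [hu, hv, one_mul]
  have ne : ∀ u v : X, v * v = 1 → u ≠ v → u * v ≠ 1 := by
    intro u v hv huv h2
    exact huv (by rw [eq_inv_of_mul_eq_one_left h2, inv_eq_of_mul_eq_one_left hv])
  have hbd2 := m2 b d hb hd hbd
  have habd : a * (b * d) = b * d * a := by
    calc a * (b * d) = (a * b) * d := by group
      _ = b * (a * d) := by rw [hab]; group
      _ = b * d * a := by rw [had]; group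
  have hg : Good π a := by
    refine h.good_of_seven (b := b) (d := d) ha (h1 a b ha hb ha1 hb1) (h1 a d ha hd ha1 hd1)
      (h1 a _ ha (m2 a b ha hb hab) ha1 (ne a b hb hba.symm)) (h1 a _ ha (m2 a d ha hd had) ha1 (ne a d hd hda.symm))
      (h1 a _ ha hbd2 ha1 (ne b d hd hdb.symm)) (h1 a _ ha (m2 a _ ha hbd2 habd) ha1 (ne a _ hbd2 ?_))
    intro h2
    apply hdab
    calc d = b * b * d := by rw [hb, one_mul]
      _ = b * (b * d) := by group
      _ = b * a := by rw [← h2]
      _ = a * b := hab.symm
  exact h.noSq fun u hu hu1 => hg.of_isConj h ha (h1 a u ha hu ha1 hu1)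

theorem Ext.sq_one (h : Ext π c) (hn : NoSq c) {x : L} (hx : π x * π x = 1) : x * x = 1 :=
  (h.mul_self_or hx).resolve_right (hn x)

theorem Ext.pow_even (h : Ext π c) (hn : NoSq c) {x : L} {k : ℕ} (hx : π x ^ (2 * k) = 1) : x ^ (2 * k) = 1 := by
  rw [mul_comm, pow_mul, pow_two] at hx ⊢
  rw [← map_pow] at hx
  exact h.sq_one hn hx

/-- commuting involutions have commuting lifts -/
theorem Ext.comm_of_invol (h : Ext π c) (hn : NoSq c) {a b : L} (ha : π a * π a = 1) (hb : π b * π b = 1)
    (hab : π a * π b = π b * π a) : a * b = b * a := by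
  have h1 := h.sq_one hn ha
  have h2 := h.sq_one hn hb
  have h3 : π (a * b) * π (a * b) = 1 := by
    rw [map_mul]
    calc π a * π b * (π a * π b) = π a * (π b * π a) * π b := by group
      _ = (π a * π a) * (π b * π b) := by rw [← hab]; group
      _ = 1 := by rw [ha, hb, one_mul]
  have h4 := h.sq_one hn h3
  calc a * b = (a * b)⁻¹ := (inv_eq_of_mul_eq_one_left h4).symm
    _ = b * a := by rw [mul_inv_rev, inv_eq_of_mul_eq_one_left h1, inv_eq_of_mul_eq_one_left h2]

/-- products of involutions and elements of odd order of the centraliser of the involution `π a` commute with `a` -/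
theorem Ext.comm_of_closure (h : Ext π c) (hn : NoSq c) {a g : L} (ha : π a * π a = 1)
    (hg : π g ∈ closure {u : X | u * π a = π a * u ∧ (u * u = 1 ∨ ∃ n : ℕ, Odd n ∧ u ^ n = 1)}) :
    g * a = a * g := by
  have hle : closure {u : X | u * π a = π a * u ∧ (u * u = 1 ∨ ∃ n : ℕ, Odd n ∧ u ^ n = 1)} ≤
      (centralizer ({a} : Set L)).map π := by
    rw [closure_le]
    rintro u ⟨hu, h2 | ⟨n, hn', h2⟩⟩
    · obtain ⟨y, rfl⟩ := h.surj u
      exact ⟨y, mem_centralizer_singleton_iff.2 (h.comm_of_invol hn h2 ha hu), rfl⟩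
    · obtain ⟨y, rfl⟩ := h.surj u
      exact ⟨y, mem_centralizer_singleton_iff.2 (h.comm_of_odd hn' h2 hu), rfl⟩
  obtain ⟨y, hy, hyg⟩ := hle hg
  have h1 := mem_centralizer_singleton_iff.1 hy
  rcases h.eq_or hyg.symm with rfl | rfl
  · exact h1
  · rw [mul_assoc, h.cen, ← mul_assoc, h1, mul_assoc]

/-- the Carmichael relations lift -/
theorem Ext.lift_rel (h : Ext π c) (hn : NoSq c) {m : ℕ} {x : ℕ → X} (hx : Cfsg.Agent.Lib.AltCarmichael.Rel m x) :
    ∃ y : ℕ → L, Cfsg.Agent.Lib.AltCarmichael.Rel m y ∧ ∀ i < m, π (y i) = x i := by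
  have h1 : ∀ i, ∃ y, (i < m → π y = x i ∧ y ^ 3 = 1) := by
    intro i
    by_cases hi : i < m
    · obtain ⟨y, hy, hy3⟩ := h.exists_pow_odd (n := 3) (by decide) (hx.cube i hi)
      exact ⟨y, fun _ => ⟨hy, hy3⟩⟩
    · exact ⟨1, fun h => absurd h hi⟩
  choose y hy using h1
  refine ⟨y, ⟨fun i hi => (hy i hi).2, fun i hi j hj hij => ?_⟩, fun i hi => (hy i hi).1⟩
  have := h.pow_even hn (x := y i * y j) (k := 1) (by
    rw [mul_one, map_mul, (hy i hi).1, (hy j hj).1]
    exact hx.sq i hi j hj hij)
  simpa using this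

end squares

/-! ### Pull back -/

section pullback

variable {L : Type u} {X : Type v} [Group L] [Group X] {π : L →* X} {c : L} {Y : Type*} [Group Y]

/-- the pull back of `π` along `φ : Y →* X` -/
def pull (π : L →* X) (φ : Y →* X) : Subgroup (L × Y) :=
  (π.comp (MonoidHom.fst L Y)).eqLocus (φ.comp (MonoidHom.snd L Y))

theorem mem_pull {π : L →* X} {φ : Y →* X} {p : L × Y} : p ∈ pull π φ ↔ π p.1 = φ p.2 := Iff.rfl

theorem Ext.pullback (h : Ext π c) (φ : Y →* X) :
    Ext ((MonoidHom.snd L Y).comp (pull π φ).subtype)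
      (⟨(c, 1), by rw [mem_pull]; show π c = φ 1; rw [h.map_c, map_one]⟩ : pull π φ) where
  ne := fun he => h.ne (congrArg (fun q : pull π φ => (q : L × Y).1) he)
  sq := Subtype.ext (Prod.ext h.sq (one_mul 1))
  cen := fun x => Subtype.ext (Prod.ext (h.cen _) (by
    show 1 * (x : L × Y).2 = (x : L × Y).2 * 1
    rw [one_mul, mul_one]))
  surj := fun y => by
    obtain ⟨x, hx⟩ := h.surj (φ y)
    exact ⟨⟨(x, y), hx⟩, rfl⟩
  ker := fun x => by
    constructor
    · intro hx
      have h1 : (x : L × Y).2 = 1 := hx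
      have h2 : π (x : L × Y).1 = 1 := by rw [mem_pull.1 x.2, h1, map_one]
      rcases (h.ker _).1 h2 with h3 | h3
      · exact Or.inl (Subtype.ext (Prod.ext h3 h1))
      · exact Or.inr (Subtype.ext (Prod.ext h3 h1))
    · rintro (rfl | rfl)
      · exact map_one _
      · rfl

/-- If all central extensions of `Y` by groups of order two split then homomorphisms `Y → X` lift. -/
theorem Ext.exists_lift (h : Ext π c) (φ : Y →* X)
    (hsec : ∀ (π' : pull π φ →* Y) (c' : pull π φ), Ext π' c' → ∃ s : Y →* pull π φ, ∀ y, π' (s y) = y) :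
    ∃ ψ : Y →* L, ∀ y, π (ψ y) = φ y := by
  obtain ⟨s, hs⟩ := hsec _ _ (h.pullback φ)
  refine ⟨((MonoidHom.fst L Y).comp (pull π φ).subtype).comp s, fun y => ?_⟩
  have h1 := mem_pull.1 (s y).2
  have h2 : ((s y : pull π φ) : L × Y).2 = y := hs y
  rw [h2] at h1
  exact h1

end pullback

/-! ### The reduction -/

theorem zmod_two_cases {a : ZMod 2} (ha : a ≠ 0) (b : ZMod 2) : b = 0 ∨ b = a := by
  revert a b; decide

theorem exists_index_two {Z : Type*} [CommGroup Z] [Finite Z] (h2 : 2 ∣ Nat.card Z) :
    ∃ Y : Subgroup Z, Y.index = 2 := by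
  classical
  -- the squaring map is not injective, hence not surjective
  haveI : Fact (Nat.Prime 2) := ⟨Nat.prime_two⟩
  obtain ⟨z, hz⟩ := exists_prime_orderOf_dvd_card' 2 h2
  let f : Z →* Z := powMonoidHom 2
  have hf : ¬ Function.Injective f := by
    intro hi
    have h1 : f z = f 1 := by
      show z ^ 2 = 1 ^ 2
      rw [one_pow, ← hz, pow_orderOf_eq_one]
    have h3 := hi h1
    rw [h3, orderOf_one] at hz
    exact absurd hz (by norm_num)
  have hf' : ¬ Function.Surjective f := fun hs => hf (Finite.injective_iff_surjective.2 hs)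
  have hr : f.range ≠ ⊤ := fun h => hf' (MonoidHom.range_eq_top.1 h)
  -- the quotient is elementary abelian
  let Q := Z ⧸ f.range
  have hQ : ∀ q : Q, q ^ 2 = 1 := by
    intro q
    induction q using QuotientGroup.induction_on with
    | H z =>
      rw [← QuotientGroup.mk_pow, QuotientGroup.eq_one_iff]
      exact ⟨z, rfl⟩
  letI : Module (ZMod 2) (Additive Q) := AddCommGroup.zmodModule (n := 2) fun q => by
    have := hQ q.toMul
    exact this
  have hex : ∃ q : Additive Q, q ≠ 0 := by
    obtain ⟨w, hw⟩ : ∃ w, w ∉ f.range := by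
      by_contra hcon
      push Not at hcon
      exact hr ((eq_top_iff' _).2 hcon)
    refine ⟨Additive.ofMul (w : Q), fun h => hw ?_⟩
    exact (QuotientGroup.eq_one_iff w).1 h
  obtain ⟨q, hq⟩ := hex
  have h5 : ∃ φ : Module.Dual (ZMod 2) (Additive Q), φ q ≠ 0 := by
    by_contra hcon
    push Not at hcon
    exact hq ((Module.forall_dual_apply_eq_zero_iff (ZMod 2) q).1 hcon)
  obtain ⟨φ, hφ⟩ := h5
  let ψ : Z →* Multiplicative (ZMod 2) :=
    (AddMonoidHom.toMultiplicativeRight φ.toAddMonoidHom).comp (QuotientGroup.mk' f.range)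
  refine ⟨ψ.ker, ?_⟩
  have hs : Function.Surjective ψ := by
    obtain ⟨w, hw⟩ := QuotientGroup.mk_surjective q.toMul
    have h6 : ψ w = Multiplicative.ofAdd (φ q) := by
      show Multiplicative.ofAdd (φ (Additive.ofMul ((w : Z) : Z ⧸ f.range))) = _
      rw [hw]; rfl
    intro y
    rcases zmod_two_cases hφ y.toAdd with h8 | h8
    · exact ⟨1, by rw [map_one]; exact congrArg Multiplicative.ofAdd h8.symm⟩
    · exact ⟨w, by rw [h6, ← h8]; rfl⟩
  rw [Subgroup.index_ker, MonoidHom.range_eq_top.2 hs]
  rw [Nat.card_congr (Subgroup.topEquiv (G := Multiplicative (ZMod 2))).toEquiv]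
  have : Nat.card (Multiplicative (ZMod 2)) = Nat.card (ZMod 2) := rfl
  rw [this, Nat.card_zmod]

/-- **The reduction**: a perfect group with central quotient `X` has a centre of odd order if there is no perfect
central extension of `X` by a group of order two. -/
theorem odd_card_center {X : Type v} [Group X]
    (hno : ∀ (L : Type u) [Group L] [Finite L] (π : L →* X) (c : L), ¬ Cov π c)
    {K : Type u} [Group K] [Finite K] (hp : commutator K = ⊤) (e : K ⧸ center K ≃* X) :
    ¬ 2 ∣ Nat.card (center K) := by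
  intro h2
  letI : CommGroup (center K) :=
    { (inferInstance : Group (center K)) with
      mul_comm := fun a b => Subtype.ext (mem_center_iff.1 b.2 a) }
  obtain ⟨Y, hY⟩ := exists_index_two h2
  set Z₁ : Subgroup K := Y.map (center K).subtype with hZ₁
  have hle : Z₁ ≤ center K := by
    rintro _ ⟨y, -, rfl⟩
    exact y.2
  have hmem : ∀ z : center K, (z : K) ∈ Z₁ ↔ z ∈ Y := by
    intro z
    constructor
    · rintro ⟨y, hy, hyz⟩
      have : y = z := Subtype.ext hyz
      rwa [← this]
    · intro hz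
      exact ⟨z, hz, rfl⟩
  haveI : Z₁.Normal := ⟨fun z hz g => by
    have h1 : g * z * g⁻¹ = z := by rw [mem_center_iff.1 (hle hz) g, mul_inv_cancel_right]
    rwa [h1]⟩
  have hYt : ∃ z : center K, z ∉ Y := by
    by_contra hcon
    push Not at hcon
    have : Y = ⊤ := (eq_top_iff' _).2 hcon
    rw [this, index_top] at hY
    omega
  obtain ⟨z, hz⟩ := hYt
  have hzz : z * z ∈ Y := (mul_mem_iff_of_index_two hY).2 Iff.rfl
  have hker : ∀ x : K, x ∈ center K → x ∈ Z₁ ∨ x * (z : K)⁻¹ ∈ Z₁ := by
    intro x hx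
    by_cases hxY : (⟨x, hx⟩ : center K) ∈ Y
    · left; exact (hmem ⟨x, hx⟩).2 hxY
    · right
      have h1 : (⟨x, hx⟩ * z⁻¹ : center K) ∈ Y := by
        rw [mul_mem_iff_of_index_two hY]
        constructor
        · intro h; exact absurd h hxY
        · intro h; exact absurd (inv_mem_iff.1 h) hz
      exact (hmem _).2 h1
  let π : K ⧸ Z₁ →* X := (e : K ⧸ center K →* X).comp (QuotientGroup.map Z₁ (center K) (MonoidHom.id K) hle)
  have hπ : ∀ x : K, π (x : K ⧸ Z₁) = e (x : K ⧸ center K) := fun x => rfl
  refine hno (K ⧸ Z₁) π ((z : K) : K ⧸ Z₁) ⟨⟨?_, ?_, ?_, ?_, ?_⟩, ?_⟩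
  · intro h
    exact hz ((hmem z).1 ((QuotientGroup.eq_one_iff _).1 h))
  · rw [← QuotientGroup.mk_mul, QuotientGroup.eq_one_iff]
    exact (hmem (z * z)).2 hzz
  · intro x
    induction x using QuotientGroup.induction_on with
    | H x =>
      rw [← QuotientGroup.mk_mul, ← QuotientGroup.mk_mul, mem_center_iff.1 z.2 x]
  · intro x
    obtain ⟨y, hy⟩ := QuotientGroup.mk_surjective (e.symm x)
    exact ⟨(y : K ⧸ Z₁), by rw [hπ, hy, e.apply_symm_apply]⟩
  · intro x
    induction x using QuotientGroup.induction_on with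
    | H x =>
      rw [hπ, e.map_eq_one_iff, QuotientGroup.eq_one_iff, QuotientGroup.eq_one_iff]
      constructor
      · intro hx
        rcases hker x hx with h1 | h1
        · exact Or.inl h1
        · right
          rw [QuotientGroup.eq]
          have h3 := inv_mem h1
          rw [mul_inv_rev, inv_inv] at h3
          rw [← mem_center_iff.1 (inv_mem hx) z]
          exact h3
      · rintro (h1 | h1)
        · exact hle h1
        · rw [QuotientGroup.eq] at h1
          have h3 : x = (z : K) * (x⁻¹ * z)⁻¹ := by group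
          rw [h3]
          exact mul_mem z.2 (inv_mem (hle h1))
  · have h1 : (commutator K).map (QuotientGroup.mk' Z₁) = commutator (K ⧸ Z₁) := by
      rw [commutator_def, commutator_def, map_commutator]
      congr 1 <;>
      · rw [← MonoidHom.range_eq_map, MonoidHom.range_eq_top]
        exact QuotientGroup.mk'_surjective _
    rw [← h1, hp, ← MonoidHom.range_eq_map, MonoidHom.range_eq_top]
    exact QuotientGroup.mk'_surjective _

/-- The reduction for a 2-group as centre. -/
theorem center_eq_bot {X : Type v} [Group X]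
    (hno : ∀ (L : Type u) [Group L] [Finite L] (π : L →* X) (c : L), ¬ Cov π c)
    {K : Type u} [Group K] [Finite K] (hp : commutator K = ⊤) (e : K ⧸ center K ≃* X)
    (h2 : IsPGroup 2 (center K)) : center K = ⊥ := by
  have h1 := odd_card_center hno hp e
  haveI : Fact (Nat.Prime 2) := ⟨Nat.prime_two⟩
  obtain ⟨n, hn⟩ := IsPGroup.iff_card.1 h2
  rw [hn] at h1
  have h3 : n = 0 := by
    by_contra h4
    exact h1 (dvd_pow_self 2 h4)
  rw [h3, pow_zero] at hn
  exact (card_eq_one).1 hn

end Cfsg.Agent.KFacts.MulCov
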