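import Cfsg.Agent.HN.CoverUnique
import Cfsg.Agent.HN.Hom
import Cfsg.Agent.HN.InvHN
import Cfsg.Agent.HN.SimpleHN
import Cfsg.Agent.KFacts.MulLift

/-!
# The Harada-Norton group has no perfect double cover

`K = 2.HS`, the even part of `H0 = ⟨x, y, z⟩ = 2.HS.2`, has the property that `HS = K / ⟨τ⟩` has exactly one perfect
double cover (`HN.CoverUnique`).  Let `π : L → HN` be a perfect double cover with kernel `{1, c}`.

* `τ` is the centre of a quaternion subgroup of `H0`; so all lifts of `τ`, and of its conjugate `z`, are involutions.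
* So (`MulLift.exists_lift_of_uniq`) `K → HN` lifts to `s : K → L`, and `z` acts on `s(K)` as on `K`.
* `t` has a lift of order 5; with the sign of the lift of `z` given by `(z t)³` all relators hold in `L`.
-/

set_option autoImplicit false

namespace Cfsg.Agent.KFacts.MulHN

open Cfsg.Agent.HN Cfsg.Agent.HN.Pres Cfsg.Agent.HN.P1408 Cfsg.Agent.HN.H0Basic Cfsg.Agent.HN.HS100
open Cfsg.Agent.KFacts.MulTwo Cfsg.Agent.KFacts.MulDef Cfsg.Agent.KFacts.MulBound Cfsg.Agent.KFacts.MulLift
open Subgroup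
open scoped commutatorElement

/-! ### `2.HS` -/

theorem gxne : gx ^ 2 ≠ 1 := τ_ne_one

theorem isSimple_Q : IsSimpleGroup Q := (DoubleCover.nonempty_Q card_H0 gxne).2

theorem perf_Q : commutator Q = ⊤ := by
  have hs := isSimple_Q
  rcases hs.eq_bot_or_eq_top_of_normal (commutator Q) inferInstance with h | h
  · exfalso
    have h1 : ⊤ ≤ center Q := by
      intro a _
      rw [mem_center_iff]
      intro b
      have h2 : ⁅b, a⁆ ∈ commutator Q := commutator_mem_commutator (mem_top b) (mem_top a)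
      rw [h, mem_bot, commutatorElement_eq_one_iff_mul_comm] at h2
      exact h2
    rw [DoubleCover.center_Q card_H0 gxne] at h1
    have h3 := DoubleCover.card_Q card_H0 gxne
    rw [← Subgroup.card_top, le_bot_iff.1 h1, card_bot] at h3
    norm_num at h3
  · exact h

theorem finite_K : Finite K := by
  have := finite_H0
  infer_instance

theorem perf_K : commutator K = ⊤ := by
  have hfin := finite_K
  have hmap : (commutator K).map DoubleCover.φK = ⊤ := by
    rw [commutator_def, Subgroup.map_commutator, Subgroup.map_top_of_surjective _ DoubleCover.φK_surj,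
      ← commutator_def, perf_Q]
  have key : ∀ k : K, k ∈ commutator K ∨ k * ⟨τ, τ_mem_K⟩ ∈ commutator K := by
    intro k
    have h1 : DoubleCover.φK k ∈ (commutator K).map DoubleCover.φK := by rw [hmap]; trivial
    obtain ⟨d, hd, hdk⟩ := h1
    have h2 : φ (d : H0) = φ (k : H0) := congrArg Subtype.val hdk
    rcases φ_eq_iff.1 h2 with h3 | h3
    · left
      rwa [← show d = k from Subtype.ext h3]
    · right
      rwa [← show d = k * ⟨τ, τ_mem_K⟩ from Subtype.ext h3]
  by_cases hτ : (⟨τ, τ_mem_K⟩ : K) ∈ commutator K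
  · rw [eq_top_iff]
    intro k _
    rcases key k with h | h
    · exact h
    · have := mul_mem h (inv_mem hτ)
      rwa [mul_inv_cancel_right] at this
  · exfalso
    apply CoverUnique.K_no_index_two (commutator K)
    rw [index_eq_two_iff]
    refine ⟨⟨τ, τ_mem_K⟩, fun b => ?_⟩
    have h1 : ∀ b, b ∈ commutator K → b * ⟨τ, τ_mem_K⟩ ∉ commutator K := by
      intro b hb hb2
      apply hτ
      have h3 := mul_mem (inv_mem hb) hb2
      rwa [inv_mul_cancel_left] at h3
    rcases key b with h2 | h2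
    · exact Or.inr ⟨h2, h1 b h2⟩
    · exact Or.inl ⟨h2, fun h3 => h1 b h3 h2⟩

/-- `K → Q` is a perfect double cover. -/
theorem dbl_K : Dbl DoubleCover.φK (⟨τ, τ_mem_K⟩ : K) where
  ne := fun h => τ_ne_one (congrArg Subtype.val h)
  sq := Subtype.ext τ_mul_τ
  cen := fun x => Subtype.ext (τ_comm x).symm
  perf := perf_K
  surj := DoubleCover.φK_surj
  ker := fun x => by
    constructor
    · intro h
      have h1 : φ (x : H0) = 1 := congrArg Subtype.val h
      rcases φ_eq_one_iff.1 h1 with h2 | h2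
      · exact Or.inl (Subtype.ext h2)
      · exact Or.inr (Subtype.ext h2)
    · rintro (rfl | rfl)
      · exact map_one _
      · exact Subtype.ext φ_τ

/-- a perfect group has no subgroup of index 2 -/
theorem index_ne_two {L : Type*} [Group L] (hL : commutator L = ⊤) (S : Subgroup L) : S.index ≠ 2 := by
  intro h
  have hn : S.Normal := normal_of_index_eq_two h
  have h1 : commutator L ≤ S := by
    rw [commutator_def, commutator_le]
    intro a _ b _
    rw [commutatorElement_def, mul_mem_iff_of_index_two h, mul_mem_iff_of_index_two h, mul_mem_iff_of_index_two h,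
      inv_mem_iff, inv_mem_iff]
    tauto
  rw [hL, top_le_iff] at h1
  rw [h1, index_top] at h
  norm_num at h

/-- a perfect double cover of `Q` in the sense of `CoverUnique` -/
theorem cov_of_dbl {L : Type*} [Group L] {π : L →* Q} {c : L} (hd : Dbl π c) :
    CoverUnique.Cov c (Q.subtype.comp π) where
  ne := hd.ne
  sq := hd.sq
  cen := fun g => (hd.cen g).symm
  ker := fun g => by
    rw [← hd.ker]
    exact ⟨fun h => Subtype.ext h, fun h => congrArg Subtype.val h⟩
  range := by
    rw [MonoidHom.range_comp, MonoidHom.range_eq_top.2 hd.surj, ← MonoidHom.range_eq_map, Subgroup.range_subtype]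
  no2 := index_ne_two hd.perf

/-- **The Higman-Sims group has only one perfect double cover.** -/
theorem uniq_Q : Uniq Q := by
  intro L M _ _ _ _ π ρ c d h1 h2
  obtain ⟨e1, he1⟩ := (cov_of_dbl h1).exists_equiv
  obtain ⟨e2, he2⟩ := (cov_of_dbl h2).exists_equiv
  refine ⟨e1.symm.trans e2, fun x => ?_⟩
  obtain ⟨k, rfl⟩ := e1.surjective x
  rw [MulEquiv.trans_apply, e1.symm_apply_apply]
  apply Subtype.ext
  exact (he2 k).trans (he1 k).symm

theorem uniq_HS : Uniq Cfsg.Spor.HS := by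
  obtain ⟨f⟩ := (DoubleCover.nonempty_Q card_H0 gxne).1
  exact uniq_Q.congr f

/-! ### The quaternion group -/

/-- `i` -/
def wi : List ℕ := [1, 3, 0, 4, 3, 1, 3, 0, 4, 3]
/-- `j` -/
def wj : List ℕ := [4, 2, 4, 1, 2, 1, 2, 4, 1, 2, 1, 4]

theorem q1 : hw wi * hw wi = τ := by
  rw [← hw_append, ← hw_τ]
  exact hw_eq (by decide +kernel)

theorem q2 : hw wj * hw wj = τ := by
  rw [← hw_append, ← hw_τ]
  exact hw_eq (by decide +kernel)

theorem q3 : hw wj * hw wi * (hw wj)⁻¹ = (hw wi)⁻¹ := by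
  rw [← hw_iw, ← hw_iw, ← hw_append, ← hw_append]
  exact hw_eq (by decide +kernel)

/-! ### The theorem -/

theorem c_pow_five {L G : Type*} [Group L] [Group G] {π : L →* G} {c : L} (hd : Dbl π c) : c ^ 5 = c := by
  have h : c ^ 5 = (c * c) * (c * c) * c := by
    simp only [pow_succ, pow_zero, one_mul, mul_assoc]
  rw [h, hd.sq, one_mul, one_mul]

theorem noDouble_of_simple (hsimple : IsSimpleGroup Cfsg.Spor.HN) : NoDouble Cfsg.Spor.HN := by
  intro L _ _ π c hd
  have hKf := finite_K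
  -- lifts of `τ` and `z`
  have hτ : ∀ x : L, π x = NormalH.ψ τ → x * x = 1 := by
    intro x hx
    obtain ⟨i, hi⟩ := hd.surj (NormalH.ψ (hw wi))
    obtain ⟨j, hj⟩ := hd.surj (NormalH.ψ (hw wj))
    refine sq_of_quat hd (i := i) (j := j) ?_ ?_ ?_
    · rw [map_mul, hi, hx, ← map_mul, q1]
    · rw [map_mul, hj, hx, ← map_mul, q2]
    · rw [map_mul, map_mul, map_inv, map_inv, hi, hj, ← map_inv, ← map_inv, ← map_mul, ← map_mul, q3]
  obtain ⟨t0, ht0⟩ := hd.surj (NormalH.ψ τ)
  have hz : ∀ x : L, π x = NormalH.ψ gz → x * x = 1 := by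
    intro x hx
    refine sq_conj' hd (x := t0) ?_ (hτ t0 ht0)
    rw [ht0, hx]
    exact InvHN.isConj_z.symm
  -- the lift of `K`
  obtain ⟨s, hs⟩ := exists_lift_of_uniq uniq_Q dbl_K (NormalH.ψ.comp K.subtype) hd (t := t0) ht0 (hτ t0 ht0)
  have hs' : ∀ k : K, π (s k) = NormalH.ψ (k : H0) := hs
  -- uniqueness
  have huniq : ∀ (f g : K →* L), (∀ k, π (f k) = π (g k)) → f = g := fun f g h =>
    hom_eq_of_perfect perf_K (fun x hx g => by
      rcases (hd.ker x).1 hx with rfl | rfl
      · rw [one_mul, mul_one]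
      · exact hd.cen g) h
  have hKn : (K : Subgroup H0).Normal := normal_of_index_eq_two K_index
  -- conjugation
  have hconj : ∀ (h : H0) (l : L), π l = NormalH.ψ h → ∀ k : K,
      l * s k * l⁻¹ = s ⟨h * k * h⁻¹, hKn.conj_mem k k.2 h⟩ := by
    intro h l hl k
    have h1 := huniq ((MulAut.conj l).toMonoidHom.comp s) (s.comp (MulAut.conjNormal h : K ≃* K).toMonoidHom) (by
      intro k
      show π (l * s k * l⁻¹) = π (s (MulAut.conjNormal h k))
      rw [map_mul, map_mul, map_inv, hs', hs', MulAut.conjNormal_apply, map_mul, map_mul, map_inv, hl])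
    have h2 : l * s k * l⁻¹ = s (MulAut.conjNormal h k) := congrArg (fun f : K →* L => f k) h1
    rw [h2]
    congr 1
  have hc3 : ∀ y : L, (y * c) ^ 3 = y ^ 3 * c := cube_mul_c hd
  -- the lift of `t`
  obtain ⟨T0, hT0⟩ := hd.surj Pres.ht
  have hT5 : T0 ^ 5 = 1 ∨ T0 ^ 5 = c := by
    apply (hd.ker _).1
    rw [map_pow, hT0]
    exact SimpleHN.t_five
  obtain ⟨T, hT, hTT⟩ : ∃ T : L, π T = Pres.ht ∧ T ^ 5 = 1 := by
    rcases hT5 with h | h
    · exact ⟨T0, hT0, h⟩
    · refine ⟨T0 * c, by rw [map_mul, hT0, pi_c hd, mul_one], ?_⟩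
      rw [(show Commute T0 c from (hd.cen T0).symm).mul_pow 5, h]
      rw [c_pow_five hd, hd.sq]
  -- elements of order 5 over the same element are equal
  have h5 : ∀ a b : L, a ^ 5 = 1 → b ^ 5 = 1 → π a = π b → a = b := by
    intro a b ha hb hab
    rcases eq_or hd hab with h | h
    · exact h
    · exfalso
      rw [h, (show Commute b c from (hd.cen b).symm).mul_pow 5, hb, one_mul] at ha
      rw [c_pow_five hd] at ha
      exact hd.ne ha
  -- the lift of `z`
  obtain ⟨Z0, hZ0⟩ := hd.surj (NormalH.ψ gz)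
  have hZT : (Z0 * T) ^ 3 = 1 ∨ (Z0 * T) ^ 3 = c := by
    apply (hd.ker _).1
    rw [map_pow, map_mul, hZ0, hT, NormalH.ψ_gz]
    exact SimpleHN.z_t
  obtain ⟨Z, hZ, hZTT⟩ : ∃ Z : L, π Z = NormalH.ψ gz ∧ (Z * T) ^ 3 = 1 := by
    rcases hZT with h | h
    · exact ⟨Z0, hZ0, h⟩
    · refine ⟨Z0 * c, by rw [map_mul, hZ0, pi_c hd, mul_one], ?_⟩
      have : Z0 * c * T = Z0 * T * c := by rw [mul_assoc, hd.cen, ← mul_assoc]
      rw [this, hc3, h, hd.sq]
  have hZZ : Z * Z = 1 := hz Z hZ
  have hZi : Z⁻¹ = Z := inv_eq_of_mul_eq_one_left hZZ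
  set X := s ⟨gx, gx_mem⟩ with hX
  set Y := s ⟨gy, gy_mem⟩ with hY
  have hπX : π X = Pres.hx := by rw [hX, hs']; exact NormalH.ψ_gx
  have hπY : π Y = Pres.hy := by rw [hY, hs']; exact NormalH.ψ_gy
  have hπZ : π Z = Pres.hz := by rw [hZ]; exact NormalH.ψ_gz
  -- the relations
  have hRK := rels_H0
  let kx : K := ⟨gx, gx_mem⟩
  let ky : K := ⟨gy, gy_mem⟩
  have hgz : gz⁻¹ = gz := inv_eq_of_mul_eq_one_left (by rw [← pow_two]; exact hRK.r7)
  have hzc : ∀ k : K, Z * s k * Z = s ⟨gz * k * gz⁻¹, hKn.conj_mem k k.2 gz⟩ := by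
    intro k
    have := hconj gz Z hZ k
    rwa [hZi] at this
  have sone : ∀ k : K, (k : H0) = 1 → s k = 1 := by
    intro k hk
    rw [show k = 1 from Subtype.ext hk, map_one]
  have rels : Rels X Y Z := by
    constructor
    · have := sone (ky ^ 6) hRK.r1
      simpa only [map_mul, map_pow, map_inv] using this
    · have := sone ((kx ^ 2) * ky * (kx ^ 2) * (ky⁻¹)) hRK.r2
      simpa only [map_mul, map_pow, map_inv] using this
    · have := sone ((kx⁻¹ * ky⁻¹ * kx * ky) ^ 3) hRK.r3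
      simpa only [map_mul, map_pow, map_inv] using this
    · have := sone (((kx⁻¹) * (ky ^ 2) * kx * (ky ^ 3)) ^ 3) hRK.r4
      simpa only [map_mul, map_pow, map_inv] using this
    · have := sone ((kx * ky) ^ 8) hRK.r5
      simpa only [map_mul, map_pow, map_inv] using this
    · have := sone ((kx * ky * kx * (ky ^ 3)) ^ 4) hRK.r6
      simpa only [map_mul, map_pow, map_inv] using this
    · rw [pow_two, hZZ]
    · -- `(Z X)² = (Z X Z) X`
      have h1 : (Z * X) ^ 2 = s (⟨gz * kx * gz⁻¹, hKn.conj_mem kx kx.2 gz⟩ * kx) := by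
        rw [map_mul, ← hzc, pow_two]
        show Z * X * (Z * X) = Z * X * Z * X
        group
      rw [h1]
      apply sone
      show gz * gx * gz⁻¹ * gx = 1
      have h2 := hRK.r8
      rw [pow_two] at h2
      rw [hgz, ← h2]; group
    · -- `Z⁻¹ w⁻¹ Z w x⁻²`
      let w : K := ky * kx * ky * kx * (ky ^ 2) * kx * (ky⁻¹)
      have h0 : Y * X * Y * X * (Y ^ 2) * X * (Y⁻¹) = s w := by
        simp only [w, map_mul, map_pow, map_inv]
        rfl
      rw [h0, ← map_inv, hZi, hzc]
      have hx2 : X ^ 2 = s (kx ^ 2) := by rw [map_pow]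
      rw [hx2, ← map_inv, ← map_mul, ← map_mul]
      apply sone
      show gz * (w : H0)⁻¹ * gz⁻¹ * (w : H0) * (gx ^ 2)⁻¹ = 1
      have h2 := hRK.r9
      rw [hgz] at h2 ⊢
      exact h2
    · -- `Z (Z^v X)³`
      let v : K := (ky ^ 3) * kx * ky * kx * ky
      have h0 : (Y ^ 3) * X * Y * X * Y = s v := by
        simp only [v, map_mul, map_pow]
        rfl
      rw [h0, ← map_inv]
      -- the lift of `z v⁻¹ z`
      let a : K := ⟨gz * (v⁻¹ : K) * gz⁻¹, hKn.conj_mem _ (v⁻¹ : K).2 gz⟩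
      have ha : Z * s v⁻¹ * Z = s a := hzc v⁻¹
      -- the lift of `z v z`
      let b : K := ⟨gz * (v * kx * v⁻¹ : K) * gz⁻¹, hKn.conj_mem _ (v * kx * v⁻¹ : K).2 gz⟩
      have hb : Z * s (v * kx * v⁻¹) * Z = s b := hzc _
      have h3 : Z * (s v⁻¹ * Z * s v * X) ^ 3 = s (a * v * kx * v⁻¹ * b * v * kx) := by
        have e : Z * (s v⁻¹ * Z * s v * X) ^ 3 =
            (Z * s v⁻¹ * Z) * s v * X * s v⁻¹ * (Z * (s v * X * s v⁻¹) * Z) * s v * X := by
          rw [pow_succ, pow_two]; group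
        have e2 : s v * X * s v⁻¹ = s (v * kx * v⁻¹) := by
          show s v * s kx * s v⁻¹ = _
          rw [← map_mul, ← map_mul]
        rw [e, ha, e2, hb]
        simp only [map_mul]
        rfl
      rw [h3]
      apply sone
      have h4 := hRK.r10
      show gz * (v : H0)⁻¹ * gz⁻¹ * (v : H0) * gx * (v : H0)⁻¹ * (gz * ((v : H0) * gx * (v : H0)⁻¹) * gz⁻¹) *
        (v : H0) * gx = 1
      have e5 : (v : H0) = (gy ^ 3) * gx * gy * gx * gy := rfl
      rw [← e5, pow_succ, pow_two] at h4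
      rw [hgz, ← h4]
      group
  have hXT : (X⁻¹ * T * X) * T ^ 2 = 1 := by
    have h1 : X⁻¹ * T * X = (T ^ 2)⁻¹ := by
      apply h5
      · have : (X⁻¹ * T * X) ^ 5 = X⁻¹ * T ^ 5 * X := by
          have := conj_pow (a := X⁻¹) (b := T) (i := 5)
          rwa [inv_inv] at this
        rw [this, hTT]; group
      · rw [inv_pow, ← pow_mul, mul_comm, pow_mul, hTT, one_pow, inv_one]
      · rw [map_mul, map_mul, map_inv, map_inv, map_pow, hπX, hT]
        exact mul_eq_one_iff_eq_inv.1 SimpleHN.x_t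
    rw [h1, inv_mul_cancel]
  have hTY : T⁻¹ * Y⁻¹ * T * Y = 1 := by
    have h1 : Y⁻¹ * T * Y = T := by
      apply h5
      · have : (Y⁻¹ * T * Y) ^ 5 = Y⁻¹ * T ^ 5 * Y := by
          have := conj_pow (a := Y⁻¹) (b := T) (i := 5)
          rwa [inv_inv] at this
        rw [this, hTT]; group
      · exact hTT
      · rw [map_mul, map_mul, map_inv, hπY, hT]
        have h2 := SimpleHN.t_y
        have h3 : Pres.ht⁻¹ * Pres.hy⁻¹ * Pres.ht * Pres.hy = Pres.ht⁻¹ * (Pres.hy⁻¹ * Pres.ht * Pres.hy) := by group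
        rw [h3, inv_mul_eq_one] at h2
        exact h2.symm
    calc T⁻¹ * Y⁻¹ * T * Y = T⁻¹ * (Y⁻¹ * T * Y) := by group
      _ = 1 := by rw [h1, inv_mul_cancel]
  obtain ⟨F, hF1, hF2, hF3, hF4⟩ := Hom.exists_hom rels hTT hXT hTY hZTT
  refine false_of_section hd F (fun x => ?_)
  have h1 : π.comp F = MonoidHom.id _ := by
    apply MonoidHom.eq_of_eqOn_dense SimpleHN.closure_HN
    rintro _ (rfl | rfl | rfl | rfl)
    · exact (congrArg π hF1).trans hπX
    · exact (congrArg π hF2).trans hπY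
    · exact (congrArg π hF3).trans hπZ
    · exact (congrArg π hF4).trans hT
  exact congrArg (fun f : Cfsg.Spor.HN →* Cfsg.Spor.HN => f x) h1

end Cfsg.Agent.KFacts.MulHN
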