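import Cfsg.Agent.S1701
import Cfsg.Agent.KFacts.MulHN

/-!
# The Harada-Norton group has no perfect double cover (final form)
-/

set_option autoImplicit false

namespace Cfsg.Agent.KFacts.MulHNMain

open Cfsg.Agent.KFacts.MulDef

universe u

theorem noDouble : NoDouble Cfsg.Spor.HN := MulHN.noDouble_of_simple Cfsg.Agent.S1701.result.1

theorem noDouble_of_iso {X : Type u} [Group X] (h : Cfsg.Spor.IsoHN X) : NoDouble X := by
  obtain ⟨e⟩ := h
  exact noDouble.congr e.symm

end Cfsg.Agent.KFacts.MulHNMain
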