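import Cfsg.Agent.KFacts.MulSmall
import Cfsg.Agent.SporadicB.J1.Main

/-!
# The 2-part of the Schur multiplier of `J1` is trivial
-/

set_option autoImplicit false

namespace Cfsg.Agent.KFacts.MulJ1

open Cfsg.Spor Cfsg.Agent.SporadicB.J1.Main Cfsg.Agent.SporadicB.J1.Mat Cfsg.Agent.SporadicB.J1.Data
open Cfsg.Agent.KFacts.MulCov

/-- words of the seven involutions -/
def ws : ℕ → List ℕ
  | 0 => [3, 0, 1, 0]
  | 1 => [0, 0, 0, 3, 0, 1, 0, 2, 2, 2]
  | 2 => [2, 3, 0, 1, 0, 0]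
  | 3 => [0, 0, 3, 0, 1, 0, 2, 2]
  | 4 => [2, 2, 3, 0, 1, 0, 0, 0]
  | 5 => [0, 3, 0, 1, 0, 2]
  | _ => [2, 2, 2, 3, 0, 1, 0, 0, 0, 0]

/-- the involutions -/
def a (i : ℕ) : J1 := ev (ws i)

/-- the element of order seven -/
def g : J1 := ev [0, 0, 0]

theorem hc0 : ∀ i < 6, mulC (evC [0, 0, 0]) (evC (ws i)) = mulC (evC (ws (i + 1))) (evC [0, 0, 0]) := by
  decide +kernel

theorem hc : ∀ i < 6, g * a i = a (i + 1) * g := fun i hi =>
  ((rep_ev _).mul (rep_ev _)).eq ((rep_ev _).mul (rep_ev _)) (hc0 i hi)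

theorem mul_eq {i j k : ℕ} (h : mulC (evC (ws i)) (evC (ws j)) = evC (ws k)) : a i * a j = a k :=
  ((rep_ev _).mul (rep_ev _)).eq (rep_ev _) h

theorem sq : a 0 * a 0 = 1 := ((rep_ev _).mul (rep_ev _)).eq Rep.one (by decide +kernel)

theorem ne : a 0 ≠ 1 := (rep_ev _).ne Rep.one (by decide +kernel)

theorem card_J1 : Nat.card J1 = 8 * 21945 := by rw [isJ1.2]

theorem not_cov {L : Type*} [Group L] [Finite L] (π : L →* J1) (c : L) : ¬ Cov π c := by
  intro h
  have : Finite J1 := Nat.finite_of_card_ne_zero (by rw [card_J1]; norm_num)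
  exact MulSmall.false_of_singer h a hc sq (mul_eq (k := 3) (by decide +kernel)) (mul_eq (k := 6) (by decide +kernel))
    (mul_eq (k := 4) (by decide +kernel)) (mul_eq (k := 5) (by decide +kernel)) ne card_J1 (by decide)

/-- **The centre of a perfect central extension of `J1` has odd order.** -/
theorem odd_center {K : Type*} [Group K] [Finite K] (hp : commutator K = ⊤)
    (hX : Cfsg.Spor.IsoJ1 (K ⧸ Subgroup.center K)) : ¬ 2 ∣ Nat.card (Subgroup.center K) := by
  obtain ⟨e⟩ := hX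
  exact odd_card_center (fun L _ _ π c => not_cov π c) hp e

end Cfsg.Agent.KFacts.MulJ1
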