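import Cfsg.Agent.KFacts.MulM24
import Cfsg.Agent.J4.Final
import Cfsg.Agent.J4.Invol
import Cfsg.Agent.J4Type.FinalHom

/-!
# The 2-part of the Schur multiplier of `J4` is trivial

The subgroup `M24 = ⟨x, y⟩` lifts, every involution is conjugate to one of `M24`, and the lift of `t` satisfies
the remaining relations of the presentation.
-/

set_option autoImplicit false

namespace Cfsg.Agent.KFacts.MulJ4

open Cfsg Cfsg.Agent.J4.Rep112 Cfsg.Agent.J4.M24Hom Cfsg.Agent.J4.M24Pres Cfsg.Agent.J4.Pres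
open Cfsg.Agent.J4.M24InvolData Cfsg.Agent.J4.ClassesData Cfsg.Agent.J4.Classes Cfsg.Agent.J4.Invol
open Cfsg.Agent.J4.Beta Cfsg.Agent.J4.GroupLemmas Cfsg.Agent.J4.LowerData Cfsg.Agent.J4.Lower
open Cfsg.Agent.Lib Cfsg.Agent.Lib.F2MatGroup
open Cfsg.Agent.SporadicStructure.M24El
open Cfsg.Agent.KFacts.MulCov

/-! ### The two classes of involutions meet `M24` -/

/-- the conjugation behind a row of `reps` -/
theorem conj_of_rep {im v : ℕ} {r : ℕ × ℕ × ℕ × ℕ × List ℕ × List ℕ × ℕ} (h : repOk eqsC im v r = true) :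
    ∃ g ∈ rho.range, g * (beta qs v * getG LC im) * g⁻¹ = getG LC r.2.2.2.2.2.2 := by
  unfold repOk at h
  rw [Bool.and_eq_true, Bool.and_eq_true, Bool.and_eq_true, List.contains_iff_mem,
    List.contains_iff_mem, List.contains_iff_mem, Bool.or_eq_true, Nat.beq_eq, Nat.beq_eq] at h
  obtain ⟨⟨⟨h1, h2⟩, h3⟩, h4⟩ := h
  have e1 := eqC _ h1
  have e2 := eqC _ h2
  have e3 := eqC _ h3
  simp only [evG_append, evG_single, abs_bw (L := LC) qs_length getG_LC] at e1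
  simp only [evG_append, evG_cons, evG_nil, mul_one] at e2
  simp only [evG_append, evG_nil] at e3
  rw [← e1]
  have hp : getG LC r.2.2.2.1 ∈ rho.range := getG_mem _ LC_mem _
  have hw : evG LC r.2.2.2.2.2.1 ∈ rho.range := evG_mem _ LC_mem _
  have hw' : evG LC r.2.2.2.2.1 = (evG LC r.2.2.2.2.2.1)⁻¹ := eq_inv_of_mul_eq_one_left e3
  rw [hw'] at e2
  generalize getG LC r.2.2.1 = u at *
  generalize getG LC r.2.2.2.1 = p at *
  generalize evG LC r.2.2.2.2.2.1 = w at *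
  refine ⟨w * p⁻¹, mul_mem hw (inv_mem hp), ?_⟩
  have : w * p⁻¹ * u * (w * p⁻¹)⁻¹ = w * p⁻¹ * (u * p) * w⁻¹ := by group
  rw [this, e2]; group

def row1 : ℕ × ℕ × ℕ × ℕ × List ℕ × List ℕ × ℕ := (1, 0, 39, 36, [58, 56], [57, 58], 52)
def row2 : ℕ × ℕ × ℕ × ℕ × List ℕ × List ℕ × ℕ := (2, 0, 7, 4, [55, 56, 58, 56, 58], [58, 57, 58, 57, 55], 40)

theorem row1_ok : repOk eqsC 41 0 row1 = true := by decide +kernel
theorem row2_ok : repOk eqsC 55 0 row2 = true := by decide +kernel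

theorem inj : Function.Injective rho := Cfsg.Agent.J4.Final.rho_injective

theorem isConj_of_range {a b : Cfsg.Spor.J4} (h : ∃ g ∈ rho.range, g * rho a * g⁻¹ = rho b) : IsConj a b := by
  obtain ⟨_, ⟨g, rfl⟩, hg⟩ := h
  refine isConj_iff.2 ⟨g, inj ?_⟩
  rw [map_mul, map_mul, map_inv, hg]

theorem conj_s : IsConj (phi (el P1)) s := by
  apply isConj_of_range
  obtain ⟨g, hg, h⟩ := conj_of_rep row1_ok
  refine ⟨g, hg, ?_⟩
  have h1 : getG LC row1.2.2.2.2.2.2 = beta qs 1024 := getG_52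
  rw [h1, getG_41, beta_zero, one_mul] at h
  rw [rho_s, ← h]
  rfl

theorem conj_d : IsConj (phi XM) d := by
  apply isConj_of_range
  obtain ⟨g, hg, h⟩ := conj_of_rep row2_ok
  refine ⟨g, hg, ?_⟩
  have h1 : getG LC row2.2.2.2.2.2.2 = beta qs 5 := getG_40
  rw [h1, getX, beta_zero, one_mul] at h
  rw [rho_d, ← h, phi_X]

theorem h22 : ¬ 2 ^ 22 ∣ Nat.card rho.range := by
  rw [Cfsg.Agent.J4.Final.card_range]
  decide

/-! ### The lift -/

/-- the word of `x * gb` -/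
def wgb : List ℕ := [0, 1, 0, 1, 0, 2, 0, 2, 0, 1, 0, 1, 0, 1]

theorem xgb_pow : (XM * Cfsg.Agent.J4.TrioAll.gb) ^ 21 = 1 := by
  have h1 : XM * Cfsg.Agent.J4.TrioAll.gb = (wgb.map fun i => el (MulM24.gl.getD i idP)).prod := by
    unfold Cfsg.Agent.J4.TrioAll.gb wgb
    simp only [MulM24.gl, List.map_cons, List.map_nil, List.prod_cons, List.prod_nil, List.getD_cons_zero,
      List.getD_cons_succ, mul_one]
    rw [← MulM24.XM_eq, ← MulM24.YM_eq, ← MulM24.YMI_eq]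
    simp only [pow_succ, pow_zero, one_mul, mul_assoc]
  have h2 := MulM24.word_eq ((List.replicate 21 wgb).flatten) (R := idP) (by decide +kernel)
  rw [List.map_flatten, List.map_replicate, List.prod_flatten, List.map_replicate, List.prod_replicate, el_idP] at h2
  rw [h1, h2]

theorem gb_mem : phi Cfsg.Agent.J4.TrioAll.gb ∈
    Subgroup.closure {u : Cfsg.Spor.J4 | u * t = t * u ∧ (u * u = 1 ∨ ∃ n : ℕ, Odd n ∧ u ^ n = 1)} := by
  have ht := Cfsg.Agent.J4.Upper.trel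
  have hX : XM * XM = 1 := by rw [← pow_two]; exact rels_XYM.r1
  have e : Cfsg.Agent.J4.TrioAll.gb = XM * (XM * Cfsg.Agent.J4.TrioAll.gb) := by rw [← mul_assoc, hX, one_mul]
  rw [e, map_mul]
  refine mul_mem (Subgroup.subset_closure ⟨ht.cx.symm.eq, Or.inl ?_⟩) (Subgroup.subset_closure ⟨?_, Or.inr ⟨21, by decide, ?_⟩⟩)
  · rw [← map_mul, hX, map_one]
  · rw [map_mul]
    exact (ht.cx.symm.mul_left ht.cz.symm).eq
  · rw [← map_pow]
    rw [xgb_pow, map_one]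

/-- **Every central extension of `J4` by a group of order two splits.** -/
theorem exists_section {L : Type*} [Group L] {π : L →* Cfsg.Spor.J4} {c : L} (h : Ext π c) :
    ∃ s : Cfsg.Spor.J4 →* L, ∀ g, π (s g) = g := by
  obtain ⟨ψ, hψ⟩ := MulM24.exists_lift h phi
  -- involutions
  have good : ∀ u : M24, u * u = 1 → Good π (phi u) := by
    intro u hu x hx
    rw [h.mul_self_eq (x := x) (y := ψ u) (by rw [hx, hψ]), ← map_mul, hu, map_one]
  have hX : XM * XM = 1 := by rw [← pow_two]; exact rels_XYM.r1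
  have sq : ∀ u : M24, u * u = 1 → phi u * phi u = 1 := fun u hu => by rw [← map_mul, hu, map_one]
  have gs : Good π s := Good.of_isConj h (good _ MulM24.P1_sq) (sq _ MulM24.P1_sq) conj_s
  have gd : Good π d := Good.of_isConj h (good _ hX) (sq _ hX) conj_d
  have ss : s * s = 1 := by
    obtain ⟨g, hg⟩ := isConj_iff.1 conj_s
    rw [← hg]
    calc g * phi (el P1) * g⁻¹ * (g * phi (el P1) * g⁻¹) = g * (phi (el P1) * phi (el P1)) * g⁻¹ := by group
      _ = 1 := by rw [sq _ MulM24.P1_sq]; group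
  have dd : d * d = 1 := by
    obtain ⟨g, hg⟩ := isConj_iff.1 conj_d
    rw [← hg]
    calc g * phi XM * g⁻¹ * (g * phi XM * g⁻¹) = g * (phi XM * phi XM) * g⁻¹ := by group
      _ = 1 := by rw [sq _ hX]; group
  have hn : NoSq c := by
    apply h.noSq
    intro a ha ha1
    rcases invol inj h22 a ha ha1 with h1 | h1
    · exact Good.of_isConj h gs ss h1.symm
    · exact Good.of_isConj h gd dd h1.symm
  -- the lift of `t`
  have hT := all_rels
  obtain ⟨-, -, -, -, -, -, -, ht2, htw, htx, hr1, hr2⟩ := hT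
  have ht : t * t = 1 := by rw [← pow_two]; exact ht2
  obtain ⟨τ₀, hτ₀⟩ := h.surj t
  have hx : π (ψ XM) = x := by rw [hψ, phi_X]
  have hy : π (ψ YM) = y := by rw [hψ, phi_Y]
  obtain ⟨τ, hτ, hA⟩ : ∃ τ, π τ = t ∧ (ψ YM * ((ψ YM * ψ XM * ((ψ YM)⁻¹) * ψ XM * ψ YM * ψ XM * ((ψ YM)⁻¹) * ψ XM)⁻¹ *
      τ * (ψ YM * ψ XM * ((ψ YM)⁻¹) * ψ XM * ψ YM * ψ XM * ((ψ YM)⁻¹) * ψ XM))) ^ 3 = 1 := by
    set w := ψ YM * ψ XM * ((ψ YM)⁻¹) * ψ XM * ψ YM * ψ XM * ((ψ YM)⁻¹) * ψ XM with hw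
    have h1 : π ((ψ YM * (w⁻¹ * τ₀ * w)) ^ 3) = 1 := by
      rw [hw]
      simp only [map_mul, map_pow, map_inv, hx, hy, hτ₀]
      exact hr1
    rcases (h.ker _).1 h1 with h2 | h2
    · exact ⟨τ₀, hτ₀, h2⟩
    · refine ⟨τ₀ * c, by rw [map_mul, hτ₀, h.map_c, mul_one], ?_⟩
      have e : ψ YM * (w⁻¹ * (τ₀ * c) * w) = (ψ YM * (w⁻¹ * τ₀ * w)) * c := by
        rw [mul_assoc w⁻¹ (τ₀ * c) w, mul_assoc τ₀ c w, h.cen w]; group
      have hc : Commute (ψ YM * (w⁻¹ * τ₀ * w)) c := (h.cen _).symm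
      rw [e, hc.mul_pow, h2, h.pow_c_odd (by decide), h.sq]
  have hτ2 : τ * τ = 1 := h.sq_one hn (by rw [hτ]; exact ht)
  have htx' : t * x = x * t := by
    have h1 : t⁻¹ * x⁻¹ * t * x = (x * t)⁻¹ * (t * x) := by group
    rw [h1] at htx
    exact (inv_mul_eq_one.1 htx).symm
  have hcx : τ * ψ XM = ψ XM * τ := by
    apply h.comm_of_invol hn
    · rw [hτ]; exact ht
    · rw [hψ]; exact sq _ hX
    · rw [hτ, hx]; exact htx'
  have hcw : ψ Cfsg.Agent.J4.TrioAll.gb * τ = τ * ψ Cfsg.Agent.J4.TrioAll.gb := by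
    apply h.comm_of_closure hn
    · rw [hτ]; exact ht
    · rw [hψ, hτ]; exact gb_mem
  have hR : Cfsg.Agent.J4Type.FinalHom.TRels (ψ XM) (ψ YM) τ := by
    refine ⟨by rw [pow_two]; exact hτ2, ?_, ?_, hA, ?_⟩
    · have e : ψ Cfsg.Agent.J4.TrioAll.gb = ψ YM * ψ XM * ψ YM * ((ψ XM * (ψ YM)⁻¹) ^ 2) * ((ψ XM * ψ YM) ^ 3) := by
        unfold Cfsg.Agent.J4.TrioAll.gb
        simp only [map_mul, map_pow, map_inv]
      rw [← e]
      calc τ⁻¹ * (ψ Cfsg.Agent.J4.TrioAll.gb)⁻¹ * τ * ψ Cfsg.Agent.J4.TrioAll.gb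
          = τ⁻¹ * (ψ Cfsg.Agent.J4.TrioAll.gb)⁻¹ * (τ * ψ Cfsg.Agent.J4.TrioAll.gb) := by group
        _ = 1 := by rw [← hcw]; group
    · calc τ⁻¹ * (ψ XM)⁻¹ * τ * ψ XM = τ⁻¹ * (ψ XM)⁻¹ * (τ * ψ XM) := by group
        _ = 1 := by rw [hcx]; group
    · have := h.pow_even hn (k := 1) (x := ((ψ YM * ψ XM * ψ YM * ψ XM * ψ YM * ψ XM * ψ YM) ^ 3) * τ *
        ((((ψ XM * ψ YM) ^ 3) * ψ YM * ((ψ XM * ψ YM) ^ 6) * ψ YM)⁻¹ * τ *
          (((ψ XM * ψ YM) ^ 3) * ψ YM * ((ψ XM * ψ YM) ^ 6) * ψ YM))) (by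
        simp only [map_mul, map_pow, map_inv, hx, hy, hτ]
        exact hr2)
      exact this
  obtain ⟨f, hf, hft⟩ := Cfsg.Agent.J4Type.FinalHom.exists_hom ψ τ hR
  refine ⟨f, fun g => ?_⟩
  have h1 : π.comp f = MonoidHom.id _ := by
    apply PresentedGroup.ext
    rintro (_ | _ | _)
    · show π (f x) = x
      rw [← phi_X, hf, hψ]
    · show π (f y) = y
      rw [← phi_Y, hf, hψ]
    · show π (f t) = t
      rw [hft, hτ]
  exact DFunLike.congr_fun h1 g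

theorem not_cov {L : Type*} [Group L] [Finite L] (π : L →* Cfsg.Spor.J4) (c : L) : ¬ Cov π c := by
  intro h
  obtain ⟨s, hs⟩ := exists_section h.toExt
  exact h.false_of_section s hs

/-- **The centre of a perfect central extension of `J4` has odd order.** -/
theorem odd_center {K : Type*} [Group K] [Finite K] (hp : commutator K = ⊤)
    (hX : Cfsg.Spor.IsoJ4 (K ⧸ Subgroup.center K)) : ¬ 2 ∣ Nat.card (Subgroup.center K) := by
  obtain ⟨e⟩ := hX
  exact odd_card_center (fun L _ _ π c => not_cov π c) hp e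

end Cfsg.Agent.KFacts.MulJ4
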