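import Cfsg.Agent.KFacts.MulSmall
import Cfsg.Agent.SporadicStructure.M11InvPerms
import Cfsg.Agent.SporadicStructure.M24El
import Cfsg.Agent.S0387
import Cfsg.Prelude.Def_Spor_Mathieu

/-!
# The 2-part of the Schur multiplier of `M11` is trivial
-/

set_option autoImplicit false

open scoped Pointwise

namespace Cfsg.Agent.KFacts.MulM11

open Cfsg Cfsg.Agent.SporadicA.GolayBase Cfsg.Agent.SporadicA.GolayPerm
open Cfsg.Agent.SporadicStructure.M24El
open Cfsg.Agent.SporadicStructure.M11InvPerms (dd dd_mem qrWord_eq)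
open Cfsg.Agent.KFacts.MulCov

theorem squareDodecad_eq : Spor.squareDodecad = dd := by
  unfold Spor.squareDodecad dd
  rw [qrWord_eq]

/-- The order of `Spor.M11`. -/
theorem card_M11 : Nat.card Spor.M11 = 7920 := by
  have h0 : (some 0 : GolayPt) ∈ Spor.squareDodecad := by
    rw [squareDodecad_eq]; decide +kernel
  have hd : Spor.squareDodecad ∈ dodecads := by rw [squareDodecad_eq]; exact dd_mem
  rw [← Cfsg.Agent.S0387.result _ hd _ h0]
  apply Nat.card_congr
  refine
    { toFun := fun g => ⟨⟨g.1, (Subgroup.mem_inf.1 (Subgroup.mem_inf.1 g.2).1).1⟩, Subgroup.mem_inf.2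
        ⟨(Subgroup.mem_inf.1 (Subgroup.mem_inf.1 g.2).1).2, (Subgroup.mem_inf.1 g.2).2⟩⟩
      invFun := fun x => ⟨((x : Cfsg.M24) : Equiv.Perm GolayPt),
        Subgroup.mem_inf.2 ⟨Subgroup.mem_inf.2 ⟨x.1.2, (Subgroup.mem_inf.1 x.2).1⟩, (Subgroup.mem_inf.1 x.2).2⟩⟩
      left_inv := fun _ => rfl
      right_inv := fun _ => rfl }

/-- the mask of the dodecad -/
def ddm : ℕ := 340831

theorem dd_eq : dd = fin ddm := by
  ext p
  revert p
  decide +kernel

/-- whether the packed permutation lies in `M11` -/
def ok11 (P : ℕ) : Bool := ok P && Nat.beq (pimg P ddm) ddm && Nat.beq (papp P 0) 0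

theorem ok_of_ok11 {P : ℕ} (h : ok11 P = true) : ok P = true := by
  unfold ok11 at h
  rw [Bool.and_eq_true, Bool.and_eq_true] at h
  exact h.1.1

theorem mem_M11 {P : ℕ} (h : ok11 P = true) : (el P : Equiv.Perm GolayPt) ∈ Spor.M11 := by
  have h' := h
  unfold ok11 at h
  rw [Bool.and_eq_true, Bool.and_eq_true] at h
  obtain ⟨⟨h1, h2⟩, h3⟩ := h
  refine Subgroup.mem_inf.2 ⟨Subgroup.mem_inf.2 ⟨(el P).2, ?_⟩, ?_⟩
  · rw [MulAction.mem_stabilizer_iff, squareDodecad_eq, dd_eq, ← coe_smul_finset, el_smul_fin h1,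
      Nat.eq_of_beq_eq_true h2]
  · rw [MulAction.mem_stabilizer_iff]
    have h4 := el_smul_pt h1 (some 0 : GolayPt)
    have h5 : idx (some 0 : GolayPt) = 0 := by decide
    rw [h5, Nat.eq_of_beq_eq_true h3] at h4
    exact h4

/-- the element of `M11` -/
noncomputable def e (P : ℕ) (h : ok11 P = true) : Spor.M11 := ⟨el P, mem_M11 h⟩

def ι : Spor.M11 →* M24 := Subgroup.inclusion (inf_le_left.trans inf_le_left)

theorem ι_injective : Function.Injective ι := Subgroup.inclusion_injective _

theorem ι_e (P : ℕ) (h : ok11 P = true) : ι (e P h) = el P := rfl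

/-! ### Data -/

def Pr : ℕ := 233950865888990746377447415904013344
def Pri : ℕ := 606675048206788974183023727349926944
def Ps : ℕ := 735500604421669808992593446508235808
def Pg : ℕ := 235742061483406767849477376128910432
def Pgi : ℕ := 731722996265023435542964160459476032
def Pk : ℕ := 944576703234065857180591671912828960

theorem ok_r : ok11 Pr = true := by decide +kernel
theorem ok_s : ok11 Ps = true := by decide +kernel
theorem ok_g : ok11 Pg = true := by decide +kernel
theorem ok_k : ok11 Pk = true := by decide +kernel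

def gl : List ℕ := [Pr, Ps, Pg, Pk]

theorem gl_ok : ∀ P ∈ gl, ok P = true := by decide +kernel

noncomputable def r : Spor.M11 := e Pr ok_r
noncomputable def s : Spor.M11 := e Ps ok_s
noncomputable def g : Spor.M11 := e Pg ok_g
noncomputable def k : Spor.M11 := e Pk ok_k

theorem words {w w' : List ℕ} (h : prodW gl w = prodW gl w') :
    (w.map fun i => el (gl.getD i idP)).prod = (w'.map fun i => el (gl.getD i idP)).prod := by
  rw [← el_prodW gl_ok, ← el_prodW gl_ok, h]

theorem r8 : r ^ 8 = 1 := by
  apply ι_injective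
  rw [map_pow, map_one]
  have h := words (w := [0, 0, 0, 0, 0, 0, 0, 0]) (w' := []) (by decide +kernel)
  simp only [gl, List.map_cons, List.map_nil, List.prod_cons, List.prod_nil,
    List.getD_cons_zero, List.getD_cons_succ, mul_one] at h
  show (el Pr) ^ 8 = 1
  rw [← h]
  simp only [pow_succ, pow_zero, one_mul, mul_assoc]

theorem r4 : r ^ 4 ≠ 1 := by
  intro h
  have h1 := congrArg ι h
  rw [map_pow, map_one] at h1
  have h0 : (el Pr) ^ 4 = el (prodW gl [0, 0, 0, 0]) := by
    rw [el_prodW gl_ok]
    simp only [gl, List.map_cons, List.map_nil, List.prod_cons, List.prod_nil,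
      List.getD_cons_zero, List.getD_cons_succ, mul_one]
    simp only [pow_succ, pow_zero, one_mul, mul_assoc]
  have h2 : el (prodW gl [0, 0, 0, 0]) = 1 := by rw [← h0]; exact h1
  have h3 := congrArg (fun g : M24 => idx (g • pt 4)) h2
  simp only [one_smul] at h3
  rw [idx_el_smul (ok_prodW gl_ok _)] at h3
  revert h3
  decide +kernel

theorem s2 : s * s = 1 := by
  apply ι_injective
  rw [map_mul, map_one]
  have h := words (w := [1, 1]) (w' := []) (by decide +kernel)
  simp only [gl, List.map_cons, List.map_nil, List.prod_cons, List.prod_nil,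
    List.getD_cons_zero, List.getD_cons_succ, mul_one] at h
  exact h

theorem sr : s * r * s⁻¹ = r ^ 3 := by
  rw [mul_inv_eq_iff_eq_mul]
  apply ι_injective
  rw [map_mul, map_mul, map_pow]
  have h := words (w := [1, 0]) (w' := [0, 0, 0, 1]) (by decide +kernel)
  simp only [gl, List.map_cons, List.map_nil, List.prod_cons, List.prod_nil,
    List.getD_cons_zero, List.getD_cons_succ, mul_one] at h
  show el Ps * el Pr = (el Pr) ^ 3 * el Ps
  rw [h]
  simp only [pow_succ, pow_zero, one_mul, mul_assoc]

theorem g3 : g ^ 3 = 1 := by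
  apply ι_injective
  rw [map_pow, map_one]
  have h := words (w := [2, 2, 2]) (w' := []) (by decide +kernel)
  simp only [gl, List.map_cons, List.map_nil, List.prod_cons, List.prod_nil,
    List.getD_cons_zero, List.getD_cons_succ, mul_one] at h
  show (el Pg) ^ 3 = 1
  rw [← h]
  simp only [pow_succ, pow_zero, one_mul, mul_assoc]

theorem gr : g * r ^ 2 * g⁻¹ = s * r := by
  rw [mul_inv_eq_iff_eq_mul]
  apply ι_injective
  rw [map_mul, map_mul, map_mul, map_pow]
  have h := words (w := [2, 0, 0]) (w' := [1, 0, 2]) (by decide +kernel)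
  simp only [gl, List.map_cons, List.map_nil, List.prod_cons, List.prod_nil,
    List.getD_cons_zero, List.getD_cons_succ, mul_one] at h
  show el Pg * (el Pr) ^ 2 = el Ps * el Pr * el Pg
  rw [mul_assoc, ← h]
  simp only [pow_succ, pow_zero, one_mul]

theorem kr : k * r ^ 4 * k⁻¹ = s := by
  rw [mul_inv_eq_iff_eq_mul]
  apply ι_injective
  rw [map_mul, map_mul, map_pow]
  have h := words (w := [3, 0, 0, 0, 0]) (w' := [1, 3]) (by decide +kernel)
  simp only [gl, List.map_cons, List.map_nil, List.prod_cons, List.prod_nil,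
    List.getD_cons_zero, List.getD_cons_succ, mul_one] at h
  show el Pk * (el Pr) ^ 4 = el Ps * el Pk
  rw [← h]
  simp only [pow_succ, pow_zero, one_mul, mul_assoc]

theorem not_cov {L : Type*} [Group L] [Finite L] (π : L →* Spor.M11) (c : L) : ¬ Cov π c := by
  intro h
  exact MulSmall.false_of_SD16 h r8 r4 s2 sr g3 gr kr (m := 495) (by rw [card_M11]) (by decide)

/-- **The centre of a perfect central extension of `M11` has odd order.** -/
theorem odd_center {K : Type*} [Group K] [Finite K] (hp : commutator K = ⊤)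
    (hX : Cfsg.Spor.IsoM11 (K ⧸ Subgroup.center K)) : ¬ 2 ∣ Nat.card (Subgroup.center K) := by
  obtain ⟨e⟩ := hX
  exact odd_card_center (fun L _ _ π c => not_cov π c) hp e

end Cfsg.Agent.KFacts.MulM11
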