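import Mathlib
import Cfsg.Agent.KFacts.MulCov

/-!
# Small Sylow 2-subgroups

* `card_dvd_of_step`, `not_two_dvd_index`: orders of 2-subgroups from normalising steps.
* `false_of_eight`: no perfect central extension by a group of order two, if the Sylow 2-subgroups are elementary
  abelian of order 8 with an element of order 7 acting.
* `false_of_SD16`: the same for semidihedral Sylow 2-subgroups of order 16 with one class of involutions and one
  class of elements of order 4.
-/

set_option autoImplicit false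
set_option linter.style.haveILetI false

namespace Cfsg.Agent.KFacts.MulSmall

open Subgroup
open Cfsg.Agent.KFacts.MulCov

section card

variable {X : Type*} [Group X]

/-- `H ∪ H x` for `x` normalising `H`, `x * x ∈ H` -/
def dbl (H : Subgroup X) (x : X) (hn : ∀ a ∈ H, x * a * x⁻¹ ∈ H) (hn' : ∀ a ∈ H, x⁻¹ * a * x ∈ H)
    (hx : x * x ∈ H) : Subgroup X where
  carrier := {a | a ∈ H ∨ a * x ∈ H}
  one_mem' := Or.inl (one_mem _)
  mul_mem' := by
    rintro a b (ha | ha) (hb | hb)
    · exact Or.inl (mul_mem ha hb)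
    · right; rw [mul_assoc]; exact mul_mem ha hb
    · right
      have e : a * b * x = a * x * (x⁻¹ * b * x) := by group
      rw [e]; exact mul_mem ha (hn' b hb)
    · left
      have e : a * b = a * x * (x⁻¹ * (b * x) * x) * (x * x)⁻¹ := by group
      rw [e]; exact mul_mem (mul_mem ha (hn' _ hb)) (inv_mem hx)
  inv_mem' := by
    rintro a (ha | ha)
    · exact Or.inl (inv_mem ha)
    · right
      have e : a⁻¹ * x = x * (a * x)⁻¹ * x⁻¹ * (x * x) := by group
      rw [e]; exact mul_mem (hn _ (inv_mem ha)) hx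

theorem card_dvd_of_step [Finite X] {H K : Subgroup X} {x : X} (hHK : H ≤ K) (hxK : x ∈ K) (hxH : x ∉ H)
    (hx : x * x ∈ H) (hn : ∀ a ∈ H, x * a * x⁻¹ ∈ H) : 2 * Nat.card H ∣ Nat.card K := by
  have hn' : ∀ a ∈ H, x⁻¹ * a * x ∈ H := by
    intro a ha
    have e : x⁻¹ * a * x = (x * x)⁻¹ * (x * a * x⁻¹) * (x * x) := by group
    rw [e]
    exact mul_mem (mul_mem (inv_mem hx) (hn a ha)) hx
  set D := dbl H x hn hn' hx with hD
  have hHD : H ≤ D := fun a ha => Or.inl ha
  have hxD : x ∈ D := Or.inr hx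
  have hDK : D ≤ K := by
    rintro a (ha | ha)
    · exact hHK ha
    · have e : a = a * x * x⁻¹ := by group
      rw [e]; exact mul_mem (hHK ha) (inv_mem hxK)
  have h2 : (H.subgroupOf D).index = 2 := by
    rw [index_eq_two_iff]
    refine ⟨⟨x, hxD⟩, fun b => ?_⟩
    by_cases hb : (b : X) ∈ H
    · right
      refine ⟨hb, fun h => hxH ?_⟩
      have h3 : (b : X) * x ∈ H := h
      have e : x = (b : X)⁻¹ * (b * x) := by group
      rw [e]; exact mul_mem (inv_mem hb) h3
    · left
      exact ⟨(b.2 : (b : X) ∈ H ∨ (b : X) * x ∈ H).resolve_left hb, hb⟩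
  have h3 : 2 * Nat.card H = Nat.card D := by
    rw [← (H.subgroupOf D).card_mul_index, h2, Nat.card_congr (subgroupOfEquivOfLe hHD).toEquiv, mul_comm]
  rw [h3]
  exact card_dvd_of_le hDK

theorem not_two_dvd_index [Finite X] {P : Subgroup X} {n m : ℕ} (h : 2 ^ n ∣ Nat.card P)
    (hX : Nat.card X = 2 ^ n * m) (hm : Odd m) : ¬ 2 ∣ P.index := by
  rintro ⟨k, hk⟩
  obtain ⟨l, hl⟩ := h
  have h1 := P.card_mul_index
  rw [hk, hl, hX] at h1
  have h2 : l * (2 * k) = m := by
    apply Nat.eq_of_mul_eq_mul_left (pow_pos (by norm_num : 0 < 2) n)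
    rw [← mul_assoc]; exact h1
  rw [← h2] at hm
  exact absurd hm (by rw [Nat.not_odd_iff_even]; exact ⟨l * k, by ring⟩)

end card

/-! ### Towers -/

section tower

/-- the subgroup generated by the first `k` members of a sequence -/
def gen {G : Type*} [Group G] (x : ℕ → G) (k : ℕ) : Subgroup G := closure {g | ∃ j < k, g = x j}

theorem mem_gen {G : Type*} [Group G] {x : ℕ → G} {k j : ℕ} (h : j < k) : x j ∈ gen x k :=
  subset_closure ⟨j, h, rfl⟩

theorem gen_mono {G : Type*} [Group G] (x : ℕ → G) {k l : ℕ} (h : k ≤ l) : gen x k ≤ gen x l :=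
  closure_mono fun _ ⟨j, hj, hx⟩ => ⟨j, lt_of_lt_of_le hj h, hx⟩

theorem map_gen {G H : Type*} [Group G] [Group H] (f : G →* H) (x : ℕ → G) (k : ℕ) :
    (gen x k).map f = gen (fun i => f (x i)) k := by
  unfold gen
  rw [MonoidHom.map_closure]
  congr 1
  ext g
  constructor
  · rintro ⟨_, ⟨j, hj, rfl⟩, rfl⟩
    exact ⟨j, hj, rfl⟩
  · rintro ⟨j, hj, rfl⟩
    exact ⟨x j, ⟨j, hj, rfl⟩, rfl⟩

theorem conj_gen {G : Type*} [Group G] {x : ℕ → G} {k : ℕ} {g : G} (h : ∀ j < k, g * x j * g⁻¹ ∈ gen x k) :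
    ∀ a ∈ gen x k, g * a * g⁻¹ ∈ gen x k := by
  intro a ha
  have h1 : gen x k ≤ (gen x k).comap (MulAut.conj g).toMonoidHom := by
    rw [gen, closure_le]
    rintro _ ⟨j, hj, rfl⟩
    exact h j hj
  exact h1 ha

theorem conj_gen' {G : Type*} [Group G] {x : ℕ → G} {k : ℕ} {g : G} (h : ∀ j < k, g * x j * g⁻¹ ∈ gen x k)
    (hg : g * g ∈ gen x k) : ∀ a ∈ gen x k, g⁻¹ * a * g ∈ gen x k := by
  intro a ha
  have e : g⁻¹ * a * g = (g * g)⁻¹ * (g * a * g⁻¹) * (g * g) := by group
  rw [e]
  exact mul_mem (mul_mem (inv_mem hg) (conj_gen h a ha)) hg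

theorem gen_succ_le {G : Type*} [Group G] {x : ℕ → G} {k : ℕ} (h : ∀ j < k, x k * x j * (x k)⁻¹ ∈ gen x k)
    (hg : x k * x k ∈ gen x k) : gen x (k + 1) ≤ dbl (gen x k) (x k) (conj_gen h) (conj_gen' h hg) hg := by
  rw [gen, closure_le]
  rintro _ ⟨j, hj, rfl⟩
  rcases Nat.lt_succ_iff_lt_or_eq.1 hj with h1 | rfl
  · exact Or.inl (mem_gen h1)
  · exact Or.inr hg

theorem two_pow_dvd_card_gen {X : Type*} [Group X] [Finite X] {x : ℕ → X} {n : ℕ}
    (hsq : ∀ k < n, x k * x k ∈ gen x k) (hconj : ∀ k < n, ∀ j < k, x k * x j * (x k)⁻¹ ∈ gen x k)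
    (hnot : ∀ k < n, x k ∉ gen x k) : 2 ^ n ∣ Nat.card (gen x n) := by
  induction n with
  | zero => simp
  | succ n ih =>
    have h1 := ih (fun k hk => hsq k (by omega)) (fun k hk => hconj k (by omega)) fun k hk => hnot k (by omega)
    have h2 := card_dvd_of_step (gen_mono x (Nat.le_succ n)) (mem_gen (Nat.lt_succ_self n)) (hnot n (Nat.lt_succ_self n))
      (hsq n (Nat.lt_succ_self n)) (conj_gen (hconj n (Nat.lt_succ_self n)))
    exact dvd_trans (by rw [pow_succ']; exact Nat.mul_dvd_mul_left 2 h1) h2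

variable {L X : Type*} [Group L] [Finite L] [Group X] [Finite X] {π : L →* X} {c : L}

/-- A Sylow 2-subgroup of `X` with a tower of normal steps does not lift to a tower of the same length. -/
theorem false_of_tower (h : Cov π c) {n m : ℕ} (x : ℕ → L) (hsq : ∀ k < n, x k * x k ∈ gen x k)
    (hconj : ∀ k < n, ∀ j < k, x k * x j * (x k)⁻¹ ∈ gen x k)
    (hnot : ∀ k < n, π (x k) ∉ gen (fun i => π (x i)) k) (hX : Nat.card X = 2 ^ n * m) (hm : Odd m) : False := by
  have hc : ∀ k ≤ n, c ∉ gen x k := by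
    intro k
    induction k with
    | zero =>
      intro _ hc
      have : gen x 0 = ⊥ := by
        unfold gen
        rw [closure_eq_bot_iff]
        rintro g ⟨j, hj, -⟩
        omega
      rw [this, mem_bot] at hc
      exact h.ne hc
    | succ k ih =>
      intro hk hc
      rcases gen_succ_le (hconj k (by omega)) (hsq k (by omega)) hc with h1 | h1
      · exact ih (by omega) h1
      · apply hnot k (by omega)
        have h2 : π (c * x k) ∈ (gen x k).map π := mem_map_of_mem π h1
        rw [map_mul, h.map_c, one_mul, map_gen] at h2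
        exact h2
  refine h.false_of_subgroup (P := gen (fun i => π (x i)) n) (not_two_dvd_index ?_ hX hm) (hc n le_rfl)
    (by rw [map_gen])
  apply two_pow_dvd_card_gen
  · intro k hk
    have h2 := mem_map_of_mem π (hsq k hk)
    rw [map_mul, map_gen] at h2
    exact h2
  · intro k hk j hj
    have h2 := mem_map_of_mem π (hconj k hk j hj)
    rw [map_mul, map_mul, map_inv, map_gen] at h2
    exact h2
  · exact hnot

end tower

section groups

variable {L X : Type*} [Group L] [Finite L] [Group X] [Finite X] {π : L →* X} {c : L}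

theorem mem_gen_one {G : Type*} [Group G] {x : ℕ → G} {g : G} (h : g ∈ gen x 1) (hx : x 0 * x 0 = 1) :
    g = 1 ∨ g = x 0 := by
  have h1 : gen x 1 ≤ dbl ⊥ (x 0) (by
      intro a ha
      rw [mem_bot] at ha ⊢
      rw [ha, mul_one, mul_inv_cancel]) (by
      intro a ha
      rw [mem_bot] at ha ⊢
      rw [ha, mul_one, inv_mul_cancel]) (by rw [hx]; exact one_mem _) := by
    rw [gen, closure_le]
    rintro _ ⟨j, hj, rfl⟩
    have : j = 0 := by omega
    subst this
    exact Or.inr (by rw [hx]; exact one_mem _)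
  rcases h1 h with h2 | h2
  · exact Or.inl (mem_bot.1 h2)
  · exact Or.inr (by rw [eq_inv_of_mul_eq_one_left (mem_bot.1 h2), inv_eq_of_mul_eq_one_left hx])

theorem mem_gen_succ {G : Type*} [Group G] {x : ℕ → G} {k : ℕ} (h : ∀ j < k, x k * x j * (x k)⁻¹ ∈ gen x k)
    (hg : x k * x k ∈ gen x k) {g : G} (hgm : g ∈ gen x (k + 1)) : g ∈ gen x k ∨ g * x k ∈ gen x k :=
  gen_succ_le h hg hgm

/-- Elementary abelian Sylow 2-subgroups of order eight, good involutions. -/
theorem false_of_eight (h : Cov π c) {a b d : X} (ha : Good π a) (hb : Good π b) (hd : Good π d)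
    (hab : Good π (a * b)) (had : Good π (a * d)) (hbd : Good π (b * d)) (ha1 : a ≠ 1) (hb1 : b ≠ 1)
    (hba : b ≠ a) (hd1 : d ≠ 1) (hda : d ≠ a) (hdb : d ≠ b) (hdab : d ≠ a * b) {m : ℕ} (hX : Nat.card X = 8 * m)
    (hm : Odd m) : False := by
  obtain ⟨x, rfl⟩ := h.surj a
  obtain ⟨y, rfl⟩ := h.surj b
  obtain ⟨z, rfl⟩ := h.surj d
  have hx := ha x rfl
  have hy := hb y rfl
  have hz := hd z rfl
  have cm : ∀ u v : L, u * u = 1 → v * v = 1 → u * v * (u * v) = 1 → u * v = v * u := by
    intro u v hu hv huv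
    calc u * v = (u * v)⁻¹ := (inv_eq_of_mul_eq_one_left huv).symm
      _ = v * u := by rw [mul_inv_rev, inv_eq_of_mul_eq_one_left hu, inv_eq_of_mul_eq_one_left hv]
  have hxy := cm x y hx hy (hab _ (map_mul _ _ _))
  have hxz := cm x z hx hz (had _ (map_mul _ _ _))
  have hyz := cm y z hy hz (hbd _ (map_mul _ _ _))
  let s : ℕ → L := fun i => match i with
    | 0 => x
    | 1 => y
    | _ => z
  have c1 : y * x * y⁻¹ = x := by rw [← hxy, mul_inv_cancel_right]
  have c2 : z * x * z⁻¹ = x := by rw [← hxz, mul_inv_cancel_right]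
  have c3 : z * y * z⁻¹ = y := by rw [← hyz, mul_inv_cancel_right]
  have ha2 : π x * π x = 1 := by rw [← map_mul, hx, map_one]
  have hb2 : π y * π y = 1 := by rw [← map_mul, hy, map_one]
  have i2 : (π y)⁻¹ = π y := inv_eq_of_mul_eq_one_left hb2
  have g1 : ∀ g ∈ gen (fun i => π (s i)) 1, g = 1 ∨ g = π x := fun g hg => mem_gen_one hg ha2
  have m1 : ∀ j < 1, π (s 1) * π (s j) * (π (s 1))⁻¹ ∈ gen (fun i => π (s i)) 1 := by
    intro j hj
    have : j = 0 := by omega
    subst this
    show π y * π x * (π y)⁻¹ ∈ _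
    rw [← map_mul, ← map_inv, ← map_mul, c1]
    exact mem_gen (x := fun i => π (s i)) (j := 0) (by norm_num)
  refine false_of_tower h (n := 3) (m := m) s ?_ ?_ ?_ (by rw [hX]; norm_num) hm
  · intro k hk
    have : s k * s k = 1 := by
      interval_cases k
      · exact hx
      · exact hy
      · exact hz
    rw [this]; exact one_mem _
  · intro k hk j hj
    interval_cases k
    · omega
    · have : j = 0 := by omega
      subst this
      show y * x * y⁻¹ ∈ _
      rw [c1]; exact mem_gen (x := s) (j := 0) (by norm_num)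
    · interval_cases j
      · show z * x * z⁻¹ ∈ _
        rw [c2]; exact mem_gen (x := s) (j := 0) (by norm_num)
      · show z * y * z⁻¹ ∈ _
        rw [c3]; exact mem_gen (x := s) (j := 1) (by norm_num)
  · intro k hk hmem
    interval_cases k
    · have : gen (fun i => π (s i)) 0 = ⊥ := by
        unfold gen
        rw [closure_eq_bot_iff]
        rintro g ⟨j, hj, -⟩
        omega
      rw [this, mem_bot] at hmem
      exact ha1 hmem
    · rcases g1 _ hmem with h1 | h1
      · exact hb1 h1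
      · exact hba h1
    · have hyy : π (s 1) * π (s 1) ∈ gen (fun i => π (s i)) 1 := by
        show π y * π y ∈ _
        rw [hb2]; exact one_mem _
      rcases mem_gen_succ (x := fun i => π (s i)) m1 hyy hmem with h1 | h1
      · rcases g1 _ h1 with h2 | h2
        · exact hd1 h2
        · exact hda h2
      · rcases g1 _ h1 with h2 | h2
        · apply hdb
          have : π z = (π y)⁻¹ := eq_inv_of_mul_eq_one_left h2
          rw [this, i2]
        · apply hdab
          have h3 : π z * π y = π x := h2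
          rw [← h3, mul_assoc, hb2, mul_one]

/-- Elementary abelian Sylow 2-subgroups of order eight with an element `g` of order seven acting. -/
theorem false_of_singer (h : Cov π c) {g : X} (a : ℕ → X) (hc : ∀ i < 6, g * a i = a (i + 1) * g)
    (ha : a 0 * a 0 = 1) (h01 : a 0 * a 1 = a 3) (h02 : a 0 * a 2 = a 6) (h12 : a 1 * a 2 = a 4)
    (h04 : a 0 * a 4 = a 5) (h0 : a 0 ≠ 1) {m : ℕ} (hX : Nat.card X = 8 * m) (hm : Odd m) : False := by
  have hg0 := h.good_of_singer a hc ha h01 h02 h12 h04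
  have hcj : ∀ i < 7, IsConj (a 0) (a i) := by
    intro i
    induction i with
    | zero => intro _; exact IsConj.refl _
    | succ i ih =>
      intro hi
      refine (ih (by omega)).trans (isConj_iff.2 ⟨g, ?_⟩)
      rw [hc i (by omega), mul_inv_cancel_right]
  have hg : ∀ i < 7, Good π (a i) := fun i hi => Good.of_isConj h.toExt hg0 ha (hcj i hi)
  have hne : ∀ i < 7, a i ≠ 1 := by
    intro i hi h1
    have h2 := hcj i hi
    rw [h1] at h2
    exact h0 (isConj_one_left.1 h2)
  have hsq : ∀ i < 7, a i * a i = 1 := by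
    intro i hi
    obtain ⟨x, hx⟩ := h.surj (a i)
    rw [← hx, ← map_mul, hg i hi x hx, map_one]
  refine false_of_eight h (a := a 0) (b := a 1) (d := a 2) (hg 0 (by norm_num)) (hg 1 (by norm_num))
    (hg 2 (by norm_num)) (by rw [h01]; exact hg 3 (by norm_num)) (by rw [h02]; exact hg 6 (by norm_num))
    (by rw [h12]; exact hg 4 (by norm_num)) h0 (hne 1 (by norm_num)) ?_ (hne 2 (by norm_num)) ?_ ?_ ?_ hX hm
  · intro h1
    rw [h1, ha] at h01
    exact hne 3 (by norm_num) h01.symm
  · intro h1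
    rw [h1, ha] at h02
    exact hne 6 (by norm_num) h02.symm
  · intro h1
    rw [h1, hsq 1 (by norm_num)] at h12
    exact hne 4 (by norm_num) h12.symm
  · intro h1
    rw [h01] at h1
    -- `a 2 = a 3`, so `g` commutes with `a 2`, `a 1 = a 2`
    have h2 := hc 2 (by norm_num)
    have h3 := hc 1 (by norm_num)
    simp only [Nat.reduceAdd] at h2 h3
    rw [← h1] at h2
    rw [← h2] at h3
    have h4 := mul_left_cancel h3
    rw [h4, hsq 2 (by norm_num)] at h12
    exact hne 4 (by norm_num) h12.symm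

/-- Semidihedral Sylow 2-subgroups of order 16. -/
theorem false_of_SD16 (h : Cov π c) {r s g k : X} (hr : r ^ 8 = 1) (hr4 : r ^ 4 ≠ 1) (hs : s * s = 1)
    (hsr : s * r * s⁻¹ = r ^ 3) (hg3 : g ^ 3 = 1) (hg : g * r ^ 2 * g⁻¹ = s * r) (hk : k * r ^ 4 * k⁻¹ = s) {m : ℕ}
    (hX : Nat.card X = 16 * m) (hm : Odd m) : False := by
  obtain ⟨R, rfl⟩ := h.surj r
  obtain ⟨S, rfl⟩ := h.surj s
  obtain ⟨G, rfl⟩ := h.surj g
  obtain ⟨K, rfl⟩ := h.surj k
  have hcR : Commute R c := (h.cen R).symm
  -- `S R S⁻¹ = R ^ 3 * e`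
  obtain ⟨e, he, hSR⟩ : ∃ e, (e = 1 ∨ e = c) ∧ S * R * S⁻¹ = R ^ 3 * e := by
    have h1 : π (S * R * S⁻¹) = π (R ^ 3) := by rw [map_mul, map_mul, map_inv, map_pow, hsr]
    rcases h.eq_or h1 with h2 | h2
    · exact ⟨1, Or.inl rfl, by rw [h2, mul_one]⟩
    · exact ⟨c, Or.inr rfl, h2⟩
  have hee : e * e = 1 := by rcases he with rfl | rfl; · exact one_mul 1
                             · exact h.sq
  have hec : ∀ w, Commute w e := by
    intro w
    rcases he with rfl | rfl
    · exact Commute.one_right w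
    · exact (h.cen w).symm
  have hS2 : S * S = 1 ∨ S * S = c := h.mul_self_or hs
  -- `R ^ 8 = 1`
  have hR8 : R ^ 8 = 1 := by
    have h1 : S * S * R * (S * S)⁻¹ = R := by
      rcases hS2 with h2 | h2
      · rw [h2]; group
      · rw [h2, h.cen, mul_inv_cancel_right]
    have h2 : S * S * R * (S * S)⁻¹ = R ^ 9 := by
      calc S * S * R * (S * S)⁻¹ = S * (S * R * S⁻¹) * S⁻¹ := by group
        _ = S * (R ^ 3 * e) * S⁻¹ := by rw [hSR]
        _ = S * R ^ 3 * (e * S⁻¹) := by group
        _ = S * R ^ 3 * (S⁻¹ * e) := by rw [(hec S⁻¹).eq]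
        _ = (S * R ^ 3 * S⁻¹) * e := by group
        _ = (S * R * S⁻¹) ^ 3 * e := by rw [conj_pow]
        _ = (R ^ 3 * e) ^ 3 * e := by rw [hSR]
        _ = (R ^ 3) ^ 3 * e ^ 3 * e := by rw [(hec (R ^ 3)).mul_pow]
        _ = R ^ 9 * (e * e) * (e * e) := by rw [← pow_mul, pow_succ e, pow_two]; group
        _ = R ^ 9 := by rw [hee, mul_one, mul_one]
    rw [h1] at h2
    have h3 : R * R ^ 8 = R * 1 := by rw [← pow_succ', ← h2, mul_one]
    exact mul_left_cancel h3
  -- `S ^ 2 = 1`
  have hS : S * S = 1 := by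
    have h1 : π (K * R ^ 4 * K⁻¹) = π S := by rw [map_mul, map_mul, map_inv, map_pow, hk]
    rw [← h.mul_self_eq h1]
    calc K * R ^ 4 * K⁻¹ * (K * R ^ 4 * K⁻¹) = K * R ^ 8 * K⁻¹ := by group
      _ = 1 := by rw [hR8]; group
  have hSi : S⁻¹ = S := inv_eq_of_mul_eq_one_left hS
  -- `e = 1`
  have he1 : e = 1 := by
    have h1 : (S * R) * (S * R) = R ^ 4 * e := by
      calc (S * R) * (S * R) = (S * R * S⁻¹) * R := by rw [hSi]; group
        _ = R ^ 3 * (e * R) := by rw [hSR]; group
        _ = R ^ 3 * (R * e) := by rw [(hec R).eq]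
        _ = R ^ 4 * e := by group
    have h2 : π (G * R ^ 2 * G⁻¹) = π (S * R) := by rw [map_mul, map_mul, map_inv, map_pow, hg, map_mul]
    have h3 := h.mul_self_eq h2
    rw [h1] at h3
    have h4 : G * R ^ 4 * G⁻¹ = R ^ 4 * e := by rw [← h3]; group
    have h5 : G * R ^ 4 = R ^ 4 * G := by
      apply h.comm_of_odd (n := 3) (by decide) hg3
      have h6 := congrArg π h4
      have h7 : π e = 1 := by
        rcases he with rfl | rfl
        · exact map_one _
        · exact h.map_c
      rw [map_mul, map_mul, map_mul, h7, mul_one, map_inv] at h6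
      exact mul_inv_eq_iff_eq_mul.1 h6
    rw [h5, mul_inv_cancel_right] at h4
    exact (mul_eq_left.1 h4.symm)
  rw [he1, mul_one] at hSR
  -- the tower
  let x : ℕ → L := fun i => match i with
    | 0 => R ^ 4
    | 1 => R ^ 2
    | 2 => R
    | _ => S
  have m0 : ∀ k, 1 ≤ k → R ^ 4 ∈ gen x k := fun k hk => mem_gen (x := x) (j := 0) (by omega)
  have m1 : ∀ k, 2 ≤ k → R ^ 2 ∈ gen x k := fun k hk => mem_gen (x := x) (j := 1) (by omega)
  have m2 : ∀ k, 3 ≤ k → R ∈ gen x k := fun k hk => mem_gen (x := x) (j := 2) (by omega)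
  have z1 : gen (fun i => π (x i)) 1 ≤ zpowers (π R ^ 4) := by
    rw [gen, closure_le]
    rintro _ ⟨j, hj, rfl⟩
    have : j = 0 := by omega
    subst this
    show π (R ^ 4) ∈ zpowers (π R ^ 4)
    rw [map_pow]; exact mem_zpowers _
  have z2 : gen (fun i => π (x i)) 2 ≤ zpowers (π R ^ 2) := by
    rw [gen, closure_le]
    rintro _ ⟨j, hj, rfl⟩
    interval_cases j
    · show π (R ^ 4) ∈ zpowers (π R ^ 2)
      rw [map_pow, show (4 : ℕ) = 2 * 2 from rfl, pow_mul]; exact pow_mem (mem_zpowers _) _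
    · show π (R ^ 2) ∈ zpowers (π R ^ 2)
      rw [map_pow]; exact mem_zpowers _
  have z3 : gen (fun i => π (x i)) 3 ≤ zpowers (π R) := by
    rw [gen, closure_le]
    rintro _ ⟨j, hj, rfl⟩
    interval_cases j
    · show π (R ^ 4) ∈ zpowers (π R)
      rw [map_pow]; exact pow_mem (mem_zpowers _) _
    · show π (R ^ 2) ∈ zpowers (π R)
      rw [map_pow]; exact pow_mem (mem_zpowers _) _
    · exact mem_zpowers _
  refine false_of_tower h (n := 4) (m := m) x ?_ ?_ ?_ (by rw [hX]; norm_num) hm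
  · intro k hk
    interval_cases k
    · show R ^ 4 * R ^ 4 ∈ _
      rw [← pow_add, hR8]; exact one_mem _
    · show R ^ 2 * R ^ 2 ∈ _
      rw [← pow_add]; exact m0 1 le_rfl
    · show R * R ∈ _
      rw [← pow_two]; exact m1 2 le_rfl
    · show S * S ∈ _
      rw [hS]; exact one_mem _
  · intro k hk j hj
    interval_cases k
    · omega
    · have : j = 0 := by omega
      subst this
      show R ^ 2 * R ^ 4 * (R ^ 2)⁻¹ ∈ _
      have e : R ^ 2 * R ^ 4 * (R ^ 2)⁻¹ = R ^ 4 := by group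
      rw [e]; exact m0 1 le_rfl
    · interval_cases j
      · show R * R ^ 4 * R⁻¹ ∈ _
        have e : R * R ^ 4 * R⁻¹ = R ^ 4 := by group
        rw [e]; exact m0 2 (by norm_num)
      · show R * R ^ 2 * R⁻¹ ∈ _
        have e : R * R ^ 2 * R⁻¹ = R ^ 2 := by group
        rw [e]; exact m1 2 le_rfl
    · interval_cases j
      · show S * R ^ 4 * S⁻¹ ∈ _
        rw [← conj_pow, hSR]; exact pow_mem (pow_mem (m2 3 le_rfl) _) _
      · show S * R ^ 2 * S⁻¹ ∈ _
        rw [← conj_pow, hSR]; exact pow_mem (pow_mem (m2 3 le_rfl) _) _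
      · show S * R * S⁻¹ ∈ _
        rw [hSR]; exact pow_mem (m2 3 le_rfl) _
  · intro k hk hmem
    interval_cases k
    · have : gen (fun i => π (x i)) 0 = ⊥ := by
        unfold gen
        rw [closure_eq_bot_iff]
        rintro g ⟨j, hj, -⟩
        omega
      rw [this, mem_bot] at hmem
      apply hr4
      rw [← map_pow]
      exact hmem
    · obtain ⟨i, hi⟩ := mem_zpowers_iff.1 (z1 hmem)
      apply hr4
      have h1 : (π R ^ 4) ^ i = π R ^ 2 := by rw [hi]; exact map_pow π R 2
      calc π R ^ 4 = (π R ^ 2) ^ 2 := by rw [← pow_mul]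
        _ = ((π R ^ 4) ^ i) ^ 2 := by rw [h1]
        _ = (π R ^ 8) ^ i := by group
        _ = 1 := by rw [hr, one_zpow]
    · obtain ⟨i, hi⟩ := mem_zpowers_iff.1 (z2 hmem)
      apply hr4
      have h1 : (π R ^ 2) ^ i = π R := hi
      calc π R ^ 4 = ((π R ^ 2) ^ i) ^ 4 := by rw [h1]
        _ = (π R ^ 8) ^ i := by group
        _ = 1 := by rw [hr, one_zpow]
    · obtain ⟨i, hi⟩ := mem_zpowers_iff.1 (z3 hmem)
      apply hr4
      have h1 : π R ^ i = π S := hi
      have h2 : π R ^ 3 = π R := by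
        rw [← hsr, ← h1]; group
      have h3 : π R ^ 2 = 1 := by
        have : π R * π R ^ 2 = π R * 1 := by rw [← pow_succ', mul_one]; exact h2
        exact mul_left_cancel this
      rw [show (4 : ℕ) = 2 * 2 from rfl, pow_mul, h3, one_pow]

end groups

end Cfsg.Agent.KFacts.MulSmall
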