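import Cfsg.Agent.KFacts.MulDef
import Cfsg.Agent.Bimonster.Bim

/-!
# The Monster has no perfect double cover

`noDouble_of_prel`: a group presented by `PRel` (universal property `Univ`) has no perfect double cover.
`noDouble`: the same for `Spor.Monster`, given an isomorphism with the presented group `PM`
(`Bimonster.monster_equiv_PM`).
-/

set_option autoImplicit false

namespace Cfsg.Agent.KFacts.MulMonster

open Cfsg Cfsg.Agent.Bimonster Cfsg.Agent.KFacts.MulDef

theorem noDouble_of_prel (hF : FiFacts) {P : Type*} [Group P] {x : ℕ → P} (hx : PRel x)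
    (hgen : Subgroup.closure (nodes 14 x) = ⊤) (hU : Univ.{0} x) : NoDouble P := by
  intro L _ _ π c hd
  have hE : Ext π := ⟨hd.surj, fun k hk g => by
    rcases (hd.ker k).1 hk with rfl | rfl
    · rw [one_mul, mul_one]
    · exact hd.cen g⟩
  have h3 := hE.cube_eq_one hF hd.perf hx hgen hU c ((hd.ker c).2 (Or.inr rfl))
  apply hd.ne
  rwa [pow_succ, pow_two, hd.sq, one_mul] at h3

theorem noDouble_PM (hF : FiFacts) : NoDouble PM := noDouble_of_prel hF xM_prel xM_gen xM_univ

theorem noDouble (hF : FiFacts) (e : Spor.Monster ≃* PM) : NoDouble Spor.Monster :=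
  (noDouble_PM hF).congr e.symm

end Cfsg.Agent.KFacts.MulMonster
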