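import Mathlib
import Cfsg.Agent.KFacts.RgdEx

/-!
# The torus of a rank one subgroup in characteristic 2 (ODD, D10/D4, helper335)

`R : RGD cs h 2 T n X` with `T` abelian, `x` a root in an `A₂`.  Then `T ⊓ (X x ⊔ X (-x))` is transitive on the
nontrivial elements of `X x` (for odd characteristic this is false): `tor_self`.  No coordinates are used.
-/

set_option autoImplicit false
set_option linter.unusedSectionVars false

namespace Cfsg.Agent.KFacts.RgdTor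

open CoxeterSystem Cfsg.Agent.ChevalleyStructure.CoxeterGeom Cfsg.Agent.Tits.Roots Cfsg.Agent.Tits.Core
  Cfsg.Agent.Tits.Exchange Cfsg.Agent.Nodes.Reps Cfsg.Agent.Nodes.BNOf Cfsg.Agent.Nodes.StabComb
  Cfsg.Agent.Nodes.Bruhat Cfsg.Agent.Nodes.OppDec Cfsg.Agent.Nodes.PosPair Cfsg.Agent.Nodes.Coroot
  Cfsg.Agent.KFacts.RgdPar Cfsg.Agent.KFacts.RgdSL Cfsg.Agent.KFacts.RgdTI Cfsg.Agent.KFacts.RgdCent
  Cfsg.Agent.KFacts.RgdOdd Cfsg.Agent.KFacts.RgdEx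
open scoped commutatorElement

variable {I W Y : Type*} [Fintype I] [DecidableEq I] [Group W] [Group Y] {M : CoxeterMatrix I}
  {cs : CoxeterSystem M W} {A : I → I → ℤ} {h : IsCartan M A} {T : Subgroup Y} {n : I → Y}
  {X : (I → ℤ) → Subgroup Y}

/-- a nontrivial element of a root group -/
theorem exists_ne [Finite W] {p : ℕ} (R : RGD cs h p T n X) {x : I → ℤ} (hx : IsRoot cs h x) : ∃ u ∈ X x, u ≠ 1 := by
  obtain ⟨⟨u, hu⟩, hu1⟩ := (Subgroup.ne_bot_iff_exists_ne_one).1 (X_ne_bot R hx)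
  exact ⟨u, hu, fun h0 => hu1 (Subtype.ext h0)⟩

theorem tor_mem {p : ℕ} (R : RGD cs h p T n X) {x : I → ℤ} (hx : IsRoot cs h x) {t u : Y} (ht : t ∈ T) (hu : u ∈ X x) :
    t * u * t⁻¹ ∈ X x := by
  rw [← R.tor x hx t ht]
  exact conj_mem_cj.2 hu

/-- In an abelian group acting transitively, two elements agreeing in one point agree. -/
theorem eq_of_trans {S : Set Y} (hab : ∀ s ∈ T, ∀ t ∈ T, s * t = t * s)
    (htr : ∀ v ∈ S, ∀ v' ∈ S, ∃ t ∈ T, t * v * t⁻¹ = v') {s t v0 v : Y} (hs : s ∈ T) (ht : t ∈ T) (hv0 : v0 ∈ S)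
    (hv : v ∈ S) (he : s * v0 * s⁻¹ = t * v0 * t⁻¹) : s * v * s⁻¹ = t * v * t⁻¹ := by
  obtain ⟨k, hk, rfl⟩ := htr v0 hv0 v hv
  have h1 := hab s hs k hk
  have h2 := hab t ht k hk
  calc s * (k * v0 * k⁻¹) * s⁻¹ = (s * k) * v0 * (s * k)⁻¹ := by group
    _ = k * (s * v0 * s⁻¹) * k⁻¹ := by rw [h1]; group
    _ = k * (t * v0 * t⁻¹) * k⁻¹ := by rw [he]
    _ = (t * k) * v0 * (t * k)⁻¹ := by rw [h2]; group
    _ = t * (k * v0 * k⁻¹) * t⁻¹ := by group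

section

variable [Finite W] {x y : I → ℤ} (hA : A2 cs h x y) (R : RGD cs h 2 T n X)

include hA R

theorem sq_x {u : Y} (hu : u ∈ X x) : u * u = 1 := by
  have := elementary R hA.symm (p := 2) hu
  rwa [pow_two] at this

/-- the element `m = μ(u)`; it acts on `X y` and on `X (x + y)` through `v ↦ ⁅u, v⁆` and its inverse -/
theorem exists_mu2 {u : Y} (hu : u ∈ X x) (hu1 : u ≠ 1) : ∃ s : W, (∀ z, rep cs h s z = z - cpr cs h z x • x) ∧
    ∃ m ∈ X x ⊔ X (-x), Rp cs R.nsys s m ∧ (∀ v ∈ X y, m * v * m⁻¹ = ⁅u, v⁆) ∧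
      ∀ v ∈ X y, m⁻¹ * v * m = ⁅u, v⁆ := by
  obtain ⟨s, hs, a, ha, b, hb, m, hm, he⟩ := exists_mu R hA.rx hu hu1
  refine ⟨s, hs, m, ?_, hm, fun v hv => (hA.comm_eq R hu hv ha hb hs hm he).symm, fun v hv => ?_⟩
  · rw [he]
    exact mul_mem (mul_mem (Subgroup.mem_sup_right ha) (Subgroup.mem_sup_left hu)) (Subgroup.mem_sup_right hb)
  · have hu2 : u⁻¹ = u := inv_eq_of_mul_eq_one_right (sq_x hA R hu)
    have hs' : ∀ z, rep cs h s⁻¹ z = z - cpr cs h z x • x := by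
      intro z
      have h1 : rep cs h s (z - cpr cs h z x • x) = z := by
        rw [hs, sub_eq_add_neg z, cpr_add cs h _ _ hA.rx, cpr_neg cs h _ hA.rx, cpr_smul cs h _ _ hA.rx,
          cpr_self cs h hA.rx]
        module
      calc rep cs h s⁻¹ z = rep cs h s⁻¹ (rep cs h s (z - cpr cs h z x • x)) := by rw [h1]
        _ = _ := by rw [rep_inv_apply]
    have h2 := hA.comm_eq R hu hv (inv_mem hb) (inv_mem ha) hs' hm.inv (by rw [he, mul_inv_rev, mul_inv_rev, hu2]; group)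
    rw [h2, inv_inv]

/-- **`T ⊓ ⟨X x, X (-x)⟩` is transitive on the nontrivial elements of `X x`.** -/
theorem tor_self [Finite T] (hab : ∀ s ∈ T, ∀ t ∈ T, s * t = t * s) {u0 u1 : Y} (hu0 : u0 ∈ X x) (h0 : u0 ≠ 1)
    (hu1 : u1 ∈ X x) (h1 : u1 ≠ 1) : ∃ t ∈ T ⊓ (X x ⊔ X (-x)), t * u0 * t⁻¹ = u1 := by
  obtain ⟨v0, hv0, hv01⟩ := exists_ne R hA.ry
  -- the set `S` of nontrivial elements of `X (x + y)`
  have htr : ∀ v ∈ {v | v ∈ X (x + y) ∧ v ≠ 1}, ∀ v' ∈ {v | v ∈ X (x + y) ∧ v ≠ 1},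
      ∃ t ∈ T, t * v * t⁻¹ = v' := by
    rintro v ⟨hv, hv1⟩ v' ⟨hv', hv1'⟩
    obtain ⟨w, hw, ew⟩ := hA.comm_surj R hu0 h0 hv
    obtain ⟨w', hw', ew'⟩ := hA.comm_surj R hu0 h0 hv'
    -- via `μ(u0)` and the torus
    obtain ⟨s, hs, m, -, hm, hm1, -⟩ := exists_mu2 hA R hu0 h0
    obtain ⟨t, ht, et⟩ := hA.tor_trans R hw (by rintro rfl; exact hv1 (by rw [← ew]; simp [commutatorElement_def]))
      hw' (by rintro rfl; exact hv1' (by rw [← ew']; simp [commutatorElement_def]))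
    refine ⟨m * t * m⁻¹, ?_, ?_⟩
    · have h3 := ((hm.mul (rp_of_mem (cs := cs) (hN := R.nsys) (Subgroup.mem_inf.1 ht).1)).mul hm.inv)
      rw [mul_one, mul_inv_cancel] at h3
      have h4 := h3.unique (rp_of_mem (cs := cs) (hN := R.nsys) (one_mem T))
      have h5 : m * t * m⁻¹ = ((m * t * m⁻¹)⁻¹ * 1)⁻¹ := by group
      rw [h5]
      exact inv_mem h4
    · rw [← ew, ← ew', ← hm1 w hw, ← hm1 w' hw', ← et]; group
  obtain ⟨s0, hs0, m0, hm0K, hm0, hm0a, hm0b⟩ := exists_mu2 hA R hu0 h0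
  obtain ⟨s1, hs1, m1, hm1K, hm1, hm1a, hm1b⟩ := exists_mu2 hA R hu1 h1
  -- the reflections agree
  have hss : ∀ {s s' : W}, (∀ z, rep cs h s z = z - cpr cs h z x • x) →
      (∀ z, rep cs h s' z = z - cpr cs h z x • x) → s = s' := by
    intro s s' hs hs'
    have : s'⁻¹ * s = 1 := by
      refine eq_one_of_fix cs h _ fun i => ?_
      have h3 : rep cs h s (sr i) = rep cs h s' (sr i) := by rw [hs, hs']
      show rep cs h (s'⁻¹ * s) (sr i) = sr i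
      rw [rep_mul_apply, h3, rep_inv_apply]
    exact (inv_mul_eq_one.1 this).symm
  -- quotients of representatives lie in `T`
  have hquot : ∀ {m : Y}, Rp cs R.nsys s0 m → m * m0⁻¹ ∈ T := by
    intro m hm
    have h3 := (hm.mul hm0.inv)
    rw [mul_inv_cancel] at h3
    have h4 := h3.unique (rp_of_mem (cs := cs) (hN := R.nsys) (one_mem T))
    have h5 : m * m0⁻¹ = ((m * m0⁻¹)⁻¹ * 1)⁻¹ := by group
    rw [h5]
    exact inv_mem h4
  have e10 : s1 = s0 := hss hs1 hs0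
  subst e10
  set h' := m1 * m0⁻¹ with hh'
  have hhT : h' ∈ T := hquot hm1
  -- a square root of `h'`
  obtain ⟨s, hsT, hss2⟩ : ∃ s ∈ T, s * s = h' := by
    have hodd : Odd (orderOf h') := by
      have h3 : orderOf h' ∣ Nat.card T := Subgroup.orderOf_dvd_natCard T hhT
      have h4 : (Nat.card T).Coprime 2 := R.tcop
      exact Odd.of_dvd_nat (Nat.coprime_two_right.mp h4) h3
    obtain ⟨k, hk⟩ := hodd
    refine ⟨h' ^ (k + 1), pow_mem hhT _, ?_⟩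
    rw [← pow_add]
    have : k + 1 + (k + 1) = orderOf h' + 1 := by omega
    rw [this, pow_succ, pow_orderOf_eq_one, one_mul]
  set w0 := ⁅u0, v0⁆ with hw0
  have hw0m : w0 ∈ X (x + y) := hA.comm_mem R hu0 hv0
  have hw01 : w0 ≠ 1 := hA.comm_ne_one R hu0 h0 hv0 hv01
  have hconj1 : ∀ {t w : Y}, w ≠ 1 → t * w * t⁻¹ ≠ 1 := by
    intro t w hw h3
    apply hw
    calc w = t⁻¹ * (t * w * t⁻¹) * t := by group
      _ = 1 := by rw [h3]; group
  have hsw : s * w0 * s⁻¹ ∈ X (x + y) := tor_mem R hA.rxy hsT hw0m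
  obtain ⟨u, hu, eu⟩ := hA.symm.comm_surj R hv0 hv01 (w := (s * w0 * s⁻¹)⁻¹) (by rw [add_comm]; exact inv_mem hsw)
  have eu' : ⁅u, v0⁆ = s * w0 * s⁻¹ := by
    rw [← commutatorElement_inv, eu, inv_inv]
  have hu1' : u ≠ 1 := by
    rintro rfl
    apply hconj1 (t := s) hw01
    rw [← eu']; simp [commutatorElement_def]
  obtain ⟨s2, hs2, m, hmK, hm, hma, hmb⟩ := exists_mu2 hA R hu hu1'
  have e20 : s2 = s1 := hss hs2 hs0
  subst e20
  set t := m * m0⁻¹ with ht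
  have htT : t ∈ T := hquot hm
  refine ⟨t, Subgroup.mem_inf.2 ⟨htT, mul_mem hmK (inv_mem hm0K)⟩, ?_⟩
  -- `t` and `s` agree on `X (x + y)`
  have hagree : ∀ w ∈ X (x + y), w ≠ 1 → t * w * t⁻¹ = s * w * s⁻¹ := by
    intro w hw hw1
    refine eq_of_trans hab htr htT hsT (v0 := w0) (v := w) ⟨hw0m, hw01⟩ ⟨hw, hw1⟩ ?_
    calc t * w0 * t⁻¹ = m * (m0⁻¹ * w0 * m0) * m⁻¹ := by rw [ht]; group
      _ = m * v0 * m⁻¹ := by rw [hw0, ← hm0a v0 hv0]; group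
      _ = _ := by rw [hma v0 hv0, eu']
  have hv' : t⁻¹ * v0 * t ∈ X y := by
    have := tor_mem R hA.ry (inv_mem htT) hv0
    rwa [inv_inv] at this
  have e1 : t⁻¹ * v0 * t = m0 * ⁅u, v0⁆ * m0⁻¹ := by
    rw [← hmb v0 hv0, ht]; group
  have e2 : ⁅u0, t⁻¹ * v0 * t⁆ = ⁅u, v0⁆ := by
    rw [← hm0b _ hv', e1]; group
  have e3 : ⁅t * u0 * t⁻¹, v0⁆ = ⁅u1, v0⁆ := by
    calc ⁅t * u0 * t⁻¹, v0⁆ = t * ⁅u0, t⁻¹ * v0 * t⁆ * t⁻¹ := by
          simp only [commutatorElement_def]; group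
      _ = t * (s * w0 * s⁻¹) * t⁻¹ := by rw [e2, eu']
      _ = s * (s * w0 * s⁻¹) * s⁻¹ := hagree _ hsw (hconj1 hw01)
      _ = (s * s) * w0 * (s * s)⁻¹ := by group
      _ = m1 * (m0⁻¹ * w0 * m0) * m1⁻¹ := by rw [hss2, hh']; group
      _ = m1 * v0 * m1⁻¹ := by rw [hw0, ← hm0a v0 hv0]; group
      _ = ⁅u1, v0⁆ := hm1a v0 hv0
  apply hA.symm.comm_inj R hv0 hv01 (tor_mem R hA.rx htT hu0) hu1
  rw [← commutatorElement_inv, e3, commutatorElement_inv]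

end

end Cfsg.Agent.KFacts.RgdTor
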