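import Cfsg.Agent.KFacts.OutTwo

/-!
# `noOut2_of_large` for a group given as a subgroup of a larger group (helper105)

`Amb G C Q z K₀` (light copy of Schreier/AmbCrit): `G ≤ Γ`, `C = C_G(z)`, `Q ⊴ C`, `C / Q ≅ K₀` simple non-abelian.
-/

set_option autoImplicit false

namespace Cfsg.Agent.KFacts.OutAmb

open Cfsg.Agent.KFacts.OutTwo Cfsg.Agent.Co2Type.Quad

/-- The facts about `C = C_G(z)` and its normal 2-subgroup `Q`. -/
structure Amb {Γ : Type*} [Group Γ] (G C Q : Subgroup Γ) (z : Γ) (K₀ : Type*) [Group K₀] : Prop where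
  C_le : C ≤ G
  cent : ∀ g ∈ G, g * z = z * g → g ∈ C
  z_comm : ∀ g ∈ C, g * z = z * g
  Q_le : Q ≤ C
  z_mem : z ∈ Q
  z_ne : z ≠ 1
  z_sq : z * z = 1
  Q_comm : ∀ x ∈ Q, ∀ y ∈ Q, x * y = y * x ∨ x * y = y * x * z
  Q_center : ∀ x ∈ Q, (∀ y ∈ Q, x * y = y * x) → x = 1 ∨ x = z
  Q_irred : ∀ N : Subgroup Γ, N ≤ Q → (∀ g ∈ C, ∀ n ∈ N, g * n * g⁻¹ ∈ N) →
    (∀ n ∈ N, n = 1 ∨ n = z) ∨ N = Q
  cent_Q : ∀ x ∈ C, (∀ y ∈ Q, x * y = y * x) → x ∈ Q
  quot : ∃ π : C →* K₀, Function.Surjective π ∧ ∀ g : C, π g = 1 ↔ (g : Γ) ∈ Q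
  simple : IsSimpleGroup K₀
  not_comm : ¬ IsMulCommutative K₀

variable {Γ : Type*} [Group Γ] {G C Q : Subgroup Γ} {z : Γ} {K₀ : Type*} [Group K₀]

theorem conj_mem (A : Amb G C Q z K₀) : ∀ c ∈ C, ∀ q ∈ Q, c * q * c⁻¹ ∈ Q := by
  obtain ⟨π, hπs, hπk⟩ := A.quot
  intro c hc q hq
  have h1 : π ⟨q, A.Q_le hq⟩ = 1 := (hπk _).2 hq
  have h2 : π (⟨c, hc⟩ * ⟨q, A.Q_le hq⟩ * ⟨c, hc⟩⁻¹) = 1 := by
    rw [map_mul, map_mul, h1, mul_one, ← map_mul, mul_inv_cancel, map_one]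
  exact (hπk _).1 h2

/-- `z` as an element of `G`. -/
def zG (A : Amb G C Q z K₀) : G := ⟨z, A.C_le (A.Q_le A.z_mem)⟩

theorem large (A : Amb G C Q z K₀) (hsq : ∀ x ∈ Q, x * x = 1 ∨ x * x = z) :
    Large (Q.subgroupOf G) (zG A) where
  z_mem := A.z_mem
  z_ne := fun h => A.z_ne (congrArg Subtype.val h)
  z_sq := Subtype.ext A.z_sq
  comm_z := fun x hx => Subtype.ext (A.z_comm _ (A.Q_le hx))
  conj_mem := fun g hg x hx => conj_mem A _ (A.cent _ g.2 (congrArg Subtype.val hg)) _ hx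
  sq := fun x hx => by
    rcases hsq x hx with h | h
    · exact Or.inl (Subtype.ext h)
    · exact Or.inr (Subtype.ext h)
  comm := fun x hx y hy => by
    rcases A.Q_comm x hx y hy with h | h
    · exact Or.inl (Subtype.ext h)
    · exact Or.inr (Subtype.ext h)
  cent := fun x hx h => by
    rcases A.Q_center x hx fun y hy =>
      congrArg Subtype.val (h ⟨y, A.C_le (A.Q_le hy)⟩ hy) with h1 | h1
    · exact Or.inl (Subtype.ext h1)
    · exact Or.inr (Subtype.ext h1)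
  self := fun g hg h => A.cent_Q _ (A.cent _ g.2 (congrArg Subtype.val hg)) fun y hy =>
    congrArg Subtype.val (h ⟨y, A.C_le (A.Q_le hy)⟩ hy)

/-- The quotient map on the centraliser. -/
theorem exists_quot (A : Amb G C Q z K₀) :
    ∃ π : Subgroup.centralizer ({zG A} : Set G) →* K₀, Function.Surjective π ∧
      ∀ c : Subgroup.centralizer ({zG A} : Set G), π c = 1 ↔ (c : G) ∈ Q.subgroupOf G := by
  obtain ⟨π, hπs, hπk⟩ := A.quot
  have hmem : ∀ c : Subgroup.centralizer ({zG A} : Set G), ((c : G) : Γ) ∈ C := fun c =>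
    A.cent _ (c : G).2 (congrArg Subtype.val (Subgroup.mem_centralizer_singleton_iff.1 c.2))
  refine ⟨π.comp
    { toFun := fun c => (⟨((c : G) : Γ), hmem c⟩ : C)
      map_one' := rfl
      map_mul' := fun _ _ => rfl }, ?_, fun c => hπk _⟩
  intro k
  obtain ⟨c, rfl⟩ := hπs k
  exact ⟨⟨⟨(c : Γ), A.C_le c.2⟩, Subgroup.mem_centralizer_singleton_iff.2
    (Subtype.ext (A.z_comm c c.2))⟩, rfl⟩

theorem irr (A : Amb G C Q z K₀) : ∀ N : Subgroup G, N ≤ Q.subgroupOf G →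
    (∀ g : G, g * zG A = zG A * g → ∀ n ∈ N, g * n * g⁻¹ ∈ N) →
      (∀ n ∈ N, n = 1 ∨ n = zG A) ∨ N = Q.subgroupOf G := by
  intro N hNQ hCN
  have h1 := A.Q_irred (N.map G.subtype) (by
    rintro _ ⟨n, hn, rfl⟩
    exact hNQ hn) (by
    rintro g hg _ ⟨n, hn, rfl⟩
    exact ⟨⟨g, A.C_le hg⟩ * n * ⟨g, A.C_le hg⟩⁻¹, hCN ⟨g, A.C_le hg⟩ (Subtype.ext (A.z_comm g hg)) n hn, rfl⟩)
  rcases h1 with h1 | h1
  · left
    intro n hn
    rcases h1 n ⟨n, hn, rfl⟩ with h | h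
    · exact Or.inl (Subtype.ext h)
    · exact Or.inr (Subtype.ext h)
  · right
    apply le_antisymm hNQ
    intro q hq
    have h2 : (q : Γ) ∈ N.map G.subtype := by rw [h1]; exact hq
    obtain ⟨n, hn, hnq⟩ := h2
    have : n = q := Subtype.ext hnq
    rw [← this]; exact hn

/-- **No outer involutions** for a group with a large extraspecial subgroup, inside a larger group. -/
theorem noOut2_of_amb [Finite G] (A : Amb G C Q z K₀) (hsq : ∀ x ∈ Q, x * x = 1 ∨ x * x = z) {n₀ : Γ}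
    (hin : n₀ * z * n₀⁻¹ ∈ Q) (hne : n₀ * z * n₀⁻¹ ≠ z)
    (hgen : Subgroup.closure ((C : Set Γ) ∪ {n₀}) = G) (hK : NoOut2 K₀) : NoOut2 G := by
  obtain ⟨π, hπs, hπk⟩ := exists_quot A
  have hs := A.simple
  have hn₀ : n₀ ∈ G := by rw [← hgen]; exact Subgroup.subset_closure (Or.inr rfl)
  have hnc : ∃ a b : K₀, a * b ≠ b * a := by
    by_contra hcon
    push Not at hcon
    exact A.not_comm ⟨⟨hcon⟩⟩
  refine noOut2_of_large (large A hsq) hnc hK π hπs hπk (irr A) (n₀ := ⟨n₀, hn₀⟩) hin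
    (fun h => hne (congrArg Subtype.val h)) ?_
  have h1 : ((Subgroup.closure ({c : G | c * zG A = zG A * c} ∪ {⟨n₀, hn₀⟩})).map G.subtype : Subgroup Γ) = G := by
    rw [MonoidHom.map_closure]
    apply le_antisymm
    · rw [Subgroup.closure_le]
      rintro _ ⟨x, -, rfl⟩
      exact x.2
    · conv_lhs => rw [← hgen]
      rw [Subgroup.closure_le]
      rintro x (hx | hx)
      · exact Subgroup.subset_closure ⟨⟨x, A.C_le hx⟩, Or.inl (Subtype.ext (A.z_comm x hx)), rfl⟩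
      · rw [Set.mem_singleton_iff] at hx
        subst hx
        exact Subgroup.subset_closure ⟨⟨x, hn₀⟩, Or.inr rfl, rfl⟩
  rw [eq_top_iff]
  intro g _
  have h2 : (g : Γ) ∈ (Subgroup.closure ({c : G | c * zG A = zG A * c} ∪ {⟨n₀, hn₀⟩})).map G.subtype := by
    rw [h1]; exact g.2
  obtain ⟨y, hy, hyg⟩ := h2
  have : y = g := Subtype.ext hyg
  rw [← this]; exact hy

end Cfsg.Agent.KFacts.OutAmb
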