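import Cfsg.Agent.KFacts.OutAmb
import Cfsg.Agent.BabyM.AbsFinal
import Cfsg.Agent.OddHalf.Table.Iface17

/-!
# `OutSign` for the model of the Baby Monster, from `Co₂` (helper105)
-/

set_option autoImplicit false

namespace Cfsg.Agent.KFacts.OutBaby

open Cfsg.Agent.KFacts.OutTwo Cfsg.Agent.OddHalf.Table Cfsg.Agent.BabyM.Model

/-- `NoOut2 X` implies `OutSign X`. -/
theorem outSign_of_noOut2 {X : Type*} [Group X] (h : NoOut2 X) : OutSign X := by
  intro α hα hout
  exfalso
  obtain ⟨x, hx⟩ := h α (by rw [hα]; exact one_mem _)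
  exact hout x hx.symm

variable {W : Type} [AddCommGroup W] [Module ℚ W] {M : BData W} {K₀ : Type} [Group K₀]

theorem amb (A : BAll M K₀) (hnc : ¬ IsMulCommutative K₀) : OutAmb.Amb M.G M.C M.Q M.z K₀ where
  C_le := A.C_le_G
  cent := fun g hg h => A.cent_z g hg h
  z_comm := A.grp.z_comm
  Q_le := A.grp.Q_le
  z_mem := A.grp.z_mem
  z_ne := A.grp.z_ne
  z_sq := A.grp.z_sq
  Q_comm := A.grp.Q_comm
  Q_center := A.grp.Q_center
  Q_irred := A.grp.Q_irred
  cent_Q := fun x hx h => A.grp.centralizer_Q x hx h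
  quot := A.grp.quot
  simple := A.grp.simple
  not_comm := hnc

/-- **No outer involutions of the model of the Baby Monster.** -/
theorem noOut2_of_model (A : BAll M K₀) (hnc : ¬ IsMulCommutative K₀) (hs : NoOut2 K₀) : NoOut2 M.G := by
  have := A.finite_G
  exact OutAmb.noOut2_of_amb (amb A hnc) A.grp.Q_sq A.orb.τ_z A.orb.τ_z_ne rfl hs

end Cfsg.Agent.KFacts.OutBaby
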