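import Mathlib

/-!
# Collecting words modulo a central involution

A group with generators `a i`, a central `c` with `c * c = 1`, relations
`a i * a i = w * c ^ e`, `a j * a i = a i * a j * w' * c ^ e'` (`i < j`) with unknown exponents `e` (*tails*).
`mulL`, `col` collect words, the exponents are collected as bit masks; every equality of words gives a linear equation
between the tails (`chkE`, `chkK`), and `lin_of_comb` solves the system.
-/

set_option autoImplicit false

namespace Cfsg.Agent.KFacts.PcTail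

open Finset

/-! ### masks -/

/-- the sum of the `e k` over the bits `k < n` of `M` -/
def lin (n : ℕ) (e : ℕ → ZMod 2) (M : ℕ) : ZMod 2 := ∑ k ∈ range n, if M.testBit k = true then e k else 0

theorem lin_zero (n : ℕ) (e : ℕ → ZMod 2) : lin n e 0 = 0 := by
  unfold lin
  apply Finset.sum_eq_zero
  intro k _
  simp

theorem lin_xor (n : ℕ) (e : ℕ → ZMod 2) (M M' : ℕ) : lin n e (Nat.xor M M') = lin n e M + lin n e M' := by
  unfold lin
  rw [← Finset.sum_add_distrib]
  apply Finset.sum_congr rfl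
  intro k _
  have h : (Nat.xor M M').testBit k = ((M.testBit k) ^^ (M'.testBit k)) := Nat.testBit_xor M M' k
  rw [h]
  cases M.testBit k <;> cases M'.testBit k <;> simp [CharTwo.add_self_eq_zero]

theorem lin_two_pow {n : ℕ} (e : ℕ → ZMod 2) {k : ℕ} (hk : k < n) : lin n e (2 ^ k) = e k := by
  unfold lin
  rw [Finset.sum_eq_single k]
  · simp [Nat.testBit_two_pow_self]
  · intro j _ hj
    rw [Nat.testBit_two_pow_of_ne (Ne.symm hj)]
    simp
  · intro h
    exact absurd (Finset.mem_range.2 hk) h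

/-- the sum of the masks at the bits of the second number, beginning with bit `i` -/
def comb : List ℕ → ℕ → ℕ → ℕ
  | [], _, _ => 0
  | E :: l, C, i => cond (Nat.testBit C i) (Nat.xor E (comb l C (i + 1))) (comb l C (i + 1))

theorem lin_comb {n : ℕ} {e : ℕ → ZMod 2} : ∀ (l : List ℕ) (C i : ℕ), (∀ E ∈ l, lin n e E = 0) →
    lin n e (comb l C i) = 0
  | [], _, _, _ => lin_zero _ _
  | E :: l, C, i, h => by
    have ih := lin_comb l C (i + 1) fun E' hE' => h E' (List.mem_cons_of_mem _ hE')
    unfold comb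
    cases Nat.testBit C i with
    | true => rw [cond_true, lin_xor, ih, h E List.mem_cons_self, add_zero]
    | false => rw [cond_false, ih]

/-- the tails vanish -/
theorem eq_zero_of_comb {n : ℕ} {e : ℕ → ZMod 2} {l cs : List ℕ} (h : ∀ E ∈ l, lin n e E = 0)
    (hc : ∀ k < n, Nat.beq (comb l (cs.getD k 0) 0) (2 ^ k) = true) {k : ℕ} (hk : k < n) : e k = 0 := by
  rw [← lin_two_pow e hk, ← Nat.eq_of_beq_eq_true (hc k hk)]
  exact lin_comb l _ _ h

section group

variable {L : Type*} [Group L]

/-- powers of `c` -/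
def cp (c : L) (z : ZMod 2) : L := if z = 0 then 1 else c

theorem cp_zero (c : L) : cp c 0 = 1 := if_pos rfl

theorem cp_add {c : L} (hc : c * c = 1) : ∀ x y : ZMod 2, cp c (x + y) = cp c x * cp c y := by
  have h1 : (1 : ZMod 2) ≠ 0 := by decide
  have h2 : (1 : ZMod 2) + 1 = 0 := by decide
  intro x y
  have hz : ∀ z : ZMod 2, z = 0 ∨ z = 1 := by decide
  rcases hz x with rfl | rfl <;> rcases hz y with rfl | rfl
  · simp [cp]
  · simp [cp]
  · simp [cp]
  · simp only [cp, h2, if_true, if_neg h1, hc]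

theorem cp_self {c : L} (hc : c * c = 1) (x : ZMod 2) : cp c x * cp c x = 1 := by
  rw [← cp_add hc, CharTwo.add_self_eq_zero, cp_zero]

theorem cp_comm {c : L} (hcen : ∀ x, c * x = x * c) (z : ZMod 2) (x : L) : cp c z * x = x * cp c z := by
  unfold cp
  split
  · rw [one_mul, mul_one]
  · exact hcen x

theorem cp_eq_one {c : L} (h1 : c ≠ 1) {z : ZMod 2} (h : cp c z = 1) : z = 0 := by
  unfold cp at h
  by_contra hz
  rw [if_neg hz] at h
  exact h1 h

/-- value of a word -/
def ev (a : ℕ → L) (w : List ℕ) : L := (w.map a).prod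

theorem ev_nil (a : ℕ → L) : ev a [] = 1 := rfl

theorem ev_cons (a : ℕ → L) (k : ℕ) (w : List ℕ) : ev a (k :: w) = a k * ev a w := by
  unfold ev; rw [List.map_cons, List.prod_cons]

theorem ev_append (a : ℕ → L) (u v : List ℕ) : ev a (u ++ v) = ev a u * ev a v := by
  unfold ev; rw [List.map_append, List.prod_append]

theorem ev_single (a : ℕ → L) (k : ℕ) : ev a [k] = a k := by rw [ev_cons, ev_nil, mul_one]

end group

/-! ### the collector -/

/-- tables -/
structure Tab where
  m : ℕ
  n : ℕ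
  sq : ℕ → List ℕ
  cm : ℕ → ℕ → List ℕ
  sid : ℕ → ℕ
  tid : ℕ → ℕ → ℕ

/-- `a i`, `c` satisfy the relations of the table with tails `e` -/
structure Rel {L : Type*} [Group L] (T : Tab) (a : ℕ → L) (c : L) (e : ℕ → ZMod 2) : Prop where
  ne : c ≠ 1
  cc : c * c = 1
  cen : ∀ x, c * x = x * c
  sq : ∀ i < T.m, a i * a i = ev a (T.sq i) * cp c (lin T.n e (Nat.pow 2 (T.sid i)))
  cm : ∀ i j, i < j → j < T.m → a j * a i = a i * a j * ev a (T.cm i j) * cp c (lin T.n e (Nat.pow 2 (T.tid i j)))

/-- collect a list of letters from the right -/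
def ls {β : Type} (f : ℕ → List ℕ → ℕ → (List ℕ → ℕ → β) → β) : List ℕ → List ℕ → ℕ → (List ℕ → ℕ → β) → β
  | [], r, M, K => K r M
  | w :: ws, r, M, K => ls f ws r M fun r1 M1 => f w r1 M1 K

/-- multiply from the left by the letter `k` -/
def mulL {β : Type} (T : Tab) : ℕ → ℕ → List ℕ → ℕ → (List ℕ → ℕ → β) → β
  | 0, k, r, M, K => K (k :: r) M
  | _ + 1, k, [], M, K => K [k] M
  | f + 1, k, j :: r, M, K =>
    cond (Nat.blt k T.m)
      (cond (Nat.blt k j) (K (k :: j :: r) M)
        (cond (Nat.beq k j) (ls (mulL T f) (T.sq k) r (Nat.xor M (Nat.pow 2 (T.sid k))) K)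
          (ls (mulL T f) (T.cm j k) r (Nat.xor M (Nat.pow 2 (T.tid j k))) fun r1 M1 =>
            mulL T f k r1 M1 fun r2 M2 => K (j :: r2) M2)))
      (K (k :: j :: r) M)

/-- collect a word -/
def col {β : Type} (T : Tab) (w : List ℕ) (M : ℕ) (K : List ℕ → ℕ → β) : β := ls (mulL T 200) w [] M K

section sound

variable {L : Type*} [Group L] {T : Tab} {a : ℕ → L} {c : L} {e : ℕ → ZMod 2}

/-- the function `F` returns a representation of `x` -/
def Spec {β : Type} (T : Tab) (a : ℕ → L) (c : L) (e : ℕ → ZMod 2) (F : (List ℕ → ℕ → β) → β) (x : L) : Prop :=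
  ∃ (r : List ℕ) (M : ℕ), (∀ K, F K = K r M) ∧ x = ev a r * cp c (lin T.n e M)

theorem ls_spec {β : Type} (h : Rel T a c e) {f : ℕ → List ℕ → ℕ → (List ℕ → ℕ → β) → β}
    (hf : ∀ k r M, Spec T a c e (f k r M) (a k * ev a r * cp c (lin T.n e M))) :
    ∀ (w r : List ℕ) (M : ℕ), Spec T a c e (ls f w r M) (ev a w * ev a r * cp c (lin T.n e M))
  | [], r, M => ⟨r, M, fun K => rfl, by rw [ev_nil, one_mul]⟩
  | k :: w, r, M => by
    obtain ⟨r1, M1, h1, h2⟩ := ls_spec h hf w r M
    obtain ⟨r2, M2, h3, h4⟩ := hf k r1 M1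
    refine ⟨r2, M2, fun K => ?_, ?_⟩
    · show ls f w r M (fun r1 M1 => f k r1 M1 K) = _
      rw [h1, h3]
    · rw [← h4, ev_cons, mul_assoc, mul_assoc, ← mul_assoc (ev a w), h2, mul_assoc]

theorem mulL_spec {β : Type} (h : Rel T a c e) : ∀ (f k : ℕ) (r : List ℕ) (M : ℕ),
    Spec T a c e (mulL (β := β) T f k r M) (a k * ev a r * cp c (lin T.n e M))
  | 0, k, r, M => ⟨k :: r, M, fun _ => rfl, by rw [ev_cons]⟩
  | f + 1, k, [], M => ⟨[k], M, fun _ => rfl, by rw [ev_single, ev_nil, mul_one]⟩
  | f + 1, k, j :: r, M => by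
    have key : ∀ x y, cp c (lin T.n e (Nat.xor x y)) = cp c (lin T.n e x) * cp c (lin T.n e y) := fun x y => by
      rw [lin_xor, cp_add h.cc]
    have hcm := fun z (x : L) => cp_comm h.cen z x
    by_cases h1 : Nat.blt k T.m = true
    · by_cases h2 : Nat.blt k j = true
      · refine ⟨k :: j :: r, M, fun K => ?_, by rw [ev_cons a k]⟩
        unfold mulL
        rw [h1, h2, cond_true, cond_true]
      · by_cases h3 : Nat.beq k j = true
        · have hkj : k = j := Nat.eq_of_beq_eq_true h3
          obtain ⟨r1, M1, h4, h5⟩ := ls_spec h (mulL_spec h f) (T.sq k) r (Nat.xor M (Nat.pow 2 (T.sid k)))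
          refine ⟨r1, M1, fun K => ?_, ?_⟩
          · unfold mulL
            rw [h1, Bool.eq_false_of_not_eq_true h2, h3, cond_true, cond_false, cond_true, h4]
          · rw [← h5, key, ev_cons, ← hkj, ← mul_assoc (a k), h.sq k (Nat.blt_eq.mp h1)]
            rw [← mul_assoc (ev a (T.sq k) * ev a r), mul_assoc (ev a (T.sq k)), hcm, ← mul_assoc,
              mul_assoc (ev a (T.sq k) * ev a r), hcm, ← mul_assoc]
        · obtain ⟨r1, M1, h4, h5⟩ := ls_spec h (mulL_spec h f) (T.cm j k) r (Nat.xor M (Nat.pow 2 (T.tid j k)))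
          obtain ⟨r2, M2, h6, h7⟩ := mulL_spec (β := β) h f k r1 M1
          refine ⟨j :: r2, M2, fun K => ?_, ?_⟩
          · unfold mulL
            rw [h1, Bool.eq_false_of_not_eq_true h2, Bool.eq_false_of_not_eq_true h3, cond_true, cond_false, cond_false, h4, h6]
          · have hk : k < T.m := Nat.blt_eq.mp h1
            have h8 : ¬ k < j := fun h8 => h2 (Nat.blt_eq.mpr h8)
            have h9 : k ≠ j := fun h9 => h3 (by rw [h9]; exact Nat.beq_refl j)
            have hr := h.cm j k (by omega) hk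
            have hs := hcm (lin T.n e (Nat.pow 2 (T.tid j k)))
            rw [ev_cons a j r2, mul_assoc (a j), ← h7, mul_assoc (a k) (ev a r1), ← h5, key, ev_cons a j r,
              ← mul_assoc (a k) (a j), hr]
            generalize ev a (T.cm j k) = u
            generalize ev a r = v
            generalize cp c (lin T.n e (Nat.pow 2 (T.tid j k))) = s at *
            generalize cp c (lin T.n e M) = t
            calc a j * a k * u * s * v * t = a j * a k * u * (s * (v * t)) := by simp only [mul_assoc]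
              _ = a j * a k * u * (v * t * s) := by rw [hs]
              _ = a j * (a k * (u * v * (t * s))) := by simp only [mul_assoc]
    · refine ⟨k :: j :: r, M, fun K => ?_, by rw [ev_cons a k]⟩
      unfold mulL
      rw [Bool.eq_false_of_not_eq_true h1, cond_false]

theorem col_spec {β : Type} (h : Rel T a c e) (w : List ℕ) (M : ℕ) :
    Spec T a c e (col (β := β) T w M) (ev a w * cp c (lin T.n e M)) := by
  have h1 := ls_spec (β := β) h (mulL_spec h 200) w [] M
  rw [ev_nil, mul_one] at h1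
  exact h1

/-- equality of lists -/
def beqL : List ℕ → List ℕ → Bool
  | [], [] => true
  | x :: l, y :: r => cond (Nat.beq x y) (beqL l r) false
  | _, _ => false

theorem and_of_cond {x y : Bool} (h : cond x y false = true) : x = true ∧ y = true := by
  cases x
  · exact absurd h Bool.false_ne_true
  · exact ⟨rfl, h⟩

theorem eq_of_beqL : ∀ {l r : List ℕ}, beqL l r = true → l = r
  | [], [], _ => rfl
  | x :: l, y :: r, h => by
    obtain ⟨h1, h2⟩ := and_of_cond h
    rw [Nat.eq_of_beq_eq_true h1, eq_of_beqL h2]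
  | [], _ :: _, h => absurd h Bool.false_ne_true
  | _ :: _, [], h => absurd h Bool.false_ne_true

/-- the words `u`, `v` have the same normal form, `E` is the difference of the tails -/
def chkE (T : Tab) (u v : List ℕ) (E : ℕ) : Bool :=
  col T u 0 fun r1 M1 => col T v M1 fun r2 M2 => cond (beqL r1 r2) (Nat.beq M2 E) false

/-- `E` is the difference of the tails of `(u) v` and `u v` -/
def chkK (T : Tab) (u v : List ℕ) (E : ℕ) : Bool :=
  col T (u ++ v) 0 fun r1 M1 => col T u M1 fun r2 M2 => col T (r2 ++ v) M2 fun r3 M3 =>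
    cond (beqL r1 r3) (Nat.beq M3 E) false

theorem chkE_sound (h : Rel T a c e) {u v : List ℕ} {E : ℕ} (hE : chkE T u v E = true) (huv : ev a u = ev a v) :
    lin T.n e E = 0 := by
  obtain ⟨r1, M1, h1, h2⟩ := col_spec (β := Bool) h u 0
  obtain ⟨r2, M2, h3, h4⟩ := col_spec (β := Bool) h v M1
  unfold chkE at hE
  rw [h1, h3] at hE
  obtain ⟨h5, h6⟩ := and_of_cond hE
  rw [Nat.eq_of_beq_eq_true h6] at h4
  rw [lin_zero, cp_zero, mul_one, huv] at h2
  rw [h2, ← eq_of_beqL h5, mul_assoc, cp_self h.cc] at h4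
  exact cp_eq_one h.ne (mul_left_cancel h4).symm

theorem chkK_sound (h : Rel T a c e) {u v : List ℕ} {E : ℕ} (hE : chkK T u v E = true) : lin T.n e E = 0 := by
  obtain ⟨r1, M1, h1, h2⟩ := col_spec (β := Bool) h (u ++ v) 0
  obtain ⟨r2, M2, h3, h4⟩ := col_spec (β := Bool) h u M1
  obtain ⟨r3, M3, h5, h6⟩ := col_spec (β := Bool) h (r2 ++ v) M2
  unfold chkK at hE
  rw [h1, h3, h5] at hE
  obtain ⟨h7, h8⟩ := and_of_cond hE
  rw [Nat.eq_of_beq_eq_true h8, ← eq_of_beqL h7] at h6
  rw [lin_zero, cp_zero, mul_one, ev_append] at h2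
  have e1 : ev a (r2 ++ v) * cp c (lin T.n e M2) = ev a r1 * cp c (lin T.n e M1) * cp c (lin T.n e M1) := by
    calc ev a (r2 ++ v) * cp c (lin T.n e M2) = ev a r2 * (ev a v * cp c (lin T.n e M2)) := by
          rw [ev_append, mul_assoc]
      _ = ev a r2 * cp c (lin T.n e M2) * ev a v := by rw [← cp_comm h.cen, mul_assoc]
      _ = ev a u * cp c (lin T.n e M1) * ev a v := by rw [h4]
      _ = ev a u * ev a v * cp c (lin T.n e M1) := by rw [mul_assoc, cp_comm h.cen, mul_assoc]
      _ = _ := by rw [h2]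
  rw [e1, mul_assoc, cp_self h.cc] at h6
  exact cp_eq_one h.ne (mul_left_cancel h6).symm

end sound

end Cfsg.Agent.KFacts.PcTail
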