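import Cfsg.Agent.KFacts.QMinus

/-!
# Normal subgroups of `C(z) = 2^{1+4}_-.A₅` (helper206)
-/

set_option autoImplicit false

namespace Cfsg.Agent.KFacts.QMinus

open Cfsg.Agent.J2Type.Model Cfsg.Agent.J2Type.CStruct Cfsg.Agent.J3Type.OneClass Subgroup

/-- a normal subgroup of `C` lies in `Q` or covers `C / Q` -/
theorem normal_cases {C : Type*} [Group C] {Q : Subgroup C} {z : C} {v : Fin 5 → C} {ρ : C →* SP}
    (M : IsModel Q z v ρ) (N : Subgroup C) [hN : N.Normal] : N ≤ Q ∨ N ⊔ Q = ⊤ := by
  have hA := (inferInstance : IsSimpleGroup (alternatingGroup (Fin 5)))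
  let f : C →* alternatingGroup (Fin 5) := (permHom ρ).codRestrict _ fun c => by
    rw [← range_permHom M]; exact ⟨c, rfl⟩
  have hf : Function.Surjective f := by
    rintro ⟨σ, hσ⟩
    rw [← range_permHom M] at hσ
    obtain ⟨c, hc⟩ := hσ
    exact ⟨c, Subtype.ext hc⟩
  have hk : f.ker = Q := by
    rw [← ker_permHom M]
    ext c
    rw [MonoidHom.mem_ker, MonoidHom.mem_ker]
    exact Subtype.ext_iff
  have h1 : (N.map f).Normal := hN.map f hf
  rcases hA.eq_bot_or_eq_top_of_normal _ h1 with h | h
  · left
    rw [Subgroup.map_eq_bot_iff, hk] at h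
    exact h
  · right
    have h2 := comap_map_eq f N
    rw [h, comap_top, hk] at h2
    exact h2.symm

/-- normal subgroups of `C_K(z)`, inside `K` -/
theorem normal_cases' {K : Type*} [Group K] {z : K} {Q : Subgroup (centralizer ({z} : Set K))}
    {v : Fin 5 → centralizer ({z} : Set K)} {ρ : centralizer ({z} : Set K) →* SP}
    (M : IsModel Q (zc z) v ρ) (N : Subgroup K) (hN : N ≤ centralizer ({z} : Set K))
    (hn : ∀ c ∈ centralizer ({z} : Set K), ∀ x ∈ N, c * x * c⁻¹ ∈ N) :
    N ≤ Q.map (centralizer ({z} : Set K)).subtype ∨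
      N ⊔ Q.map (centralizer ({z} : Set K)).subtype = centralizer ({z} : Set K) := by
  have h1 : (N.subgroupOf (centralizer ({z} : Set K))).Normal :=
    ⟨fun x hx g => by
      rw [mem_subgroupOf] at hx ⊢
      exact hn g g.2 _ hx⟩
  have h2 : (N.subgroupOf (centralizer ({z} : Set K))).map (centralizer ({z} : Set K)).subtype = N := by
    rw [subgroupOf_map_subtype, inf_eq_left]; exact hN
  rcases normal_cases M (N.subgroupOf (centralizer ({z} : Set K))) with h | h
  · left
    rw [← h2]
    exact map_mono h
  · right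
    have h3 := congrArg (Subgroup.map (centralizer ({z} : Set K)).subtype) h
    rw [Subgroup.map_sup, h2, ← MonoidHom.range_eq_map, range_subtype] at h3
    exact h3

/-- `C` has no proper subgroup of index at most 2 -/
theorem index_le_two {C : Type*} [Group C] {Q : Subgroup C} {z : C} {v : Fin 5 → C} {ρ : C →* SP}
    (M : IsModel Q z v ρ) (H : Subgroup C) (h : H.index = 1 ∨ H.index = 2) : H = ⊤ := by
  rcases h with h | h
  · exact index_eq_one.1 h
  · exfalso
    have hn : H.Normal := normal_of_index_eq_two h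
    have h1 : commutator C ≤ H := by
      rw [_root_.commutator_def, commutator_le]
      intro a _ b _
      have hmul : ∀ {x y : C}, x * y ∈ H ↔ (x ∈ H ↔ y ∈ H) := fun {x y} => mul_mem_iff_of_index_two h
      rw [commutatorElement_def, hmul, hmul, hmul, inv_mem_iff, inv_mem_iff]
      tauto
    rw [perfect M, top_le_iff] at h1
    rw [h1, index_top] at h
    omega

end Cfsg.Agent.KFacts.QMinus
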