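import Mathlib
import Cfsg.Agent.KFacts.RgdKap
import Cfsg.Agent.KFacts.RgdChevCoord
import Cfsg.Agent.KFacts.SLRow.Chev

/-!
# Automorphism forms of (K1), (K2) for `D₄(q)`, `E₆(q)`, `E₇(q)`, `E₈(q)`, `q ≥ 4` even

* `fullChar` : all characters of `D.group K`;
* `exists_sq_ne_one` : `a² ≠ 1` for some `a ≠ 0` if `|F| > 3`;
* `exists_of_aut` : from automorphisms to elements of an overgroup normalising an embedded copy;
* `chev_k1_aut`, `chev_k2_aut`.
-/

set_option autoImplicit false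
set_option linter.unusedSectionVars false

namespace Cfsg.Agent.KFacts.RgdAutChev

open CoxeterSystem Cfsg.Lie Cfsg.Agent.ChevalleyStructure Cfsg.Agent.ChevalleyStructure.Elts
  Cfsg.Agent.ChevalleyStructure.CoxeterGeom Cfsg.Agent.ChevalleyStructure.CoxeterGeomTypes
  Cfsg.Agent.Tits.Roots Cfsg.Agent.Tits.Core Cfsg.Agent.Nodes.Reps Cfsg.Agent.Nodes.BNOf
  Cfsg.Agent.Nodes.Coroot Cfsg.Agent.Nodes.RGDChev
  Cfsg.Agent.KFacts.RgdField Cfsg.Agent.KFacts.RgdChevCoord Cfsg.Agent.KFacts.RgdCent Cfsg.Agent.KFacts.RgdOdd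
  Cfsg.Agent.KFacts.RgdKap Cfsg.Agent.KFacts.SLRow.Def Cfsg.Agent.KFacts.SLRow.Chev

universe u

variable {D : ChevalleyDatum} {l : ℕ} {M : CoxeterMatrix (Fin l)} (hp : IsType D l M) {K : Type u} [Field K]
  {W : Type*} [Group W] (cs : CoxeterSystem M W)

theorem fullChar : FullChar cs hp.isCartan (ch (K := K) hp) (hc hp) := by
  intro j x hx a ha
  have := finite_W hp cs
  obtain ⟨r, hr, rfl⟩ := (isRoot_iff hp cs x).1 hx
  rw [ch_hc hp j ha hr, cpr_sr, pairing_vec hp j hr]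

theorem exists_sq_ne_one {F : Type*} [Field F] [Finite F] (h4 : 3 < Nat.card F) : ∃ a : F, a ≠ 0 ∧ a ^ 2 ≠ 1 := by
  classical
  have := Fintype.ofFinite F
  by_contra hcon
  push Not at hcon
  have h1 : (Finset.univ : Finset F) ⊆ {0, 1, -1} := by
    intro a _
    by_cases ha : a = 0
    · simp [ha]
    · have h2 := hcon a ha
      rw [sq] at h2
      rcases mul_self_eq_one_iff.1 h2 with h | h
      · simp [h]
      · simp [h]
  have h2 := Finset.card_le_card h1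
  rw [Finset.card_univ, ← Nat.card_eq_fintype_card] at h2
  have h3 : ({0, 1, -1} : Finset F).card ≤ 3 := Finset.card_le_three
  omega

/-- From automorphisms to elements of an overgroup. -/
theorem exists_of_aut {Y G : Type*} [Group Y] [Group G] (f : Y →* G) (hf : Function.Injective f) {S : Set Y}
    {Z : Subgroup Y} (H : ∀ α : MulAut Y, (∀ x ∈ S, α x = x) → ∃ z ∈ Z, α = MulAut.conj z) {g : G}
    (hg : g ∈ Subgroup.normalizer (f.range : Set G)) (hgS : ∀ x ∈ S, g * f x = f x * g) :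
    ∃ z ∈ Z, ∀ y, (f z)⁻¹ * g * f y = f y * ((f z)⁻¹ * g) := by
  let e : Y ≃* ↥f.range := MonoidHom.ofInjective hf
  obtain ⟨β, hβ⟩ : ∃ β : MulAut ↥f.range, ∀ k : ↥f.range, ((β k : ↥f.range) : G) = g * k * g⁻¹ :=
    ⟨Subgroup.normalizerMonoidHom f.range ⟨g, hg⟩, fun k => rfl⟩
  obtain ⟨α, hα⟩ : ∃ α : MulAut Y, ∀ y, f (α y) = g * f y * g⁻¹ := by
    refine ⟨(e.trans β).trans e.symm, fun y => ?_⟩
    have h1 : f (e.symm (β (e y))) = ((e (e.symm (β (e y))) : ↥f.range) : G) := rfl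
    have h2 : ((e y : ↥f.range) : G) = f y := rfl
    show f (e.symm (β (e y))) = _
    rw [h1, MulEquiv.apply_symm_apply, hβ, h2]
  obtain ⟨z, hz, e⟩ := H α (fun x hx => hf (by rw [hα, hgS x hx, mul_inv_cancel_right]))
  refine ⟨z, hz, fun y => ?_⟩
  have h1 := hα y
  rw [e, MulAut.conj_apply, map_mul, map_mul, map_inv] at h1
  calc (f z)⁻¹ * g * f y = (f z)⁻¹ * (g * f y * g⁻¹) * g := by group
    _ = (f z)⁻¹ * (f z * f y * (f z)⁻¹) * g := by rw [h1]
    _ = _ := by group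

section

variable (hD : D ∈ [chevD4, chevF4, chevE6, chevE7, chevE8])
  (h4 : ∀ i j, M i j ≠ 4) (h6 : ∀ i j, M i j ≠ 6) (hirr : Conn M) (h3 : 3 ≤ l) [Finite K]
  [CharP K 2] (hq : 2 < Nat.card K)

include hD h4 h6 hirr h3 hq

theorem card_gt : 3 < Nat.card K := by
  have : Fact (Nat.Prime 2) := ⟨Nat.prime_two⟩
  have := Fintype.ofFinite K
  obtain ⟨n, hp, hn⟩ := FiniteField.card K 2
  rw [Nat.card_eq_fintype_card, hn] at hq ⊢
  rcases Nat.lt_or_ge (n : ℕ) 2 with h1 | h1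
  · have : (n : ℕ) = 1 := by have := n.pos; omega
    rw [this] at hq
    norm_num at hq
  · calc 3 < 2 ^ 2 := by norm_num
      _ ≤ 2 ^ (n : ℕ) := Nat.pow_le_pow_right (by norm_num) h1

theorem noCent : NoCent cs hp.isCartan (TT D K) (XX D l K) := by
  have : Fact (Nat.Prime 2) := ⟨Nat.prime_two⟩
  have := finite_W hp cs
  refine RgdCent.noCent_of_center (rgd (K := K) hp cs 2) (G1_eq_top hp _) ?_
  obtain ⟨hs, hna⟩ := Cfsg.Agent.S1054.result (F := K) D hD
  rcases (inferInstance : (Subgroup.center ↥(D.group K)).Normal).eq_bot_or_eq_top with h | h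
  · exact h
  · exfalso
    apply hna
    refine ⟨⟨fun a b => ?_⟩⟩
    have : b ∈ Subgroup.center ↥(D.group K) := by rw [h]; exact Subgroup.mem_top b
    rw [Subgroup.mem_center_iff] at this
    exact this a

/-- **(K1), automorphism form.** -/
theorem chev_k1_aut {r : Fin l → ℤ} (hr : IsRoot cs hp.isCartan r) {α : MulAut ↥(D.group K)}
    (hα : ∀ a ∈ Rad cs hp.isCartan r, ∀ x ∈ XX D l K a, α x = x) : ∃ z ∈ XX D l K r, α = MulAut.conj z := by
  have : Fact (Nat.Prime 2) := ⟨Nat.prime_two⟩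
  have := finite_W hp cs
  exact k1_aut h4 h6 hirr (by simpa using h3) (rgd (K := K) hp cs 2) (G1_eq_top hp cs)
    (noCent hp cs hD h4 h6 hirr h3 hq) (coords hp cs 2) (coroots hp cs 2) (fullChar hp cs)
    (exists_sq_ne_one (card_gt (D := D) hD h4 h6 hirr h3 hq)) hr hα

/-- **(K2), automorphism form.** -/
theorem chev_k2_aut {r s : Fin l → ℤ} (hr : IsRoot cs hp.isCartan r) (hs : IsRoot cs hp.isCartan s)
    (hrs : cpr cs hp.isCartan r s = 1) {α : MulAut ↥(D.group K)}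
    (hα : ∀ a ∈ Psi cs hp.isCartan r s, ∀ x ∈ XX D l K a, α x = x) :
    ∃ z ∈ XX D l K r ⊔ XX D l K s, α = MulAut.conj z := by
  have : Fact (Nat.Prime 2) := ⟨Nat.prime_two⟩
  have := finite_W hp cs
  exact k2_aut h4 h6 hirr (by simpa using h3) (rgd (K := K) hp cs 2) (G1_eq_top hp cs)
    (noCent hp cs hD h4 h6 hirr h3 hq) (coords hp cs 2) (coroots hp cs 2) (fullChar hp cs)
    (exists_sq_ne_one (card_gt (D := D) hD h4 h6 hirr h3 hq)) hr hs hrs hα

end

end Cfsg.Agent.KFacts.RgdAutChev
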