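import Mathlib
import Cfsg.Agent.KFacts.RgdFixU
import Cfsg.Agent.KFacts.RgdPar

/-!
# Automorphisms trivial on the unipotent radical of a parabolic subgroup (helper469)

* `eq_conj_of_mod` : an automorphism which fixes `U` and satisfies `α x ∈ V_i x` for `x ∈ X_i` is conjugation by an
  element of `U`;
* `autN` : `f` a functional, `N = ⟨X a : f a > 0⟩`, `C(N) ≤ Z = ⟨X c : c ∈ S⟩`, every `c ∈ S` is a sum `a + b` with
  `f a, f b > 0` : an automorphism trivial on `N` is conjugation by an element of `Z`.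

No hypothesis on the order of the root groups.
-/

set_option autoImplicit false
set_option linter.unusedSectionVars false

namespace Cfsg.Agent.KFacts.RgdAutN

open CoxeterSystem Cfsg.Agent.ChevalleyStructure.CoxeterGeom Cfsg.Agent.Tits.Roots Cfsg.Agent.Tits.Core
  Cfsg.Agent.Tits.Exchange Cfsg.Agent.Nodes.Reps Cfsg.Agent.Nodes.BNOf Cfsg.Agent.Nodes.StabComb
  Cfsg.Agent.Nodes.Bruhat Cfsg.Agent.Nodes.OppDec Cfsg.Agent.Nodes.LeviDec Cfsg.Agent.Nodes.NormalForm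
  Cfsg.Agent.KFacts.RgdOpp Cfsg.Agent.KFacts.RgdAut Cfsg.Agent.KFacts.RgdDiag Cfsg.Agent.KFacts.RgdRigid
  Cfsg.Agent.KFacts.RgdFixU Cfsg.Agent.KFacts.RgdPar
open scoped commutatorElement

variable {I W Y : Type*} [Fintype I] [DecidableEq I] [Group W] [Group Y] {M : CoxeterMatrix I}
  {cs : CoxeterSystem M W} {A : I → I → ℤ} {h : IsCartan M A} {p : ℕ} {T : Subgroup Y} {n : I → Y}
  {X : (I → ℤ) → Subgroup Y}

variable (R : RGD cs h p T n X)

include R

/-- An automorphism which fixes `U` and is trivial on the simple root groups modulo `V_i` is inner. -/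
theorem eq_conj_of_mod [Finite W] (hG1 : RGD.Sup X {x | IsRoot cs h x} = ⊤)
    (hab : ∀ i, ∀ a ∈ X (sr i), ∀ b ∈ X (sr i), a * b = b * a) {α : MulAut Y}
    (hfix : Fix α (RGD.Sup X (RGD.Pos cs h)))
    (hα : ∀ i, ∀ x ∈ X (sr i), α x * x⁻¹ ∈ RGD.Sup X (RGD.PosNe cs h i)) :
    ∃ z ∈ RGD.Sup X (RGD.Pos cs h), α = MulAut.conj z := by
  have hG := GG_eq_top (T := T) hG1
  obtain ⟨u, hu, hU, -, hUN, -, -⟩ := exists_frame R hG hfix
  obtain ⟨σ, D⟩ := exists_diag R hG hU hUN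
  have hX : ∀ i, X (sr i) ≤ RGD.Sup X (RGD.Pos cs h) := fun i =>
    RGD.le_Sup (S := RGD.Pos cs h) ⟨isRoot_sr cs h i, sr_nonneg i⟩
  have hβ : ∀ i, ∀ x ∈ X (sr i), ∃ v ∈ RGD.Sup X (RGD.PosNe cs h i),
      (MulAut.conj u * α) x = u * (v * x) * u⁻¹ := by
    intro i x hx
    refine ⟨α x * x⁻¹, hα i x hx, ?_⟩
    rw [MulAut.mul_apply, MulAut.conj_apply, inv_mul_cancel_right]
  -- `σ = 1`
  have hσ : ∀ i, σ i = i := by
    intro i
    by_contra hne
    obtain ⟨x, hx, hx1⟩ := exists_ne_one R i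
    have h1 := (D.pos i x).2 hx
    obtain ⟨v, hv, e⟩ := hβ i x hx
    rw [e] at h1
    have h2 : u * (v * x) * u⁻¹ ∈ RGD.Sup X (RGD.PosNe cs h i) := by
      refine RGD.le_Sup (S := RGD.PosNe cs h i) ⟨isRoot_sr cs h (σ i), sr_nonneg _, ?_⟩ h1
      intro h3
      have h4 := congrFun h3 (σ i)
      rw [sr_self, sr_ne hne] at h4
      exact one_ne_zero h4
    have h3 : v * x ∈ RGD.Sup X (RGD.PosNe cs h i) :=
      (Subgroup.mem_normalizer_iff.1 (U_le_normalizer_V R i hu) _).2 h2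
    exact hx1 (eq_one_of_mem_PosNe R hx ((Subgroup.mul_mem_cancel_left _ hv).1 h3))
  -- `β` is trivial on the simple root groups
  have hpos : ∀ i, ∀ x ∈ X (sr i), (MulAut.conj u * α) x = x := by
    intro i x hx
    have h1 := (D.pos i x).2 hx
    obtain ⟨w, hw, e⟩ := hβ i x hx
    rw [hσ i, e] at h1
    rw [e]
    obtain ⟨a, ha, v, hv, rfl⟩ := exists_mul_V R i hu
    have h2 : a * v * (w * x) * (a * v)⁻¹ * x⁻¹ ∈ X (sr i) := mul_mem h1 (inv_mem hx)
    have h3 : a * v * (w * x) * (a * v)⁻¹ * x⁻¹ = a * ((v * w) * (x * v⁻¹ * x⁻¹)) * a⁻¹ := by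
      have h5 : x⁻¹ * a⁻¹ = a⁻¹ * x⁻¹ := hab i x⁻¹ (inv_mem hx) a⁻¹ (inv_mem ha)
      calc a * v * (w * x) * (a * v)⁻¹ * x⁻¹ = a * v * (w * x) * v⁻¹ * (a⁻¹ * x⁻¹) := by group
        _ = a * v * (w * x) * v⁻¹ * (x⁻¹ * a⁻¹) := by rw [h5]
        _ = _ := by group
    have h6 : x * v⁻¹ * x⁻¹ ∈ RGD.Sup X (RGD.PosNe cs h i) :=
      (Subgroup.mem_normalizer_iff.1 (U_le_normalizer_V R i (hX i hx)) _).1 (inv_mem hv)
    have h4 : a * ((v * w) * (x * v⁻¹ * x⁻¹)) * a⁻¹ ∈ RGD.Sup X (RGD.PosNe cs h i) :=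
      (Subgroup.mem_normalizer_iff.1 (U_le_normalizer_V R i (hX i ha)) _).1 (mul_mem (mul_mem hv hw) h6)
    have h5 := eq_one_of_mem_PosNe R h2 (by rw [h3]; exact h4)
    exact mul_inv_eq_one.1 h5
  have hσ1 : σ = 1 := Equiv.ext hσ
  subst hσ1
  have h1 := Diag.eq_one R hG1 D hpos
  have h2 : α = MulAut.conj u⁻¹ := by
    rw [map_inv]
    exact eq_inv_of_mul_eq_one_right h1
  exact ⟨u⁻¹, inv_mem hu, h2⟩

/-- The root groups `X y`, `f y ≥ 0`, normalise `⟨X a : f a > 0⟩`. -/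
theorem X_le_normalizer (f : (I → ℤ) →+ ℤ) {y : I → ℤ} (hy : IsRoot cs h y) (hf : 0 ≤ f y) :
    X y ≤ Subgroup.normalizer (RGD.Sup X {x | IsRoot cs h x ∧ 0 < f x} : Set Y) := by
  refine R.le_normalizer hy fun z hz => ⟨hz.1, Or.inr ⟨?_, fun v hv => ⟨hv.1, ?_⟩⟩⟩
  · rintro rfl
    have := hz.2
    rw [map_neg] at hf
    omega
  · exact Nodes.Slope.btwn_pos' hv.symm f hz.2 hf

/-- the dominant case -/
theorem autN_dom [Finite W] (hG1 : RGD.Sup X {x | IsRoot cs h x} = ⊤)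
    (hab : ∀ i, ∀ a ∈ X (sr i), ∀ b ∈ X (sr i), a * b = b * a) (f : (I → ℤ) →+ ℤ) (hf : ∀ i, 0 ≤ f (sr i))
    {Z : Subgroup Y}
    (hC : ∀ g : Y, (∀ x, IsRoot cs h x → 0 < f x → ∀ v ∈ X x, g * v = v * g) → g ∈ Z)
    (hZ : ∀ i, Z ≤ RGD.Sup X (RGD.PosNe cs h i)) {α : MulAut Y}
    (hα : ∀ x, IsRoot cs h x → 0 < f x → ∀ v ∈ X x, α v = v) : ∃ z ∈ Z, α = MulAut.conj z := by
  set N : Subgroup Y := RGD.Sup X {x | IsRoot cs h x ∧ 0 < f x} with hN
  -- two automorphisms trivial on `N`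
  have key : ∀ α : MulAut Y, (∀ x, IsRoot cs h x → 0 < f x → ∀ v ∈ X x, α v = v) →
      ∀ g ∈ RGD.Sup X (RGD.Pos cs h), α g * g⁻¹ ∈ Z := by
    intro α hα g hg
    have hNα : ∀ v ∈ N, α v = v := by
      have h1 : N ≤ MonoidHom.eqLocus α.toMonoidHom (MonoidHom.id Y) :=
        RGD.Sup_le fun x hx v hv => hα x hx.1 hx.2 v hv
      exact fun v hv => h1 hv
    have hgN : g ∈ Subgroup.normalizer (N : Set Y) := by
      refine (RGD.Sup_le fun x hx => X_le_normalizer R f hx.1 (dom_nonneg hf hx.2) :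
        RGD.Sup X (RGD.Pos cs h) ≤ Subgroup.normalizer (N : Set Y)) hg
    apply hC
    intro x hx hfx v hv
    have hv' : v ∈ N := RGD.le_Sup (S := {x | IsRoot cs h x ∧ 0 < f x}) ⟨hx, hfx⟩ hv
    have h1 : g⁻¹ * v * g ∈ N := by
      have := (Subgroup.mem_normalizer_iff.1 (inv_mem hgN) v).1 hv'
      rwa [inv_inv] at this
    have h2 := hNα _ h1
    rw [map_mul, map_mul, map_inv, hα x hx hfx v hv] at h2
    calc α g * g⁻¹ * v = α g * (g⁻¹ * v * g) * g⁻¹ := by group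
      _ = α g * ((α g)⁻¹ * v * α g) * g⁻¹ := by rw [h2]
      _ = v * (α g * g⁻¹) := by group
  have hVU : ∀ i, RGD.Sup X (RGD.PosNe cs h i) ≤ RGD.Sup X (RGD.Pos cs h) := fun i => V_le_U R i
  by_cases hI : Nonempty I
  · obtain ⟨i₀⟩ := hI
    have hZU : Z ≤ RGD.Sup X (RGD.Pos cs h) := (hZ i₀).trans (hVU i₀)
    have hle : ∀ α : MulAut Y, (∀ x, IsRoot cs h x → 0 < f x → ∀ v ∈ X x, α v = v) →
        ∀ g ∈ RGD.Sup X (RGD.Pos cs h), α g ∈ RGD.Sup X (RGD.Pos cs h) := by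
      intro α hα g hg
      have := mul_mem (hZU (key α hα g hg)) hg
      rwa [inv_mul_cancel_right] at this
    have hα' : ∀ x, IsRoot cs h x → 0 < f x → ∀ v ∈ X x, α⁻¹ v = v := by
      intro x hx hfx v hv
      rw [MulAut.inv_def, MulEquiv.symm_apply_eq]
      exact (hα x hx hfx v hv).symm
    have hfix : Fix α (RGD.Sup X (RGD.Pos cs h)) := by
      intro g
      refine ⟨fun hg => ?_, fun hg => hle α hα g hg⟩
      have := hle α⁻¹ hα' _ hg
      rwa [MulAut.inv_apply_self] at this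
    obtain ⟨z, hz, e⟩ := eq_conj_of_mod R hG1 hab hfix (fun i x hx => hZ i (key α hα x
      (RGD.le_Sup (S := RGD.Pos cs h) ⟨isRoot_sr cs h i, sr_nonneg i⟩ hx)))
    refine ⟨z, hC z fun x hx hfx v hv => ?_, e⟩
    have h1 := hα x hx hfx v hv
    rw [e, MulAut.conj_apply] at h1
    calc z * v = z * v * z⁻¹ * z := by group
      _ = v * z := by rw [h1]
  · -- no roots
    have h1 : ∀ x : I → ℤ, ¬ IsRoot cs h x := by
      rintro x ⟨w, i, -⟩
      exact hI ⟨i⟩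
    have h2 : ∀ g : Y, g = 1 := by
      intro g
      have h3 : g ∈ RGD.Sup X {x | IsRoot cs h x} := by rw [hG1]; exact Subgroup.mem_top g
      have h4 : RGD.Sup X {x | IsRoot cs h x} ≤ ⊥ := RGD.Sup_le fun x hx => absurd hx (h1 x)
      exact Subgroup.mem_bot.1 (h4 h3)
    exact ⟨1, one_mem _, MulEquiv.ext fun g => by rw [h2 (α g), h2 (MulAut.conj 1 g)]⟩

/-- **Automorphisms trivial on the unipotent radical of a parabolic subgroup are inner.** -/
theorem autN [Finite W] (hG1 : RGD.Sup X {x | IsRoot cs h x} = ⊤)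
    (hab : ∀ i, ∀ a ∈ X (sr i), ∀ b ∈ X (sr i), a * b = b * a) (f : (I → ℤ) →+ ℤ) {S : Set (I → ℤ)}
    (hS : ∀ c ∈ S, IsRoot cs h c ∧ ∃ a b, IsRoot cs h a ∧ IsRoot cs h b ∧ 0 < f a ∧ 0 < f b ∧ c = a + b)
    (hC : ∀ g : Y, (∀ x, IsRoot cs h x → 0 < f x → ∀ v ∈ X x, g * v = v * g) → g ∈ RGD.Sup X S) {α : MulAut Y}
    (hα : ∀ x, IsRoot cs h x → 0 < f x → ∀ v ∈ X x, α v = v) : ∃ z ∈ RGD.Sup X S, α = MulAut.conj z := by
  obtain ⟨w, hw⟩ := exists_dom (cs := cs) (h := h) f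
  obtain ⟨k, hk⟩ := exists_rp cs R.nsys w
  suffices hs : ∃ z ∈ cj k⁻¹ (RGD.Sup X S), (MulAut.conj k)⁻¹ * α * MulAut.conj k = MulAut.conj z by
    obtain ⟨z, hz, e⟩ := hs
    refine ⟨k * z * k⁻¹, ?_, ?_⟩
    · rw [mem_cj, inv_inv] at hz
      exact hz
    · rw [map_mul, map_mul, map_inv, ← e]; group
  refine autN_dom R hG1 hab (pull cs h f w) hw ?_ ?_ ?_
  · intro g hg
    rw [mem_cj, inv_inv]
    apply hC
    intro x hx hfx v hv
    have h1 := R.conj_mem' hk hx hv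
    have h2 := hg (rep cs h w⁻¹ x) (hx.act _) (by rw [pull_apply, rep_apply_inv]; exact hfx) _ h1
    calc k * g * k⁻¹ * v = k * (g * (k⁻¹ * v * k)) * k⁻¹ := by group
      _ = k * (k⁻¹ * v * k * g) * k⁻¹ := by rw [h2]
      _ = v * (k * g * k⁻¹) := by group
  · intro i
    rw [cj_Sup_eq R hk.inv (fun c hc => (hS c hc).1)]
    refine RGD.Sup_mono ?_
    intro c hc
    have hc' : rep cs h w c ∈ S := by
      have : rep cs h w⁻¹⁻¹ c ∈ S := hc
      rwa [inv_inv] at this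
    obtain ⟨h1, a, b, ha, hb, hfa, hfb, hab'⟩ := hS _ hc'
    have hpos : ∀ a, IsRoot cs h a → 0 < f a → 0 ≤ rep cs h w⁻¹ a := by
      intro a ha hfa
      rcases (ha.act w⁻¹).pos_or_neg with h2 | h2
      · exact h2
      · exfalso
        have h3 := dom_nonneg hw (neg_nonneg.2 h2)
        rw [map_neg, pull_apply, rep_apply_inv] at h3
        omega
    have e : c = rep cs h w⁻¹ a + rep cs h w⁻¹ b := by
      rw [← map_add, ← hab', rep_inv_apply]
    have ha0 := hpos a ha hfa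
    have hb0 := hpos b hb hfb
    refine ⟨?_, ?_, ?_⟩
    · have := h1.act w⁻¹
      rwa [rep_inv_apply] at this
    · rw [e]; exact add_nonneg ha0 hb0
    · intro h2
      rw [e] at h2
      -- one of the two is zero
      have h3 : ∀ j, j ≠ i → rep cs h w⁻¹ a j = 0 ∧ rep cs h w⁻¹ b j = 0 := by
        intro j hj
        have h4 := congrFun h2 j
        rw [sr_ne hj, Pi.add_apply] at h4
        have h5 := ha0 j
        have h6 := hb0 j
        simp only [Pi.zero_apply] at h5 h6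
        omega
      have h7 := (ha.act w⁻¹).eq_sr ha0 i fun j hj => (h3 j hj).1
      have h8 := (hb.act w⁻¹).eq_sr hb0 i fun j hj => (h3 j hj).2
      rw [h7, h8] at h2
      have h9 := congrFun h2 i
      rw [Pi.add_apply, sr_self] at h9
      omega
  · intro x hx hfx v hv
    have h1 := R.conj_mem hk hx hv
    have h2 := hα _ (hx.act w) hfx _ h1
    rw [MulAut.mul_apply, MulAut.mul_apply, MulAut.conj_apply, h2, ← MulAut.conj_apply, MulAut.inv_apply_self]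

end Cfsg.Agent.KFacts.RgdAutN
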