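import Mathlib
import Cfsg.Agent.KFacts.RgdCent
import Cfsg.Agent.KFacts.RgdAutN

/-!
# Centralisers of unipotent radicals, not simply laced (helper469)

* `cen_refl` : the set of roots `b` such that `t ∈ T` centralises `X b` is closed under its own reflections;
* `cen_all` : it contains all roots, if it contains `{f > 0}` and no root `b` with `f b = 0` is orthogonal to
  `{f > 0}`;
* `Cfg f Zs Bs` : the configuration of the roots: `C(⟨X a : f a > 0⟩) = ⟨X z : z ∈ Zs⟩`, `Bs` auxiliary roots which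
  are not long; `cent` : the theorem in `GG`, `aut` : for automorphisms.
-/

set_option autoImplicit false
set_option linter.unusedSectionVars false

namespace Cfsg.Agent.KFacts.RgdCentW

open CoxeterSystem Cfsg.Agent.ChevalleyStructure.CoxeterGeom Cfsg.Agent.Tits.Roots Cfsg.Agent.Tits.Core
  Cfsg.Agent.Tits.RootComb Cfsg.Agent.Tits.Exchange Cfsg.Agent.Nodes.Reps Cfsg.Agent.Nodes.BNOf
  Cfsg.Agent.Nodes.StabComb Cfsg.Agent.Nodes.Bruhat Cfsg.Agent.Nodes.OppDec Cfsg.Agent.Nodes.LeviDec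
  Cfsg.Agent.Nodes.NormX Cfsg.Agent.Nodes.Coroot Cfsg.Agent.KFacts.RgdPar Cfsg.Agent.KFacts.RgdSL
  Cfsg.Agent.KFacts.RgdTI Cfsg.Agent.KFacts.RgdCent
open scoped commutatorElement

variable {I W Y : Type*} [Fintype I] [DecidableEq I] [Group W] [Group Y] {M : CoxeterMatrix I}
  {cs : CoxeterSystem M W} {A : I → I → ℤ} {h : IsCartan M A} {p : ℕ} {T : Subgroup Y} {n : I → Y}
  {X : (I → ℤ) → Subgroup Y}

variable [Finite W] (R : RGD cs h p T n X)

include R

/-- the roots centralised by `t ∈ T` are closed under their own reflections -/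
theorem cen_refl {t : Y} (ht : t ∈ T) {a c : I → ℤ} (ha : a ∈ Cen cs h X t) (hc : c ∈ Cen cs h X t) :
    c - cpr cs h c a • a ∈ Cen cs h X t := by
  obtain ⟨⟨u, hu⟩, hu1⟩ := (Subgroup.ne_bot_iff_exists_ne_one).1 (X_ne_bot R ha.1)
  obtain ⟨s, hs, x, hx, y, hy, m, hm, he⟩ := exists_mu R ha.1 hu (fun h0 => hu1 (Subtype.ext h0))
  have hna := cen_neg R ht ha
  have h1 : Commute t m := by
    rw [he]
    exact ((show Commute t x from hna.2 x hx).mul_right (show Commute t u from ha.2 u hu)).mul_right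
      (show Commute t y from hna.2 y hy)
  rw [← hs]
  refine ⟨hc.1.act s, fun v hv => ?_⟩
  have h2 := R.conj_mem' hm (hc.1.act s) hv
  rw [rep_inv_apply] at h2
  have h3 : Commute t (m⁻¹ * v * m) := hc.2 _ h2
  have h4 : Commute t (m * (m⁻¹ * v * m) * m⁻¹) := (h1.mul_right h3).mul_right h1.inv_right
  have h5 : m * (m⁻¹ * v * m) * m⁻¹ = v := by group
  rw [h5] at h4
  exact h4

/-- an element of `T` centralising the root groups `X a`, `f a > 0`, centralises all root groups -/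
theorem cen_all {t : Y} (ht : t ∈ T) (f : (I → ℤ) →+ ℤ)
    (hf : ∀ b, IsRoot cs h b → f b = 0 → ∃ a, IsRoot cs h a ∧ 0 < f a ∧ cpr cs h b a ≠ 0)
    (hS : ∀ a, IsRoot cs h a → 0 < f a → a ∈ Cen cs h X t) {b : I → ℤ} (hb : IsRoot cs h b) :
    b ∈ Cen cs h X t := by
  have hne : ∀ b, IsRoot cs h b → f b ≠ 0 → b ∈ Cen cs h X t := by
    intro b hb h0
    rcases lt_or_gt_of_ne h0 with h1 | h1
    · have := cen_neg R ht (hS (-b) hb.neg (by rw [map_neg]; omega))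
      rwa [neg_neg] at this
    · exact hS b hb h1
  by_cases h0 : f b = 0
  · obtain ⟨a, ha, hfa, hba⟩ := hf b hb h0
    have h1 : IsRoot cs h (b - cpr cs h b a • a) := isRoot_refl cs h hb ha
    have h2 : f (b - cpr cs h b a • a) ≠ 0 := by
      rw [map_sub, map_zsmul, h0, smul_eq_mul, zero_sub, neg_ne_zero]
      exact mul_ne_zero hba hfa.ne'
    have h3 := cen_refl R ht (hS a ha hfa) (hne _ h1 h2)
    have h4 : cpr cs h (b - cpr cs h b a • a) a = -cpr cs h b a := by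
      rw [sub_eq_add_neg, cpr_add cs h _ _ ha, cpr_neg cs h _ ha, cpr_smul cs h _ _ ha, cpr_self cs h ha]
      ring
    rw [h4, neg_smul, sub_neg_eq_add, sub_add_cancel] at h3
    exact h3
  · exact hne b hb h0

omit R in
/-- The configuration: `Λ` roots with (LR), `Zs` the roots of the centraliser, `Bs` auxiliary roots. -/
structure Cfg (R : RGD cs h p T n X) (f : (I → ℤ) →+ ℤ) (Λ Zs Bs : Set (I → ℤ)) : Prop where
  lr : ∀ a ∈ Λ, LR R a
  pos : ∀ a ∈ Λ, 0 < f a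
  star : Star cs h Λ ⊆ Zs ∪ Bs
  zroot : ∀ z ∈ Zs, IsRoot cs h z
  broot : ∀ b ∈ Bs, IsRoot cs h b
  disj : ∀ b ∈ Bs, b ∉ Zs
  /-- `X z` commutes with `X a` for `f a > 0` -/
  zcomm : ∀ z ∈ Zs, ∀ a, IsRoot cs h a → 0 < f a → ∀ u ∈ X z, ∀ v ∈ X a, u * v = v * u
  closed : ∀ b ∈ Bs, ∀ y ∈ Zs ∪ Bs, y ≠ b → b ≠ -y ∧ ∀ z, Btwn cs h b y z → z ∈ Zs
  /-- the partner -/
  part : ∀ b ∈ Bs, ∃ b', IsRoot cs h b' ∧ 0 < f b' ∧ (∀ c ∈ Bs, c ≠ b → ∀ u ∈ X c, ∀ v ∈ X b', u * v = v * u) ∧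
    (∃ z ∈ Zs, z ≠ b' ∧ ∀ u ∈ X b, ∀ v ∈ X b', ⁅u, v⁆ ∈ X z) ∧ ∀ u ∈ X b, (∀ v ∈ X b', u * v = v * u) → u = 1
  zero : ∀ b, IsRoot cs h b → f b = 0 → ∃ a, IsRoot cs h a ∧ 0 < f a ∧ cpr cs h b a ≠ 0

variable {f : (I → ℤ) →+ ℤ} {Λ Zs Bs : Set (I → ℤ)}

/-- peel off one root group -/
theorem peel (C : Cfg R f Λ Zs Bs) {t q : Y} (ht : t ∈ T) {B : Set (I → ℤ)} (hB : B ⊆ Bs)
    (hq : q ∈ RGD.Sup X (Zs ∪ B)) (hg : ∀ a, IsRoot cs h a → 0 < f a → ∀ v ∈ X a, t * q * v = v * (t * q))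
    {b : I → ℤ} (hb : b ∈ B) : q ∈ RGD.Sup X (Zs ∪ (B \ {b})) := by
  have hbB := hB hb
  have hbr := C.broot b hbB
  obtain ⟨b', hb', hfb', hcomm, ⟨z, hz, hzb', hbr2⟩, hnd⟩ := C.part b hbB
  -- `Sup X (Zs ∪ B) = X b ⊔ Sup X (Zs ∪ (B \ {b}))`
  have hnorm : X b ≤ Subgroup.normalizer (RGD.Sup X (Zs ∪ (B \ {b})) : Set Y) := by
    refine R.le_normalizer hbr fun y hy => ?_
    have hyr : IsRoot cs h y := hy.elim (fun h1 => C.zroot y h1) (fun h1 => C.broot y (hB h1.1))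
    have hyb : y ≠ b := by
      rintro rfl
      rcases hy with h1 | h1
      · exact C.disj _ hbB h1
      · exact h1.2 rfl
    obtain ⟨h1, h2⟩ := C.closed b hbB y (hy.imp id fun h3 => hB h3.1) hyb
    exact ⟨hyr, Or.inr ⟨h1, fun v hv => Or.inl (h2 v hv)⟩⟩
  have hsup : RGD.Sup X (Zs ∪ B) ≤ X b ⊔ RGD.Sup X (Zs ∪ (B \ {b})) := by
    refine RGD.Sup_le fun y hy => ?_
    by_cases hyb : y = b
    · rw [hyb]; exact le_sup_left
    · refine le_trans (RGD.le_Sup (S := Zs ∪ (B \ {b})) ?_) le_sup_right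
      exact hy.imp id fun h1 => ⟨h1, hyb⟩
  have h1 : q ∈ ((X b ⊔ RGD.Sup X (Zs ∪ (B \ {b})) : Subgroup Y) : Set Y) := hsup hq
  rw [Subgroup.coe_mul_of_left_le_normalizer_right _ _ hnorm, Set.mem_mul] at h1
  obtain ⟨x, hx, q', hq', rfl⟩ := h1
  -- `q'` commutes with `X b'`
  have hq'c : ∀ y ∈ X b', q' * y = y * q' := by
    intro y hy
    have h2 : RGD.Sup X (Zs ∪ (B \ {b})) ≤ Subgroup.centralizer {y} := by
      refine RGD.Sup_le fun c hc u hu => ?_
      rw [Subgroup.mem_centralizer_singleton_iff]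
      rcases hc with hc | hc
      · exact C.zcomm c hc b' hb' hfb' u hu y hy
      · exact hcomm c (hB hc.1) hc.2 u hu y hy
    exact Subgroup.mem_centralizer_singleton_iff.1 (h2 hq')
  have hx1 : x = 1 := by
    apply hnd x hx
    intro y hy
    have h2 := hg b' hb' hfb' y hy
    have h3 := hq'c y hy
    have h4 : t * (x * y) = y * t * x := by
      have e1 : t * (x * q') * y = t * (x * y) * q' := by
        calc t * (x * q') * y = t * x * (q' * y) := by group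
          _ = _ := by rw [h3]; group
      rw [e1] at h2
      have e2 : y * (t * (x * q')) = y * t * x * q' := by group
      rw [e2] at h2
      exact mul_right_cancel h2
    have h5 : t * ⁅x, y⁆ * t⁻¹ ∈ X z := by
      have h6 : cj t (X z) = X z := R.tor z (C.zroot z hz) t ht
      rw [← h6]
      exact conj_mem_cj.2 (hbr2 x hx y hy)
    have h6 : t * ⁅x, y⁆ * t⁻¹ ∈ X b' := by
      have e1 : t * ⁅x, y⁆ * t⁻¹ = y * (t * y * t⁻¹)⁻¹ := by
        rw [commutatorElement_def]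
        calc t * (x * y * x⁻¹ * y⁻¹) * t⁻¹ = t * (x * y) * x⁻¹ * y⁻¹ * t⁻¹ := by group
          _ = y * t * x * x⁻¹ * y⁻¹ * t⁻¹ := by rw [h4]
          _ = y * (t * y * t⁻¹)⁻¹ := by group
      rw [e1]
      refine mul_mem hy (inv_mem ?_)
      have h7 : cj t (X b') = X b' := R.tor b' hb' t ht
      rw [← h7]
      exact conj_mem_cj.2 hy
    have h7 := X_inf_X R (C.zroot z hz) hb' hzb'
    have h8 : t * ⁅x, y⁆ * t⁻¹ = 1 := by
      have : t * ⁅x, y⁆ * t⁻¹ ∈ X z ⊓ X b' := ⟨h5, h6⟩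
      rwa [h7, Subgroup.mem_bot] at this
    have h9 : ⁅x, y⁆ = 1 := by
      have : ⁅x, y⁆ = t⁻¹ * (t * ⁅x, y⁆ * t⁻¹) * t := by group
      rw [this, h8]; group
    exact commutatorElement_eq_one_iff_mul_comm.1 h9
  rw [hx1, one_mul]
  exact hq'

/-- **The centraliser of `⟨X a : f a > 0⟩` in `GG`.** -/
theorem cent (C : Cfg R f Λ Zs Bs) (hN : NoCent cs h T X) {g : Y} (hg : g ∈ GG cs h T X)
    (hc : ∀ a, IsRoot cs h a → 0 < f a → ∀ v ∈ X a, g * v = v * g) : g ∈ RGD.Sup X Zs := by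
  have hst : ∀ b ∈ Star cs h Λ, ∀ a ∈ Λ, ∀ u ∈ X b, ∀ v ∈ X a, u * v = v * u := by
    intro b hb a ha u hu v hv
    exact (C.lr a ha).comm b hb.1 (hb.2 a ha) u hu v hv
  obtain ⟨t, ht, -, q, hq, rfl⟩ := cent_eq R C.lr hst hg
    (fun a ha v hv => hc a (C.lr a ha).root (C.pos a ha) v hv)
  have hq0 : q ∈ RGD.Sup X (Zs ∪ Bs) := RGD.Sup_mono C.star hq
  -- peel off all the groups of `Bs`
  have hfin : Bs.Finite := (RGD.finite_roots (cs := cs) (h := h)).subset fun b hb => C.broot b hb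
  have key : ∀ F : Set (I → ℤ), F.Finite → F ⊆ Bs → q ∈ RGD.Sup X (Zs ∪ (Bs \ F)) := by
    intro F hF
    induction F, hF using Set.Finite.induction_on with
    | empty => intro _; rw [Set.sdiff_empty]; exact hq0
    | @insert b F hb _ ih =>
      intro hsub
      have h1 := ih fun x hx => hsub (Set.mem_insert_of_mem b hx)
      have h2 := peel R C ht (B := Bs \ F) Set.sdiff_subset h1 hc (b := b)
        ⟨hsub (Set.mem_insert b F), hb⟩
      have h3 : (Bs \ F) \ {b} = Bs \ insert b F := by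
        ext x
        simp only [Set.mem_sdiff, Set.mem_singleton_iff, Set.mem_insert_iff]
        tauto
      rwa [h3] at h2
  have h1 := key Bs hfin le_rfl
  rw [Set.sdiff_self, Set.union_empty] at h1
  have h2 : ∀ a, IsRoot cs h a → 0 < f a → a ∈ Cen cs h X t := by
    intro a ha hfa
    refine ⟨ha, fun v hv => ?_⟩
    have h3 : q * v = v * q := by
      have h4 : RGD.Sup X Zs ≤ Subgroup.centralizer {v} := by
        refine RGD.Sup_le fun c hc u hu => ?_
        rw [Subgroup.mem_centralizer_singleton_iff]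
        exact C.zcomm c hc a ha hfa u hu v hv
      exact Subgroup.mem_centralizer_singleton_iff.1 (h4 h1)
    have h5 := hc a ha hfa v hv
    have h6 : t * v * q = v * t * q := by
      rw [mul_assoc, ← h3, ← mul_assoc, h5, mul_assoc]
    exact mul_right_cancel h6
  have h3 : t = 1 := hN t ht fun b hb => (cen_all R ht f C.zero h2 hb).2
  rw [h3, one_mul]
  exact h1

/-- **The same for automorphisms.** -/
theorem aut (C : Cfg R f Λ Zs Bs) (hN : NoCent cs h T X) (hG1 : RGD.Sup X {x | IsRoot cs h x} = ⊤)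
    (hab : ∀ i, ∀ a ∈ X (sr i), ∀ b ∈ X (sr i), a * b = b * a)
    (hS : ∀ c ∈ Zs, ∃ a b, IsRoot cs h a ∧ IsRoot cs h b ∧ 0 < f a ∧ 0 < f b ∧ c = a + b) {α : MulAut Y}
    (hα : ∀ x, IsRoot cs h x → 0 < f x → ∀ v ∈ X x, α v = v) : ∃ z ∈ RGD.Sup X Zs, α = MulAut.conj z := by
  have hG := RgdRigid.GG_eq_top (T := T) hG1
  refine RgdAutN.autN R hG1 hab f (fun c hc => ⟨C.zroot c hc, hS c hc⟩) (fun g hg => ?_) hα
  exact cent R C hN (by rw [hG]; exact Subgroup.mem_top g) hg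

end Cfsg.Agent.KFacts.RgdCentW
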