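import Mathlib
import Cfsg.Agent.KFacts.RgdBorelTits
import Cfsg.Agent.KFacts.RgdSL
import Cfsg.Agent.Nodes.RGDLib
import Cfsg.Agent.Nodes.HasRGD

/-!
Filtrations for Borel–Tits (`KFacts/RgdBorelTits`), helper650.

* `F2 Z X x s` : `X x` for `s ≥ 2`, `Z x` for `1 ≤ s < 2`, `1` for `s < 1`; `Two` : the conditions; `Two.filt`;
* `IntComm` : the Chevalley commutator formula `[X x, X y] ≤ ⟨X (i x + j y) : i, j ≥ 1⟩`; `IntComm.filt`;
* `filt_map`, `filt_restrict`; `HasFilt p G`, `HasFilt.of_equiv`, `HasFilt.of_sl`;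
* `HasFilt.borel_tits` : Borel–Tits without the data.
-/

set_option autoImplicit false
set_option linter.unusedSectionVars false

namespace Cfsg.Agent.KFacts.RgdFilt

open CoxeterSystem Cfsg.Agent.ChevalleyStructure.CoxeterGeom Cfsg.Agent.Tits.Roots Cfsg.Agent.Tits.Core
  Cfsg.Agent.Tits.RootComb Cfsg.Agent.Tits.Exchange Cfsg.Agent.Nodes.Reps Cfsg.Agent.Nodes.BNOf
  Cfsg.Agent.Nodes.StabComb Cfsg.Agent.Nodes.Bruhat Cfsg.Agent.Nodes.OppDec Cfsg.Agent.Nodes.LeviDec
  Cfsg.Agent.KFacts.RgdPar Cfsg.Agent.KFacts.RgdBorelTits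
open scoped commutatorElement

variable {I W Y : Type*} [Fintype I] [DecidableEq I] [Group W] [Group Y] {M : CoxeterMatrix I}
  {cs : CoxeterSystem M W} {A : I → I → ℤ} {h : IsCartan M A} {p : ℕ} {T : Subgroup Y} {n : I → Y}
  {X : (I → ℤ) → Subgroup Y}

/-! ### two steps -/

/-- `X x` from `2` on, `Z x` from `1` on -/
noncomputable def F2 (Z X : (I → ℤ) → Subgroup Y) (x : I → ℤ) (s : ℝ) : Subgroup Y :=
  if 2 ≤ s then X x else if 1 ≤ s then Z x else ⊥

theorem F2_two {Z X : (I → ℤ) → Subgroup Y} {x : I → ℤ} {s : ℝ} (hs : 2 ≤ s) : F2 Z X x s = X x := if_pos hs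

theorem F2_one {Z X : (I → ℤ) → Subgroup Y} {x : I → ℤ} {s : ℝ} (h1 : 1 ≤ s) (h2 : s < 2) : F2 Z X x s = Z x := by
  unfold F2
  rw [if_neg (not_le.2 h2), if_pos h1]

theorem F2_zero {Z X : (I → ℤ) → Subgroup Y} {x : I → ℤ} {s : ℝ} (h1 : s < 1) : F2 Z X x s = ⊥ := by
  unfold F2
  rw [if_neg (by linarith : ¬ (2 : ℝ) ≤ s), if_neg (not_le.2 h1)]

theorem le_F2 {Z X : (I → ℤ) → Subgroup Y} {x : I → ℤ} {s : ℝ} (hZ : Z x ≤ X x) (hs : 1 ≤ s) : Z x ≤ F2 Z X x s := by
  rcases lt_or_ge s 2 with h2 | h2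
  · rw [F2_one hs h2]
  · rw [F2_two h2]; exact hZ

theorem F2_self {X : (I → ℤ) → Subgroup Y} {x : I → ℤ} {s : ℝ} (hs : 1 ≤ s) : F2 X X x s = X x := by
  rcases lt_or_ge s 2 with h2 | h2
  · rw [F2_one hs h2]
  · rw [F2_two h2]

/-- the conditions for the two step filtration -/
structure Two (R : RGD cs h p T n X) (Z : (I → ℤ) → Subgroup Y) : Prop where
  le : ∀ x, IsRoot cs h x → Z x ≤ X x
  conj : ∀ i x, IsRoot cs h x → cj (n i) (Z x) = Z (rep cs h (cs.simple i) x)
  tor : ∀ x, IsRoot cs h x → ∀ t ∈ T, cj t (Z x) = Z x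
  nrm : ∀ x, IsRoot cs h x → X x ≤ Subgroup.normalizer (Z x : Set Y)
  c1 : ∀ (f : I → ℝ) x y, IsRoot cs h x → IsRoot cs h y → x ≠ y → x ≠ -y → 1 ≤ ev f x → 0 ≤ ev f y →
    ∀ a ∈ Z x, ∀ b ∈ X y, ⁅a, b⁆ ∈ FS (fun z => F2 Z X z (ev f z)) {z | Btwn cs h x y z}
  c2 : ∀ (f : I → ℝ) x y, IsRoot cs h x → IsRoot cs h y → x ≠ y → x ≠ -y → 2 ≤ ev f x → 0 ≤ ev f y →
    ∀ a ∈ X x, ∀ b ∈ X y, ⁅a, b⁆ ∈ FS (fun z => F2 Z X z (ev f z)) {z | Btwn cs h x y z}

theorem bot_normal (H : Subgroup Y) : H ≤ Subgroup.normalizer ((⊥ : Subgroup Y) : Set Y) := by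
  intro x _
  rw [Subgroup.mem_normalizer_iff]
  intro y
  rw [Subgroup.mem_bot, Subgroup.mem_bot]
  constructor
  · rintro rfl; group
  · intro h1
    have : y = x⁻¹ * (x * y * x⁻¹) * x := by group
    rw [this, h1]; group

theorem cj_bot (g : Y) : cj g (⊥ : Subgroup Y) = ⊥ := Subgroup.map_bot _

theorem Two.filt {R : RGD cs h p T n X} {Z : (I → ℤ) → Subgroup Y} (hZ : Two R Z) : Filt R (F2 Z X) where
  le x s hx := by
    rcases lt_or_ge s 2 with h2 | h2
    · rcases lt_or_ge s 1 with h1 | h1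
      · rw [F2_zero h1]; exact bot_le
      · rw [F2_one h1 h2]; exact hZ.le x hx
    · rw [F2_two h2]
  mono x s s' hx hs := by
    rcases lt_or_ge s 2 with h2 | h2
    · rcases lt_or_ge s 1 with h1 | h1
      · rw [F2_zero h1]; exact bot_le
      · rw [F2_one h1 h2]
        exact le_F2 (hZ.le x hx) (le_trans h1 hs)
    · rw [F2_two h2, F2_two (le_trans h2 hs)]
  neg x s hx hs := F2_zero (by linarith)
  full := ⟨2, by norm_num, fun x s _ hs => by rw [F2_two hs]⟩
  closed x hx u := by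
    by_cases h1 : u = 1
    · have : {s : ℝ | u ∈ F2 Z X x s} = Set.univ := by
        ext s
        simp only [Set.mem_ofPred_eq, Set.mem_univ, iff_true]
        rw [h1]; exact one_mem _
      rw [this]; exact isClosed_univ
    · by_cases h2 : u ∈ Z x
      · have : {s : ℝ | u ∈ F2 Z X x s} = Set.Ici 1 := by
          ext s
          simp only [Set.mem_ofPred_eq, Set.mem_Ici]
          constructor
          · intro h3
            by_contra h4
            rw [F2_zero (not_le.1 h4), Subgroup.mem_bot] at h3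
            exact h1 h3
          · intro h3
            exact le_F2 (hZ.le x hx) h3 h2
        rw [this]; exact isClosed_Ici
      · by_cases h3 : u ∈ X x
        · have : {s : ℝ | u ∈ F2 Z X x s} = Set.Ici 2 := by
            ext s
            simp only [Set.mem_ofPred_eq, Set.mem_Ici]
            constructor
            · intro h4
              by_contra h5
              push Not at h5
              rcases lt_or_ge s 1 with h6 | h6
              · rw [F2_zero h6, Subgroup.mem_bot] at h4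
                exact h1 h4
              · rw [F2_one h6 h5] at h4
                exact h2 h4
            · intro h4
              rw [F2_two h4]; exact h3
          rw [this]; exact isClosed_Ici
        · have : {s : ℝ | u ∈ F2 Z X x s} = ∅ := by
            ext s
            simp only [Set.mem_ofPred_eq, Set.mem_empty_iff_false, iff_false]
            intro h4
            rcases lt_or_ge s 2 with h5 | h5
            · rcases lt_or_ge s 1 with h6 | h6
              · rw [F2_zero h6, Subgroup.mem_bot] at h4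
                exact h1 h4
              · rw [F2_one h6 h5] at h4
                exact h2 h4
            · rw [F2_two h5] at h4
              exact h3 h4
          rw [this]; exact isClosed_empty
  conj i x s hx := by
    rcases lt_or_ge s 2 with h2 | h2
    · rcases lt_or_ge s 1 with h1 | h1
      · rw [F2_zero h1, F2_zero h1, cj_bot]
      · rw [F2_one h1 h2, F2_one h1 h2]; exact hZ.conj i x hx
    · rw [F2_two h2, F2_two h2]; exact R.conj i x hx
  tor x s hx t ht := by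
    rcases lt_or_ge s 2 with h2 | h2
    · rcases lt_or_ge s 1 with h1 | h1
      · rw [F2_zero h1, cj_bot]
      · rw [F2_one h1 h2]; exact hZ.tor x hx t ht
    · rw [F2_two h2]; exact R.tor x hx t ht
  nrm x s hx := by
    rcases lt_or_ge s 2 with h2 | h2
    · rcases lt_or_ge s 1 with h1 | h1
      · rw [F2_zero h1]; exact bot_normal _
      · rw [F2_one h1 h2]; exact hZ.nrm x hx
    · rw [F2_two h2]; exact Subgroup.le_normalizer
  comm f x y hx hy hxy hxy' h0 h1 a ha b hb := by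
    rcases lt_or_ge (ev f x) 2 with h2 | h2
    · rcases lt_or_ge (ev f x) 1 with h3 | h3
      · rw [F2_zero h3, Subgroup.mem_bot] at ha
        rw [ha, commutatorElement_one_left]
        exact one_mem _
      · rw [F2_one h3 h2] at ha
        exact hZ.c1 f x y hx hy hxy hxy' h3 h1 a ha b hb
    · rw [F2_two h2] at ha
      exact hZ.c2 f x y hx hy hxy hxy' h2 h1 a ha b hb

/-! ### the Chevalley commutator formula -/

/-- the integral interval -/
def IB (cs : CoxeterSystem M W) (h : IsCartan M A) (x y z : I → ℤ) : Prop :=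
  IsRoot cs h z ∧ ∃ i j : ℤ, 0 < i ∧ 0 < j ∧ z = i • x + j • y

theorem IB.btwn {x y z : I → ℤ} (hz : IB cs h x y z) : Btwn cs h x y z := by
  obtain ⟨hr, i, j, hi, hj, e⟩ := hz
  exact Btwn.of_int hr hi hj e

theorem IB.symm {x y z : I → ℤ} (hz : IB cs h x y z) : IB cs h y x z := by
  obtain ⟨hr, i, j, hi, hj, e⟩ := hz
  exact ⟨hr, j, i, hj, hi, by rw [e, add_comm]⟩

theorem IB.le_ev {x y z : I → ℤ} (hz : IB cs h x y z) (f : I → ℝ) (hx : 0 ≤ ev f x) (hy : 0 ≤ ev f y) :
    ev f x ≤ ev f z := by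
  obtain ⟨-, i, j, hi, hj, rfl⟩ := hz
  rw [map_add, ev_smul, ev_smul]
  have h1 : (1 : ℝ) ≤ i := by exact_mod_cast hi
  have h2 : (0 : ℝ) ≤ j := by exact_mod_cast hj.le
  have h3 := mul_nonneg h2 hy
  nlinarith

/-- the Chevalley commutator formula -/
def IntComm (cs : CoxeterSystem M W) (h : IsCartan M A) (X : (I → ℤ) → Subgroup Y) : Prop :=
  ∀ x y, IsRoot cs h x → IsRoot cs h y → x ≠ y → x ≠ -y → ∀ a ∈ X x, ∀ b ∈ X y, ⁅a, b⁆ ∈ FS X {z | IB cs h x y z}

theorem IntComm.filt {R : RGD cs h p T n X} (hX : IntComm cs h X) : Filt R (F2 X X) := by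
  refine Two.filt (Z := X) ⟨fun _ _ => le_rfl, R.conj, R.tor, fun _ _ => Subgroup.le_normalizer, ?_, ?_⟩
  · intro f x y hx hy hxy hxy' h1 h2 a ha b hb
    refine FS_mono (G := X) (G' := fun z => F2 X X z (ev f z)) (fun z hz _ => ?_) (hX x y hx hy hxy hxy' a ha b hb)
    have hz' : IB cs h x y z := hz
    refine ⟨hz'.btwn, ?_⟩
    show X z ≤ F2 X X z (ev f z)
    rw [F2_self (le_trans h1 (hz'.le_ev f (by linarith) h2))]
  · intro f x y hx hy hxy hxy' h1 h2 a ha b hb
    refine FS_mono (G := X) (G' := fun z => F2 X X z (ev f z)) (fun z hz _ => ?_) (hX x y hx hy hxy hxy' a ha b hb)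
    have hz' : IB cs h x y z := hz
    refine ⟨hz'.btwn, ?_⟩
    show X z ≤ F2 X X z (ev f z)
    rw [F2_self (le_trans (by linarith) (hz'.le_ev f (by linarith) h2))]

/-- simply laced -/
theorem intComm_of_sl [Finite W] (R : RGD cs h p T n X) (hs : RgdSL.SL cs h) : IntComm cs h X := by
  intro x y hx hy hxy hxy' a ha b hb
  refine (iSup_le ?_ : btw cs h X x y ≤ _) (R.comm x y hx hy hxy hxy' a ha b hb)
  rintro ⟨z, hz⟩
  refine le_FS (G := X) (S := {z | IB cs h x y z}) ?_
  refine ⟨hz.1, 1, 1, one_pos, one_pos, ?_⟩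
  rw [one_smul, one_smul]
  exact (hs.btwn hx hy hxy hxy' hz).2

/-! ### transport -/

theorem map_FS {Y' : Type*} [Group Y'] (f : Y →* Y') (G : (I → ℤ) → Subgroup Y) (S : Set (I → ℤ)) :
    (FS G S).map f = FS (fun z => (G z).map f) S := by
  unfold FS
  rw [Subgroup.map_iSup]

theorem filt_map {Y' : Type*} [Group Y'] [Finite Y] {R : RGD cs h p T n X} {F : (I → ℤ) → ℝ → Subgroup Y}
    (hF : Filt R F) (f : Y →* Y') (R' : RGD cs h p (T.map f) (fun i => f (n i)) (fun x => (X x).map f)) :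
    Filt R' (fun x s => (F x s).map f) where
  le x s hx := Subgroup.map_mono (hF.le x s hx)
  mono x s s' hx hs := Subgroup.map_mono (hF.mono x s s' hx hs)
  neg x s hx hs := by rw [hF.neg x s hx hs, Subgroup.map_bot]
  full := by
    obtain ⟨C, hC, h1⟩ := hF.full
    exact ⟨C, hC, fun x s hx hs => Subgroup.map_mono (h1 x s hx hs)⟩
  closed x hx u := by
    have h1 : {s : ℝ | u ∈ (F x s).map f} = ⋃ v : {v : Y // f v = u}, {s : ℝ | v.1 ∈ F x s} := by
      ext s
      simp only [Set.mem_ofPred_eq, Set.mem_iUnion, Subgroup.mem_map]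
      constructor
      · rintro ⟨v, hv, e⟩
        exact ⟨⟨v, e⟩, hv⟩
      · rintro ⟨⟨v, e⟩, hv⟩
        exact ⟨v, hv, e⟩
    rw [h1]
    exact isClosed_iUnion_of_finite fun v => hF.closed x hx v.1
  conj i x s hx := by rw [Nodes.RGDLib.cj_map, hF.conj i x s hx]
  tor x s hx := by
    rintro _ ⟨t, ht, rfl⟩
    rw [Nodes.RGDLib.cj_map, hF.tor x s hx t ht]
  nrm x s hx := by
    rintro _ ⟨a, ha, rfl⟩
    have h1 := mem_normalizer_iff_cj.1 (hF.nrm x s hx ha)
    rw [mem_normalizer_iff_cj, Nodes.RGDLib.cj_map, h1]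
  comm g x y hx hy hxy hxy' h0 h1 := by
    rintro _ ⟨a, ha, rfl⟩ _ ⟨b, hb, rfl⟩
    rw [← map_commutatorElement, ← map_FS]
    exact Subgroup.mem_map_of_mem f (hF.comm g x y hx hy hxy hxy' h0 h1 a ha b hb)

theorem filt_restrict {R : RGD cs h p T n X} {F : (I → ℤ) → ℝ → Subgroup Y} (hF : Filt R F) (K : Subgroup Y)
    (hX : ∀ x, IsRoot cs h x → X x ≤ K) {n' : I → K} (hn : ∀ i, (n' i : Y) = n i)
    (R' : RGD cs h p (T.subgroupOf K) n' (fun x => (X x).subgroupOf K)) :
    Filt R' (fun x s => (F x s).subgroupOf K) where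
  le x s hx := Subgroup.comap_mono (hF.le x s hx)
  mono x s s' hx hs := Subgroup.comap_mono (hF.mono x s s' hx hs)
  neg x s hx hs := by
    rw [hF.neg x s hx hs, Subgroup.bot_subgroupOf]
  full := by
    obtain ⟨C, hC, h1⟩ := hF.full
    exact ⟨C, hC, fun x s hx hs => Subgroup.comap_mono (h1 x s hx hs)⟩
  closed x hx u := hF.closed x hx u
  conj i x s hx := by rw [Nodes.RGDLib.cj_subgroupOf, hn, hF.conj i x s hx]
  tor x s hx t ht := by rw [Nodes.RGDLib.cj_subgroupOf, hF.tor x s hx t ht]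
  nrm x s hx a ha := by
    have h1 : cj (a : Y) (F x s) = F x s := mem_normalizer_iff_cj.1 (hF.nrm x s hx ha)
    rw [mem_normalizer_iff_cj, Nodes.RGDLib.cj_subgroupOf, h1]
  comm g x y hx hy hxy hxy' h0 h1 a ha b hb := by
    have h2 := hF.comm g x y hx hy hxy hxy' h0 h1 a ha b hb
    have h3 : FS (fun z => (F z (ev g z)).subgroupOf K) {z | Btwn cs h x y z} =
        (FS (fun z => F z (ev g z)) {z | Btwn cs h x y z}).subgroupOf K := by
      unfold FS
      rw [Nodes.RGDLib.iSup_subgroupOf]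
      rintro ⟨z, hz⟩
      exact le_trans (hF.le z _ hz.1) (hX z hz.1)
    rw [h3, Subgroup.mem_subgroupOf]
    exact h2

/-! ### existence -/

/-- `G` has a root group datum of characteristic `p` with a filtration -/
def HasFilt (p : ℕ) (G : Type*) [Group G] : Prop :=
  ∃ (l : ℕ) (M : CoxeterMatrix (Fin l)) (A : Fin l → Fin l → ℤ) (h : IsCartan M A) (T : Subgroup G) (n : Fin l → G)
    (X : (Fin l → ℤ) → Subgroup G) (R : RGD M.toCoxeterSystem h p T n X) (F : (Fin l → ℤ) → ℝ → Subgroup G),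
    Finite M.Group ∧ Nodes.RGDLib.G1 M.toCoxeterSystem h X = ⊤ ∧ Filt R F

theorem HasFilt.hasRGD {G : Type*} [Group G] (hG : HasFilt p G) : Nodes.RGDChev.HasRGD p G := by
  obtain ⟨l, M, A, h, T, n, X, R, F, h1, h2, -⟩ := hG
  exact ⟨l, M, A, h, T, n, X, h1, R, h2⟩

theorem HasFilt.of_equiv {G H : Type*} [Group G] [Group H] [Finite G] (e : G ≃* H) (hG : HasFilt p G) :
    HasFilt p H := by
  obtain ⟨l, M, A, h, T, n, X, R, F, hW, hX, hF⟩ := hG
  refine ⟨l, M, A, h, T.map e.toMonoidHom, fun i => e (n i), fun x => (X x).map e.toMonoidHom,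
    Nodes.RGDLib.rgd_map_of_injective R e.toMonoidHom e.injective, fun x s => (F x s).map e.toMonoidHom, hW, ?_,
    filt_map hF e.toMonoidHom _⟩
  have h1 : (Nodes.RGDLib.G1 M.toCoxeterSystem h X).map e.toMonoidHom =
      Nodes.RGDLib.G1 M.toCoxeterSystem h (fun x => (X x).map e.toMonoidHom) := by
    unfold Nodes.RGDLib.G1 RGD.Sup
    rw [Subgroup.map_iSup]
  rw [← h1, hX, Subgroup.map_top_of_surjective _ e.surjective]

theorem GG_eq_top (hG : Nodes.RGDLib.G1 cs h X = ⊤) : GG cs h T X = ⊤ := by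
  rw [eq_top_iff, ← hG]
  exact le_sup_right

/-- **Borel–Tits** for a group with a filtered root group datum. -/
theorem borel_tits_of_filt [Finite W] [Finite Y] [Fact p.Prime] {R : RGD cs h p T n X}
    {F : (I → ℤ) → ℝ → Subgroup Y} (hF : Filt R F) (hG : Nodes.RGDLib.G1 cs h X = ⊤) {K : Subgroup Y}
    (hK : IsPGroup p K) (hK1 : K ≠ ⊥) : ∃ (g : Y) (J : Set I), J ≠ Set.univ ∧ K ≤ cj g (VJ cs h X J) ∧
      Subgroup.normalizer (K : Set Y) ≤ cj g (PJ cs h T X J) :=
  borel_tits hF (GG_eq_top hG) hK hK1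

end Cfsg.Agent.KFacts.RgdFilt
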