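import Cfsg.Agent.KFacts.RgdFilt
import Cfsg.Agent.Nodes.RGDChev

/-!
The Chevalley commutator formula `IntComm` for the groups `D.group K` (helper650): `hasFilt_group`,
`hasFilt_of_exceptional`.
-/

set_option autoImplicit false
set_option linter.unusedSectionVars false

namespace Cfsg.Agent.KFacts.RgdFiltChev

open CoxeterSystem Cfsg.Agent.ChevalleyStructure.CoxeterGeom Cfsg.Agent.Tits.Roots Cfsg.Agent.Tits.Core
  Cfsg.Agent.Tits.RootComb Cfsg.Agent.Nodes.Comb Cfsg.Agent.Nodes.Reps Cfsg.Agent.Nodes.BNOf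
open Cfsg.Lie Cfsg.Agent.ChevalleyStructure Cfsg.Agent.ChevalleyStructure.Elts
  Cfsg.Agent.ChevalleyStructure.RootVec Cfsg.Agent.ChevalleyStructure.RootVecTab
  Cfsg.Agent.ChevalleyStructure.NPerm Cfsg.Agent.ChevalleyStructure.CoxeterGeomTypes
open Cfsg.Agent.Nodes Cfsg.Agent.Nodes.RGDChev Cfsg.Agent.KFacts.RgdBorelTits Cfsg.Agent.KFacts.RgdFilt
open scoped commutatorElement

universe u

section Groups

variable {D : ChevalleyDatum} {l : ℕ} {M : CoxeterMatrix (Fin l)} (hp : IsType D l M) {K : Type u} [Field K]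
  {W : Type*} [Group W] (cs : CoxeterSystem M W)

/-- the Chevalley commutator formula -/
theorem intComm_GL : IntComm cs hp.isCartan (XV D l K) := by
  intro x y hx hy hxy hxy' a ha b hb
  obtain ⟨s, hs, rfl⟩ := (isRoot_iff hp cs x).1 hx
  obtain ⟨r, hr, rfl⟩ := (isRoot_iff hp cs y).1 hy
  rw [XV_vec hp K hs, mem_rootSubgroup_iff hp.inList] at ha
  rw [XV_vec hp K hr, mem_rootSubgroup_iff hp.inList] at hb
  obtain ⟨u, rfl⟩ := ha
  obtain ⟨t, rfl⟩ := hb
  have hne : s ≠ r := fun h => hxy (by rw [h])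
  have hne' : s ≠ D.neg r := fun h => hxy' (by rw [h, vec_neg hp hr])
  have e : ⁅xG hp.inList s u, xG hp.inList r t⁆ = wordG hp.inList (D.commWord K r s (-t) (-u)) := by
    rw [← comm_xG hp hr hs hne hne', xG_inv, xG_inv, _root_.neg_neg, _root_.neg_neg]
  rw [e]
  refine wordG_mem hp _ _ ?_
  intro c hc
  have hc' : c ∈ (D.commTerms r s).map fun c => (c.1, (c.2.1 : K) * (- -t) ^ c.2.2.1 * (-u) ^ c.2.2.2) := hc
  rw [List.mem_map] at hc'
  obtain ⟨⟨v, C, i, j⟩, hv, rfl⟩ := hc'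
  obtain ⟨hv1, -, -, hi, hj, hvec⟩ := commTerms_rt hp.checked hv
  have hbt : IB cs hp.isCartan (vec D l s) (vec D l r) (vec D l v) := by
    refine ⟨isRoot_vec hp cs hv1, (j : ℤ), (i : ℤ), by exact_mod_cast hj, by exact_mod_cast hi, ?_⟩
    funext k
    rw [vec_apply, hvec, Pi.add_apply, Pi.smul_apply, Pi.smul_apply, smul_eq_mul, smul_eq_mul, vec_apply, vec_apply,
      add_comm]
  refine le_FS (G := XV D l K) (S := {z | IB cs hp.isCartan (vec D l s) (vec D l r) z}) hbt ?_
  rw [XV_vec hp K hv1]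
  exact xG_mem_rootSubgroup hp.inList v _

/-- the filtration of the root group datum of `D.group K` -/
theorem filt [Finite K] (p : ℕ) [Fact p.Prime] [CharP K p] :
    Filt (rgd (K := K) hp cs p) (fun x s => (F2 (XV D l K) (XV D l K) x s).subgroupOf (D.group K)) :=
  filt_restrict (R := rgd_GL hp cs p) (intComm_GL hp cs).filt (D.group K) (fun x _ => XV_le_group hp x)
    (fun _ => rfl) _

end Groups

theorem hasFilt_group {D : ChevalleyDatum} {l : ℕ} {M : CoxeterMatrix (Fin l)} (hp : IsType D l M) (K : Type u)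
    [Field K] [Finite K] (p : ℕ) [CharP K p] : HasFilt p ↥(D.group K) := by
  have : Fact p.Prime := ⟨CharP.char_is_prime K p⟩
  exact ⟨l, M, cartanOf D l, hp.isCartan, _, _, _, rgd (K := K) hp M.toCoxeterSystem p, _,
    finite_W hp M.toCoxeterSystem, G1_eq_top hp _, filt hp M.toCoxeterSystem p⟩

theorem hasFilt_G2 (K : Type u) [Field K] [Finite K] (p : ℕ) [CharP K p] : HasFilt p ↥(chevG2.group K) :=
  hasFilt_group (l := 2) (M := CoxeterMatrix.G₂) (by simp [IsType, typeList]) K p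

theorem hasFilt_B2 (K : Type u) [Field K] [Finite K] (p : ℕ) [CharP K p] : HasFilt p ↥(chevB2.group K) :=
  hasFilt_group (l := 2) (M := CoxeterMatrix.B 2) (by simp [IsType, typeList]) K p

theorem hasFilt_D4 (K : Type u) [Field K] [Finite K] (p : ℕ) [CharP K p] : HasFilt p ↥(chevD4.group K) :=
  hasFilt_group (l := 4) (M := coxeterD4) (by simp [IsType, typeList]) K p

theorem hasFilt_F4 (K : Type u) [Field K] [Finite K] (p : ℕ) [CharP K p] : HasFilt p ↥(chevF4.group K) :=
  hasFilt_group (l := 4) (M := CoxeterMatrix.F₄) (by simp [IsType, typeList]) K p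

theorem hasFilt_E6 (K : Type u) [Field K] [Finite K] (p : ℕ) [CharP K p] : HasFilt p ↥(chevE6.group K) :=
  hasFilt_group (l := 6) (M := CoxeterMatrix.E₆) (by simp [IsType, typeList]) K p

theorem hasFilt_E7 (K : Type u) [Field K] [Finite K] (p : ℕ) [CharP K p] : HasFilt p ↥(chevE7.group K) :=
  hasFilt_group (l := 7) (M := CoxeterMatrix.E₇) (by simp [IsType, typeList]) K p

theorem hasFilt_E8 (K : Type u) [Field K] [Finite K] (p : ℕ) [CharP K p] : HasFilt p ↥(chevE8.group K) :=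
  hasFilt_group (l := 8) (M := CoxeterMatrix.E₈) (by simp [IsType, typeList]) K p

/-- Every exceptional Chevalley group of characteristic `p` has a filtered root group datum of characteristic `p`. -/
theorem hasFilt_of_exceptional {p : ℕ} {G : Type*} [Group G] (hG : IsExceptionalChevChar p G) : HasFilt p G := by
  obtain ⟨F, _, _, _, ⟨-, ⟨e⟩⟩ | ⟨⟨e⟩⟩ | ⟨⟨e⟩⟩ | ⟨⟨e⟩⟩ | ⟨⟨e⟩⟩⟩ := hG
  · exact (hasFilt_G2 F p).of_equiv e.symm
  · exact (hasFilt_F4 F p).of_equiv e.symm
  · exact (hasFilt_E6 F p).of_equiv e.symm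
  · exact (hasFilt_E7 F p).of_equiv e.symm
  · exact (hasFilt_E8 F p).of_equiv e.symm

end Cfsg.Agent.KFacts.RgdFiltChev
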