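import Cfsg.Agent.KFacts.RgdFiltTw
import Cfsg.Agent.Nodes.RGDTwAll

/-!
Filtered root group data of the twisted groups `³D₄(q)`, `²E₆(q)` (helper650): `hasFilt_of_twisted`.
-/

set_option autoImplicit false
set_option linter.unusedSectionVars false

namespace Cfsg.Agent.KFacts.RgdFiltTwAll

open CoxeterSystem Cfsg.Agent.ChevalleyStructure.CoxeterGeom Cfsg.Agent.Tits.Roots Cfsg.Agent.Tits.Core
  Cfsg.Agent.Nodes.BNOf Cfsg.Agent.Nodes.RGDTwGen Cfsg.Agent.Nodes.RGDChev Cfsg.Agent.Nodes.RGDFold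
open Cfsg.Lie Cfsg.Agent.ChevalleyStructure Cfsg.Agent.ChevalleyStructure.Elts
  Cfsg.Agent.ChevalleyStructure.RootVec Cfsg.Agent.ChevalleyStructure.RootVecTab
open Cfsg.Agent.Nodes Cfsg.Agent.KFacts.RgdBorelTits Cfsg.Agent.KFacts.RgdFilt

universe u

section Group

variable {D : ChevalleyDatum} {l : ℕ} {M' : CoxeterMatrix (Fin l)} {hp : IsType D l M'} {K : Type u} [Field K]
variable {m : ℕ} {M : CoxeterMatrix (Fin m)} {W : Type*} [Group W] (cs : CoxeterSystem M W)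
  {A : Fin m → Fin m → ℤ} (h : IsCartan M A)
variable {J : Fin m → List (Fin l)} {L : List (List ℕ)} {σ : GL D.Idx K →* GL D.Idx K} {ρ ρ' : ℕ → ℕ}
    {f : ℕ → K → K} {G : Subgroup (GL D.Idx K)} (FD : FoldData D M A J L)
    (FG : FoldGrp hp K J L σ ρ ρ' f G)

include FD FG

theorem intComm_fold [Finite K] (p : ℕ) [Fact p.Prime] [CharP K p] : IntComm cs h (R D hp K J σ) := by
  have : Finite W := finite_W (hp := hp) cs h FD
  refine RgdFiltTw.intComm (twIn cs h FD FG p) ?_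
  intro r hr s hs hrs hneg k hk
  obtain ⟨⟨v, C, i, j⟩, hv, rfl⟩ := hk
  obtain ⟨hv1, -, -, hi, hj, hvec⟩ := commTerms_rt hp.checked hv
  refine ⟨j, i, by exact_mod_cast hj, by exact_mod_cast hi, ?_⟩
  exact V_linear fun a => by rw [hvec]; ring

theorem filt_fold [Finite K] (p : ℕ) [Fact p.Prime] [CharP K p] :
    Filt (rgd cs h FD FG p) (fun x s => (F2 (R D hp K J σ) (R D hp K J σ) x s).subgroupOf G) :=
  filt_restrict (R := rgd_GL cs h FD FG p) (intComm_fold cs h FD FG p).filt G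
    (fun _ hz => R_le cs h FD FG p hz) (fun _ => rfl) _

theorem hasFilt_fold [Finite K] (p : ℕ) [CharP K p] (h : IsCartan M A) : HasFilt p ↥G := by
  have : Fact p.Prime := ⟨CharP.char_is_prime K p⟩
  exact ⟨m, M, A, h, _, _, _, rgd M.toCoxeterSystem h FD FG p, _, finite_W (hp := hp) M.toCoxeterSystem h FD,
    G1_eq_top M.toCoxeterSystem h FD FG p, filt_fold M.toCoxeterSystem h FD FG p⟩

end Group

theorem hasFilt_D4 {K : Type u} [Field K] [Fintype K] {q : ℕ} (hq : IsPrimePow q) (hK : Fintype.card K = q ^ 3)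
    (p : ℕ) [CharP K p] : HasFilt p ↥(twistedD4 K q) := by
  obtain ⟨φ, hφ⟩ := D4Fixed.exists_frob hq hK
  exact hasFilt_fold RGDTwD4.foldData (RGDTwD4.foldGrp hφ (D4Fixed.twisted_le_fix hK hφ)) p RGDTwD4.isCartan

theorem hasFilt_E6 {K : Type u} [Field K] [Fintype K] {q : ℕ} (hq : IsPrimePow q) (hK : Fintype.card K = q ^ 2)
    (p : ℕ) [CharP K p] : HasFilt p ↥(twistedE6 K q) := by
  obtain ⟨φ, hφ, hqq⟩ := TwE6Basic.exists_frob hq hK
  exact hasFilt_fold RGDTwE6.foldData (RGDTwE6.foldGrp hφ hqq) p RGDTwE6.isCartan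

/-- Every group `²E₆(q)`, `³D₄(q)` of characteristic `p` has a filtered root group datum of characteristic `p`. -/
theorem hasFilt_of_twisted {p : ℕ} {G : Type*} [Group G] (hG : IsTwistedE6D4Char p G) : HasFilt p G := by
  obtain ⟨K, _, _, _, q, hq, ⟨hK, ⟨e⟩⟩ | ⟨hK, ⟨e⟩⟩⟩ := hG
  · exact (hasFilt_E6 hq hK p).of_equiv e.symm
  · exact (hasFilt_D4 hq hK p).of_equiv e.symm

end Cfsg.Agent.KFacts.RgdFiltTwAll
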