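import Cfsg.Agent.KFacts.RgdFilt
import Cfsg.Agent.Nodes.WittAll
import Cfsg.Agent.Nodes.SimplyLaced

/-!
The filtration of the root group datum of a Witt frame (all classical groups of type `B`, `C`, `BC`), helper650:
`two : Two R (zr Fr)` for every root group datum `R` with the root groups `WittRoot.rg Fr`; hence
`Filt R (F2 (zr Fr) (rg Fr))`.
-/

set_option autoImplicit false
set_option linter.unusedSectionVars false

namespace Cfsg.Agent.KFacts.RgdFiltWitt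

open Cfsg.Agent.ChevalleyStructure.CoxeterGeom Cfsg.Agent.Tits.Roots Cfsg.Agent.Nodes.TypeC
open Cfsg.Agent.Nodes.Comb Cfsg.Agent.Nodes.Reps Cfsg.Agent.Nodes.BNOf Cfsg.Agent.Nodes.WittRoot
open Cfsg.Agent.TitsThree.Siegel Cfsg.Agent.TitsThree.WittFrame Cfsg.Agent.TitsThree.WittWeyl
open Cfsg.Agent.KFacts.RgdBorelTits Cfsg.Agent.KFacts.RgdFilt
open scoped commutatorElement

/-- simply laced root systems -/
theorem sl_of_ne {I W : Type*} [Fintype I] [DecidableEq I] [Group W] [Finite W] {M : CoxeterMatrix I}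
    {cs : CoxeterSystem M W} {A : I → I → ℤ} {h : IsCartan M A} (h4 : ∀ i j, M i j ≠ 4) (h6 : ∀ i j, M i j ≠ 6) :
    RgdSL.SL cs h := fun _ _ hx hy => Nodes.SimplyLaced.cpr_symm cs h h4 h6 hx hy

variable {F : Type*} [Field F] {V : Type*} [AddCommGroup V] [Module F V] {H : HForm F V} {n : ℕ}
  (Fr : Frame H (Fin n))

/-! ### the central parts -/

/-- the elements `Z a (0, c)` -/
def Z0G (a : Fin n × Bool) : Subgroup (V ≃ₗ[F] V) where
  carrier := {g | ∃ p : Fr.Adm, p.w = 0 ∧ g = Fr.Z a p}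
  one_mem' := ⟨1, rfl, (Fr.Z_one a).symm⟩
  mul_mem' := by
    rintro _ _ ⟨s, hs, rfl⟩ ⟨t, ht, rfl⟩
    exact ⟨s * t, by rw [Frame.Adm.mul_w, hs, ht, add_zero], (Fr.Z_mul a s t).symm⟩
  inv_mem' := by
    rintro _ ⟨t, ht, rfl⟩
    exact ⟨t⁻¹, by rw [Frame.Adm.inv_w, ht, neg_zero], (Fr.Z_inv a t).symm⟩

theorem Z0G_le (a : Fin n × Bool) : Z0G Fr a ≤ ZG Fr a := by
  rintro _ ⟨p, -, rfl⟩
  exact ⟨p, rfl⟩

/-- level one -/
def ZP (a b : Fin n × Bool) : Subgroup (V ≃ₗ[F] V) := if a = b then Z0G Fr a else XG Fr a b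

theorem ZP_self (a : Fin n × Bool) : ZP Fr a a = Z0G Fr a := if_pos rfl
theorem ZP_ne {a b : Fin n × Bool} (h : a.1 ≠ b.1) : ZP Fr a b = XG Fr a b :=
  if_neg fun h' => h (congrArg Prod.fst h')

theorem ZP_swap {a b : Fin n × Bool} (h : Ok a b) : ZP Fr a b = ZP Fr b a := by
  rcases h with h | rfl
  · rw [ZP_ne Fr h, ZP_ne Fr h.symm, XG_swap Fr h]
  · rfl

theorem ZP_le {a b : Fin n × Bool} (h : Ok a b) : ZP Fr a b ≤ PG Fr a b := by
  rcases h with h | rfl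
  · rw [ZP_ne Fr h, PG_ne Fr h]
  · rw [ZP_self, PG_self]; exact Z0G_le Fr a

/-- the level one part of the root group of a root -/
def zr (x : Fin n → ℤ) : Subgroup (V ≃ₗ[F] V) :=
  ⨆ q : {q : (Fin n × Bool) × (Fin n × Bool) // Ok q.1 q.2 ∧ ee x = wt q.1 + wt q.2}, ZP Fr q.1.1 q.1.2

theorem zr_eq {x : Fin n → ℤ} {a b : Fin n × Bool} (hab : Ok a b) (e : ee x = wt a + wt b) :
    zr Fr x = ZP Fr a b := by
  apply le_antisymm
  · refine iSup_le ?_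
    rintro ⟨⟨c, d⟩, hcd, e'⟩
    rcases wt_add_eq hab hcd (e.symm.trans e') with ⟨rfl, rfl⟩ | ⟨rfl, rfl⟩
    · exact le_rfl
    · exact (ZP_swap Fr hcd).le
  · exact le_iSup (fun q : {q : (Fin n × Bool) × (Fin n × Bool) // Ok q.1 q.2 ∧ ee x = wt q.1 + wt q.2} =>
      ZP Fr q.1.1 q.1.2) ⟨(a, b), hab, e⟩

variable {Fr} {G0 : Subgroup (V ≃ₗ[F] V)} {p0 : ℕ} (hA : Nodes.WittAll.AmbT Fr p0 G0)

section

include hA

theorem conj_ZP {g : V ≃ₗ[F] V} (hg : g ∈ G0) {π ρ : Fin n × Bool → Fin n × Bool} (hm : Mono Fr g π)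
    (hρ : ∀ x, π (ρ x) = x) {a b : Fin n × Bool} (hab : Ok a b)
    (hne : a.1 ≠ b.1 → (π a).1 ≠ (π b).1) : cj g (ZP Fr a b) ≤ ZP Fr (π a) (π b) := by
  rintro u hu
  rw [mem_cj] at hu
  have e0 : u = g * (g⁻¹ * u * g) * g⁻¹ := by group
  rcases hab with h | rfl
  · rw [ZP_ne Fr h] at hu
    obtain ⟨t, ht⟩ := hu
    obtain ⟨l, -, hl⟩ := hm a
    obtain ⟨m, -, hm'⟩ := hm b
    rw [e0, ht, conj_X Fr (hA.iso g hg) h (hne h) hl hm', ZP_ne Fr (hne h)]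
    exact ⟨_, rfl⟩
  · rw [ZP_self] at hu ⊢
    obtain ⟨p, hp0, hp⟩ := hu
    obtain ⟨l, -, hl⟩ := hm a
    obtain ⟨q, hq, hq'⟩ := hA.exists_adm hg hm hρ p
    rw [e0, hp, conj_Z Fr (hA.iso g hg) hl p q hq hq']
    have hq0 : q.w = 0 := by rw [← hq, hp0, map_zero]
    exact ⟨_, by rw [Frame.Adm.smul_w, hq0, smul_zero], rfl⟩

theorem cj_sg {g : V ≃ₗ[F] V} (hg : g ∈ G0) {i : Fin n} (hm : Mono Fr g (sg i)) {a b : Fin n × Bool}
    (hab : Ok a b) : cj g (ZP Fr a b) = ZP Fr (sg i a) (sg i b) := by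
  have hm' : Mono Fr g⁻¹ (sg i) := hm.inv (sg_sg i)
  apply le_antisymm
  · exact conj_ZP hA hg hm (sg_sg i) hab fun h h' => h ((sg_fst_eq i).1 h')
  · have h1 := conj_ZP hA (inv_mem hg) hm' (sg_sg i) (hab.sg i) fun h h' => h ((sg_fst_eq i).1 h')
    rw [sg_sg, sg_sg] at h1
    have h2 := cj_mono g h1
    rwa [cj_cj_inv] at h2

theorem cj_id {g : V ≃ₗ[F] V} (hg : g ∈ G0) (hm : Mono Fr g id) {a b : Fin n × Bool}
    (hab : Ok a b) : cj g (ZP Fr a b) = ZP Fr a b := by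
  have hm' : Mono Fr g⁻¹ id := hm.inv fun _ => rfl
  apply le_antisymm
  · exact conj_ZP hA hg hm (ρ := id) (fun _ => rfl) hab fun h => h
  · have h1 := conj_ZP hA (inv_mem hg) hm' (ρ := id) (fun _ => rfl) hab fun h => h
    have h2 := cj_mono g h1
    rwa [cj_cj_inv] at h2

end

theorem PG_le_normalizer_ZP {a b : Fin n × Bool} (h : Ok a b) :
    PG Fr a b ≤ Subgroup.normalizer (ZP Fr a b : Set (V ≃ₗ[F] V)) := by
  rcases h with h | rfl
  · rw [PG_ne Fr h, ZP_ne Fr h]; exact Subgroup.le_normalizer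
  · rw [PG_self, ZP_self]
    rintro _ ⟨p, rfl⟩
    have key : ∀ q : Fr.Adm, q.w = 0 → Fr.Z a p * Fr.Z a q * (Fr.Z a p)⁻¹ = Fr.Z a q := by
      intro q hq
      have h1 : p * q = q * p := by
        ext
        · rw [Frame.Adm.mul_w, Frame.Adm.mul_w, add_comm]
        · rw [Frame.Adm.mul_c, Frame.Adm.mul_c, hq, H.zero_left, H.zero_right]; ring
      rw [← Fr.Z_mul, h1, Fr.Z_mul, mul_inv_cancel_right]
    rw [Subgroup.mem_normalizer_iff]
    intro g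
    constructor
    · rintro ⟨q, hq, rfl⟩
      exact ⟨q, hq, key q hq⟩
    · rintro ⟨q, hq, e⟩
      refine ⟨q, hq, ?_⟩
      have h1 := key q hq
      rw [← e] at h1
      have h2 : Fr.Z a p * (Fr.Z a p * g * (Fr.Z a p)⁻¹) * (Fr.Z a p)⁻¹ = Fr.Z a p * g * (Fr.Z a p)⁻¹ := h1
      have h3 : Fr.Z a p * g * (Fr.Z a p)⁻¹ = g := by
        have h4 := congrArg (fun u => (Fr.Z a p)⁻¹ * u * Fr.Z a p) h2
        simpa [mul_assoc] using h4
      rw [← h3, e]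

theorem eq_ng_of {a d : Fin n × Bool} (had : a.1 = d.1) (had' : ¬ d = a) : d = ng a := by
  obtain ⟨a, s⟩ := a
  obtain ⟨d, t⟩ := d
  simp only at had
  subst had
  cases s <;> cases t <;> simp_all [ng]

/-! ### the values of a functional -/

theorem exists_phi {W : Type*} [Group W] (cs : CoxeterSystem (CoxeterMatrix.B n) W) (f : Fin n → ℝ) : ∃ φ : Fin n × Bool → ℝ, (∀ a, φ (ng a) = -φ a) ∧
    ∀ (z : Fin n → ℤ) (a b : Fin n × Bool), ee z = wt a + wt b → ev f z = φ a + φ b := by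
  choose xl hxl using fun a : Fin n × Bool => exists_long cs a
  refine ⟨fun a => ev f (xl a) / 2, fun a => ?_, fun z a b e => ?_⟩
  · have h1 : xl (ng a) = -xl a := by
      apply ee_injective
      rw [hxl, ee_neg, hxl, wt_ng, neg_add]
    show ev f (xl (ng a)) / 2 = -(ev f (xl a) / 2)
    rw [h1, ev_neg]; ring
  · have h1 : (2 : ℤ) • z = xl a + xl b := by
      apply ee_injective
      rw [ee_smul, ee_add, hxl, hxl, e, two_smul]
      abel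
    have h2 := congrArg (ev f) h1
    rw [ev_smul, map_add] at h2
    push_cast at h2
    show ev f z = ev f (xl a) / 2 + ev f (xl b) / 2
    linarith

/-! ### commutators -/

section Comm

variable {W : Type*} [Group W] {cs : CoxeterSystem (CoxeterMatrix.B n) W}

/-- the target -/
noncomputable def tgt (Fr : Frame H (Fin n)) (cs : CoxeterSystem (CoxeterMatrix.B n) W) (f : Fin n → ℝ)
    (x y : Fin n → ℤ) : Subgroup (V ≃ₗ[F] V) :=
  FS (fun z => F2 (zr Fr) (rg Fr) z (ev f z)) {z | Btwn cs (isCartan n) x y z}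

theorem tgt_symm (f : Fin n → ℝ) (x y : Fin n → ℤ) : tgt Fr cs f x y = tgt Fr cs f y x := by
  unfold tgt
  congr 1
  ext z
  exact ⟨fun h => Btwn.symm h, fun h => Btwn.symm h⟩

theorem mem_short {f : Fin n → ℝ} {φ : Fin n × Bool → ℝ}
    (hφ : ∀ (z : Fin n → ℤ) (a b : Fin n × Bool), ee z = wt a + wt b → ev f z = φ a + φ b)
    {x y : Fin n → ℤ} {u v : Fin n × Bool} (huv : u.1 ≠ v.1) {m c d : ℤ} (hm : 0 < m) (hc : 0 < c)
    (hd : 0 < d) (e : m • (wt u + wt v) = c • ee x + d • ee y) (hl : 1 ≤ φ u + φ v) (t : F) :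
    Fr.X u v t ∈ tgt Fr cs f x y := by
  obtain ⟨z, hz, ez⟩ := rt_of_ok (cs := cs) (Or.inl huv : Ok u v)
  refine le_FS (G := fun z => F2 (zr Fr) (rg Fr) z (ev f z)) (z := z)
    (show Btwn cs (isCartan n) x y z from ⟨hz, m, c, d, hm, hc, hd, ee_injective ?_⟩) ?_
  · rw [ee_smul, ee_add, ee_smul, ee_smul, ez, e]
  · show Fr.X u v t ∈ F2 (zr Fr) (rg Fr) z (ev f z)
    refine le_F2 ?_ ?_ ?_
    · rw [zr_eq Fr (Or.inl huv) ez, rg_eq Fr (Or.inl huv) ez]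
      exact ZP_le Fr (Or.inl huv)
    · rw [hφ z u v ez]; exact hl
    · rw [zr_eq Fr (Or.inl huv) ez, ZP_ne Fr huv]
      exact ⟨t, rfl⟩

theorem mem_long {f : Fin n → ℝ} {φ : Fin n × Bool → ℝ}
    (hφ : ∀ (z : Fin n → ℤ) (a b : Fin n × Bool), ee z = wt a + wt b → ev f z = φ a + φ b)
    {x y : Fin n → ℤ} {u : Fin n × Bool} {m c d : ℤ} (hm : 0 < m) (hc : 0 < c)
    (hd : 0 < d) (e : m • (wt u + wt u) = c • ee x + d • ee y) (p : Fr.Adm)
    (hl : 2 ≤ φ u + φ u ∨ (p.w = 0 ∧ 1 ≤ φ u + φ u)) : Fr.Z u p ∈ tgt Fr cs f x y := by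
  obtain ⟨z, hz, ez⟩ := rt_of_ok (cs := cs) (Or.inr rfl : Ok u u)
  refine le_FS (G := fun z => F2 (zr Fr) (rg Fr) z (ev f z)) (z := z)
    (show Btwn cs (isCartan n) x y z from ⟨hz, m, c, d, hm, hc, hd, ee_injective ?_⟩) ?_
  · rw [ee_smul, ee_add, ee_smul, ee_smul, ez, e]
  · show Fr.Z u p ∈ F2 (zr Fr) (rg Fr) z (ev f z)
    rcases hl with hl | ⟨hw, hl⟩
    · rw [← hφ z u u ez] at hl
      rw [F2_two hl, rg_eq Fr (Or.inr rfl) ez, PG_self]
      exact ⟨p, rfl⟩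
    · refine le_F2 ?_ ?_ ?_
      · rw [zr_eq Fr (Or.inr rfl) ez, rg_eq Fr (Or.inr rfl) ez]
        exact ZP_le Fr (Or.inr rfl)
      · rw [hφ z u u ez]; exact hl
      · rw [zr_eq Fr (Or.inr rfl) ez, ZP_self]
        exact ⟨p, hw, rfl⟩

variable {f : Fin n → ℝ} {φ : Fin n × Bool → ℝ} (hng : ∀ a, φ (ng a) = -φ a)
    (hφ : ∀ (z : Fin n → ℤ) (a b : Fin n × Bool), ee z = wt a + wt b → ev f z = φ a + φ b)

include hng hφ

/-- `[X_{a,-b}, Z_b]` -/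
theorem cXZ {x y : Fin n → ℤ} {a b : Fin n × Bool} (hab : a.1 ≠ b.1) (ex : ee x = wt a + wt (ng b))
    (ey : ee y = wt b + wt b) {g k : V ≃ₗ[F] V} (hg : g ∈ XG Fr a (ng b)) (hk : k ∈ ZG Fr b)
    (hl : (1 ≤ ev f x ∧ 0 ≤ ev f y) ∨ (0 ≤ ev f x ∧ 2 ≤ ev f y) ∨ (0 ≤ ev f x ∧ 1 ≤ ev f y ∧ k ∈ Z0G Fr b)) :
    ⁅g, k⁆ ∈ tgt Fr cs f x y := by
  obtain ⟨t, rfl⟩ := hg
  obtain ⟨p, hp⟩ : ∃ p : Fr.Adm, k = Fr.Z b p ∧ (k ∈ Z0G Fr b → p.w = 0) := by
    by_cases h0 : k ∈ Z0G Fr b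
    · obtain ⟨p, hp, e⟩ := h0
      exact ⟨p, e, fun _ => hp⟩
    · obtain ⟨p, e⟩ := hk
      exact ⟨p, e, fun h => absurd h h0⟩
  obtain ⟨rfl, hw⟩ := hp
  rw [hφ x _ _ ex, hφ y _ _ ey, hng] at hl
  have e1 := Fr.conj_X_Z hab t p
  have e2 : ⁅Fr.X a (ng b) t, Fr.Z b p⁆ = Fr.Z a (Frame.Adm.smul (H.σ t) p) *
      Fr.X a b (-(H.ε⁻¹ * Fr.η b * H.σ p.c * t)) := by
    rw [commutatorElement_def]
    have e3 : Fr.X a (ng b) t * Fr.Z b p * (Fr.X a (ng b) t)⁻¹ = _ := e1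
    rw [e3]; group
  rw [e2]
  refine mul_mem ?_ ?_
  · refine mem_long hφ (m := 1) (c := 2) (d := 1) one_pos (by norm_num) one_pos ?_ _ ?_
    · rw [ex, ey, one_smul, one_smul, two_smul, wt_ng]; abel
    · rcases hl with ⟨h1, h2⟩ | ⟨h1, h2⟩ | ⟨h1, h2, h3⟩
      · left; linarith
      · left; linarith
      · right
        refine ⟨?_, by linarith⟩
        rw [Frame.Adm.smul_w, hw h3, smul_zero]
  · refine mem_short hφ hab (m := 1) (c := 1) (d := 1) one_pos one_pos one_pos ?_ ?_ _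
    · rw [ex, ey, one_smul, one_smul, one_smul, wt_ng]; abel
    · rcases hl with ⟨h1, h2⟩ | ⟨h1, h2⟩ | ⟨h1, h2, h3⟩ <;> linarith

/-- `[X_{a,b}, X_{-b,d}]` -/
theorem cXX_ne {x y : Fin n → ℤ} {a b d : Fin n × Bool} (hab : a.1 ≠ b.1) (hbd : b.1 ≠ d.1) (had : a.1 ≠ d.1)
    (ex : ee x = wt a + wt b) (ey : ee y = wt (ng b) + wt d) {g k : V ≃ₗ[F] V} (hg : g ∈ XG Fr a b)
    (hk : k ∈ XG Fr (ng b) d) (hl : 1 ≤ ev f x + ev f y) : ⁅g, k⁆ ∈ tgt Fr cs f x y := by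
  obtain ⟨s, rfl⟩ := hg
  obtain ⟨t, rfl⟩ := hk
  rw [hφ x _ _ ex, hφ y _ _ ey, hng] at hl
  have e1 := Fr.conj_X_X hab hbd had s t
  have e2 : ⁅Fr.X a b s, Fr.X (ng b) d t⁆ = Fr.X a d (s * t) := by
    rw [commutatorElement_def]
    have e3 : Fr.X a b s * Fr.X (ng b) d t * (Fr.X a b s)⁻¹ = _ := e1
    rw [e3]
    exact mul_inv_cancel_right _ _
  rw [e2]
  refine mem_short hφ had (m := 1) (c := 1) (d := 1) one_pos one_pos one_pos ?_ ?_ _
  · rw [ex, ey, one_smul, one_smul, one_smul, wt_ng]; abel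
  · linarith

/-- `[X_{a,b}, X_{a,-b}]` -/
theorem cXX_eq {x y : Fin n → ℤ} {a b : Fin n × Bool} (hab : a.1 ≠ b.1)
    (ex : ee x = wt a + wt b) (ey : ee y = wt a + wt (ng b)) {g k : V ≃ₗ[F] V} (hg : g ∈ XG Fr a b)
    (hk : k ∈ XG Fr a (ng b)) (hl : 1 ≤ ev f x + ev f y) : ⁅g, k⁆ ∈ tgt Fr cs f x y := by
  obtain ⟨s, rfl⟩ := hg
  obtain ⟨t, rfl⟩ := hk
  rw [hφ x _ _ ex, hφ y _ _ ey, hng] at hl
  have e1 := Fr.X_mul_X_same hab s t
  have e2 : ⁅Fr.X a b s, Fr.X a (ng b) t⁆ = Fr.Z a (Frame.Adm.tr (H.σ s * t * (Fr.η (neg b))⁻¹)) := by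
    rw [commutatorElement_def]
    have e3 : Fr.X a b s * Fr.X a (ng b) t = _ := e1
    rw [e3]
    show _ * (Fr.X a (ng b) t * Fr.X a b s) * (Fr.X a b s)⁻¹ * (Fr.X a (ng b) t)⁻¹ = _
    group
  rw [e2]
  refine mem_long hφ (m := 1) (c := 1) (d := 1) one_pos one_pos one_pos ?_ _ (Or.inr ⟨rfl, ?_⟩)
  · rw [ex, ey, one_smul, one_smul, one_smul, wt_ng]; abel
  · linarith

theorem cXX {x y : Fin n → ℤ} {a b c d : Fin n × Bool} (hab : a.1 ≠ b.1) (hcd : c.1 ≠ d.1) (hc : c = ng b)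
    (ex : ee x = wt a + wt b) (ey : ee y = wt c + wt d) (hxy : x ≠ -y) {g k : V ≃ₗ[F] V} (hg : g ∈ XG Fr a b)
    (hk : k ∈ XG Fr c d) (hl : 1 ≤ ev f x + ev f y) : ⁅g, k⁆ ∈ tgt Fr cs f x y := by
  subst hc
  by_cases had : a.1 = d.1
  · by_cases had' : d = a
    · subst had'
      rw [XG_swap Fr hcd] at hk
      exact cXX_eq hng hφ hab ex (by rw [ey, add_comm]) hg hk hl
    · exfalso
      have h1 : d = ng a := eq_ng_of had had'
      apply hxy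
      apply ee_injective
      rw [ee_neg, ex, ey, h1, wt_ng, wt_ng]; abel
  · exact cXX_ne hng hφ hab hcd had ex ey hg hk hl

/-- `[Z_a, Z_b]` -/
theorem cZZ {x y : Fin n → ℤ} {a b : Fin n × Bool} (hab : a.1 ≠ b.1) (ex : ee x = wt a + wt a)
    (ey : ee y = wt b + wt b) {g k : V ≃ₗ[F] V} (hg : g ∈ ZG Fr a) (hk : k ∈ ZG Fr b)
    (hl : 2 ≤ ev f x + ev f y ∨ g ∈ Z0G Fr a) : ⁅g, k⁆ ∈ tgt Fr cs f x y := by
  obtain ⟨q, rfl⟩ := hk
  rcases hl with hl | hl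
  · obtain ⟨p, rfl⟩ := hg
    rw [hφ x _ _ ex, hφ y _ _ ey] at hl
    rw [commutatorElement_def, Fr.Z_mul_Z hab]
    have e : Fr.X a b (-(Fr.η b * H.σ (H.h p.w q.w))) * (Fr.Z b q * Fr.Z a p) * (Fr.Z a p)⁻¹ * (Fr.Z b q)⁻¹ =
        Fr.X a b (-(Fr.η b * H.σ (H.h p.w q.w))) := by group
    rw [e]
    refine mem_short hφ hab (m := 2) (c := 1) (d := 1) (by norm_num) one_pos one_pos ?_ (by linarith) _
    rw [ex, ey, one_smul, one_smul, two_smul]; abel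
  · obtain ⟨p, hp, rfl⟩ := hl
    have e : ⁅Fr.Z a p, Fr.Z b q⁆ = 1 := by
      rw [commutatorElement_def, Fr.Z_mul_Z hab, hp, H.zero_left, map_zero, mul_zero, neg_zero, Fr.X_zero]
      group
    rw [e]
    exact one_mem _

/-- all pairs -/
theorem comm_tgt {x y : Fin n → ℤ} (hx : IsRoot cs (isCartan n) x) (hy : IsRoot cs (isCartan n) y) (hxy : x ≠ y)
    (hxy' : x ≠ -y) {g k : V ≃ₗ[F] V} (hg : g ∈ rg Fr x) (hk : k ∈ rg Fr y) (h0 : 0 ≤ ev f y)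
    (hl : 2 ≤ ev f x ∨ (1 ≤ ev f x ∧ g ∈ zr Fr x)) :
    ⁅g, k⁆ ∈ tgt Fr cs f x y := by
  obtain ⟨a, b, hab, ex⟩ := exists_of_isRoot cs hx
  obtain ⟨c, d, hcd, ey⟩ := exists_of_isRoot cs hy
  rw [rg_eq Fr hab ex] at hg
  rw [rg_eq Fr hcd ey] at hk
  rw [zr_eq Fr hab ex] at hl
  have h1x : 1 ≤ ev f x := by rcases hl with h | h; linarith; exact h.1
  have hsymm : ⁅k, g⁆ ∈ tgt Fr cs f y x → ⁅g, k⁆ ∈ tgt Fr cs f x y := by
    intro h1
    rw [tgt_symm, ← commutatorElement_inv]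
    exact inv_mem h1
  rcases hab with hab | rfl
  · rcases hcd with hcd | rfl
    · rw [PG_ne Fr hab] at hg
      rw [PG_ne Fr hcd] at hk
      have hs : 1 ≤ ev f x + ev f y := by linarith
      by_cases h1 : c = ng b
      · exact cXX hng hφ hab hcd h1 ex ey hxy' hg hk hs
      by_cases h2 : c = ng a
      · rw [XG_swap Fr hab] at hg
        exact cXX hng hφ hab.symm hcd h2 (by rw [ex, add_comm]) ey hxy' hg hk hs
      by_cases h3 : d = ng b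
      · rw [XG_swap Fr hcd] at hk
        exact cXX hng hφ hab hcd.symm h3 ex (by rw [ey, add_comm]) hxy' hg hk hs
      by_cases h4 : d = ng a
      · rw [XG_swap Fr hab] at hg
        rw [XG_swap Fr hcd] at hk
        exact cXX hng hφ hab.symm hcd.symm h4 (by rw [ex, add_comm]) (by rw [ey, add_comm]) hxy' hg hk hs
      obtain ⟨s, rfl⟩ := hg
      obtain ⟨t, rfl⟩ := hk
      rw [commutatorElement_eq_one_iff_commute.2 (Fr.commute_XX (x := a) (y := b) (z := c) (u := d) h2 h1 h4 h3 s t)]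
      exact one_mem _
    · rw [PG_ne Fr hab] at hg
      rw [PG_self] at hk
      by_cases h1 : b = ng c
      · subst h1
        exact cXZ (a := a) (b := c) hng hφ hab ex ey hg hk (Or.inl ⟨h1x, h0⟩)
      by_cases h2 : a = ng c
      · subst h2
        rw [XG_swap Fr hab] at hg
        exact cXZ (a := b) (b := c) hng hφ hab.symm (by rw [ex, add_comm]) ey hg hk (Or.inl ⟨h1x, h0⟩)
      obtain ⟨t, rfl⟩ := hg
      obtain ⟨p, rfl⟩ := hk
      rw [commutatorElement_eq_one_iff_commute.2 (Fr.commute_ZX (x := c) (y := a) (z := b) h2 h1 p t).symm]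
      exact one_mem _
  · rcases hcd with hcd | rfl
    · rw [PG_self] at hg
      rw [PG_ne Fr hcd] at hk
      rw [ZP_self] at hl
      apply hsymm
      have hl' : (1 ≤ ev f y ∧ 0 ≤ ev f x) ∨ (0 ≤ ev f y ∧ 2 ≤ ev f x) ∨ (0 ≤ ev f y ∧ 1 ≤ ev f x ∧ g ∈ Z0G Fr a) := by
        rcases hl with h | h
        · exact Or.inr (Or.inl ⟨h0, h⟩)
        · exact Or.inr (Or.inr ⟨h0, h.1, h.2⟩)
      by_cases h1 : d = ng a
      · subst h1
        exact cXZ (a := c) (b := a) hng hφ hcd ey ex hk hg hl'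
      by_cases h2 : c = ng a
      · subst h2
        rw [XG_swap Fr hcd] at hk
        exact cXZ (a := d) (b := a) hng hφ hcd.symm (by rw [ey, add_comm]) ex hk hg hl'
      obtain ⟨t, rfl⟩ := hk
      obtain ⟨p, rfl⟩ := hg
      rw [commutatorElement_eq_one_iff_commute.2 (Fr.commute_ZX (x := a) (y := c) (z := d) h2 h1 p t).symm]
      exact one_mem _
    · rw [PG_self] at hg hk
      rw [ZP_self] at hl
      have hne : a.1 ≠ c.1 := by
        intro h1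
        by_cases h2 : a = c
        · subst h2
          exact hxy (ee_injective (ex.trans ey.symm))
        · have h3 : a = ng c := eq_ng_of h1.symm h2
          apply hxy'
          apply ee_injective
          rw [ee_neg, ex, ey, h3, wt_ng]; abel
      refine cZZ hng hφ hne ex ey hg hk ?_
      rcases hl with h | h
      · exact Or.inl (by linarith)
      · exact Or.inr h.2

end Comm

/-- **The two step filtration of a Witt frame.** -/
theorem two (hA : Nodes.WittAll.AmbT Fr p0 G0) {W : Type*} [Group W] {cs : CoxeterSystem (CoxeterMatrix.B n) W} {p : ℕ}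
    {T : Subgroup (V ≃ₗ[F] V)} {nn : Fin n → V ≃ₗ[F] V} (hn : ∀ i, nn i ∈ G0 ∧ Mono Fr (nn i) (sg i))
    (hT : ∀ t ∈ T, t ∈ G0 ∧ Mono Fr t id) (R : RGD cs (isCartan n) p T nn (rg Fr)) : Two R (zr Fr) where
  le x hx := by
    obtain ⟨a, b, hab, e⟩ := exists_of_isRoot cs hx
    rw [zr_eq Fr hab e, rg_eq Fr hab e]
    exact ZP_le Fr hab
  conj i x hx := by
    obtain ⟨a, b, hab, e⟩ := exists_of_isRoot cs hx
    rw [zr_eq Fr hab e, rep_simple, zr_eq Fr (hab.sg i) (ee_refl_of e)]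
    exact cj_sg hA (hn i).1 (hn i).2 hab
  tor x hx t ht := by
    obtain ⟨a, b, hab, e⟩ := exists_of_isRoot cs hx
    rw [zr_eq Fr hab e]
    exact cj_id hA (hT t ht).1 (hT t ht).2 hab
  nrm x hx := by
    obtain ⟨a, b, hab, e⟩ := exists_of_isRoot cs hx
    rw [zr_eq Fr hab e, rg_eq Fr hab e]
    exact PG_le_normalizer_ZP hab
  c1 f x y hx hy hxy hxy' h1 h0 a ha b hb := by
    obtain ⟨φ, hng, hφ⟩ := exists_phi cs f
    have ha' : a ∈ rg Fr x := by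
      obtain ⟨u, v, huv, e⟩ := exists_of_isRoot cs hx
      rw [zr_eq Fr huv e] at ha
      rw [rg_eq Fr huv e]
      exact ZP_le Fr huv ha
    exact comm_tgt hng hφ hx hy hxy hxy' ha' hb h0 (Or.inr ⟨h1, ha⟩)
  c2 f x y hx hy hxy hxy' h2 h0 a ha b hb := by
    obtain ⟨φ, hng, hφ⟩ := exists_phi cs f
    exact comm_tgt hng hφ hx hy hxy hxy' ha hb h0 (Or.inl h2)

end Cfsg.Agent.KFacts.RgdFiltWitt
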