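import Mathlib
import Cfsg.Agent.KFacts.RgdGraph
import Cfsg.Agent.KFacts.RgdPure

/-!
# Frame automorphisms of `p`-power order are standard in suitable coordinates, any diagram symmetry

`Sys R e` (characteristic two, root elements without signs).

* `exists_pure_semi` : `β (e' (w α_i) a) = e' (ŵ α_(σ i)) (τ i a)` for `e' r a = e r (d r * a)`;
* `exists_tor` : if the Cartan matrix is invertible over `ℤ` then `e r (d r * a) = s * e r a * s⁻¹`, `s ∈ T`.
-/

set_option autoImplicit false
set_option linter.unusedSectionVars false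

namespace Cfsg.Agent.KFacts.RgdGraphPure

open CoxeterSystem Cfsg.Agent.ChevalleyStructure.CoxeterGeom Cfsg.Agent.Tits.Roots Cfsg.Agent.Tits.Core
  Cfsg.Agent.Tits.Exchange Cfsg.Agent.Nodes.Reps Cfsg.Agent.Nodes.BNOf Cfsg.Agent.Nodes.StabComb
  Cfsg.Agent.Nodes.Bruhat Cfsg.Agent.Nodes.OppDec Cfsg.Agent.Nodes.LeviDec Cfsg.Agent.Nodes.NormalForm
  Cfsg.Agent.Nodes.Coroot Cfsg.Agent.Nodes.PosPair
  Cfsg.Agent.KFacts.RgdOpp Cfsg.Agent.KFacts.RgdAut Cfsg.Agent.KFacts.RgdDiag Cfsg.Agent.KFacts.RgdRigid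
  Cfsg.Agent.KFacts.RgdCent Cfsg.Agent.KFacts.RgdKap Cfsg.Agent.KFacts.RgdField Cfsg.Agent.KFacts.RgdTau
  Cfsg.Agent.KFacts.RgdSys Cfsg.Agent.KFacts.RgdPure Cfsg.Agent.KFacts.ChevTwo

variable {I W Y K : Type*} [Fintype I] [DecidableEq I] [Group W] [Group Y] [Field K] {M : CoxeterMatrix I}
variable {cs : CoxeterSystem M W} {A : I → I → ℤ} {h : IsCartan M A} {e : (I → ℤ) → K → Y}
  {p : ℕ} {T : Subgroup Y} {n : I → Y} {X : (I → ℤ) → Subgroup Y}

/-- The character of the root lattice with given values at the simple roots. -/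
theorem exists_char (dd : I → Kˣ) : ∃ d : (I → ℤ) →+ Additive Kˣ, ∀ i, (d (sr i)).toMul = dd i := by
  refine ⟨{ toFun := fun x => ∑ i, x i • Additive.ofMul (dd i)
            map_zero' := Finset.sum_eq_zero fun i _ => by rw [Pi.zero_apply, zero_smul]
            map_add' := fun x y => by
              rw [← Finset.sum_add_distrib]
              exact Finset.sum_congr rfl fun i _ => by rw [Pi.add_apply]; exact add_zsmul _ _ _ }, fun i => ?_⟩
  have : (∑ j, (sr i : I → ℤ) j • Additive.ofMul (dd j)) = Additive.ofMul (dd i) := by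
    rw [Finset.sum_eq_single i]
    · rw [sr_self, one_smul]
    · intro j _ hj; rw [sr_ne hj, zero_smul]
    · intro hi; exact absurd (Finset.mem_univ i) hi
  show (∑ j, (sr i : I → ℤ) j • Additive.ofMul (dd j)).toMul = dd i
  rw [this, toMul_ofMul]

theorem char_eq (d : (I → ℤ) →+ Additive Kˣ) (r : I → ℤ) : d r = ∑ k, r k • d (sr k) := by
  have h1 : r = ∑ k, r k • (sr k : I → ℤ) := by
    funext j
    rw [Finset.sum_apply, Finset.sum_eq_single j]
    · rw [Pi.smul_apply, sr_self, smul_eq_mul, mul_one]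
    · intro k _ hk
      rw [Pi.smul_apply, sr_ne (Ne.symm hk), smul_zero]
    · intro hj; exact absurd (Finset.mem_univ j) hj
  conv_lhs => rw [h1]
  rw [map_sum]
  exact Finset.sum_congr rfl fun k _ => map_zsmul _ _ _

section

variable {R : RGD cs h p T n X} (S : Sys R e)

include S

/-- **Frame automorphisms of `p`-power order are standard in suitable coordinates.** -/
theorem exists_pure_semi [Finite W] [Finite Y] [Finite K] [Fact p.Prime] (hG1 : RGD.Sup X {x | IsRoot cs h x} = ⊤)
    {β : MulAut Y} {σ : Equiv.Perm I} (D : Diag T X β σ) {k : ℕ} (hβ : β ^ p ^ k = 1) :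
    ∃ (τ : I → K ≃+* K) (d : (I → ℤ) →+ Additive Kˣ), Semi cs h T X e (chS e) β σ (D.matrix R) τ ∧
      ∀ w i a, β (sc e d (rep cs h w (sr i)) a) =
        sc e d (rep cs h (hat cs σ (D.matrix R) w) (sr (σ i))) (τ i a) := by
  have C := coords S hG1
  obtain ⟨τ, hτ⟩ := exists_semi R C D (D.matrix R)
  obtain ⟨u, hu, hβu⟩ := exists_equivariant R D hβ
  have h1 : ∀ i, ∃ c : Kˣ, e (sr i) (c : K) = u i := by
    intro i
    obtain ⟨c, hc, he⟩ := S.exists_e (isRoot_sr cs h i) (hu i).1 (hu i).2
    exact ⟨Units.mk0 c hc, he⟩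
  choose dd hdd using h1
  obtain ⟨d, hd⟩ := exists_char dd
  refine ⟨τ, d, hτ, ?_⟩
  intro w i
  obtain ⟨ω, rfl⟩ := cs.wordProd_surjective w
  induction ω with
  | nil =>
    intro a
    rw [wordProd_nil, map_one, map_one, map_one, Module.End.one_apply, Module.End.one_apply, sc, sc, hd, hd]
    obtain ⟨c, hc, hs⟩ := hτ.root 1 i
    simp only [map_one, Module.End.one_apply] at hs
    have h2 := hs (dd i : K)
    rw [hdd, hβu, ← hdd] at h2
    have h3 := S.data.injective (isRoot_sr cs h (σ i)) h2
    rw [hs, map_mul, h3, mul_assoc]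
  | cons j ω ih =>
    intro a
    have hx : IsRoot cs h (rep cs h (cs.wordProd ω) (sr i)) := ⟨_, _, rfl⟩
    have hσx : IsRoot cs h (rep cs h (hat cs σ (D.matrix R) (cs.wordProd ω)) (sr (σ i))) := ⟨_, _, rfl⟩
    rw [wordProd_cons, map_mul (hat cs σ (D.matrix R)), hat_simple, rep_mul_apply, rep_mul_apply]
    have h2 := (sc_data S d).refl j _ hx a
    have h3 := (sc_data S d).refl (σ j) _ hσx (τ i a)
    have h4 : β (nel (sc e d) (sr j)) = nel (sc e d) (sr (σ j)) := by
      rw [sc_nel, sc_nel, hd, hd]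
      refine apply_nc S hG1 D (Units.ne_zero _) (Units.ne_zero _) ?_
      rw [hdd, hβu, ← hdd]
    rw [← h2, map_mul, map_mul, map_inv, h4, ih, h3]

/-- Products of the elements `h_i(c_i)`. -/
theorem exists_prod [Finite W] (hG1 : RGD.Sup X {x | IsRoot cs h x} = ⊤) (c : I → Additive Kˣ) (l : List I) :
    ∃ s ∈ T, ∀ r, IsRoot cs h r → ∀ a, s * e r a * s⁻¹ =
      e r ((((l.map fun j => pairing A j r • c j).sum).toMul : Kˣ) * a) := by
  induction l with
  | nil =>
    refine ⟨1, one_mem _, fun r _ a => ?_⟩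
    rw [List.map_nil, List.sum_nil, toMul_zero, Units.val_one, one_mul, one_mul, inv_one, mul_one]
  | cons j l ih =>
    obtain ⟨s, hs, hsr⟩ := ih
    refine ⟨hel e (sr j) ((c j).toMul : Kˣ) * s,
      mul_mem (hel_mem S hG1 (isRoot_sr cs h j) (Units.ne_zero _)) hs, fun r hr a => ?_⟩
    rw [List.map_cons, List.sum_cons, toMul_add, toMul_zsmul, Units.val_mul, Units.val_zpow_eq_zpow_val]
    have h1 := S.data.tor j r hr _ (Units.ne_zero ((c j).toMul : Kˣ))
      ((((l.map fun j => pairing A j r • c j).sum).toMul : Kˣ) * a)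
    rw [mul_assoc ((((c j).toMul : Kˣ) : K) ^ pairing A j r), ← h1, ← hsr r hr]
    group

/-- **Every scaling is induced by the torus** if the Cartan matrix is invertible. -/
theorem exists_tor [Finite W] (hG1 : RGD.Sup X {x | IsRoot cs h x} = ⊤) (B : I → I → ℤ)
    (hB : ∀ k i, ∑ j, B k j * A j i = if k = i then 1 else 0) (d : (I → ℤ) →+ Additive Kˣ) :
    ∃ s ∈ T, ∀ r, IsRoot cs h r → ∀ a, s * e r a * s⁻¹ = sc e d r a := by
  obtain ⟨s, hs, h1⟩ := exists_prod S hG1 (fun j => ∑ k, B k j • d (sr k)) Finset.univ.toList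
  refine ⟨s, hs, fun r hr a => ?_⟩
  rw [h1 r hr, sc]
  have h2 : ((Finset.univ.toList.map fun j => pairing A j r • ∑ k, B k j • d (sr k)).sum) = d r := by
    rw [Finset.sum_map_toList, char_eq d r]
    calc ∑ j, pairing A j r • ∑ k, B k j • d (sr k) = ∑ j, ∑ k, (pairing A j r * B k j) • d (sr k) := by
          refine Finset.sum_congr rfl fun j _ => ?_
          rw [← Finset.sum_zsmul]
          exact Finset.sum_congr rfl fun k _ => by rw [mul_zsmul]
      _ = ∑ k, (∑ j, pairing A j r * B k j) • d (sr k) := by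
          rw [Finset.sum_comm]
          exact Finset.sum_congr rfl fun k _ =>
            (map_sum (zmultiplesHom (Additive Kˣ) (d (sr k))) (fun j => pairing A j r * B k j) Finset.univ).symm
      _ = _ := by
          refine Finset.sum_congr rfl fun k _ => ?_
          congr 1
          calc ∑ j, pairing A j r * B k j = ∑ j, ∑ i, B k j * A j i * r i := by
                refine Finset.sum_congr rfl fun j _ => ?_
                rw [pairing, Finset.sum_mul]
                exact Finset.sum_congr rfl fun i _ => by ring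
            _ = ∑ i, (∑ j, B k j * A j i) * r i := by
                rw [Finset.sum_comm]
                exact Finset.sum_congr rfl fun i _ => by rw [Finset.sum_mul]
            _ = r k := by
                rw [Finset.sum_eq_single k]
                · rw [hB, if_pos rfl, one_mul]
                · intro i _ hi
                  rw [hB, if_neg (Ne.symm hi), zero_mul]
                · intro hk; exact absurd (Finset.mem_univ k) hk
  rw [h2]

end

end Cfsg.Agent.KFacts.RgdGraphPure
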