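import Cfsg.Agent.KFacts.RgdFiltClass
import Cfsg.Agent.KFacts.RgdFiltChev
import Cfsg.Agent.KFacts.RgdFiltTwAll
import Cfsg.Agent.KFacts.RgdCharP
import Cfsg.Agent.KFacts.RgdAutFacts

/-!
Borel–Tits and its corollaries for the simple groups of Lie type, without root group data in the statements
(helper650).

* `conn_of_simple`, `noCent_of_center` : the diagram of a simple group is connected; `T` has no central elements;
* `HasFilt.exists_par` : Borel–Tits;
* `HasFilt.local_char`, `HasFilt.local_core` : `C_N(O_p(N)) ≤ O_p(N)`, `O_{p'}(N) = 1` for `N = N(K)`, `K ≠ 1` a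
  `p`-subgroup;
* `HasFilt.charTwo`, `HasFilt.core_two` : `IsCharacteristicTwoType`, `O(C(a)) = 1`;
* `hasFilt_of_lie` : all simple groups of Lie type of characteristic `p` except `Sz(q)`, `²F₄(q)`, `²G₂(q)`.
-/

set_option autoImplicit false
set_option linter.unusedSectionVars false

namespace Cfsg.Agent.KFacts.RgdLieCharP

open CoxeterSystem Cfsg.Agent.ChevalleyStructure.CoxeterGeom Cfsg.Agent.Tits.Roots
  Cfsg.Agent.Nodes.Reps Cfsg.Agent.Nodes.BNOf
  Cfsg.Agent.Nodes.Bruhat Cfsg.Agent.Nodes.OppDec Cfsg.Agent.Nodes.LeviDec Cfsg.Agent.Nodes.NormX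
  Cfsg.Agent.KFacts.RgdPar Cfsg.Agent.KFacts.RgdCent
  Cfsg.Agent.KFacts.RgdEx Cfsg.Agent.KFacts.RgdVJ Cfsg.Agent.KFacts.RgdCharP
  Cfsg.Agent.KFacts.RgdBorelTits Cfsg.Agent.KFacts.RgdFilt

variable {I W Y : Type*} [Fintype I] [DecidableEq I] [Group W] [Group Y] {M : CoxeterMatrix I}
  {cs : CoxeterSystem M W} {A : I → I → ℤ} {h : IsCartan M A} {p : ℕ} {T : Subgroup Y} {n : I → Y}
  {X : (I → ℤ) → Subgroup Y}

/-! ### disconnected diagrams -/

/-- Roots of a disconnected diagram are supported on one of the parts. -/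
theorem supp_or {J : Set I} (hJ : ∀ a ∈ J, ∀ b, b ∉ J → M a b = 2) {x : I → ℤ} (hx : IsRoot cs h x) :
    (∀ b, b ∉ J → x b = 0) ∨ (∀ a ∈ J, x a = 0) := by
  have hA : ∀ a ∈ J, ∀ b, b ∉ J → A a b = 0 ∧ A b a = 0 := by
    intro a ha b hb
    have hab : a ≠ b := fun e => hb (e ▸ ha)
    rcases h.rel a b hab with h1 | h1 | h1 | h1
    · exact h1.2
    all_goals
      have := hJ a ha b hb
      omega
  have key : ∀ (i : I) (x : I → ℤ), ((∀ b, b ∉ J → x b = 0) ∨ (∀ a ∈ J, x a = 0)) →
      ((∀ b, b ∉ J → rep cs h (cs.simple i) x b = 0) ∨ (∀ a ∈ J, rep cs h (cs.simple i) x a = 0)) := by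
    intro i x hx
    rcases hx with hx | hx
    · left
      intro b hb
      by_cases hbi : b = i
      · subst hbi
        rw [rep_simple_apply_self, hx b hb, zero_sub, neg_eq_zero]
        unfold pairing
        refine Finset.sum_eq_zero fun a _ => ?_
        by_cases ha : a ∈ J
        · rw [(hA a ha b hb).2]; ring
        · rw [hx a ha]; ring
      · rw [rep_simple_apply cs h i x b hbi, hx b hb]
    · right
      intro a ha
      by_cases hai : a = i
      · subst hai
        rw [rep_simple_apply_self, hx a ha, zero_sub, neg_eq_zero]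
        unfold pairing
        refine Finset.sum_eq_zero fun b _ => ?_
        by_cases hb : b ∈ J
        · rw [hx b hb]; ring
        · rw [(hA a ha b hb).1]; ring
      · rw [rep_simple_apply cs h i x a hai, hx a ha]
  obtain ⟨w, i, rfl⟩ := hx
  induction w using cs.simple_induction_left with
  | one =>
    rw [map_one, Module.End.one_apply]
    by_cases hi : i ∈ J
    · left
      intro b hb
      rw [sr, Pi.single_apply, if_neg (by rintro rfl; exact hb hi)]
    · right
      intro a ha
      rw [sr, Pi.single_apply, if_neg (by rintro rfl; exact hi ha)]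
  | mul_simple_left w j ih =>
    rw [rep_mul_apply]
    exact key j _ ih

/-- **The diagram of a simple group is connected.** -/
theorem conn_of_simple [IsSimpleGroup Y] (R : RGD cs h p T n X) (hG : RGD.Sup X {x | IsRoot cs h x} = ⊤)
    (hc : Subgroup.center Y = ⊥) : Conn M := by
  intro J hne hJ1
  by_contra hcon
  push Not at hcon
  have hJ : ∀ a ∈ J, ∀ b, b ∉ J → M a b = 2 := hcon
  set S1 : Set (I → ℤ) := {x | IsRoot cs h x ∧ ∀ b, b ∉ J → x b = 0} with hS1
  set S2 : Set (I → ℤ) := {x | IsRoot cs h x ∧ ∀ a ∈ J, x a = 0} with hS2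
  have hne0 : ∀ {x : I → ℤ}, IsRoot cs h x → x ≠ 0 := fun hx => hx.ne_zero
  -- the two parts commute
  have hcomm : ∀ x ∈ S1, ∀ y ∈ S2, ∀ u ∈ X x, ∀ v ∈ X y, u * v = v * u := by
    rintro x ⟨hx, hx'⟩ y ⟨hy, hy'⟩ u hu v hv
    have h1 : x ≠ y := by
      rintro rfl
      refine hne0 hx (funext fun k => ?_)
      by_cases hk : k ∈ J
      · exact hy' k hk
      · exact hx' k hk
    have h2 : x ≠ -y := by
      rintro rfl
      refine hne0 hy (funext fun k => ?_)
      by_cases hk : k ∈ J
      · exact hy' k hk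
      · have := hx' k hk
        rw [Pi.neg_apply, neg_eq_zero] at this
        exact this
    have h3 := R.comm x y hx hy h1 h2 u hu v hv
    have h4 : btw cs h X x y = ⊥ := by
      rw [eq_bot_iff]
      refine iSup_le ?_
      rintro ⟨z, hz⟩
      exfalso
      obtain ⟨hzr, m, i, j, hm, hi, hj, e⟩ := hz
      have e' : ∀ k, m * z k = i * x k + j * y k := fun k => by
        have := congrFun e k
        simpa using this
      rcases supp_or hJ hzr with hz1 | hz1
      · refine hne0 hy (funext fun k => ?_)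
        by_cases hk : k ∈ J
        · exact hy' k hk
        · have := e' k
          rw [hz1 k hk, hx' k hk, mul_zero, mul_zero, zero_add] at this
          exact (mul_eq_zero.1 this.symm).resolve_left hj.ne'
      · refine hne0 hx (funext fun k => ?_)
        by_cases hk : k ∈ J
        · have := e' k
          rw [hz1 k hk, hy' k hk, mul_zero, mul_zero, add_zero] at this
          exact (mul_eq_zero.1 this.symm).resolve_left hi.ne'
        · exact hx' k hk
    rw [h4, Subgroup.mem_bot, commutatorElement_eq_one_iff_mul_comm] at h3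
    exact h3
  set N1 := RGD.Sup X S1 with hN1
  set N2 := RGD.Sup X S2 with hN2
  have hcN : ∀ u ∈ N1, ∀ v ∈ N2, u * v = v * u := by
    have h1 : N1 ≤ Subgroup.centralizer (N2 : Set Y) := by
      rw [hN1]
      refine RGD.Sup_le fun x hx u hu => ?_
      rw [Subgroup.mem_centralizer_iff]
      have h2 : N2 ≤ Subgroup.centralizer {u} := by
        rw [hN2]
        refine RGD.Sup_le fun y hy v hv => ?_
        rw [Subgroup.mem_centralizer_singleton_iff]
        exact (hcomm x hx y hy u hu v hv).symm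
      intro v hv
      exact Subgroup.mem_centralizer_singleton_iff.1 (h2 hv)
    intro u hu v hv
    exact ((Subgroup.mem_centralizer_iff.1 (h1 hu)) v hv).symm
  have htop : N1 ⊔ N2 = ⊤ := by
    rw [eq_top_iff, ← hG]
    refine RGD.Sup_le fun x hx => ?_
    rcases supp_or hJ hx with h1 | h1
    · exact le_trans (RGD.le_Sup (S := S1) ⟨hx, h1⟩) le_sup_left
    · exact le_trans (RGD.le_Sup (S := S2) ⟨hx, h1⟩) le_sup_right
  have hnorm : N1.Normal := by
    rw [← Subgroup.normalizer_eq_top_iff, eq_top_iff, ← htop]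
    refine sup_le Subgroup.le_normalizer fun v hv => ?_
    rw [Subgroup.mem_normalizer_iff]
    intro u
    constructor
    · intro hu
      have := hcN u hu v hv
      rw [← this, mul_inv_cancel_right]
      exact hu
    · intro hu
      have h1 := hcN _ hu v hv
      have h2 : v * u * v⁻¹ = u := by
        have h3 : v * u * v⁻¹ * v = v * (v * u * v⁻¹) := h1
        have h4 : v * u * v⁻¹ * v = v * u := by group
        rw [h4] at h3
        exact (mul_left_cancel h3).symm
      rwa [h2] at hu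
  obtain ⟨a, ha⟩ := hne
  obtain ⟨b, hb⟩ : ∃ b, b ∉ J := by
    by_contra h4
    push Not at h4
    exact hJ1 (Set.eq_univ_iff_forall.2 h4)
  have hXa : X (sr a) ≤ N1 := RGD.le_Sup (S := S1) ⟨isRoot_sr cs h a, fun k hk => by
    rw [sr, Pi.single_apply, if_neg (by rintro rfl; exact hk ha)]⟩
  have hXb : X (sr b) ≤ N2 := RGD.le_Sup (S := S2) ⟨isRoot_sr cs h b, fun k hk => by
    rw [sr, Pi.single_apply, if_neg (by rintro rfl; exact hb hk)]⟩
  have ha1 := Nodes.Bruhat.X_ne_bot R (isRoot_sr cs h a)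
  have hb1 := Nodes.Bruhat.X_ne_bot R (isRoot_sr cs h b)
  rcases hnorm.eq_bot_or_eq_top with h1 | h1
  · exact ha1 (eq_bot_iff.2 (h1 ▸ hXa))
  · apply hb1
    rw [eq_bot_iff, ← hc]
    intro v hv
    rw [Subgroup.mem_center_iff]
    intro g
    exact hcN g (h1 ▸ Subgroup.mem_top g) v (hXb hv)

/-- A group without centre generated by its root groups: no element of `T` centralises all root groups. -/
theorem noCent_of_center (hG : RGD.Sup X {x | IsRoot cs h x} = ⊤) (hc : Subgroup.center Y = ⊥) :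
    NoCent cs h T X := by
  intro t _ ht
  rw [← Subgroup.mem_bot, ← hc, Subgroup.mem_center_iff]
  intro g
  have h1 : (⊤ : Subgroup Y) ≤ Subgroup.centralizer {t} := by
    rw [← hG]
    refine RGD.Sup_le fun x hx v hv => ?_
    rw [Subgroup.mem_centralizer_singleton_iff]
    exact (ht x hx v hv).symm
  exact Subgroup.mem_centralizer_singleton_iff.1 (h1 (Subgroup.mem_top g))

theorem center_eq_bot {G : Type*} [Group G] [IsSimpleGroup G] (hc : ∃ a b : G, a * b ≠ b * a) :
    Subgroup.center G = ⊥ := by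
  obtain ⟨a, b, hab⟩ := hc
  rcases (inferInstance : (Subgroup.center G).Normal).eq_bot_or_eq_top with h1 | h1
  · exact h1
  · exfalso
    have h2 : a ∈ Subgroup.center G := by rw [h1]; trivial
    exact hab ((Subgroup.mem_center_iff.1 h2 b).symm)

/-! ### the statements -/

section Main

variable {G : Type*} [Group G] [Finite G] [IsSimpleGroup G] [Fact p.Prime]

/-- The data of the corollaries of Borel–Tits. -/
theorem _root_.Cfsg.Agent.KFacts.RgdFilt.HasFilt.data (hG : HasFilt p G) (hc : ∃ a b : G, a * b ≠ b * a) :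
    ∃ (l : ℕ) (M : CoxeterMatrix (Fin l)) (A : Fin l → Fin l → ℤ) (h : IsCartan M A) (T : Subgroup G) (n : Fin l → G)
      (X : (Fin l → ℤ) → Subgroup G) (_ : RGD M.toCoxeterSystem h p T n X),
      Finite M.Group ∧ BT M.toCoxeterSystem h p T X ∧ GG M.toCoxeterSystem h T X = ⊤ ∧
        NoCent M.toCoxeterSystem h T X ∧ Conn M ∧ RGD.Sup X {x | IsRoot M.toCoxeterSystem h x} = ⊤ ∧ 0 < l := by
  obtain ⟨l, M, A, h, T, n, X, R, F, hW, hX, hF⟩ := hG
  have hc' := center_eq_bot hc
  refine ⟨l, M, A, h, T, n, X, R, hW, fun K hK h1 => borel_tits_of_filt hF hX hK h1, GG_eq_top hX,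
    noCent_of_center hX hc', conn_of_simple R hX hc', hX, ?_⟩
  rcases Nat.eq_zero_or_pos l with h0 | h0
  · exfalso
    subst h0
    have h1 : (⊤ : Subgroup G) = ⊥ := by
      rw [← hX, eq_bot_iff]
      refine RGD.Sup_le fun x hx => ?_
      obtain ⟨w, i, -⟩ := hx
      exact i.elim0
    exact top_ne_bot h1
  · exact h0

/-- **Borel–Tits**: every `p`-subgroup `K ≠ 1` lies in a `p`-subgroup `V` with `V ⊲ P`, `N(K) ≤ P < G`, `C(V) ≤ V`. -/
theorem _root_.Cfsg.Agent.KFacts.RgdFilt.HasFilt.exists_par (hG : HasFilt p G) (hc : ∃ a b : G, a * b ≠ b * a)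
    {K : Subgroup G} (hK : IsPGroup p K) (hK1 : K ≠ ⊥) : ∃ V P : Subgroup G, IsPGroup p V ∧ K ≤ V ∧
      Subgroup.normalizer (K : Set G) ≤ P ∧ P = Subgroup.normalizer (V : Set G) ∧ P ≠ ⊤ ∧
        Subgroup.centralizer (V : Set G) ≤ V := by
  obtain ⟨l, M, A, h, T, n, X, R, hW, hBT, hGG, hN, hconn, hX, hl⟩ := hG.data hc
  obtain ⟨g, J, hJ, h1, h2⟩ := hBT K hK hK1
  have hV1 : VJ M.toCoxeterSystem h X J ≠ ⊥ := by
    intro h3
    apply hK1
    rw [eq_bot_iff]
    refine le_trans h1 ?_
    rw [h3]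
    exact (Subgroup.map_bot _).le
  have hP : PJ M.toCoxeterSystem h T X J = Subgroup.normalizer (VJ M.toCoxeterSystem h X J : Set G) := by
    apply le_antisymm (PJ_le_normalizer_VJ R J)
    have h3 := normalizer_VJ R J
    rw [hGG, inf_top_eq] at h3
    exact h3.le
  refine ⟨cj g (VJ M.toCoxeterSystem h X J), cj g (PJ M.toCoxeterSystem h T X J), ?_, h1, h2, ?_, ?_, ?_⟩
  · unfold cj
    exact (isPGroup_VJ R J).map _
  · rw [hP, ← normalizer_cj]
  · intro h3
    have h4 : Subgroup.normalizer (VJ M.toCoxeterSystem h X J : Set G) = ⊤ := by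
      rw [← hP, ← cj_inv_cj g (PJ M.toCoxeterSystem h T X J), h3, eq_top_iff]
      intro y _
      rw [mem_cj]
      trivial
    have h5 := Subgroup.normalizer_eq_top_iff.1 h4
    rcases h5.eq_bot_or_eq_top with h6 | h6
    · exact hV1 h6
    · -- then `G` is a simple `p`-group
      have h7 : IsPGroup p (⊤ : Subgroup G) := h6 ▸ isPGroup_VJ R J
      obtain ⟨a, b, hab⟩ := hc
      have h8 : IsPGroup p G := h7.of_equiv Subgroup.topEquiv
      have h9 := h8.center_nontrivial
      rw [center_eq_bot ⟨a, b, hab⟩] at h9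
      exact not_nontrivial _ h9
  · have h3 : Subgroup.centralizer (VJ M.toCoxeterSystem h X J : Set G) ≤ VJ M.toCoxeterSystem h X J := by
      have := cent_VJ_le R hN hconn hJ
      rwa [hGG, inf_top_eq] at this
    intro y hy
    rw [mem_cj]
    apply h3
    rw [Subgroup.mem_centralizer_iff]
    intro v hv
    have h4 := Subgroup.mem_centralizer_iff.1 hy (g * v * g⁻¹) (conj_mem_cj.2 hv)
    calc v * (g⁻¹ * y * g) = g⁻¹ * (g * v * g⁻¹ * y) * g := by group
      _ = g⁻¹ * (y * (g * v * g⁻¹)) * g := by rw [h4]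
      _ = _ := by group

/-- **`p`-local subgroups have characteristic `p`.** -/
theorem _root_.Cfsg.Agent.KFacts.RgdFilt.HasFilt.local_char (hG : HasFilt p G) (hc : ∃ a b : G, a * b ≠ b * a)
    {K : Subgroup G} (hK : IsPGroup p K) (hK1 : K ≠ ⊥) :
    Subgroup.centralizer (pCore p ↥(Subgroup.normalizer (K : Set G)) : Set ↥(Subgroup.normalizer (K : Set G))) ≤
      pCore p ↥(Subgroup.normalizer (K : Set G)) := by
  obtain ⟨l, M, A, h, T, n, X, R, hW, hBT, hGG, hN, hconn, hX, hl⟩ := hG.data hc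
  exact RgdCharP.local_char R hBT hGG hN hconn hK hK1

/-- `O_{p'}(N(K)) = 1`. -/
theorem _root_.Cfsg.Agent.KFacts.RgdFilt.HasFilt.local_core (hG : HasFilt p G) (hc : ∃ a b : G, a * b ≠ b * a)
    {K : Subgroup G} (hK : IsPGroup p K) (hK1 : K ≠ ⊥) {E : Subgroup G}
    (hE : E ≤ Subgroup.normalizer (K : Set G))
    (hn : ∀ g ∈ Subgroup.normalizer (K : Set G), ∀ e ∈ E, g * e * g⁻¹ ∈ E) (hcop : (Nat.card E).Coprime p) :
    E = ⊥ := by
  obtain ⟨l, M, A, h, T, n, X, R, hW, hBT, hGG, hN, hconn, hX, hl⟩ := hG.data hc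
  exact RgdCharP.local_core R hBT hGG hN hconn hK hK1 hE hn hcop

/-- `O_{p'}(C(x)) = 1` for `x` of order `p`. -/
theorem _root_.Cfsg.Agent.KFacts.RgdFilt.HasFilt.core (hG : HasFilt p G) (hc : ∃ a b : G, a * b ≠ b * a)
    {x : G} (hx : orderOf x = p) : centralizerPPrimeCore p x = ⊥ := by
  obtain ⟨l, M, A, h, T, n, X, R, hW, hBT, hGG, hN, hconn, hX, hl⟩ := hG.data hc
  have hp : p.Prime := Fact.out
  have hK : IsPGroup p (Subgroup.zpowers x) := by
    rw [IsPGroup.iff_card]
    exact ⟨1, by rw [Nat.card_zpowers, hx, pow_one]⟩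
  have hK1 : Subgroup.zpowers x ≠ ⊥ := by
    rw [Ne, Subgroup.zpowers_eq_bot]
    rintro rfl
    rw [orderOf_one] at hx
    exact hp.one_lt.ne hx
  have hn : (pPrimeCore p ↥(Subgroup.centralizer ({x} : Set G))).Normal := Lib.Cores.pPrimeCore_normal p
  set E := centralizerPPrimeCore p x with hE
  have hcopE : (Nat.card E).Coprime p := by
    rw [hE]
    unfold centralizerPPrimeCore
    rw [Nat.card_congr ((pPrimeCore p ↥(Subgroup.centralizer ({x} : Set G))).equivMapOfInjective _
      (Subgroup.subtype_injective _)).toEquiv.symm]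
    exact Lib.Cores.pPrimeCore_coprime p
  have hcent : ∀ {y : G}, y ∈ Subgroup.centralizer ({x} : Set G) ↔ ∀ k ∈ Subgroup.zpowers x, y * k = k * y := by
    intro y
    rw [Subgroup.mem_centralizer_singleton_iff]
    constructor
    · intro hy k hk
      obtain ⟨j, rfl⟩ := Subgroup.mem_zpowers_iff.1 hk
      have : Commute y x := hy
      exact this.zpow_right j
    · intro hy
      exact hy x (Subgroup.mem_zpowers x)
  -- the centralizer is normal in the normalizer of `⟨x⟩`
  have hnorm : ∀ g ∈ Subgroup.normalizer ((Subgroup.zpowers x : Subgroup G) : Set G),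
      ∀ y ∈ Subgroup.centralizer ({x} : Set G), g * y * g⁻¹ ∈ Subgroup.centralizer ({x} : Set G) := by
    intro g hg y hy
    rw [hcent] at hy ⊢
    intro k hk
    have h1 : g⁻¹ * k * g ∈ Subgroup.zpowers x := by
      have := (Subgroup.mem_normalizer_iff.1 (inv_mem hg) k).1 hk
      rwa [inv_inv] at this
    have h2 := hy _ h1
    calc g * y * g⁻¹ * k = g * (y * (g⁻¹ * k * g)) * g⁻¹ := by group
      _ = g * (g⁻¹ * k * g * y) * g⁻¹ := by rw [h2]
      _ = _ := by group
  refine RgdCharP.local_core R hBT hGG hN hconn hK hK1 (E := E) ?_ ?_ hcopE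
  · rintro _ ⟨e, -, rfl⟩
    refine Subgroup.centralizer_le_normalizer _ ?_
    rw [Subgroup.mem_centralizer_iff]
    intro k hk
    exact (hcent.1 e.2 k hk).symm
  · -- `E` is the unique largest normal `p'`-subgroup of the centralizer
    intro g hg
    set C := Subgroup.centralizer ({x} : Set G) with hC
    set Eg : Subgroup ↥C := (E.map (MulAut.conj g).toMonoidHom).subgroupOf C with hEg
    have hEC : ∀ {e : G}, e ∈ E → e ∈ C := by
      rintro _ ⟨e, -, rfl⟩
      exact e.2
    have hmem : ∀ {y : G}, y ∈ E.map (MulAut.conj g).toMonoidHom ↔ g⁻¹ * y * g ∈ E := by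
      intro y
      constructor
      · rintro ⟨e, he, rfl⟩
        have : g⁻¹ * (MulAut.conj g).toMonoidHom e * g = e := by
          show g⁻¹ * (g * e * g⁻¹) * g = e
          group
        rwa [this]
      · intro he
        exact ⟨_, he, by show g * (g⁻¹ * y * g) * g⁻¹ = y; group⟩
    have hginv : g⁻¹ ∈ Subgroup.normalizer ((Subgroup.zpowers x : Subgroup G) : Set G) := inv_mem hg
    have hEconj : ∀ {c e : G}, c ∈ C → e ∈ E → c * e * c⁻¹ ∈ E := by
      rintro c _ hcC ⟨e, he, rfl⟩
      exact ⟨_, hn.conj_mem e he ⟨c, hcC⟩, rfl⟩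
    have h1 : Eg ≤ pPrimeCore p ↥C := by
      refine Lib.Cores.le_pPrimeCore ⟨fun y hy c => ?_⟩ ?_
      · rw [hEg, Subgroup.mem_subgroupOf, hmem] at hy ⊢
        have h2 : g⁻¹ * (c : G) * g ∈ C := by
          have := hnorm _ hginv c c.2
          rwa [inv_inv] at this
        have h3 := hEconj h2 hy
        have h4 : g⁻¹ * (c : G) * g * (g⁻¹ * (y : G) * g) * (g⁻¹ * (c : G) * g)⁻¹ =
            g⁻¹ * ((c * y * c⁻¹ : ↥C) : G) * g := by
          push_cast
          group
        rwa [h4] at h3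
      · have h2 : Nat.card Eg ∣ Nat.card (E.map (MulAut.conj g).toMonoidHom) := by
          have h3 : Nat.card Eg = Nat.card (Eg.map C.subtype) :=
            Nat.card_congr (Eg.equivMapOfInjective _ C.subtype_injective).toEquiv
          rw [h3]
          refine Subgroup.card_dvd_of_le ?_
          rintro _ ⟨y, hy, rfl⟩
          exact hy
        have h3 : Nat.card (E.map (MulAut.conj g).toMonoidHom) = Nat.card E :=
          Nat.card_congr (E.equivMapOfInjective _ (MulAut.conj g).injective).toEquiv.symm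
        rw [h3] at h2
        exact Nat.Coprime.coprime_dvd_left h2 hcopE
    intro e he
    have h2 : g * e * g⁻¹ ∈ C := hnorm g hg e (hEC he)
    refine ⟨⟨g * e * g⁻¹, h2⟩, h1 ?_, rfl⟩
    rw [hEg, Subgroup.mem_subgroupOf, hmem]
    have : g⁻¹ * (g * e * g⁻¹) * g = e := by group
    rw [this]
    exact he

end Main

section Two

variable {G : Type*} [Group G] [Finite G] [IsSimpleGroup G]

/-- **The groups of Lie type of characteristic 2 are of characteristic 2 type.** -/
theorem _root_.Cfsg.Agent.KFacts.RgdFilt.HasFilt.charTwo (hG : HasFilt 2 G) (hc : ∃ a b : G, a * b ≠ b * a) :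
    IsCharacteristicTwoType G := by
  have : Fact (Nat.Prime 2) := ⟨Nat.prime_two⟩
  obtain ⟨l, M, A, h, T, n, X, R, hW, hBT, hGG, hN, hconn, hX, hl⟩ := hG.data hc
  have : Nonempty (Fin l) := ⟨⟨0, hl⟩⟩
  exact RgdAutFacts.char_two_type R hGG hBT hN hconn

end Two

/-! ### the groups -/

/-- The simple groups of Lie type of characteristic `p`, except `Sz(q)`, `²F₄(q)`, `²G₂(q)`. -/
def IsLieFilt (p : ℕ) (G : Type*) [Group G] : Prop :=
  IsPSLChar p G ∨ IsPSpChar p G ∨ IsPSUChar p G ∨ IsPOmegaOddChar p G ∨ IsPOmegaPlusChar p G ∨ IsPOmegaMinusChar p G ∨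
    IsExceptionalChevChar p G ∨ IsTwistedE6D4Char p G

theorem hasFilt_of_lie {G : Type*} [Group G] (hG : IsLieFilt p G) : HasFilt p G := by
  rcases hG with h | h | h | h | h | h | h | h
  · exact RgdFiltClass.hasFilt_of_PSL h
  · exact RgdFiltClass.hasFilt_of_PSp h
  · exact RgdFiltClass.hasFilt_of_PSU h
  · exact RgdFiltClass.hasFilt_of_POmegaOdd h
  · exact RgdFiltClass.hasFilt_of_POmegaPlus h
  · exact RgdFiltClass.hasFilt_of_POmegaMinus h
  · exact RgdFiltChev.hasFilt_of_exceptional h
  · exact RgdFiltTwAll.hasFilt_of_twisted h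

end Cfsg.Agent.KFacts.RgdLieCharP
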