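import Mathlib
import Cfsg.Agent.KFacts.RgdKfour
import Cfsg.Agent.OddHalf.DblR.Fam

/-!
# `Loc` and `NorX` of `OddHalf/DblR` over a simply laced root group datum (helper335)
-/

set_option autoImplicit false
set_option linter.unusedSectionVars false

namespace Cfsg.Agent.KFacts.RgdLoc

open CoxeterSystem Cfsg.Agent.ChevalleyStructure.CoxeterGeom Cfsg.Agent.Tits.Roots Cfsg.Agent.Tits.Core
  Cfsg.Agent.Tits.Exchange Cfsg.Agent.Nodes.Reps Cfsg.Agent.Nodes.BNOf Cfsg.Agent.Nodes.StabComb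
  Cfsg.Agent.Nodes.Bruhat Cfsg.Agent.Nodes.OppDec Cfsg.Agent.Nodes.PosPair Cfsg.Agent.Nodes.Coroot
  Cfsg.Agent.KFacts.RgdPar Cfsg.Agent.KFacts.RgdSL Cfsg.Agent.KFacts.RgdTI Cfsg.Agent.KFacts.RgdCent
  Cfsg.Agent.KFacts.RgdOdd Cfsg.Agent.KFacts.RgdEx Cfsg.Agent.KFacts.RgdTor Cfsg.Agent.KFacts.RgdKfour
  Cfsg.Agent.OddHalf.DblR
open scoped commutatorElement

variable {I W Y : Type*} [Fintype I] [DecidableEq I] [Group W] [Group Y] {M : CoxeterMatrix I}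
  {cs : CoxeterSystem M W} {A : I → I → ℤ} {h : IsCartan M A} {T : Subgroup Y} {n : I → Y}
  {X : (I → ℤ) → Subgroup Y}

variable [Finite W] {R : RGD cs h 2 T n X} {r : I → ℤ} (H : Hyp R r)

include H

/-- `⟨X r, X (-r)⟩` commutes with `X a`, `a` orthogonal to `r`. -/
theorem t0_comm {a : I → ℤ} (ha : IsRoot cs h a) (har : cpr cs h a r = 0) {k u : Y} (hk : k ∈ X r ⊔ X (-r))
    (hu : u ∈ X a) : k * u = u * k := orth_comm R H.sl H.root ha har hk hu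

theorem t_conj_P {t p : Y} (ht : t ∈ T) (hp : p ∈ RGD.Sup X (Ge cs h r)) : t * p * t⁻¹ ∈ RGD.Sup X (Ge cs h r) := by
  have h1 : RGD.Sup X (Ge cs h r) ≤ (RGD.Sup X (Ge cs h r)).comap (MulAut.conj t).toMonoidHom := by
    refine RGD.Sup_le fun a ha u hu => ?_
    rw [Subgroup.mem_comap]
    exact RGD.le_Sup ha (tor_mem R ha.1 ht hu)
  exact h1 hp

theorem t_conj_Q {t p : Y} (ht : t ∈ T) (hp : p ∈ RGD.Sup X (Rad cs h r)) : t * p * t⁻¹ ∈ RGD.Sup X (Rad cs h r) := by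
  have h1 : RGD.Sup X (Rad cs h r) ≤ (RGD.Sup X (Rad cs h r)).comap (MulAut.conj t).toMonoidHom := by
    refine RGD.Sup_le fun a ha u hu => ?_
    rw [Subgroup.mem_comap]
    exact RGD.le_Sup ha (tor_mem R ha.1 ht hu)
  exact h1 hp

/-- `[T_r, P] ≤ Q` -/
theorem tq {k p : Y} (hk : k ∈ T ⊓ (X r ⊔ X (-r))) (hp : p ∈ RGD.Sup X (Ge cs h r)) :
    k * p * k⁻¹ * p⁻¹ ∈ RGD.Sup X (Rad cs h r) := by
  have hkT := (Subgroup.mem_inf.1 hk).1
  let L : Subgroup Y :=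
    { carrier := {p | p ∈ RGD.Sup X (Ge cs h r) ∧ k * p * k⁻¹ * p⁻¹ ∈ RGD.Sup X (Rad cs h r)}
      one_mem' := ⟨one_mem _, by simp⟩
      mul_mem' := by
        rintro x y ⟨hx, hx'⟩ ⟨hy, hy'⟩
        refine ⟨mul_mem hx hy, ?_⟩
        have : k * (x * y) * k⁻¹ * (x * y)⁻¹ = (k * x * k⁻¹ * x⁻¹) * (x * (k * y * k⁻¹ * y⁻¹) * x⁻¹) := by group
        rw [this]
        exact mul_mem hx' (H.QN hx hy')
      inv_mem' := by
        rintro x ⟨hx, hx'⟩
        refine ⟨inv_mem hx, ?_⟩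
        have h1 : k * x⁻¹ * k⁻¹ * x⁻¹⁻¹ = x⁻¹ * (k * x * k⁻¹ * x⁻¹)⁻¹ * x := by group
        rw [h1]
        have := H.QN (inv_mem hx) (inv_mem hx')
        rwa [inv_inv] at this }
  have hL : RGD.Sup X (Ge cs h r) ≤ L := by
    refine RGD.Sup_le fun a ha u hu => ⟨RGD.le_Sup ha hu, ?_⟩
    by_cases h0 : 1 ≤ cpr cs h a r
    · have h1 : a ∈ Rad cs h r := ⟨ha.1, h0⟩
      exact mul_mem (RGD.le_Sup h1 (tor_mem R ha.1 hkT hu)) (inv_mem (RGD.le_Sup h1 hu))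
    · have h1 : cpr cs h a r = 0 := by have := ha.2; omega
      have h2 : k * u = u * k := t0_comm H ha.1 h1 (Subgroup.mem_inf.1 hk).2 hu
      have h3 : k * u * k⁻¹ * u⁻¹ = 1 := by rw [h2]; group
      rw [h3]
      exact one_mem _
  exact (hL hp).2

/-- **`NorX`** -/
theorem norX : NorX (GG cs h T X) (RGD.Sup X (Ge cs h r)) (X r) (T ⊓ (X r ⊔ X (-r))) := by
  have hGG : ∀ k ∈ GG cs h T X, cj k (X r) = X r → k ∈ PS T X (Ge cs h r) := by
    intro k hk hX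
    rw [← (H.lr r H.root).normalizer]
    exact Subgroup.mem_inf.2 ⟨mem_normalizer_iff_cj.2 hX, hk⟩
  -- the elements of `T ⊔ P`
  have hP : ∀ k ∈ PS T X (Ge cs h r), (∀ p ∈ RGD.Sup X (Ge cs h r), k * p * k⁻¹ ∈ RGD.Sup X (Ge cs h r)) ∧
      (∀ p ∈ RGD.Sup X (Ge cs h r), k⁻¹ * p * k ∈ RGD.Sup X (Ge cs h r)) ∧
      ∀ t ∈ T ⊓ (X r ⊔ X (-r)), ∃ p ∈ RGD.Sup X (Ge cs h r), k * t * k⁻¹ = t * p := by
    let L : Subgroup Y :=
      { carrier := {k | (∀ p ∈ RGD.Sup X (Ge cs h r), k * p * k⁻¹ ∈ RGD.Sup X (Ge cs h r)) ∧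
          (∀ p ∈ RGD.Sup X (Ge cs h r), k⁻¹ * p * k ∈ RGD.Sup X (Ge cs h r)) ∧
          ∀ t ∈ T ⊓ (X r ⊔ X (-r)), ∃ p ∈ RGD.Sup X (Ge cs h r), k * t * k⁻¹ = t * p}
        one_mem' := ⟨fun p hp => by simpa using hp, fun p hp => by simpa using hp,
          fun t _ => ⟨1, one_mem _, by simp⟩⟩
        mul_mem' := by
          rintro x y ⟨hx, hx', hx''⟩ ⟨hy, hy', hy''⟩
          refine ⟨fun p hp => ?_, fun p hp => ?_, fun t ht => ?_⟩
          · have : x * y * p * (x * y)⁻¹ = x * (y * p * y⁻¹) * x⁻¹ := by group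
            rw [this]; exact hx _ (hy _ hp)
          · have : (x * y)⁻¹ * p * (x * y) = y⁻¹ * (x⁻¹ * p * x) * y := by group
            rw [this]; exact hy' _ (hx' _ hp)
          · obtain ⟨p, hp, e⟩ := hy'' t ht
            obtain ⟨p', hp', e'⟩ := hx'' t ht
            refine ⟨p' * (x * p * x⁻¹), mul_mem hp' (hx p hp), ?_⟩
            calc x * y * t * (x * y)⁻¹ = x * (y * t * y⁻¹) * x⁻¹ := by group
              _ = (x * t * x⁻¹) * (x * p * x⁻¹) := by rw [e]; group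
              _ = _ := by rw [e']; group
        inv_mem' := by
          rintro x ⟨hx, hx', hx''⟩
          refine ⟨fun p hp => by rw [inv_inv]; exact hx' p hp, fun p hp => by rw [inv_inv]; exact hx p hp,
            fun t ht => ?_⟩
          obtain ⟨p, hp, e⟩ := hx'' t ht
          refine ⟨(x⁻¹ * p * x)⁻¹, inv_mem (hx' p hp), ?_⟩
          have h1 : t = x⁻¹ * (t * p) * x := by rw [← e]; group
          calc x⁻¹ * t * x⁻¹⁻¹ = (x⁻¹ * (t * p) * x) * (x⁻¹ * p * x)⁻¹ := by group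
            _ = t * (x⁻¹ * p * x)⁻¹ := by rw [← h1] }
    have hL : PS T X (Ge cs h r) ≤ L := by
      refine sup_le ?_ ?_
      · intro k hk
        refine ⟨fun p hp => t_conj_P H hk hp, fun p hp => ?_, fun t ht => ⟨1, one_mem _, ?_⟩⟩
        · have := t_conj_P H (inv_mem hk) hp
          rwa [inv_inv] at this
        · rw [H.tab k hk t (Subgroup.mem_inf.1 ht).1]; group
      · intro k hk
        refine ⟨fun p hp => mul_mem (mul_mem hk hp) (inv_mem hk), fun p hp => mul_mem (mul_mem (inv_mem hk) hp) hk,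
          fun t ht => ⟨t⁻¹ * k * t⁻¹⁻¹ * k⁻¹,
            mul_mem (t_conj_P H (inv_mem (Subgroup.mem_inf.1 ht).1) hk) (inv_mem hk), by group⟩⟩
    exact fun k hk => hL hk
  refine ⟨fun k hk hX => ?_, fun k hk hX => (hP k (hGG k hk hX)).2.2⟩
  obtain ⟨h1, h2, -⟩ := hP k (hGG k hk hX)
  apply le_antisymm
  · intro x hx
    rw [mem_cj] at hx
    have := h1 _ hx
    have e : k * (k⁻¹ * x * k) * k⁻¹ = x := by group
    rwa [e] at this
  · intro x hx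
    rw [mem_cj]
    exact h2 x hx

/-- **`Loc`** : all fields except `amb`, `two`, `k3`. -/
theorem loc [Finite Y] (hq : ∀ b, IsRoot cs h b → ∃ u ∈ X b, ∃ v ∈ X b, u ≠ 1 ∧ v ≠ 1 ∧ u ≠ v)
    {Rr : Subgroup Y} (amb : Amb (GG cs h T X) Rr)
    (two : ∀ c ∈ C1 (GG cs h T X) Rr, IsPGroup 2 (Subgroup.zpowers c) → c ∈ Rr)
    (k3 : ∀ c : Y, (∀ a ∈ Rr, c * a = a * c) → (∀ p ∈ RGD.Sup X (Ge cs h r), c * p = p * c) →
      ∃ x ∈ X r, x⁻¹ * c ∈ C1 (GG cs h T X) Rr) :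
    Loc (GG cs h T X) Rr (RGD.Sup X (Ge cs h r)) (RGD.Sup X (Rad cs h r)) (X r) (T ⊓ (X r ⊔ X (-r))) where
  amb := amb
  PK := le_trans (RGD.Sup_mono fun _ hx => hx.1) le_sup_right
  QP := H.rad_le_ge
  XQ := RGD.le_Sup H.r_rad
  XX := fun x hx => H.r_sq hx
  XZ := fun x hx p hp => (H.central hp hx).symm
  QN := fun p hp q hq => H.QN hp hq
  TK := le_trans inf_le_left le_sup_left
  TX := fun t ht x hx => tor_mem R H.root (Subgroup.mem_inf.1 ht).1 hx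
  TQ := fun k hk p hp => tq H hk hp
  Tab := fun s hs t ht => H.tab s (Subgroup.mem_inf.1 hs).1 t (Subgroup.mem_inf.1 ht).1
  Ttr := by
    intro x hx hx1 y hy hy1
    obtain ⟨b, hb⟩ := H.ex
    have hA' : A2 cs h r (-b) := by
      refine H.sl.a2 H.root hb.1.neg ?_
      rw [cpr_neg_right cs h _ hb.1, H.sl r b H.root hb.1, hb.2]
    exact tor_self hA' R H.tab hx hx1 hy hy1
  big := by
    obtain ⟨x, hx, y, hy, h1, h2, h3⟩ := hq r H.root
    exact ⟨x, hx, y, hy, h1, h2, h3⟩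
  two := two
  k3 := k3
  k4 := fun e _ _ heX he => H.k4 he heX
  B := by
    intro y hy hyP hyX
    obtain ⟨k, hk⟩ := hy ⟨y, Subgroup.mem_zpowers y⟩
    have hy2 : y ^ 2 ^ k = 1 := congrArg Subtype.val hk
    exact H.B hyP hyX hy2 (fun b _ => inferInstance) hq

end Cfsg.Agent.KFacts.RgdLoc
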