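import Cfsg.Agent.KFacts.SpecLoc

/-!
# `Full` descends along injective homomorphisms (ODD, D4, K-side; helper335)
-/

set_option autoImplicit false
set_option linter.unusedSectionVars false

namespace Cfsg.Agent.KFacts.SpecLoc

open Cfsg.Agent.KFacts.SpecKfour Cfsg.Agent.OddHalf.DblR
open scoped commutatorElement

variable {Y ι : Type*} [Group Y] {Y' : Type*} [Group Y'] (f : Y →* Y') (hf : Function.Injective f)

include hf

theorem mem_map_inj {A : Subgroup Y} {a : Y} : f a ∈ A.map f ↔ a ∈ A := by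
  constructor
  · rintro ⟨b, hb, e⟩
    rwa [← hf e]
  · exact fun h => ⟨a, h, rfl⟩

theorem fix_of_map {P Q Z : Subgroup Y} {V : ι → Subgroup Y} {i : ι}
    (h : Fix (P.map f) (Q.map f) (Z.map f) (fun j => (V j).map f) i) : Fix P Q Z V i := by
  intro q hq h1
  obtain ⟨_, ⟨v, hv, rfl⟩, _, ⟨z, hz, rfl⟩, e⟩ := h (f q) ⟨q, hq, rfl⟩ (by
    rintro _ ⟨x, hx, rfl⟩ hxv
    rw [← map_commutatorElement]
    refine ⟨_, h1 x hx fun v hv => ?_, rfl⟩
    exact (Full.comm_map f hf).1 (hxv (f v) ⟨v, hv, rfl⟩))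
  rw [← map_mul] at e
  exact ⟨v, hv, z, hz, hf e⟩

theorem lin_of_map {P T : Subgroup Y} {V : ι → Subgroup Y} {i : ι} (hTV : ∀ t ∈ T, ∀ v ∈ V i, t * v * t⁻¹ ∈ V i)
    (h : Lin (P.map f) (T.map f) (fun j => (V j).map f) i) : Lin P T V i := by
  classical
  intro g hg hm hi ht
  let k : Y' → Y' := fun y => if hy : ∃ v, v ∈ V i ∧ f v = y then f (g hy.choose) else 1
  have hk : ∀ v ∈ V i, k (f v) = f (g v) := by
    intro v hv
    have hy : ∃ w, w ∈ V i ∧ f w = f v := ⟨v, hv, rfl⟩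
    have h1 : k (f v) = f (g hy.choose) := dif_pos hy
    rw [h1, hf hy.choose_spec.2]
  obtain ⟨_, ⟨s, hs, rfl⟩, es⟩ := h k (by
      rintro _ ⟨v, hv, rfl⟩
      rw [hk v hv]; exact ⟨_, hg v hv, rfl⟩)
    (by
      rintro _ ⟨u, hu, rfl⟩ _ ⟨v, hv, rfl⟩
      rw [← map_mul, hk _ (mul_mem hu hv), hm u hu v hv, hk u hu, hk v hv, map_mul])
    (by
      rintro _ ⟨v, hv, rfl⟩ h1
      rw [hk v hv] at h1
      rw [hi v hv (hf (by rw [h1, map_one])), map_one])
    (by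
      rintro _ ⟨t, ht1, rfl⟩ htP _ ⟨v, hv, rfl⟩
      rw [mem_map_inj f hf] at htP
      rw [← map_inv, ← map_mul, ← map_mul, hk _ (hTV t ht1 v hv), ht t ht1 htP v hv, hk v hv, map_mul, map_mul])
  refine ⟨s, hs, fun v hv => hf ?_⟩
  rw [← hk v hv, es (f v) ⟨v, hv, rfl⟩, map_mul, map_mul, map_inv]

/-- **`Full` descends along injective homomorphisms.** -/
theorem Full.of_map {P Q Z T T0 : Subgroup Y} {V : ι → Subgroup Y} {st : ι → ι} {i : ι}
    (H : Full (P.map f) (Q.map f) (Z.map f) (T.map f) (T0.map f) (fun j => (V j).map f) st i) :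
    Full P Q Z T T0 V st i := by
  have hTV : ∀ t ∈ T, ∀ j, ∀ v ∈ V j, t * v * t⁻¹ ∈ V j := by
    intro t ht j v hv
    rw [← mem_map_inj f hf, map_mul, map_mul, map_inv]
    exact H.TV (f t) ⟨t, ht, rfl⟩ j (f v) ⟨v, hv, rfl⟩
  exact
  { QP := (Subgroup.map_le_map_iff_of_injective hf).1 H.QP
    ZQ := (Subgroup.map_le_map_iff_of_injective hf).1 H.ZQ
    VQ := fun j => (Subgroup.map_le_map_iff_of_injective hf).1 (H.VQ j)
    gen := by
      have h1 := H.gen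
      rw [← Subgroup.map_iSup, ← Subgroup.map_sup] at h1
      exact (Subgroup.map_le_map_iff_of_injective hf).1 h1
    cen := fun p hp z hz => (Full.comm_map f hf).1 (H.cen (f p) ⟨p, hp, rfl⟩ (f z) ⟨z, hz, rfl⟩)
    QN := fun p hp q hq => by
      rw [← mem_map_inj f hf, map_mul, map_mul, map_inv]
      exact H.QN (f p) ⟨p, hp, rfl⟩ (f q) ⟨q, hq, rfl⟩
    stst := H.stst
    ab := fun j u hu v hv => (Full.comm_map f hf).1 (H.ab j (f u) ⟨u, hu, rfl⟩ (f v) ⟨v, hv, rfl⟩)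
    comm1 := fun j k hjk u hu v hv =>
      (Full.comm_map f hf).1 (H.comm1 j k hjk (f u) ⟨u, hu, rfl⟩ (f v) ⟨v, hv, rfl⟩)
    br := fun j u hu v hv => by
      rw [← mem_map_inj f hf, map_commutatorElement]
      exact H.br j (f u) ⟨u, hu, rfl⟩ (f v) ⟨v, hv, rfl⟩
    nd := fun j u hu h1 => hf (by
      rw [map_one]
      refine H.nd j (f u) ⟨u, hu, rfl⟩ ?_
      rintro _ ⟨v, hv, rfl⟩
      exact (Full.comm_map f hf).2 (h1 v hv))
    sq := fun j u hu => hf (by rw [map_mul, map_one]; exact H.sq j (f u) ⟨u, hu, rfl⟩)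
    TV := hTV
    TZ := fun t ht z hz => by
      rw [← mem_map_inj f hf, map_mul, map_mul, map_inv]
      exact H.TZ (f t) ⟨t, ht, rfl⟩ (f z) ⟨z, hz, rfl⟩
    Tab := fun s hs t ht => (Full.comm_map f hf).1 (H.Tab (f s) ⟨s, hs, rfl⟩ (f t) ⟨t, ht, rfl⟩)
    Todd := by
      have h1 : Nat.card ↥(T.map f) = Nat.card ↥T := (Nat.card_congr (T.equivMapOfInjective f hf).toEquiv).symm
      rw [← h1]
      exact H.Todd
    fix := fix_of_map f hf H.fix
    fix' := fix_of_map f hf H.fix'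
    lin := lin_of_map f hf (fun t ht v hv => hTV t ht _ v hv) H.lin
    lin' := lin_of_map f hf (fun t ht v hv => hTV t ht _ v hv) H.lin'
    surj := by
      obtain ⟨_, ⟨v, hv, rfl⟩, h1⟩ := H.surj
      refine ⟨v, hv, fun z hz => ?_⟩
      obtain ⟨_, ⟨w, hw, rfl⟩, e⟩ := h1 (f z) ⟨z, hz, rfl⟩
      exact ⟨w, hw, hf (by rw [map_commutatorElement, e])⟩
    ncl := fun q hq h1 => by
      rw [← mem_map_inj f hf]
      refine H.ncl (f q) ⟨q, hq, rfl⟩ ?_
      rintro _ ⟨p, hp, rfl⟩ _ ⟨v, hv, rfl⟩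
      rw [← map_inv, ← map_mul, ← map_mul]
      exact (Full.comm_map f hf).2 (h1 p hp v hv)
    kap := fun j => by
      obtain ⟨_, ⟨k, hk, rfl⟩, hkP, h1⟩ := H.kap j
      rw [mem_map_inj f hf] at hkP
      refine ⟨k, hk, hkP, fun v hv h2 => hf ?_⟩
      rw [map_one]
      refine h1 (f v) ⟨v, hv, rfl⟩ ?_
      rw [← map_inv, ← map_mul, ← map_mul, h2]
    perf := by
      have h1 := H.perf
      rw [← Subgroup.map_commutator] at h1
      exact (Subgroup.map_le_map_iff_of_injective hf).1 h1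
    T0T := (Subgroup.map_le_map_iff_of_injective hf).1 H.T0T
    T0Q := fun h hh p hp => by
      rw [← mem_map_inj f hf, map_mul, map_mul, map_mul, map_inv, map_inv]
      exact H.T0Q (f h) ⟨h, hh, rfl⟩ (f p) ⟨p, hp, rfl⟩
    tr := fun x hx hx1 y hy hy1 => by
      obtain ⟨_, ⟨t, ht, rfl⟩, e⟩ := H.tr (f x) ⟨x, hx, rfl⟩ (fun h => hx1 (hf (by rw [h, map_one]))) (f y)
        ⟨y, hy, rfl⟩ (fun h => hy1 (hf (by rw [h, map_one])))
      exact ⟨t, ht, hf (by rw [map_mul, map_mul, map_inv, e])⟩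
    big := by
      obtain ⟨_, ⟨x, hx, rfl⟩, _, ⟨y, hy, rfl⟩, h1, h2, h3⟩ := H.big
      exact ⟨x, hx, y, hy, fun h => h1 (by rw [h, map_one]), fun h => h2 (by rw [h, map_one]),
        fun h => h3 (by rw [h])⟩
    zsq := fun z hz => hf (by rw [map_mul, map_one]; exact H.zsq (f z) ⟨z, hz, rfl⟩) }

end Cfsg.Agent.KFacts.SpecLoc
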