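import Cfsg.Agent.KFacts.SpecKfour
import Cfsg.Agent.OddHalf.DblR.Exist

/-!
# `Loc` (ODD, D4) from `Spec` (helper335)

* `Full P Q Z T T0 V st i` : `Spec` with everything needed for (k4) and (B);
* `Full.loc` : `Loc K R P Q Z T0` (`amb`, `two`, `k3` are hypotheses);
* `Full.map` : transport along injective homomorphisms.
-/

set_option autoImplicit false
set_option linter.unusedSectionVars false

namespace Cfsg.Agent.KFacts.SpecLoc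

open Cfsg.Agent.KFacts.SpecKfour Cfsg.Agent.OddHalf.DblR
open scoped commutatorElement

variable {Y ι : Type*} [Group Y]

/-- `Spec` with everything needed for (k4), (B). -/
structure Full (P Q Z T T0 : Subgroup Y) (V : ι → Subgroup Y) (st : ι → ι) (i : ι) : Prop
    extends Spec P Q Z T V st where
  fix : Fix P Q Z V i
  fix' : Fix P Q Z V (st i)
  lin : Lin P T V i
  lin' : Lin P T V (st i)
  surj : ∃ v ∈ V i, ∀ z ∈ Z, ∃ w ∈ V (st i), ⁅v, w⁆ = z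
  ncl : ∀ q ∈ Q, (∀ p ∈ P, ∀ v ∈ V i, q * (p * v * p⁻¹) = (p * v * p⁻¹) * q) → q ∈ Z
  kap : ∀ j, ∃ k ∈ T, k ∈ P ∧ ∀ v ∈ V j, k * v * k⁻¹ = v → v = 1
  perf : P ≤ ⁅P, P⁆
  T0T : T0 ≤ T
  T0Q : ∀ h ∈ T0, ∀ p ∈ P, h * p * h⁻¹ * p⁻¹ ∈ Q
  tr : ∀ x ∈ Z, x ≠ 1 → ∀ y ∈ Z, y ≠ 1 → ∃ t ∈ T0, t * x * t⁻¹ = y
  big : ∃ x ∈ Z, ∃ y ∈ Z, x ≠ 1 ∧ y ≠ 1 ∧ x ≠ y
  zsq : ∀ z ∈ Z, z * z = 1

namespace Full

variable {P Q Z T T0 : Subgroup Y} {V : ι → Subgroup Y} {st : ι → ι} {i : ι} (H : Full P Q Z T T0 V st i)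

include H

/-- a fixed point free `k` is fixed point free on the dual group, too -/
theorem kap2 (j : ι) [Finite ↥(V j)] : ∃ k ∈ T, k ∈ P ∧ (∀ v ∈ V j, k * v * k⁻¹ = v → v = 1) ∧
    ∀ v ∈ V (st j), k * v * k⁻¹ = v → v = 1 := by
  obtain ⟨k, hkT, hkP, hf⟩ := H.kap j
  refine ⟨k, hkT, hkP, hf, fun w hw he => ?_⟩
  refine H.nd (st j) w hw fun u hu => ?_
  rw [H.stst] at hu
  obtain ⟨v, hv, rfl⟩ := surj_comm (H.ab j) (fun v hv => H.TV k hkT j v hv) hf hu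
  have hkv := H.TV k hkT j v hv
  have h1 : ⁅k * v * k⁻¹, w⁆ = ⁅v, w⁆ := by
    have h2 : ⁅k * v * k⁻¹, k * w * k⁻¹⁆ = k * ⁅v, w⁆ * k⁻¹ := by simp only [commutatorElement_def]; group
    rw [he] at h2
    rw [h2, H.cen k hkP _ (H.br j v hv w hw)]; group
  have h3 : ⁅k * v * k⁻¹ * v⁻¹, w⁆ = 1 := by
    have h4 : ⁅k * v * k⁻¹ * v⁻¹, w⁆ = (k * v * k⁻¹) * ⁅v⁻¹, w⁆ * (k * v * k⁻¹)⁻¹ * ⁅k * v * k⁻¹, w⁆ := by
      simp only [commutatorElement_def]; group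
    have h5 : ⁅v⁻¹, w⁆ = v⁻¹ * ⁅v, w⁆⁻¹ * v := by simp only [commutatorElement_def]; group
    have h6 : v⁻¹ * ⁅v, w⁆⁻¹ = ⁅v, w⁆⁻¹ * v⁻¹ :=
      H.cenQ (H.VQ j (inv_mem hv)) (inv_mem (H.br j v hv w hw))
    have h7 : (k * v * k⁻¹) * ⁅v, w⁆⁻¹ = ⁅v, w⁆⁻¹ * (k * v * k⁻¹) :=
      H.cenQ (H.VQ j hkv) (inv_mem (H.br j v hv w hw))
    rw [h4, h5, h6, h1]
    calc k * v * k⁻¹ * (⁅v, w⁆⁻¹ * v⁻¹ * v) * (k * v * k⁻¹)⁻¹ * ⁅v, w⁆
        = (k * v * k⁻¹ * ⁅v, w⁆⁻¹) * (k * v * k⁻¹)⁻¹ * ⁅v, w⁆ := by group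
      _ = 1 := by rw [h7]; group
  exact (commutatorElement_eq_one_iff_mul_comm.1 h3).symm

/-- **`Loc`** -/
theorem loc [Finite Y] [Finite ι] {K R : Subgroup Y} (PK : P ≤ K) (TK : T0 ≤ K) (amb : Amb K R)
    (two : ∀ c ∈ C1 K R, IsPGroup 2 (Subgroup.zpowers c) → c ∈ R)
    (k3 : ∀ c : Y, (∀ a ∈ R, c * a = a * c) → (∀ p ∈ P, c * p = p * c) → ∃ x ∈ Z, x⁻¹ * c ∈ C1 K R) :
    Loc K R P Q Z T0 where
  amb := amb
  PK := PK
  QP := H.QP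
  XQ := H.ZQ
  XX := H.zsq
  XZ := fun x hx p hp => (H.cen p hp x hx).symm
  QN := H.QN
  TK := TK
  TX := fun t ht x hx => H.TZ t (H.T0T ht) x hx
  TQ := H.T0Q
  Tab := fun s hs t ht => H.Tab s (H.T0T hs) t (H.T0T ht)
  Ttr := H.tr
  big := H.big
  two := two
  k3 := k3
  k4 := fun _ _ _ heX he => H.k4 he H.fix H.lin H.fix' H.lin' H.surj H.T0T H.tr heX
  B := by
    intro y hy hyP hyX
    obtain ⟨k, hk⟩ := hy ⟨y, Subgroup.mem_zpowers y⟩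
    have hy2 : y ^ 2 ^ k = 1 := congrArg Subtype.val hk
    exact H.B hyP hyX hy2 H.fix H.lin H.ncl (fun j => H.kap2 j) H.perf

/-! ### transport -/

variable {Y' : Type*} [Group Y'] (f : Y →* Y') (hf : Function.Injective f)

include hf

omit H in
theorem comm_map {a b : Y} : f a * f b = f b * f a ↔ a * b = b * a := by
  rw [← map_mul, ← map_mul]
  exact hf.eq_iff

omit H in
theorem fix_map {P Q Z : Subgroup Y} {V : ι → Subgroup Y} {i : ι} (h : Fix P Q Z V i) :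
    Fix (P.map f) (Q.map f) (Z.map f) (fun j => (V j).map f) i := by
  rintro _ ⟨q, hq, rfl⟩ h1
  obtain ⟨v, hv, z, hz, e⟩ := h q hq (fun x hx hxv => by
    have h2 := h1 (f x) ⟨x, hx, rfl⟩ (by
      rintro _ ⟨v, hv, rfl⟩
      exact (comm_map f hf).2 (hxv v hv))
    rw [← map_commutatorElement] at h2
    obtain ⟨z, hz, e⟩ := h2
    rw [← hf e]; exact hz)
  exact ⟨f v, ⟨v, hv, rfl⟩, f z, ⟨z, hz, rfl⟩, by rw [e, map_mul]⟩

omit H in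
theorem lin_map {P T : Subgroup Y} {V : ι → Subgroup Y} {i : ι} (hTV : ∀ t ∈ T, ∀ v ∈ V i, t * v * t⁻¹ ∈ V i)
    (h : Lin P T V i) : Lin (P.map f) (T.map f) (fun j => (V j).map f) i := by
  classical
  intro g hg hm hi ht
  have h0 : ∀ v ∈ V i, ∃ v', v' ∈ V i ∧ g (f v) = f v' := by
    intro v hv
    obtain ⟨v', hv', e⟩ := hg (f v) ⟨v, hv, rfl⟩
    exact ⟨v', hv', e.symm⟩
  choose! k hk1 hk2 using h0
  obtain ⟨s, hs, es⟩ := h k hk1 (fun u hu v hv => by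
      apply hf
      rw [map_mul, ← hk2 _ (mul_mem hu hv), ← hk2 u hu, ← hk2 v hv, map_mul]
      exact hm _ ⟨u, hu, rfl⟩ _ ⟨v, hv, rfl⟩)
    (fun v hv h1 => by
      have h2 := hk2 v hv
      rw [h1, map_one] at h2
      have h3 := hi _ ⟨v, hv, rfl⟩ h2
      exact hf (by rw [h3, map_one]))
    (fun t htT htP v hv => by
      have h1 := ht (f t) ⟨t, htT, rfl⟩ ⟨t, htP, rfl⟩ (f v) ⟨v, hv, rfl⟩
      apply hf
      rw [← hk2 _ (hTV t htT v hv), map_mul, map_mul, map_inv, map_mul, map_mul, map_inv, ← hk2 v hv]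
      exact h1)
  refine ⟨f s, ⟨s, hs, rfl⟩, ?_⟩
  rintro _ ⟨v, hv, rfl⟩
  rw [hk2 v hv, es v hv, map_mul, map_mul, map_inv]

/-- transport of `Full` -/
theorem map : Full (P.map f) (Q.map f) (Z.map f) (T.map f) (T0.map f) (fun j => (V j).map f) st i where
  QP := Subgroup.map_mono H.QP
  ZQ := Subgroup.map_mono H.ZQ
  VQ j := Subgroup.map_mono (H.VQ j)
  gen := by
    rw [← Subgroup.map_iSup, ← Subgroup.map_sup]
    exact Subgroup.map_mono H.gen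
  cen := by
    rintro _ ⟨p, hp, rfl⟩ _ ⟨z, hz, rfl⟩
    exact (comm_map f hf).2 (H.cen p hp z hz)
  QN := by
    rintro _ ⟨p, hp, rfl⟩ _ ⟨q, hq, rfl⟩
    exact ⟨_, H.QN p hp q hq, by rw [map_mul, map_mul, map_inv]⟩
  stst := H.stst
  ab := by
    rintro j _ ⟨u, hu, rfl⟩ _ ⟨v, hv, rfl⟩
    exact (comm_map f hf).2 (H.ab j u hu v hv)
  comm1 := by
    rintro j k hjk _ ⟨u, hu, rfl⟩ _ ⟨v, hv, rfl⟩
    exact (comm_map f hf).2 (H.comm1 j k hjk u hu v hv)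
  br := by
    rintro j _ ⟨u, hu, rfl⟩ _ ⟨v, hv, rfl⟩
    rw [← map_commutatorElement]
    exact ⟨_, H.br j u hu v hv, rfl⟩
  nd := by
    rintro j _ ⟨u, hu, rfl⟩ h1
    rw [H.nd j u hu fun v hv => (comm_map f hf).1 (h1 _ ⟨v, hv, rfl⟩), map_one]
  sq := by
    rintro j _ ⟨u, hu, rfl⟩
    rw [← map_mul, H.sq j u hu, map_one]
  TV := by
    rintro _ ⟨t, ht, rfl⟩ j _ ⟨v, hv, rfl⟩
    exact ⟨_, H.TV t ht j v hv, by rw [map_mul, map_mul, map_inv]⟩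
  TZ := by
    rintro _ ⟨t, ht, rfl⟩ _ ⟨v, hv, rfl⟩
    exact ⟨_, H.TZ t ht v hv, by rw [map_mul, map_mul, map_inv]⟩
  Tab := by
    rintro _ ⟨t, ht, rfl⟩ _ ⟨v, hv, rfl⟩
    exact (comm_map f hf).2 (H.Tab t ht v hv)
  Todd := by
    have h1 : Nat.card ↥(T.map f) = Nat.card ↥T := (Nat.card_congr (T.equivMapOfInjective f hf).toEquiv).symm
    rw [h1]
    exact H.Todd
  fix := fix_map f hf H.fix
  fix' := fix_map f hf H.fix'
  lin := lin_map f hf (fun t ht v hv => H.TV t ht _ v hv) H.lin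
  lin' := lin_map f hf (fun t ht v hv => H.TV t ht _ v hv) H.lin'
  surj := by
    obtain ⟨v, hv, h1⟩ := H.surj
    refine ⟨f v, ⟨v, hv, rfl⟩, ?_⟩
    rintro _ ⟨z, hz, rfl⟩
    obtain ⟨w, hw, e⟩ := h1 z hz
    exact ⟨f w, ⟨w, hw, rfl⟩, by rw [← map_commutatorElement, e]⟩
  ncl := by
    rintro _ ⟨q, hq, rfl⟩ h1
    refine ⟨q, H.ncl q hq fun p hp v hv => ?_, rfl⟩
    have h2 := h1 (f p) ⟨p, hp, rfl⟩ (f v) ⟨v, hv, rfl⟩
    rw [← map_inv, ← map_mul, ← map_mul] at h2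
    exact (comm_map f hf).1 h2
  kap := by
    intro j
    obtain ⟨k, hkT, hkP, h1⟩ := H.kap j
    refine ⟨f k, ⟨k, hkT, rfl⟩, ⟨k, hkP, rfl⟩, ?_⟩
    rintro _ ⟨v, hv, rfl⟩ h2
    rw [h1 v hv (hf (by rw [map_mul, map_mul, map_inv]; exact h2)), map_one]
  perf := by
    rw [← Subgroup.map_commutator]
    exact Subgroup.map_mono H.perf
  T0T := Subgroup.map_mono H.T0T
  T0Q := by
    rintro _ ⟨t, ht, rfl⟩ _ ⟨v, hv, rfl⟩
    exact ⟨_, H.T0Q t ht v hv, by rw [map_mul, map_mul, map_mul, map_inv, map_inv]⟩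
  tr := by
    rintro _ ⟨x, hx, rfl⟩ hx1 _ ⟨y, hy, rfl⟩ hy1
    obtain ⟨t, ht, e⟩ := H.tr x hx (by rintro rfl; exact hx1 (map_one f)) y hy (by rintro rfl; exact hy1 (map_one f))
    exact ⟨f t, ⟨t, ht, rfl⟩, by rw [← e, map_mul, map_mul, map_inv]⟩
  big := by
    obtain ⟨x, hx, y, hy, h1, h2, h3⟩ := H.big
    refine ⟨f x, ⟨x, hx, rfl⟩, f y, ⟨y, hy, rfl⟩, fun h => h1 (hf (by rw [h, map_one])),
      fun h => h2 (hf (by rw [h, map_one])), fun h => h3 (hf h)⟩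
  zsq := by
    rintro _ ⟨x, hx, rfl⟩
    rw [← map_mul, H.zsq x hx, map_one]

end Full

end Cfsg.Agent.KFacts.SpecLoc
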