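import Mathlib
import Cfsg.Agent.KFacts.SpecLoc
import Cfsg.Agent.KFacts.SpecComap
import Cfsg.Agent.KFacts.RgdLoc

/-!
# `Loc` and `NorX` for a long root of a root group datum from `Full` (ODD, D4, K-side; helper335)

* `T0 T X r = T ⊓ ⟨X r, X (-r)⟩`;
* `HasFull cs h T X r` : the structure `Full` for `P = ⟨X a : ⟨a, r⟩ ≥ 0⟩`, `Q = ⟨X a : ⟨a, r⟩ > 0⟩`, `Z = X r`;
* `HasFull.map`, `HasFull.of_map` : transport along injective homomorphisms;
* `HasFull.loc : Loc (GG cs h T X) Rr P Q (X r) T0` (`amb`, `two`, `k3` are hypotheses);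
* `norX : NorX (GG cs h T X) P (X r) T0` from `LR R r` and `[T, T0] = 1`;
* `HasFull.perfect : P ≤ ⁅P, P⁆`.
-/

set_option autoImplicit false
set_option linter.unusedSectionVars false

namespace Cfsg.Agent.KFacts.RgdLocL

open CoxeterSystem Cfsg.Agent.ChevalleyStructure.CoxeterGeom Cfsg.Agent.Tits.Roots Cfsg.Agent.Tits.Core
  Cfsg.Agent.Tits.Exchange Cfsg.Agent.Nodes.Reps Cfsg.Agent.Nodes.BNOf Cfsg.Agent.Nodes.StabComb
  Cfsg.Agent.Nodes.Bruhat Cfsg.Agent.Nodes.OppDec Cfsg.Agent.Nodes.PosPair Cfsg.Agent.Nodes.Coroot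
  Cfsg.Agent.KFacts.RgdPar Cfsg.Agent.KFacts.RgdSL Cfsg.Agent.KFacts.RgdTI Cfsg.Agent.KFacts.RgdOdd
  Cfsg.Agent.KFacts.RgdTor Cfsg.Agent.KFacts.SpecLoc Cfsg.Agent.OddHalf.DblR
open scoped commutatorElement

variable {I W Y : Type*} [Fintype I] [DecidableEq I] [Group W] [Group Y] {M : CoxeterMatrix I}
  {cs : CoxeterSystem M W} {A : I → I → ℤ} {h : IsCartan M A} {T : Subgroup Y} {n : I → Y}
  {X : (I → ℤ) → Subgroup Y}

variable (cs h T X) in
/-- **`Full` for the root `r`.** -/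
def HasFull (r : I → ℤ) : Prop :=
  ∃ (ι : Type) (_ : Finite ι) (V : ι → Subgroup Y) (st : ι → ι) (i : ι) (T' : Subgroup Y),
    Full (RGD.Sup X (Ge cs h r)) (RGD.Sup X (Rad cs h r)) (X r) T' (T ⊓ (X r ⊔ X (-r))) V st i

theorem map_Sup' {Y' : Type*} [Group Y'] (f : Y →* Y') (S : Set (I → ℤ)) :
    (RGD.Sup X S).map f = RGD.Sup (fun x => (X x).map f) S := by
  unfold RGD.Sup
  rw [Subgroup.map_iSup]

theorem HasFull.map {r : I → ℤ} (H : HasFull cs h T X r) {Y' : Type*} [Group Y'] (f : Y →* Y')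
    (hf : Function.Injective f) : HasFull cs h (T.map f) (fun x => (X x).map f) r := by
  obtain ⟨ι, hι, V, st, i, T', H⟩ := H
  refine ⟨ι, hι, fun j => (V j).map f, st, i, T'.map f, ?_⟩
  have h1 := H.map f hf
  rwa [map_Sup', map_Sup', Subgroup.map_inf _ _ _ hf, Subgroup.map_sup] at h1

theorem HasFull.perfect {r : I → ℤ} (H : HasFull cs h T X r) :
    RGD.Sup X (Ge cs h r) ≤ ⁅RGD.Sup X (Ge cs h r), RGD.Sup X (Ge cs h r)⁆ := by
  obtain ⟨ι, hι, V, st, i, T', H⟩ := H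
  exact H.perf

/-- **`Loc`** -/
theorem HasFull.loc [Finite Y] {r : I → ℤ} (H : HasFull cs h T X r) {K Rr : Subgroup Y}
    (hK : GG cs h T X ≤ K) (amb : Amb K Rr)
    (two : ∀ c ∈ C1 K Rr, IsPGroup 2 (Subgroup.zpowers c) → c ∈ Rr)
    (k3 : ∀ c : Y, (∀ a ∈ Rr, c * a = a * c) → (∀ p ∈ RGD.Sup X (Ge cs h r), c * p = p * c) →
      ∃ x ∈ X r, x⁻¹ * c ∈ C1 K Rr) :
    Loc K Rr (RGD.Sup X (Ge cs h r)) (RGD.Sup X (Rad cs h r)) (X r) (T ⊓ (X r ⊔ X (-r))) := by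
  obtain ⟨ι, hι, V, st, i, T', H⟩ := H
  refine H.loc (le_trans (le_trans (RGD.Sup_mono fun _ hx => hx.1) le_sup_right) hK)
    (le_trans inf_le_left (le_trans le_sup_left hK)) amb two k3

theorem t_conj_P {p : ℕ} (R : RGD cs h p T n X) {r : I → ℤ} {t g : Y} (ht : t ∈ T)
    (hg : g ∈ RGD.Sup X (Ge cs h r)) : t * g * t⁻¹ ∈ RGD.Sup X (Ge cs h r) := by
  have h1 : RGD.Sup X (Ge cs h r) ≤ (RGD.Sup X (Ge cs h r)).comap (MulAut.conj t).toMonoidHom := by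
    refine RGD.Sup_le fun a ha u hu => ?_
    rw [Subgroup.mem_comap]
    exact RGD.le_Sup ha (tor_mem R ha.1 ht hu)
  exact h1 hg

/-- **`NorX`** -/
theorem norX [Finite W] {p : ℕ} {R : RGD cs h p T n X} {r : I → ℤ} (L : LR R r)
    (tc : ∀ s ∈ T, ∀ t ∈ T ⊓ (X r ⊔ X (-r)), s * t = t * s) :
    NorX (GG cs h T X) (RGD.Sup X (Ge cs h r)) (X r) (T ⊓ (X r ⊔ X (-r))) := by
  have hGG : ∀ k ∈ GG cs h T X, cj k (X r) = X r → k ∈ PS T X (Ge cs h r) := by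
    intro k hk hX
    rw [← L.normalizer]
    exact Subgroup.mem_inf.2 ⟨mem_normalizer_iff_cj.2 hX, hk⟩
  -- the elements of `T ⊔ P`
  have hP : ∀ k ∈ PS T X (Ge cs h r), (∀ p ∈ RGD.Sup X (Ge cs h r), k * p * k⁻¹ ∈ RGD.Sup X (Ge cs h r)) ∧
      (∀ p ∈ RGD.Sup X (Ge cs h r), k⁻¹ * p * k ∈ RGD.Sup X (Ge cs h r)) ∧
      ∀ t ∈ T ⊓ (X r ⊔ X (-r)), ∃ p ∈ RGD.Sup X (Ge cs h r), k * t * k⁻¹ = t * p := by
    let L : Subgroup Y :=
      { carrier := {k | (∀ p ∈ RGD.Sup X (Ge cs h r), k * p * k⁻¹ ∈ RGD.Sup X (Ge cs h r)) ∧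
          (∀ p ∈ RGD.Sup X (Ge cs h r), k⁻¹ * p * k ∈ RGD.Sup X (Ge cs h r)) ∧
          ∀ t ∈ T ⊓ (X r ⊔ X (-r)), ∃ p ∈ RGD.Sup X (Ge cs h r), k * t * k⁻¹ = t * p}
        one_mem' := ⟨fun p hp => by simpa using hp, fun p hp => by simpa using hp,
          fun t _ => ⟨1, one_mem _, by simp⟩⟩
        mul_mem' := by
          rintro x y ⟨hx, hx', hx''⟩ ⟨hy, hy', hy''⟩
          refine ⟨fun p hp => ?_, fun p hp => ?_, fun t ht => ?_⟩
          · have : x * y * p * (x * y)⁻¹ = x * (y * p * y⁻¹) * x⁻¹ := by group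
            rw [this]; exact hx _ (hy _ hp)
          · have : (x * y)⁻¹ * p * (x * y) = y⁻¹ * (x⁻¹ * p * x) * y := by group
            rw [this]; exact hy' _ (hx' _ hp)
          · obtain ⟨p, hp, e⟩ := hy'' t ht
            obtain ⟨p', hp', e'⟩ := hx'' t ht
            refine ⟨p' * (x * p * x⁻¹), mul_mem hp' (hx p hp), ?_⟩
            calc x * y * t * (x * y)⁻¹ = x * (y * t * y⁻¹) * x⁻¹ := by group
              _ = (x * t * x⁻¹) * (x * p * x⁻¹) := by rw [e]; group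
              _ = _ := by rw [e']; group
        inv_mem' := by
          rintro x ⟨hx, hx', hx''⟩
          refine ⟨fun p hp => by rw [inv_inv]; exact hx' p hp, fun p hp => by rw [inv_inv]; exact hx p hp,
            fun t ht => ?_⟩
          obtain ⟨p, hp, e⟩ := hx'' t ht
          refine ⟨(x⁻¹ * p * x)⁻¹, inv_mem (hx' p hp), ?_⟩
          have h1 : t = x⁻¹ * (t * p) * x := by rw [← e]; group
          calc x⁻¹ * t * x⁻¹⁻¹ = (x⁻¹ * (t * p) * x) * (x⁻¹ * p * x)⁻¹ := by group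
            _ = t * (x⁻¹ * p * x)⁻¹ := by rw [← h1] }
    have hL : PS T X (Ge cs h r) ≤ L := by
      refine sup_le ?_ ?_
      · intro k hk
        refine ⟨fun p hp => t_conj_P R hk hp, fun p hp => ?_, fun t ht => ⟨1, one_mem _, ?_⟩⟩
        · have := t_conj_P R (inv_mem hk) hp
          rwa [inv_inv] at this
        · rw [tc k hk t ht]; group
      · intro k hk
        refine ⟨fun p hp => mul_mem (mul_mem hk hp) (inv_mem hk), fun p hp => mul_mem (mul_mem (inv_mem hk) hp) hk,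
          fun t ht => ⟨t⁻¹ * k * t⁻¹⁻¹ * k⁻¹,
            mul_mem (t_conj_P R (inv_mem (Subgroup.mem_inf.1 ht).1) hk) (inv_mem hk), by group⟩⟩
    exact fun k hk => hL hk
  refine ⟨fun k hk hX => ?_, fun k hk hX => (hP k (hGG k hk hX)).2.2⟩
  obtain ⟨h1, h2, -⟩ := hP k (hGG k hk hX)
  apply le_antisymm
  · intro x hx
    rw [mem_cj] at hx
    have := h1 _ hx
    have e : k * (k⁻¹ * x * k) * k⁻¹ = x := by group
    rwa [e] at this
  · intro x hx
    rw [mem_cj]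
    exact h2 x hx

end Cfsg.Agent.KFacts.RgdLocL
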