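import Mathlib
import Cfsg.Agent.KFacts.RgdTau

/-!
# Frame automorphisms fixing the nodes, with a coordinate field for every node

For twisted groups the simple root groups are coordinatised by different fields `K i`. `NTau T X χ β τ` : `β` fixes all
nodes and acts on the simple root group `i` with the field automorphism `τ i`.
-/

set_option autoImplicit false
set_option linter.unusedSectionVars false

namespace Cfsg.Agent.KFacts.RgdNodes

open CoxeterSystem Cfsg.Agent.ChevalleyStructure.CoxeterGeom Cfsg.Agent.Tits.Roots Cfsg.Agent.Tits.Core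
  Cfsg.Agent.Tits.Exchange Cfsg.Agent.Nodes.Reps Cfsg.Agent.Nodes.BNOf Cfsg.Agent.Nodes.StabComb
  Cfsg.Agent.Nodes.Bruhat Cfsg.Agent.Nodes.OppDec Cfsg.Agent.Nodes.LeviDec Cfsg.Agent.Nodes.NormalForm
  Cfsg.Agent.KFacts.RgdOpp Cfsg.Agent.KFacts.RgdAut Cfsg.Agent.KFacts.RgdDiag Cfsg.Agent.KFacts.RgdRigid
  Cfsg.Agent.KFacts.RgdField Cfsg.Agent.KFacts.RgdTau
open scoped commutatorElement

universe v

variable {I W Y : Type*} [Fintype I] [DecidableEq I] [Group W] [Group Y] {M : CoxeterMatrix I}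
  {cs : CoxeterSystem M W} {A : I → I → ℤ} {h : IsCartan M A} {p : ℕ} {T : Subgroup Y} {n : I → Y}
  {X : (I → ℤ) → Subgroup Y} {K : I → Type v} [∀ i, Field (K i)] {x : ∀ i, K i → Y} {χ : ∀ i, Y → K i}

/-- A frame automorphism permutes simple root groups of the same order. -/
theorem Diag.card_eq {β : MulAut Y} {σ : Equiv.Perm I} (D : Diag T X β σ) (i : I) :
    Nat.card ↥(X (sr (σ i))) = Nat.card ↥(X (sr i)) := by
  refine (Nat.card_congr (Equiv.ofBijective (fun y : ↥(X (sr i)) => (⟨β y.1, (D.pos i y.1).2 y.2⟩ : ↥(X (sr (σ i)))))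
    ⟨fun a b hab => Subtype.ext (β.injective (congrArg Subtype.val hab)), fun b => ?_⟩)).symm
  refine ⟨⟨β⁻¹ b.1, (D.pos i _).1 (by rw [MulAut.apply_inv_self]; exact b.2)⟩, Subtype.ext ?_⟩
  exact MulAut.apply_inv_self _ β b.1

/-- `β` fixes all nodes and acts on the simple root group `i` with the field automorphism `τ i`. -/
structure NTau (T : Subgroup Y) (X : (I → ℤ) → Subgroup Y) (χ : ∀ i, Y → K i) (β : MulAut Y)
    (τ : ∀ i, K i ≃+* K i) : Prop where
  diag : Diag T X β 1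
  char : ∀ i, ∀ t ∈ T, χ i (β t) = τ i (χ i t)

theorem NTau.one : NTau T X χ (1 : MulAut Y) (1 : ∀ i, K i ≃+* K i) where
  diag := Diag.one
  char _ _ _ := rfl

theorem NTau.mul {β β' : MulAut Y} {τ τ' : ∀ i, K i ≃+* K i} (S : NTau T X χ β τ) (S' : NTau T X χ β' τ') :
    NTau T X χ (β * β') (τ * τ') where
  diag := by
    have := S.diag.mul S'.diag
    rwa [mul_one] at this
  char i t ht := by
    rw [MulAut.mul_apply, S.char _ _ ((S'.diag.tor t).2 ht), S'.char i t ht]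
    rfl

theorem NTau.inv {β : MulAut Y} {τ : ∀ i, K i ≃+* K i} (S : NTau T X χ β τ) : NTau T X χ β⁻¹ τ⁻¹ where
  diag := by
    have := S.diag.inv
    rwa [inv_one] at this
  char i t ht := by
    have h2 := S.char i (β⁻¹ t) ((S.diag.tor.inv t).2 ht)
    rw [MulAut.apply_inv_self] at h2
    rw [h2]
    exact ((τ i).symm_apply_apply _).symm

variable (C : ∀ i, Coord T (X (sr i)) (x i) (χ i))

include C

theorem exists_ntau {β : MulAut Y} (D : Diag T X β 1) : ∃ τ : ∀ i, K i ≃+* K i, NTau T X χ β τ := by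
  have h1 : ∀ i, ∃ (τ : K i ≃+* K i) (c : K i), c ≠ 0 ∧ (∀ a, β (x i a) = x i (c * τ a)) ∧
      ∀ t ∈ T, χ i (β t) = τ (χ i t) := fun i => (C i).exists_semi (C i) D.tor (D.pos i)
  choose τ c hc hx hchar using h1
  exact ⟨τ, D, hchar⟩

theorem NTau.semi {β : MulAut Y} {τ : ∀ i, K i ≃+* K i} (S : NTau T X χ β τ) (i : I) :
    ∃ c, c ≠ 0 ∧ ∀ a, β (x i a) = x i (c * τ i a) := by
  obtain ⟨τ', c, hc, hx, hchar⟩ := (C i).exists_semi (C i) S.diag.tor (S.diag.pos i)
  have h1 : τ' = τ i := by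
    apply (C i).ext
    intro t ht
    rw [← hchar t ht, S.char i t ht]
  exact ⟨c, hc, fun a => by rw [hx a, h1]⟩

theorem NTau.unique {β : MulAut Y} {τ τ' : ∀ i, K i ≃+* K i} (S : NTau T X χ β τ) (S' : NTau T X χ β τ') :
    τ = τ' := by
  funext i
  apply (C i).ext
  intro t ht
  rw [← S.char i t ht, S'.char i t ht]

/-- **A `p`-element fixing all nodes with trivial field automorphisms is trivial.** -/
theorem NTau.eq_one (R : RGD cs h p T n X) [Finite W] [∀ i, CharP (K i) p] [Fact p.Prime]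
    (hG1 : RGD.Sup X {x | IsRoot cs h x} = ⊤) {β : MulAut Y} (S : NTau T X χ β 1) {k : ℕ}
    (hβ : β ^ p ^ k = 1) : β = 1 := by
  apply Diag.eq_one R hG1 S.diag
  intro i y hy
  obtain ⟨c, hc, e⟩ := NTau.semi C S i
  have e' : ∀ a, β (x i a) = x i (c * a) := fun a => e a
  have h1 : ∀ m a, (β ^ m) (x i a) = x i (c ^ m * a) := by
    intro m
    induction m with
    | zero => intro a; rw [pow_zero, pow_zero, one_mul]; rfl
    | succ m ih =>
      intro a
      rw [pow_succ, MulAut.mul_apply, e', ih, pow_succ, mul_assoc]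
  have h2 := h1 (p ^ k) 1
  rw [hβ, MulAut.one_apply, mul_one] at h2
  have h3 := (C i).inj h2
  have h4 : c = 1 := by
    haveI : ExpChar (K i) p := ExpChar.prime Fact.out
    have h5 : (c - 1) ^ p ^ k = 0 := by rw [sub_pow_expChar_pow, ← h3, one_pow, sub_self]
    exact sub_eq_zero.1 (pow_eq_zero_iff (pow_ne_zero _ (Fact.out : p.Prime).ne_zero) |>.1 h5)
  obtain ⟨a, rfl⟩ := ((C i).mem y).1 hy
  rw [e', h4, one_mul]

/-- A `p`-element acts on the simple root groups as a pure field automorphism. -/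
theorem NTau.pure (R : RGD cs h p T n X) [Finite W] [Finite Y] [Fact p.Prime] {β : MulAut Y}
    {τ : ∀ i, K i ≃+* K i} (S : NTau T X χ β τ) {k : ℕ} (hβ : β ^ p ^ k = 1) (i : I) :
    ∃ a₀, a₀ ≠ 0 ∧ ∀ a, β (x i (a₀ * a)) = x i (a₀ * τ i a) := by
  have hP : Fix β (X (sr i)) := S.diag.pos i
  obtain ⟨y, hy, hy1, hyf⟩ := exists_fixed hβ hP (R.pgrp i) (X_ne_bot R (isRoot_sr cs h i))
  obtain ⟨a₀, rfl⟩ := ((C i).mem y).1 hy
  have ha : a₀ ≠ 0 := by
    rintro rfl
    exact hy1 (C i).zero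
  obtain ⟨c, hc, e⟩ := NTau.semi C S i
  rw [e] at hyf
  have h1 := (C i).inj hyf
  refine ⟨a₀, ha, fun a => ?_⟩
  rw [e, map_mul, ← mul_assoc, h1]

/-- **The `p`-part of the outer automorphism group**, when all diagram symmetries of automorphisms are trivial: a
`p`-group of automorphisms fixing `U` embeds, modulo the inner automorphisms from `U`, in `∏ Aut (K i)`. -/
theorem exists_outer_nodes (R : RGD cs h p T n X) [Finite W] [∀ i, CharP (K i) p] [Fact p.Prime]
    (hG1 : RGD.Sup X {x | IsRoot cs h x} = ⊤)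
    (hone : ∀ σ : Equiv.Perm I, (∀ i j, M (σ i) (σ j) = M i j) →
      (∀ i, Nat.card ↥(X (sr (σ i))) = Nat.card ↥(X (sr i))) → σ = 1)
    {S : Subgroup (MulAut Y)} (hSp : IsPGroup p ↥S) (hS : ∀ α ∈ S, Fix α (RGD.Sup X (RGD.Pos cs h))) :
    ∃ f : ↥S →* (∀ i, K i ≃+* K i), ∀ α : ↥S,
      (∃ u ∈ RGD.Sup X (RGD.Pos cs h), NTau T X χ (MulAut.conj u * α.1) (f α)) ∧
      (f α = 1 ↔ ∃ u ∈ RGD.Sup X (RGD.Pos cs h), α.1 = MulAut.conj u) := by
  have hG := GG_eq_top (T := T) hG1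
  obtain ⟨g, hg⟩ := exists_toFrame R hG S hS
  have h1 : ∀ α : ↥S, ∃ q : ∀ i, K i ≃+* K i, NTau T X χ (g α) q := by
    intro α
    obtain ⟨σ, D⟩ := exists_diag R hG (hg α).1.1 (hg α).1.2
    have h2 := hone σ (D.matrix R) (Diag.card_eq D)
    subst h2
    exact exists_ntau C D
  choose q hq using h1
  refine ⟨MonoidHom.mk' q fun α γ => NTau.unique C (hq _) ?_, fun α => ⟨?_, ?_⟩⟩
  · rw [map_mul]
    exact (hq α).mul (hq γ)
  · obtain ⟨u, hu, e⟩ := (hg α).2.1
    refine ⟨u, hu, ?_⟩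
    rw [← e]
    exact hq α
  · rw [← (hg α).2.2.2.1]
    constructor
    · intro h2
      have h3 : q α = 1 := h2
      have h4 := hq α
      rw [h3] at h4
      obtain ⟨k, hk⟩ := hSp α
      exact NTau.eq_one C R hG1 h4 ((hg α).2.2.1 _ hk)
    · intro h2
      show q α = 1
      apply NTau.unique C (hq α)
      rw [h2]
      exact NTau.one

end Cfsg.Agent.KFacts.RgdNodes
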