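import Cfsg.Agent.KFacts.ChevTwo
import Cfsg.Agent.KFacts.RgdKap
import Cfsg.Agent.KFacts.RgdChevCoord

/-!
# Coordinates of a root group datum from a Chevalley group of characteristic two (K-facts for S1765, D7, D10)

`Compat R D` : `R : RGD cs h 2 T n X` and `D : ChevTwo.Data cs h e` belong together: `X x = {e x a}`, `n i = nel e (sr i)`,
`T` acts on the root groups by scalars, `hel e (sr j) a ∈ T`.

* `coords`, `coroots`, `fullChar` : helper181's `Coords`, `Coroots`, `FullChar` (finite field, no centre in `T`).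
-/

set_option autoImplicit false
set_option linter.unusedSectionVars false

namespace Cfsg.Agent.KFacts.RgdOfData

open CoxeterSystem Cfsg.Agent.ChevalleyStructure.CoxeterGeom Cfsg.Agent.Tits.Roots Cfsg.Agent.Tits.Core
  Cfsg.Agent.Nodes.Reps Cfsg.Agent.Nodes.BNOf Cfsg.Agent.Nodes.Coroot Cfsg.Agent.Nodes.OppDec
  Cfsg.Agent.KFacts.ChevTwo Cfsg.Agent.KFacts.RgdField Cfsg.Agent.KFacts.RgdCent Cfsg.Agent.KFacts.RgdKap
  Cfsg.Agent.KFacts.RgdChevCoord
open scoped commutatorElement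

variable {I W Y F : Type*} [Fintype I] [DecidableEq I] [Group W] [Group Y] [Field F] {M : CoxeterMatrix I}
  {cs : CoxeterSystem M W} {A : I → I → ℤ} {h : IsCartan M A} {p : ℕ} {T : Subgroup Y} {n : I → Y}
  {X : (I → ℤ) → Subgroup Y} {e : (I → ℤ) → F → Y}

/-- The root group datum and the root elements belong together. -/
structure Compat (cs : CoxeterSystem M W) (h : IsCartan M A) (T : Subgroup Y) (n : I → Y)
    (X : (I → ℤ) → Subgroup Y) (e : (I → ℤ) → F → Y) : Prop where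
  mem : ∀ x, IsRoot cs h x → ∀ y, y ∈ X x ↔ ∃ a, e x a = y
  nn : ∀ i, n i = nel e (sr i)
  tor : ∀ t ∈ T, ∀ x, IsRoot cs h x → ∃ c, ∀ a, t * e x a * t⁻¹ = e x (c * a)
  hel : ∀ j a, a ≠ 0 → hel e (sr j) a ∈ T

section

variable (R : RGD cs h p T n X) (D : Data cs h e) (C : Compat cs h T n X e)

include D

theorem e_zero {x : I → ℤ} (hx : IsRoot cs h x) : e x 0 = 1 := by
  have := D.add x hx 0 0
  rwa [add_zero, left_eq_mul] at this

theorem e_sq {x : I → ℤ} (hx : IsRoot cs h x) (a : F) : e x a * e x a = 1 := by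
  rw [← D.add x hx, D.two, e_zero D hx]

theorem e_inv {x : I → ℤ} (hx : IsRoot cs h x) (a : F) : (e x a)⁻¹ = e x a :=
  inv_eq_of_mul_eq_one_left (e_sq D hx a)

theorem e_inj {x : I → ℤ} (hx : IsRoot cs h x) : Function.Injective (e x) := by
  intro a b hab
  have h1 : e x (a + b) = 1 := by rw [D.add x hx, hab, e_sq D hx]
  have h2 := D.inj x hx _ h1
  have h3 := D.two b
  linear_combination h2 - h3

theorem nc_sq {x : I → ℤ} (hx : IsRoot cs h x) (c : F) : nc e x c * nc e x c = 1 := by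
  rw [nc_def]
  calc e x c * e (-x) c⁻¹ * e x c * (e x c * e (-x) c⁻¹ * e x c) =
      e x c * e (-x) c⁻¹ * (e x c * e x c) * e (-x) c⁻¹ * e x c := by group
    _ = e x c * (e (-x) c⁻¹ * e (-x) c⁻¹) * e x c := by rw [e_sq D hx]; group
    _ = 1 := by rw [e_sq D hx.neg, mul_one, e_sq D hx]

theorem nel_sq {x : I → ℤ} (hx : IsRoot cs h x) : nel e x * nel e x = 1 := nc_sq D hx 1

theorem nel_inv {x : I → ℤ} (hx : IsRoot cs h x) : (nel e x)⁻¹ = nel e x :=
  inv_eq_of_mul_eq_one_left (nel_sq D hx)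

/-- a root element of `-x` -/
theorem opp_eq {x : I → ℤ} (hx : IsRoot cs h x) (c : F) :
    e (-x) c⁻¹ = e x c * (ChevTwo.hel e x c * nel e x) * e x c := by
  rw [hel_def, mul_assoc (nc e x c), nel_sq D hx, mul_one, nc_def]
  calc e (-x) c⁻¹ = (e x c * e x c) * e (-x) c⁻¹ * (e x c * e x c) := by rw [e_sq D hx]; group
    _ = _ := by group

include R C

theorem rp (w : W) : ∃ g, Rp cs R.nsys w g ∧ ∀ x, IsRoot cs h x → ∀ a, g * e x a * g⁻¹ = e (rep cs h w x) a := by
  obtain ⟨ω, rfl⟩ := cs.wordProd_surjective w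
  induction ω with
  | nil =>
    refine ⟨1, ?_, fun x hx a => ?_⟩
    · rw [wordProd_nil]; exact rp_one
    · rw [wordProd_nil, map_one, Module.End.one_apply, one_mul, inv_one, mul_one]
  | cons i ω ih =>
    obtain ⟨g, hg, ih⟩ := ih
    refine ⟨n i * g, ?_, fun x hx a => ?_⟩
    · rw [wordProd_cons]; exact (rp_simple cs R.nsys i).mul hg
    · have e1 : n i * g * e x a * (n i * g)⁻¹ = n i * (g * e x a * g⁻¹) * (n i)⁻¹ := by group
      rw [e1, ih x hx, C.nn, D.refl i _ (hx.act _), wordProd_cons, rep_mul_apply]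

omit R in
/-- the scalar of `t` on the root group `r` -/
theorem exists_chi : ∃ χ : (I → ℤ) → Y → F, ∀ t ∈ T, ∀ x, IsRoot cs h x → ∀ a, t * e x a * t⁻¹ = e x (χ x t * a) := by
  classical
  refine ⟨fun x t => if ht : t ∈ T ∧ IsRoot cs h x then (C.tor t ht.1 x ht.2).choose else 1, fun t ht x hx a => ?_⟩
  show _ = e x ((if ht : t ∈ T ∧ IsRoot cs h x then (C.tor t ht.1 x ht.2).choose else 1) * a)
  rw [dif_pos ⟨ht, hx⟩]
  exact (C.tor t ht x hx).choose_spec a

end

/-- The scalars of the torus. -/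
noncomputable def ch (D : Data cs h e) (C : Compat cs h T n X e) : (I → ℤ) → Y → F := (exists_chi D C).choose

section

variable [Finite W] [Finite F] (R : RGD cs h 2 T n X) (D : Data cs h e) (C : Compat cs h T n X e)

theorem ch_act {t : Y} (ht : t ∈ T) {x : I → ℤ} (hx : IsRoot cs h x) (a : F) :
    t * e x a * t⁻¹ = e x (ch D C x t * a) := (exists_chi D C).choose_spec t ht x hx a

theorem ch_eq {t : Y} (ht : t ∈ T) {x : I → ℤ} (hx : IsRoot cs h x) {c : F}
    (hc : ∀ a, t * e x a * t⁻¹ = e x (c * a)) : ch D C x t = c := by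
  have h1 := ch_act D C ht hx 1
  rw [hc 1] at h1
  have := e_inj D hx h1
  rw [mul_one, mul_one] at this
  exact this.symm

theorem ch_hel (j : I) {a : F} (ha : a ≠ 0) {x : I → ℤ} (hx : IsRoot cs h x) :
    ch D C x (ChevTwo.hel e (sr j) a) = a ^ cpr cs h x (sr j) := by
  refine ch_eq D C (C.hel j a ha) hx fun b => ?_
  rw [D.tor j x hx a ha, cpr_sr]

include R in
theorem span {x : I → ℤ} (hx : IsRoot cs h x) : AddSubgroup.closure (ch D C x '' (T : Set Y)) = ⊤ := by
  refine closure_sq fun c hc => AddSubgroup.subset_closure ?_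
  obtain ⟨w, i, rfl⟩ := hx
  obtain ⟨g, hg, hga⟩ := rp R D C w
  have hT : g * ChevTwo.hel e (sr i) c * g⁻¹ ∈ T :=
    (Subgroup.mem_normalizer_iff.1 hg.mem_normalizer _).1 (C.hel i c hc)
  refine ⟨_, hT, ?_⟩
  refine ch_eq D C hT ((isRoot_sr cs h i).act w) fun a => ?_
  rw [← hga _ (isRoot_sr cs h i)]
  have e1 : g * ChevTwo.hel e (sr i) c * g⁻¹ * (g * e (sr i) a * g⁻¹) * (g * ChevTwo.hel e (sr i) c * g⁻¹)⁻¹ =
      g * (ChevTwo.hel e (sr i) c * e (sr i) a * (ChevTwo.hel e (sr i) c)⁻¹) * g⁻¹ := by group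
  rw [e1, D.tor i _ (isRoot_sr cs h i) c hc, hga _ (isRoot_sr cs h i), Cfsg.Agent.Nodes.ZFam.pairing_sr', h.diag,
    zpow_ofNat]

include R in
/-- **Coordinates.** -/
theorem coords : Coords cs h T n X e (ch D C) where
  coord r hr :=
    { mem := fun y => C.mem r hr y
      inj := e_inj D hr
      add := D.add r hr
      act := fun t ht a => ch_act D C ht hr a
      span := span R D C hr }
  nact i r hr := ⟨1, one_ne_zero, fun a => by rw [C.nn, D.refl i r hr, one_mul]⟩

theorem fullChar : FullChar cs h (ch D C) (fun j a => ChevTwo.hel e (sr j) a) :=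
  fun j _ hr _ ha => ch_hel D C j ha hr

variable (hN : NoCent cs h T X)

include hN in
/-- An element of the torus is determined by its scalars. -/
theorem tor_ext {s t : Y} (hs : s ∈ T) (ht : t ∈ T) (he : ∀ x, IsRoot cs h x → ch D C x s = ch D C x t) : s = t := by
  have h1 : t⁻¹ * s = 1 := by
    refine hN _ (mul_mem (inv_mem ht) hs) fun x hx v hv => ?_
    obtain ⟨a, rfl⟩ := (C.mem x hx v).1 hv
    have h2 : s * e x a * s⁻¹ = t * e x a * t⁻¹ := by rw [ch_act D C hs hx, ch_act D C ht hx, he x hx]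
    calc t⁻¹ * s * e x a = t⁻¹ * (s * e x a * s⁻¹) * s := by group
      _ = t⁻¹ * (t * e x a * t⁻¹) * s := by rw [h2]
      _ = _ := by group
  exact (inv_mul_eq_one.1 h1).symm

include hN D C in
theorem hel_mul (j : I) {a b : F} (ha : a ≠ 0) (hb : b ≠ 0) :
    ChevTwo.hel e (sr j) a * ChevTwo.hel e (sr j) b = ChevTwo.hel e (sr j) (a * b) := by
  refine tor_ext D C hN (mul_mem (C.hel j a ha) (C.hel j b hb)) (C.hel j _ (mul_ne_zero ha hb)) fun x hx => ?_
  refine ch_eq D C (mul_mem (C.hel j a ha) (C.hel j b hb)) hx fun c => ?_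
  have e1 : ∀ u v : Y, u * v * e x c * (u * v)⁻¹ = u * (v * e x c * v⁻¹) * u⁻¹ := fun u v => by group
  rw [e1, D.tor j x hx b hb, D.tor j x hx a ha, ch_hel D C j (mul_ne_zero ha hb) hx, cpr_sr, mul_zpow, mul_assoc]

include hN D C in
theorem hel_one (j : I) : ChevTwo.hel e (sr j) (1 : F) = 1 := by
  have h1 := hel_mul D C hN j (one_ne_zero (α := F)) one_ne_zero
  rwa [mul_one, mul_eq_left] at h1

include hN R D C in
theorem nel_hel (j : I) {a : F} (ha : a ≠ 0) :
    nel e (sr j) * ChevTwo.hel e (sr j) a * (nel e (sr j))⁻¹ = ChevTwo.hel e (sr j) a⁻¹ := by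
  have hT : nel e (sr j) * ChevTwo.hel e (sr j) a * (nel e (sr j))⁻¹ ∈ T := by
    rw [← C.nn]
    exact (Subgroup.mem_normalizer_iff.1 (R.nsys.norm j) _).1 (C.hel j a ha)
  refine tor_ext D C hN hT (C.hel j _ (inv_ne_zero ha)) fun x hx => ?_
  refine ch_eq D C hT hx fun c => ?_
  have hx' : IsRoot cs h (rep cs h (cs.simple j) x) := hx.act _
  have hsx : rep cs h (cs.simple j) (rep cs h (cs.simple j) x) = x := by
    rw [← rep_mul_apply, cs.simple_mul_simple_self, map_one, Module.End.one_apply]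
  have h1 : ∀ b, (nel e (sr j))⁻¹ * e x b * nel e (sr j) = e (rep cs h (cs.simple j) x) b := fun b => by
    have := D.refl j x hx b
    rw [nel_inv D (isRoot_sr cs h j)] at this ⊢
    exact this
  have h2 : ∀ b, nel e (sr j) * e (rep cs h (cs.simple j) x) b * (nel e (sr j))⁻¹ = e x b := fun b => by
    rw [D.refl j _ hx', hsx]
  have e1 : nel e (sr j) * ChevTwo.hel e (sr j) a * (nel e (sr j))⁻¹ * e x c *
      (nel e (sr j) * ChevTwo.hel e (sr j) a * (nel e (sr j))⁻¹)⁻¹ =
      nel e (sr j) * (ChevTwo.hel e (sr j) a * ((nel e (sr j))⁻¹ * e x c * nel e (sr j)) *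
        (ChevTwo.hel e (sr j) a)⁻¹) * (nel e (sr j))⁻¹ := by group
  rw [e1, h1, D.tor j _ hx' a ha, h2, ch_hel D C j (inv_ne_zero ha) hx]
  congr 2
  rw [← cpr_sr (cs := cs) (h := h), ← cpr_rep cs h (cs.simple j) _ (isRoot_sr cs h j), hsx, rep_simple_sr,
    cpr_neg_right cs h _ (isRoot_sr cs h j), zpow_neg, inv_zpow]

include hN R D C in
/-- The group generated by two opposite simple root groups. -/
theorem mem_rank_one (j : I) {y : Y} (hy : y ∈ X (sr j) ⊔ X (-sr j)) :
    (∃ a b, b ≠ 0 ∧ y = e (sr j) a * ChevTwo.hel e (sr j) b) ∨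
      ∃ a b c, b ≠ 0 ∧ y = e (sr j) a * (ChevTwo.hel e (sr j) b * nel e (sr j)) * e (sr j) c := by
  have hj := isRoot_sr cs h j
  have hHX : ∀ b, b ≠ 0 → ∀ a, ChevTwo.hel e (sr j) b * e (sr j) a =
      e (sr j) (ch D C (sr j) (ChevTwo.hel e (sr j) b) * a) * ChevTwo.hel e (sr j) b := fun b hb a => by
    have := ch_act D C (C.hel j b hb) hj a
    rw [← this]; group
  have hXH : ∀ b, b ≠ 0 → ∀ a, ∃ a', e (sr j) a * ChevTwo.hel e (sr j) b = ChevTwo.hel e (sr j) b * e (sr j) a' :=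
    fun b hb a => by
    have hT' : (ChevTwo.hel e (sr j) b)⁻¹ ∈ T := inv_mem (C.hel j b hb)
    refine ⟨ch D C (sr j) (ChevTwo.hel e (sr j) b)⁻¹ * a, ?_⟩
    have := ch_act D C hT' hj a
    rw [inv_inv] at this
    rw [← this]; group
  have hnH : ∀ b, b ≠ 0 → nel e (sr j) * ChevTwo.hel e (sr j) b = ChevTwo.hel e (sr j) b⁻¹ * nel e (sr j) :=
    fun b hb => by
    rw [← nel_hel R D C hN j hb]; group
  have hnn := nel_sq D hj
  have hneg : rep cs h (cs.simple j) (sr j) = -sr j := rep_simple_sr cs h j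
  -- `n e(a) n = e(a⁻¹) h(a⁻¹) n e(a⁻¹)`
  have hnen : ∀ a, a ≠ 0 → nel e (sr j) * e (sr j) a * nel e (sr j) =
      e (sr j) a⁻¹ * (ChevTwo.hel e (sr j) a⁻¹ * nel e (sr j)) * e (sr j) a⁻¹ := fun a ha => by
    have h1 := D.refl j _ hj a
    rw [nel_inv D hj, hneg] at h1
    rw [h1]
    have h2 := opp_eq D hj a⁻¹
    rwa [inv_inv] at h2
  let P : Y → Prop := fun y => (∃ a b, b ≠ 0 ∧ y = e (sr j) a * ChevTwo.hel e (sr j) b) ∨
      ∃ a b c, b ≠ 0 ∧ y = e (sr j) a * (ChevTwo.hel e (sr j) b * nel e (sr j)) * e (sr j) c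
  -- multiplication on the left
  have pe : ∀ a y, P y → P (e (sr j) a * y) := by
    rintro a y (⟨a', b, hb, rfl⟩ | ⟨a', b, c, hb, rfl⟩)
    · exact Or.inl ⟨a + a', b, hb, by rw [D.add _ hj, mul_assoc]⟩
    · exact Or.inr ⟨a + a', b, c, hb, by rw [D.add _ hj]; group⟩
  have ph : ∀ b, b ≠ 0 → ∀ y, P y → P (ChevTwo.hel e (sr j) b * y) := by
    rintro b hb y (⟨a', b', hb', rfl⟩ | ⟨a', b', c, hb', rfl⟩)
    · refine Or.inl ⟨ch D C (sr j) (ChevTwo.hel e (sr j) b) * a', b * b', mul_ne_zero hb hb', ?_⟩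
      rw [← mul_assoc, hHX b hb, mul_assoc, hel_mul D C hN j hb hb']
    · refine Or.inr ⟨ch D C (sr j) (ChevTwo.hel e (sr j) b) * a', b * b', c, mul_ne_zero hb hb', ?_⟩
      rw [← hel_mul D C hN j hb hb', mul_assoc, ← mul_assoc (ChevTwo.hel e (sr j) b) (e (sr j) a'), hHX b hb]
      group
  have pn : ∀ y, P y → P (nel e (sr j) * y) := by
    rintro y (⟨a, b, hb, rfl⟩ | ⟨a, b, c, hb, rfl⟩)
    · obtain ⟨a', ha'⟩ := hXH b hb a
      refine Or.inr ⟨0, b⁻¹, a', inv_ne_zero hb, ?_⟩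
      rw [e_zero D hj, one_mul, ha', ← mul_assoc, hnH b hb]
    · by_cases ha : a = 0
      · subst ha
        refine Or.inl ?_
        obtain ⟨c', hc'⟩ : ∃ c', ChevTwo.hel e (sr j) b⁻¹ * e (sr j) c = e (sr j) c' * ChevTwo.hel e (sr j) b⁻¹ :=
          ⟨_, hHX _ (inv_ne_zero hb) c⟩
        refine ⟨c', b⁻¹, inv_ne_zero hb, ?_⟩
        rw [← hc', e_zero D hj, one_mul]
        calc nel e (sr j) * (ChevTwo.hel e (sr j) b * nel e (sr j) * e (sr j) c) =
              nel e (sr j) * ChevTwo.hel e (sr j) b * nel e (sr j) * e (sr j) c := by group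
          _ = ChevTwo.hel e (sr j) b⁻¹ * (nel e (sr j) * nel e (sr j)) * e (sr j) c := by rw [hnH b hb]; group
          _ = _ := by rw [hnn, mul_one]
      · have h1 : nel e (sr j) * (e (sr j) a * (ChevTwo.hel e (sr j) b * nel e (sr j)) * e (sr j) c) =
            (nel e (sr j) * e (sr j) a * nel e (sr j)) * (ChevTwo.hel e (sr j) b⁻¹ * e (sr j) c) := by
          have h2 : ChevTwo.hel e (sr j) b * nel e (sr j) = nel e (sr j) * ChevTwo.hel e (sr j) b⁻¹ := by
            rw [hnH _ (inv_ne_zero hb), inv_inv]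
          rw [h2]; group
        rw [h1, hnen a ha]
        obtain ⟨a', ha'⟩ := hXH _ (inv_ne_zero hb) a⁻¹
        refine Or.inr ⟨a⁻¹, a⁻¹ * b, a' + c, mul_ne_zero (inv_ne_zero ha) hb, ?_⟩
        rw [← hel_mul D C hN j (inv_ne_zero ha) hb, D.add _ hj]
        have h3 : nel e (sr j) * ChevTwo.hel e (sr j) b⁻¹ = ChevTwo.hel e (sr j) b * nel e (sr j) := by
          rw [hnH _ (inv_ne_zero hb), inv_inv]
        calc e (sr j) a⁻¹ * (ChevTwo.hel e (sr j) a⁻¹ * nel e (sr j)) * e (sr j) a⁻¹ *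
              (ChevTwo.hel e (sr j) b⁻¹ * e (sr j) c) =
              e (sr j) a⁻¹ * ChevTwo.hel e (sr j) a⁻¹ * nel e (sr j) * (e (sr j) a⁻¹ * ChevTwo.hel e (sr j) b⁻¹) *
                e (sr j) c := by group
          _ = e (sr j) a⁻¹ * ChevTwo.hel e (sr j) a⁻¹ * (nel e (sr j) * ChevTwo.hel e (sr j) b⁻¹) * e (sr j) a' *
                e (sr j) c := by rw [ha']; group
          _ = _ := by rw [h3]; group
  -- the set is closed
  have p1 : P 1 := Or.inl ⟨0, 1, one_ne_zero, by rw [e_zero D hj, hel_one D C hN, one_mul]⟩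
  have pop : ∀ a y, P y → P (e (-sr j) a * y) := by
    intro a y hy
    by_cases ha : a = 0
    · subst ha
      rw [e_zero D hj.neg, one_mul]; exact hy
    · have h1 := opp_eq D hj a⁻¹
      rw [inv_inv] at h1
      rw [h1, mul_assoc, mul_assoc, mul_assoc]
      exact pe _ _ (ph _ (inv_ne_zero ha) _ (pn _ (pe _ _ hy)))
  have key : ∀ y ∈ X (sr j) ⊔ X (-sr j), ∀ z, P z → P (y * z) := by
    intro y hy
    rw [Subgroup.sup_eq_closure] at hy
    induction hy using Subgroup.closure_induction with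
    | mem y hy =>
      rcases hy with hy | hy
      · obtain ⟨a, rfl⟩ := (C.mem _ hj y).1 hy
        exact fun z => pe a z
      · obtain ⟨a, rfl⟩ := (C.mem _ hj.neg y).1 hy
        exact fun z => pop a z
    | one => intro z hz; rwa [one_mul]
    | mul y y' _ _ h1 h2 => intro z hz; rw [mul_assoc]; exact h1 _ (h2 z hz)
    | inv y hy h1 =>
      have hy' : y⁻¹ ∈ X (sr j) ⊔ X (-sr j) := by
        rw [Subgroup.sup_eq_closure]; exact inv_mem hy
      clear h1
      rw [Subgroup.sup_eq_closure] at hy'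
      -- `y⁻¹` is a product of root elements
      have hcl : ∀ u ∈ Submonoid.closure ((X (sr j) : Set Y) ∪ X (-sr j)), ∀ z, P z → P (u * z) := by
        intro u hu
        induction hu using Submonoid.closure_induction with
        | mem u hu =>
          rcases hu with hu | hu
          · obtain ⟨a, rfl⟩ := (C.mem _ hj u).1 hu
            exact fun z => pe a z
          · obtain ⟨a, rfl⟩ := (C.mem _ hj.neg u).1 hu
            exact fun z => pop a z
        | one => intro z hz; rwa [one_mul]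
        | mul u u' _ _ h1 h2 => intro z hz; rw [mul_assoc]; exact h1 _ (h2 z hz)
      apply hcl
      have hsub : (Subgroup.closure ((X (sr j) : Set Y) ∪ X (-sr j))).toSubmonoid =
          Submonoid.closure ((X (sr j) : Set Y) ∪ X (-sr j)) := by
        rw [Subgroup.closure_toSubmonoid]
        congr 1
        rw [Set.union_eq_left]
        rintro u hu
        rcases hu with hu | hu
        · left
          have := inv_mem (show u⁻¹ ∈ X (sr j) from hu)
          rwa [inv_inv] at this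
        · right
          have := inv_mem (show u⁻¹ ∈ X (-sr j) from hu)
          rwa [inv_inv] at this
      rw [← hsub]
      exact hy'
  have := key y hy 1 p1
  rwa [mul_one] at this

include hN R in
/-- **The coroot elements.** -/
theorem coroots : Coroots A T X (ch D C) (fun j a => ChevTwo.hel e (sr j) a) where
  mem j t := by
    have hj := isRoot_sr cs h j
    have hX : ∀ a, e (sr j) a ∈ X (sr j) := fun a => (C.mem _ hj _).2 ⟨a, rfl⟩
    have hX' : ∀ a, e (-sr j) a ∈ X (-sr j) := fun a => (C.mem _ hj.neg _).2 ⟨a, rfl⟩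
    constructor
    · rintro ⟨ht, ht'⟩
      rcases mem_rank_one R D C hN j ht' with ⟨a, b, hb, e1⟩ | ⟨a, b, c, hb, e1⟩
      · refine ⟨b, hb, ?_⟩
        have h1 : e (sr j) a ∈ X (sr j) ⊓ T := by
          refine ⟨hX a, ?_⟩
          have : e (sr j) a = t * (ChevTwo.hel e (sr j) b)⁻¹ := by rw [e1]; group
          rw [this]
          exact T.mul_mem ht (T.inv_mem (C.hel j b hb))
        rw [X_inf_T R hj, Subgroup.mem_bot] at h1
        rw [e1, h1, one_mul]
      · exfalso
        have hXB : ∀ a, e (sr j) a ∈ RGD.B cs h T X := fun a => RGD.X_le_B hj (sr_nonneg j) (hX a)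
        have h3 : n j ∈ RGD.B cs h T X := by
          have h4 : n j = (ChevTwo.hel e (sr j) b)⁻¹ * ((e (sr j) a)⁻¹ * t * (e (sr j) c)⁻¹) := by
            rw [C.nn, e1]; group
          rw [h4]
          exact mul_mem (inv_mem (RGD.T_le_B (C.hel j b hb)))
            (mul_mem (mul_mem (inv_mem (hXB a)) (RGD.T_le_B ht)) (inv_mem (hXB c)))
        have h5 := R.eq_one_of_mem_B (rp_simple cs R.nsys j) h3
        have h6 := cs.length_simple j
        rw [h5, cs.length_one] at h6
        exact zero_ne_one h6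
    · rintro ⟨a, ha, rfl⟩
      refine ⟨C.hel j a ha, ?_⟩
      have h1 : ∀ a, e (sr j) a ∈ X (sr j) ⊔ X (-sr j) := fun a => Subgroup.mem_sup_left (hX a)
      have h2 : ∀ a, e (-sr j) a ∈ X (sr j) ⊔ X (-sr j) := fun a => Subgroup.mem_sup_right (hX' a)
      show ChevTwo.hel e (sr j) a ∈ _
      rw [hel_def, nel_def, nc_def]
      exact mul_mem (mul_mem (mul_mem (h1 _) (h2 _)) (h1 _)) (mul_mem (mul_mem (h1 _) (h2 _)) (h1 _))
  char i j a ha := by
    show ch D C (sr i) (ChevTwo.hel e (sr j) a) = _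
    rw [ch_hel D C j ha (isRoot_sr cs h i), cpr_sr, Cfsg.Agent.Nodes.ZFam.pairing_sr']

end

end Cfsg.Agent.KFacts.RgdOfData
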