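import Mathlib
import Cfsg.Agent.KFacts.RgdGraph
import Cfsg.Agent.KFacts.RgdPure

/-!
# The outer action of a `p`-group inducing no diagram symmetry

`f : Y →* G` injective, `Y` with `Sys R e`, `S` a `p`-subgroup normalising `f Y` and `f U`, `f U ≤ S`, no frame automorphism
induced by `S` with a nontrivial diagram symmetry (no condition on the Cartan matrix: `F₄`, `B_n` included).

* `exists_gen_one` : `S = f(U) C_S(K) ⟨g⟩`, `g e'_r(a) g⁻¹ = e'_r(τ a)` for all roots `r`.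
-/

set_option autoImplicit false
set_option linter.unusedSectionVars false

namespace Cfsg.Agent.KFacts.RgdOne

open CoxeterSystem Cfsg.Agent.ChevalleyStructure.CoxeterGeom Cfsg.Agent.Tits.Roots Cfsg.Agent.Tits.Core
  Cfsg.Agent.Tits.Exchange Cfsg.Agent.Nodes.Reps Cfsg.Agent.Nodes.BNOf Cfsg.Agent.Nodes.StabComb
  Cfsg.Agent.Nodes.Bruhat Cfsg.Agent.Nodes.OppDec Cfsg.Agent.Nodes.LeviDec Cfsg.Agent.Nodes.NormalForm
  Cfsg.Agent.Nodes.Coroot Cfsg.Agent.Nodes.PosPair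
  Cfsg.Agent.KFacts.RgdOpp Cfsg.Agent.KFacts.RgdAut Cfsg.Agent.KFacts.RgdDiag Cfsg.Agent.KFacts.RgdRigid
  Cfsg.Agent.KFacts.RgdCent Cfsg.Agent.KFacts.RgdField Cfsg.Agent.KFacts.RgdTau
  Cfsg.Agent.KFacts.RgdSys Cfsg.Agent.KFacts.RgdPure Cfsg.Agent.KFacts.RgdOver Cfsg.Agent.KFacts.RgdGraph
  Cfsg.Agent.KFacts.ChevTwo

variable {I W Y K G : Type*} [Fintype I] [DecidableEq I] [Group W] [Group Y] [Group G] [Field K] {M : CoxeterMatrix I}
variable {cs : CoxeterSystem M W} {A : I → I → ℤ} {h : IsCartan M A} {e : (I → ℤ) → K → Y}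
  {p : ℕ} {T : Subgroup Y} {n : I → Y} {X : (I → ℤ) → Subgroup Y}

/-- **The outer action of a `p`-group inducing no diagram symmetry.** -/
theorem exists_gen_one [Finite W] [Nonempty I] [Finite K] [CharP K p] [Fact p.Prime] [Finite G]
    {R : RGD cs h p T n X} (S' : Sys R e) (hG1 : RGD.Sup X {x | IsRoot cs h x} = ⊤) (hN : NoCent cs h T X)
    (hconn : ∀ J : Set I, J.Nonempty → J ≠ Set.univ → ∃ a ∈ J, ∃ b, b ∉ J ∧ M a b ≠ 2)
    (f : Y →* G) (hf : Function.Injective f) {S : Subgroup G} (hSp : IsPGroup p ↥S)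
    (hSK : S ≤ Subgroup.normalizer (f.range : Set G))
    (hSU : S ≤ Subgroup.normalizer (((RGD.Sup X (RGD.Pos cs h)).map f : Subgroup G) : Set G))
    (hUS : (RGD.Sup X (RGD.Pos cs h)).map f ≤ S)
    (hone : ∀ β ∈ Frame cs h X, (∃ g ∈ S, ∀ y, f (β y) = g * f y * g⁻¹) → ∀ σ, Diag T X β σ → σ = 1) :
    ∃ g ∈ S, ∃ (τ : K ≃+* K) (e' : (I → ℤ) → K → Y) (n' : I → Y) (R' : RGD cs h p T n' X), Sys R' e' ∧
      (∀ r, IsRoot cs h r → ∀ a, g * f (e' r a) * g⁻¹ = f (e' r (τ a))) ∧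
      ∀ s ∈ S, ∃ m : ℤ, ∃ u ∈ RGD.Sup X (RGD.Pos cs h), ∃ c ∈ S, (∀ y, c * f y = f y * c) ∧
        s = f u * c * g ^ m := by
  have hG := GG_eq_top (T := T) hG1
  have C := coords S' hG1
  have H := coroots S' hG1 hN
  have hY : Finite Y := Finite.of_injective f hf
  obtain ⟨ρ, hρdef⟩ : ∃ ρ : ↥S →* MulAut Y, ρ = (act f hf).comp (Subgroup.inclusion hSK) := ⟨_, rfl⟩
  have hρ : ∀ (g : ↥S) y, f (ρ g y) = g * f y * (g : G)⁻¹ := by
    intro g y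
    rw [hρdef]
    exact f_act f hf _ y
  obtain ⟨q, hqF, hqu, hq1⟩ := exists_proj R hG1 f ρ hρ (fun g => by
    rw [hρdef]
    exact fix_act f hf (hSU g.2)) hUS (fun u hu => by
    rw [hρdef]
    exact act_f f hf u)
  have hP : ∀ s : ↥S, ∃ k : ℕ, q s ^ p ^ k = 1 := by
    intro s
    obtain ⟨k, hk⟩ := hSp s
    exact ⟨k, by rw [← map_pow, hk, map_one]⟩
  have hτ : ∀ s : ↥S, ∃ τ : K ≃+* K, Tau T X (chS e) A (q s) 1 τ := by
    intro s
    obtain ⟨σ, D⟩ := exists_diag R hG (hqF s).1 (hqF s).2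
    obtain ⟨u, hu, huS, e1, e2⟩ := hqu s
    have h1 : σ = 1 := hone (q s) (hqF s) ⟨f u * s, mul_mem huS s.2, fun y => by rw [← e2, hρ]; rfl⟩ σ D
    subst h1
    exact exists_tau R C H hconn D fun _ _ => rfl
  choose τ hτ using hτ
  have huniq : ∀ (s : ↥S) (τ' : K ≃+* K), Tau T X (chS e) A (q s) 1 τ' → τ s = τ' := fun s τ' h3 =>
    (Tau.unique R C (hτ s) h3).2
  let φ : ↥S →* (K ≃+* K) := MonoidHom.mk' τ fun α β => huniq _ _ (by
    have := (hτ α).mul (hτ β)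
    rw [mul_one] at this
    rwa [map_mul])
  have hφ : ∀ s, φ s = 1 → q s = 1 := by
    intro s hs
    have h3 := hτ s
    have h4 : τ s = 1 := hs
    rw [h4] at h3
    obtain ⟨k, hk⟩ := hP s
    exact Tau.eq_one R hG1 C h3 hk
  have hcyc : IsCyclic (K ≃+* K) := LieRecognition.FieldSemilinear.isCyclic_ringAut K
  have hcyc' : IsCyclic ↥φ.range := Subgroup.isCyclic _
  obtain ⟨⟨_, s0, rfl⟩, hs0⟩ := hcyc'.exists_generator
  obtain ⟨u0, hu0, hu0S, e1, e2⟩ := hqu s0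
  obtain ⟨k, hk⟩ := hP s0
  obtain ⟨e', n', R', S'', h1, -⟩ := exists_sys S' hG1 (hτ s0) hk
  refine ⟨f u0 * s0, mul_mem hu0S s0.2, τ s0, e', n', R', S'', fun r hr a => ?_, fun s hs => ?_⟩
  · have h2 := h1 r hr a
    have h3 := hρ (⟨f u0, hu0S⟩ * s0) (e' r a)
    rw [e2, h2] at h3
    exact h3.symm
  · obtain ⟨m, hm⟩ := hs0 ⟨φ ⟨s, hs⟩, ⟨⟨s, hs⟩, rfl⟩⟩
    have hm' : φ s0 ^ m = φ ⟨s, hs⟩ := congrArg Subtype.val hm
    obtain ⟨u, hu, c, hc, hcf, e3⟩ := hq1 (⟨s, hs⟩ * ((⟨f u0, hu0S⟩ * s0) ^ m)⁻¹) (by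
      apply hφ
      have h4 : φ (⟨f u0, hu0S⟩ * s0) = φ s0 := by
        refine huniq _ _ ?_
        rw [e1]
        exact hτ s0
      rw [map_mul, map_inv, map_zpow, h4, hm', mul_inv_cancel])
    have e4 : s * ((f u0 * (s0 : G)) ^ m)⁻¹ = f u * c := e3
    exact ⟨m, u, hu, c, hc, hcf, by rw [← e4, inv_mul_cancel_right]⟩

end Cfsg.Agent.KFacts.RgdOne
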