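import Mathlib
import Cfsg.Agent.KFacts.RgdEx

/-!
The action of `T_x = T ⊓ ⟨X x, X (-x)⟩` on `X x` itself (ODD, D10), characteristic 2, inside an `A₂`-plane.

* `A2.comm_mul_left`, `mu_comm` : `μ(u) ⁅u, v⁆ μ(u)⁻¹ = v⁻¹`;
* `A2.own` : for `u, u' ∈ X x \ 1` an element `t ∈ T_x` with `⁅u, t v t⁻¹⁆ = ⁅u', v⁆`, `t ⁅u', v⁆ t⁻¹ = ⁅u, v⁆`;
* `A2.own_trans` : if `T` is abelian and `p = 2`, `T_x` is transitive on `X x \ 1`.
-/

set_option autoImplicit false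
set_option linter.unusedSectionVars false

namespace Cfsg.Agent.KFacts.RgdSL

open CoxeterSystem Cfsg.Agent.ChevalleyStructure.CoxeterGeom Cfsg.Agent.Tits.Roots Cfsg.Agent.Tits.Core
  Cfsg.Agent.Tits.RootComb Cfsg.Agent.Tits.Exchange Cfsg.Agent.Nodes.Reps Cfsg.Agent.Nodes.BNOf
  Cfsg.Agent.Nodes.StabComb Cfsg.Agent.Nodes.Bruhat Cfsg.Agent.Nodes.OppDec Cfsg.Agent.Nodes.LeviDec
  Cfsg.Agent.Nodes.NormX Cfsg.Agent.Nodes.Coroot Cfsg.Agent.Nodes.PosPair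
open scoped commutatorElement

variable {I W Y : Type*} [Fintype I] [DecidableEq I] [Group W] [Group Y] {M : CoxeterMatrix I}
  {cs : CoxeterSystem M W} {A : I → I → ℤ} {h : IsCartan M A} {p : ℕ} {T : Subgroup Y} {n : I → Y}
  {X : (I → ℤ) → Subgroup Y}

namespace A2

variable (R : RGD cs h p T n X)

include R

variable [Finite W] {x y : I → ℤ} (hA : A2 cs h x y)

include hA

/-- The commutator is multiplicative on the left. -/
theorem comm_mul_left {u u' v : Y} (hu : u ∈ X x) (hu' : u' ∈ X x) (hv : v ∈ X y) :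
    ⁅u * u', v⁆ = ⁅u, v⁆ * ⁅u', v⁆ := by
  have h1 := comm_mul R hA.symm hv hu hu'
  have h2 := comm_mem R hA hu hv
  have h3 := comm_mem R hA hu' hv
  have h4 := comm_self R hA h2 h3
  rw [← commutatorElement_inv v (u * u'), h1, mul_inv_rev, commutatorElement_inv, commutatorElement_inv, h4]

/-- `μ(u) ⁅u, v⁆ μ(u)⁻¹ = v⁻¹`. -/
theorem mu_comm {u v : Y} (hu : u ∈ X x) (hu1 : u ≠ 1) (hv : v ∈ X y) {a b m : Y} (ha : a ∈ X (-x))
    (hb : b ∈ X (-x)) {s : W} (hs : ∀ y, rep cs h s y = y - cpr cs h y x • x) (hm : Rp cs R.nsys s m)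
    (he : m = a * u * b) : m * ⁅u, v⁆ * m⁻¹ = v⁻¹ := by
  have hnx : -x ≠ y := fun h0 => hA.ne_neg (by rw [← h0, neg_neg])
  have hnx' : -x ≠ -y := fun h0 => hA.ne (neg_injective h0)
  set w := ⁅u, v⁆ with hw
  have hwX : w ∈ X (x + y) := comm_mem R hA hu hv
  have hsy : rep cs h s (x + y) = y := by
    rw [hs, cpr_add cs h _ _ hA.rx, cpr_self cs h hA.rx, hA.cyx]
    module
  have hz : m * w * m⁻¹ ∈ X y := by
    have := R.conj_mem hm hA.rxy hwX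
    rwa [hsy] at this
  set z := m * w * m⁻¹ with hzdef
  have e1 : a * z = z * a := comm_of_not_btwn R hA.rx.neg hA.ry hnx hnx' hA.b2 ha hz
  have e2 : b * w * b⁻¹ = u⁻¹ * z * u := by
    have h1 : a⁻¹ * z * a = z := by
      calc a⁻¹ * z * a = a⁻¹ * (z * a) := by group
        _ = a⁻¹ * (a * z) := by rw [e1]
        _ = z := by group
    have h2 : a⁻¹ * z * a = u * (b * w * b⁻¹) * u⁻¹ := by
      rw [hzdef, he]; group
    rw [h1] at h2
    rw [h2]; group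
  have hd : ⁅b, w⁆ ∈ X y := by
    refine btw_le_of hA.b3 (R.comm (-x) (x + y) hA.rx.neg hA.rxy ?_ ?_ b hb _ hwX)
    · intro h0
      have h4 : y = (-2 : ℤ) • x := by
        have : y = (x + y) - x := by abel
        rw [this, ← h0]; module
      have := isUnit_of_smul cs h hA.ry (-2) h4
      rw [Int.isUnit_iff] at this
      omega
    · intro h0
      rw [neg_inj] at h0
      exact hA.ry.ne_zero (by simpa using h0.symm)
  have hex : ⁅z⁻¹, u⁻¹⁆ ∈ X (x + y) := by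
    have := comm_mem R hA.symm (inv_mem hz) (inv_mem hu)
    rwa [add_comm] at this
  have e3 : z⁻¹ * ⁅b, w⁆ = ⁅z⁻¹, u⁻¹⁆ * w⁻¹ := by
    have h1 : ⁅b, w⁆ = b * w * b⁻¹ * w⁻¹ := by rw [commutatorElement_def]
    rw [h1, e2, commutatorElement_def]; group
  have e4 : ⁅z⁻¹, u⁻¹⁆ = w := by
    have h1 : ⁅z⁻¹, u⁻¹⁆ * w⁻¹ ∈ X y ⊓ X (x + y) := by
      refine Subgroup.mem_inf.2 ⟨?_, mul_mem hex (inv_mem hwX)⟩
      rw [← e3]
      exact mul_mem (inv_mem hz) hd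
    have h9 := X_inf_X R hA.ry hA.rxy (by
      intro h0
      exact hA.rx.ne_zero (by simpa using h0.symm))
    rw [h9, Subgroup.mem_bot] at h1
    exact mul_inv_eq_one.1 h1
  have e5 : ⁅u, z⁻¹⁆ = ⁅u, v⁆ := by
    have h1 := comm_left R hA hex hu
    calc ⁅u, z⁻¹⁆ = u * ⁅z⁻¹, u⁻¹⁆ * u⁻¹ := by
          rw [commutatorElement_def, commutatorElement_def]; group
      _ = ⁅z⁻¹, u⁻¹⁆ := by rw [← h1]; group
      _ = _ := e4
  have e6 := comm_inj R hA hu hu1 (inv_mem hz) hv e5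
  rw [← e6, inv_inv]

/-- The elements of `T ⊓ ⟨X x, X (-x)⟩`. -/
theorem own {u u' : Y} (hu : u ∈ X x) (hu1 : u ≠ 1) (hu' : u' ∈ X x) (hu1' : u' ≠ 1) :
    ∃ t ∈ T ⊓ (X x ⊔ X (-x)), (∀ v ∈ X y, ⁅u, t * v * t⁻¹⁆ = ⁅u', v⁆) ∧
      ∀ v ∈ X y, t * ⁅u', v⁆ * t⁻¹ = ⁅u, v⁆ := by
  obtain ⟨s, hs, a, ha, b, hb, m, hm, he⟩ := exists_mu R hA.rx hu hu1
  obtain ⟨s', hs', a', ha', b', hb', m', hm', he'⟩ := exists_mu R hA.rx hu' hu1'
  have hss : s = s' := by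
    have : s'⁻¹ * s = 1 := by
      refine eq_one_of_fix cs h _ fun i => ?_
      have h3 : rep cs h s (sr i) = rep cs h s' (sr i) := by rw [hs, hs']
      show rep cs h (s'⁻¹ * s) (sr i) = sr i
      rw [rep_mul_apply, h3, rep_inv_apply]
    exact (inv_mul_eq_one.1 this).symm
  subst hss
  have hmX : ∀ {a u b m : Y}, a ∈ X (-x) → u ∈ X x → b ∈ X (-x) → m = a * u * b → m ∈ X x ⊔ X (-x) := by
    rintro a u b m ha hu hb rfl
    exact mul_mem (mul_mem (Subgroup.mem_sup_right ha) (Subgroup.mem_sup_left hu)) (Subgroup.mem_sup_right hb)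
  have htT : m⁻¹ * m' ∈ T := hm.unique hm'
  refine ⟨m⁻¹ * m', Subgroup.mem_inf.2 ⟨htT, mul_mem (inv_mem (hmX ha hu hb he)) (hmX ha' hu' hb' he')⟩,
    fun v hv => ?_, fun v hv => ?_⟩
  · have h1 : m⁻¹ * m' * v * (m⁻¹ * m')⁻¹ ∈ X y := by
      have h2 : cj (m⁻¹ * m') (X y) = X y := R.tor y hA.ry _ htT
      rw [← h2]
      exact conj_mem_cj.2 hv
    rw [comm_eq R hA hu h1 ha hb hs hm he, comm_eq R hA hu' hv ha' hb' hs' hm' he']
    group
  · have h1 := mu_comm R hA hu hu1 hv ha hb hs hm he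
    have h2 := mu_comm R hA hu' hu1' hv ha' hb' hs' hm' he'
    calc m⁻¹ * m' * ⁅u', v⁆ * (m⁻¹ * m')⁻¹ = m⁻¹ * (m' * ⁅u', v⁆ * m'⁻¹) * m := by group
      _ = m⁻¹ * (m * ⁅u, v⁆ * m⁻¹) * m := by rw [h1, h2]
      _ = _ := by group

/-- **`T ⊓ ⟨X x, X (-x)⟩` is transitive on `X x \ 1`** (`T` abelian, characteristic 2). -/
theorem own_trans [Finite (X x)] (h2x : ∀ u ∈ X x, u * u = 1) (h2y : ∀ v ∈ X y, v * v = 1)
    (Tab : ∀ t ∈ T, ∀ t' ∈ T, t * t' = t' * t) {u u₁ : Y} (hu : u ∈ X x) (hu1 : u ≠ 1) (hu' : u₁ ∈ X x)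
    (hu1' : u₁ ≠ 1) : ∃ t ∈ T ⊓ (X x ⊔ X (-x)), t * u * t⁻¹ = u₁ := by
  let S := {w : Y // w ∈ X x ∧ w ≠ 1}
  have hS : Finite S := Finite.of_injective (fun w : S => (⟨w.1, w.2.1⟩ : X x)) (by
    intro a b hab
    exact Subtype.ext (congrArg (Subtype.val : ↥(X x) → Y) hab))
  have hch : ∀ w : S, ∃ t : Y, t ∈ T ⊓ (X x ⊔ X (-x)) ∧ (∀ v ∈ X y, ⁅u, t * v * t⁻¹⁆ = ⁅w.1, v⁆) ∧
      ∀ v ∈ X y, t * ⁅w.1, v⁆ * t⁻¹ = ⁅u, v⁆ := fun w => by
    obtain ⟨t, ht, h1, h2⟩ := own R hA hu hu1 w.2.1 w.2.2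
    exact ⟨t, ht, h1, h2⟩
  choose t ht h1 h2 using hch
  have htT : ∀ w, t w ∈ T := fun w => (Subgroup.mem_inf.1 (ht w)).1
  have hcjx : ∀ {a : Y}, a ∈ T → ∀ {v}, v ∈ X x → a * v * a⁻¹ ∈ X x := by
    intro a ha v hv
    have h3 : cj a (X x) = X x := R.tor x hA.rx _ ha
    rw [← h3]
    exact conj_mem_cj.2 hv
  have hcjy : ∀ {a : Y}, a ∈ T → ∀ {v}, v ∈ X y → a * v * a⁻¹ ∈ X y := by
    intro a ha v hv
    have h3 : cj a (X y) = X y := R.tor y hA.ry _ ha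
    rw [← h3]
    exact conj_mem_cj.2 hv
  let F : S → S := fun w => ⟨t w * u * (t w)⁻¹, hcjx (htT w) hu, fun h3 => hu1 (by
    have : u = (t w)⁻¹ * (t w * u * (t w)⁻¹) * t w := by group
    rw [this, h3]; group)⟩
  -- the key formula
  have key : ∀ w : S, ∀ v ∈ X y, ⁅(F w).1, v⁆ = ⁅u, (t w * t w)⁻¹ * v * (t w * t w)⁆ := by
    intro w v hv
    have hv1 : (t w)⁻¹ * v * t w ∈ X y := by
      have := hcjy (inv_mem (htT w)) hv
      rwa [inv_inv] at this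
    have hv2 : (t w * t w)⁻¹ * v * (t w * t w) ∈ X y := by
      have := hcjy (inv_mem (htT w)) hv1
      rw [inv_inv] at this
      have e : (t w)⁻¹ * ((t w)⁻¹ * v * t w) * t w = (t w * t w)⁻¹ * v * (t w * t w) := by group
      rwa [e] at this
    have e1 := h1 w _ hv2
    have e2 := h2 w _ hv2
    have e3 : t w * ((t w * t w)⁻¹ * v * (t w * t w)) * (t w)⁻¹ = (t w)⁻¹ * v * t w := by group
    rw [e3] at e1
    rw [← e1] at e2
    rw [← e2]
    show ⁅t w * u * (t w)⁻¹, v⁆ = _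
    rw [commutatorElement_def, commutatorElement_def]; group
  have hinj : Function.Injective F := by
    intro w w' hww
    by_contra hne
    have hne' : w.1 * w'.1 ≠ 1 := by
      intro h3
      apply hne
      apply Subtype.ext
      have h4 := h2x _ w'.2.1
      exact mul_right_cancel (h3.trans h4.symm)
    let w₃ : S := ⟨w.1 * w'.1, mul_mem w.2.1 w'.2.1, hne'⟩
    -- the squares agree
    have hsq : ∀ v ∈ X y, t w * t w * v * (t w * t w)⁻¹ = t w' * t w' * v * (t w' * t w')⁻¹ := by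
      have h3 : ∀ v ∈ X y, (t w * t w)⁻¹ * v * (t w * t w) = (t w' * t w')⁻¹ * v * (t w' * t w') := by
        intro v hv
        have hmem : ∀ w : S, (t w * t w)⁻¹ * v * (t w * t w) ∈ X y := by
          intro w
          have := hcjy (inv_mem (mul_mem (htT w) (htT w))) hv
          rwa [inv_inv] at this
        refine comm_inj R hA hu hu1 (hmem w) (hmem w') ?_
        rw [← key w v hv, ← key w' v hv, hww]
      intro v hv
      have h4 : t w * t w * (t w' * t w') = t w' * t w' * (t w * t w) :=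
        Tab _ (mul_mem (htT w) (htT w)) _ (mul_mem (htT w') (htT w'))
      have h5 := h3 (t w * t w * (t w' * t w') * v * (t w * t w * (t w' * t w'))⁻¹)
        (hcjy (mul_mem (mul_mem (htT w) (htT w)) (mul_mem (htT w') (htT w'))) hv)
      have h6 : (t w * t w)⁻¹ * (t w * t w * (t w' * t w') * v * (t w * t w * (t w' * t w'))⁻¹) * (t w * t w) =
          t w' * t w' * v * (t w' * t w')⁻¹ := by group
      have h7 : (t w' * t w')⁻¹ * (t w * t w * (t w' * t w') * v * (t w * t w * (t w' * t w'))⁻¹) *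
          (t w' * t w') = t w * t w * v * (t w * t w)⁻¹ := by
        rw [h4]; group
      rw [h6, h7] at h5
      exact h5.symm
    have hQ : ∀ v ∈ X y, t w₃ * v * (t w₃)⁻¹ = (t w * v * (t w)⁻¹) * (t w' * v * (t w')⁻¹) := by
      intro v hv
      refine comm_inj R hA hu hu1 (hcjy (htT _) hv) (mul_mem (hcjy (htT _) hv) (hcjy (htT _) hv)) ?_
      rw [h1 w₃ v hv, comm_mul R hA hu (hcjy (htT _) hv) (hcjy (htT _) hv), h1 w v hv, h1 w' v hv]
      exact comm_mul_left R hA w.2.1 w'.2.1 hv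
    obtain ⟨v, hv, hv1⟩ : ∃ v ∈ X y, v ≠ 1 := by
      have := X_ne_bot R hA.ry
      rw [Subgroup.ne_bot_iff_exists_ne_one] at this
      obtain ⟨⟨a, ha⟩, h1⟩ := this
      exact ⟨a, ha, fun h2 => h1 (Subtype.ext h2)⟩
    apply hv1
    have e1 := hQ _ (hcjy (htT w₃) hv)
    rw [hQ v hv] at e1
    have hc := hcjy (mul_mem (htT w) (htT w')) hv
    have hd := hcjy (mul_mem (htT w) (htT w)) hv
    have e2 : t w * (t w * v * (t w)⁻¹ * (t w' * v * (t w')⁻¹)) * (t w)⁻¹ *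
        (t w' * (t w * v * (t w)⁻¹ * (t w' * v * (t w')⁻¹)) * (t w')⁻¹) =
        (t w * t w * v * (t w * t w)⁻¹) * ((t w * t w' * v * (t w * t w')⁻¹) *
          (t w' * t w * v * (t w' * t w)⁻¹)) * (t w' * t w' * v * (t w' * t w')⁻¹) := by group
    have e3 : t w' * t w = t w * t w' := Tab _ (htT _) _ (htT _)
    rw [e2, e3, h2y _ hc, mul_one, ← hsq v hv, h2y _ hd] at e1
    have e4 : t w₃ * (t w * v * (t w)⁻¹ * (t w' * v * (t w')⁻¹)) * (t w₃)⁻¹ = 1 := e1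
    have e5 : t w * v * (t w)⁻¹ * (t w' * v * (t w')⁻¹) = 1 := by
      have : t w * v * (t w)⁻¹ * (t w' * v * (t w')⁻¹) =
          (t w₃)⁻¹ * (t w₃ * (t w * v * (t w)⁻¹ * (t w' * v * (t w')⁻¹)) * (t w₃)⁻¹) * t w₃ := by group
      rw [this, e4]; group
    rw [← hQ v hv] at e5
    have : v = (t w₃)⁻¹ * (t w₃ * v * (t w₃)⁻¹) * t w₃ := by group
    rw [this, e5]; group
  obtain ⟨w, hw⟩ := (Finite.injective_iff_surjective.1 hinj) ⟨u₁, hu', hu1'⟩
  exact ⟨t w, ht w, congrArg Subtype.val hw⟩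

end A2

end Cfsg.Agent.KFacts.RgdSL
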