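import Mathlib
import Cfsg.Agent.KFacts.RgdOwn

/-!
The group `P_r = ⟨X a : ⟨a, r^∨⟩ ≥ 0⟩` is perfect (ODD, D10), simply laced, characteristic 2, `|X_a| > 2`.

* `le_comm_of_comm` : `X (x + y) ≤ ⁅P, P⁆` if `X x, X y ≤ P` (`A₂`-pair);
* `le_comm_of_tor` : `X x ≤ ⁅P, P⁆` if `X x, X (-x) ≤ P`;
* `Ge_perfect`; `GG_perfect`.
-/

set_option autoImplicit false
set_option linter.unusedSectionVars false

namespace Cfsg.Agent.KFacts.RgdPerf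

open CoxeterSystem Cfsg.Agent.ChevalleyStructure.CoxeterGeom Cfsg.Agent.Tits.Roots Cfsg.Agent.Tits.Core
  Cfsg.Agent.Tits.RootComb Cfsg.Agent.Tits.Exchange Cfsg.Agent.Nodes.Reps Cfsg.Agent.Nodes.BNOf
  Cfsg.Agent.Nodes.StabComb Cfsg.Agent.Nodes.Bruhat Cfsg.Agent.Nodes.OppDec Cfsg.Agent.Nodes.LeviDec
  Cfsg.Agent.Nodes.NormX Cfsg.Agent.Nodes.Coroot Cfsg.Agent.Nodes.PosPair Cfsg.Agent.KFacts.RgdPar
  Cfsg.Agent.KFacts.RgdSL Cfsg.Agent.KFacts.RgdTI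
open scoped commutatorElement

variable {I W Y : Type*} [Fintype I] [DecidableEq I] [Group W] [Group Y] {M : CoxeterMatrix I}
  {cs : CoxeterSystem M W} {A : I → I → ℤ} {h : IsCartan M A} {p : ℕ} {T : Subgroup Y} {n : I → Y}
  {X : (I → ℤ) → Subgroup Y} (R : RGD cs h p T n X) [Finite W]

include R

theorem exists_ne {x : I → ℤ} (hx : IsRoot cs h x) : ∃ a ∈ X x, a ≠ 1 := by
  have := X_ne_bot R hx
  rw [Subgroup.ne_bot_iff_exists_ne_one] at this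
  obtain ⟨⟨a, ha⟩, h1⟩ := this
  exact ⟨a, ha, fun h2 => h1 (Subtype.ext h2)⟩

theorem le_comm_of_comm {x y : I → ℤ} (hA : A2 cs h x y) {P : Subgroup Y} (hx : X x ≤ P) (hy : X y ≤ P) :
    X (x + y) ≤ ⁅P, P⁆ := by
  intro w hw
  obtain ⟨u, hu, hu1⟩ := exists_ne R hA.rx
  obtain ⟨v, hv, rfl⟩ := A2.comm_surj R hA hu hu1 hw
  exact Subgroup.commutator_mem_commutator (hx hu) (hy hv)

/-- Transitive action of `T₀ ≤ P` on `X x \ 1`, `|X x| > 2`. -/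
theorem le_comm_of_trans {x : I → ℤ} {P T₀ : Subgroup Y} (hT : T₀ ≤ P) (hx : X x ≤ P)
    (h2 : ∀ u ∈ X x, u * u = 1) (h3 : ∀ w ∈ X x, ∃ u ∈ X x, u ≠ 1 ∧ u ≠ w)
    (htr : ∀ u ∈ X x, u ≠ 1 → ∀ u' ∈ X x, u' ≠ 1 → ∃ t ∈ T₀, t * u * t⁻¹ = u') : X x ≤ ⁅P, P⁆ := by
  intro w hw
  obtain ⟨u, hu, hu1, huw⟩ := h3 w hw
  have h4 : w * u ≠ 1 := by
    intro h5
    apply huw
    have h6 := h2 u hu
    exact (mul_right_cancel (h6.trans h5.symm))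
  obtain ⟨t, ht, e⟩ := htr u hu hu1 (w * u) (mul_mem hw hu) h4
  have h5 : w = ⁅t, u⁆ := by
    rw [commutatorElement_def, e]; group
  rw [h5]
  exact Subgroup.commutator_mem_commutator (hT ht) (hx hu)

theorem le_comm_of_tor {x y : I → ℤ} (hA : A2 cs h x y) [Finite (X x)] (h2x : ∀ u ∈ X x, u * u = 1)
    (h2y : ∀ v ∈ X y, v * v = 1) (Tab : ∀ t ∈ T, ∀ t' ∈ T, t * t' = t' * t)
    (h3 : ∀ w ∈ X x, ∃ u ∈ X x, u ≠ 1 ∧ u ≠ w) {P : Subgroup Y} (hx : X x ≤ P) (hx' : X (-x) ≤ P) :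
    X x ≤ ⁅P, P⁆ :=
  le_comm_of_trans R (T₀ := T ⊓ (X x ⊔ X (-x))) (le_trans inf_le_right (sup_le hx hx')) hx h2x h3
    fun _ hu hu1 _ hu' hu1' => A2.own_trans R hA h2x h2y Tab hu hu1 hu' hu1'

/-- **`P_r` is perfect.** -/
theorem Ge_perfect [Finite Y] (R : RGD cs h 2 T n X) (hs : SL cs h) (Tab : ∀ t ∈ T, ∀ t' ∈ T, t * t' = t' * t)
    {r : I → ℤ} (hr : IsRoot cs h r)
    (hbig : ∀ b, IsRoot cs h b → ∀ w ∈ X b, ∃ u ∈ X b, u ≠ 1 ∧ u ≠ w)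
    (hnb : ∀ b, IsRoot cs h b → ∃ a, IsRoot cs h a ∧ cpr cs h a b = 1)
    (h60 : ∀ b, IsRoot cs h b → cpr cs h b r = 1 → ∃ m, IsRoot cs h m ∧ cpr cs h m r = 1 ∧ cpr cs h m b = 1) :
    RGD.Sup X (Ge cs h r) ≤ ⁅RGD.Sup X (Ge cs h r), RGD.Sup X (Ge cs h r)⁆ := by
  have : Fact (Nat.Prime 2) := ⟨Nat.prime_two⟩
  have h2 : ∀ b, IsRoot cs h b → ∀ u ∈ X b, u * u = 1 := by
    intro b hb u hu
    obtain ⟨a, ha, hab⟩ := hnb b hb
    have h1 := RgdEx.elementary R (hs.a2 ha.neg hb (by rw [cpr_neg_left _ hb, hab])) hu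
    rwa [pow_two] at h1
  have hle : ∀ b, IsRoot cs h b → 0 ≤ cpr cs h b r → X b ≤ RGD.Sup X (Ge cs h r) := fun b hb h0 =>
    RGD.le_Sup (S := Ge cs h r) ⟨hb, h0⟩
  refine RGD.Sup_le fun b hb => ?_
  rcases hs.cases hb.1 hr with ⟨h1, -⟩ | ⟨-, h1⟩ | ⟨-, -, h1, h1'⟩
  · subst h1
    obtain ⟨a, ha, hab⟩ := hnb b hb.1
    have hba : cpr cs h b a = 1 := by rw [hs b a hb.1 ha, hab]
    have hd := isRoot_sub hb.1 ha hba
    have hc : cpr cs h (b - a) a = -1 := by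
      rw [sub_eq_add_neg, cpr_add cs h _ _ ha, cpr_neg cs h _ ha, hba, cpr_self cs h ha]; norm_num
    have hc' : cpr cs h (b - a) b = 1 := by
      rw [sub_eq_add_neg, cpr_add cs h _ _ hb.1, cpr_neg cs h _ hb.1, hab, cpr_self cs h hb.1]; norm_num
    have h3 := le_comm_of_comm R (hs.a2 hd ha hc) (hle _ hd (by rw [hc']; norm_num)) (hle a ha (by rw [hab]; norm_num))
    rwa [sub_add_cancel] at h3
  · exact absurd hb.2 (by rw [h1]; norm_num)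
  · have h0 := hb.2
    rcases (by omega : cpr cs h b r = 0 ∨ cpr cs h b r = 1) with h3 | h3
    · obtain ⟨a, ha, hab⟩ := hnb b hb.1
      have hba : cpr cs h b (-a) = -1 := by rw [cpr_neg_right cs h _ ha, hs b a hb.1 ha, hab]
      exact le_comm_of_tor R (hs.a2 hb.1 ha.neg hba) (h2 b hb.1) (h2 _ ha.neg) Tab (hbig b hb.1) (hle b hb.1 hb.2)
        (hle _ hb.1.neg (by rw [cpr_neg cs h _ hr, h3]; norm_num))
    · obtain ⟨m, hm, hmr, hmb⟩ := h60 b hb.1 h3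
      have hbm : cpr cs h b m = 1 := by rw [hs b m hb.1 hm, hmb]
      have hd := isRoot_sub hb.1 hm hbm
      have hc : cpr cs h (b - m) m = -1 := by
        rw [sub_eq_add_neg, cpr_add cs h _ _ hm, cpr_neg cs h _ hm, hbm, cpr_self cs h hm]; norm_num
      have hc' : cpr cs h (b - m) r = 0 := by
        rw [sub_eq_add_neg, cpr_add cs h _ _ hr, cpr_neg cs h _ hr, h3, hmr]; norm_num
      have h4 := le_comm_of_comm R (hs.a2 hd hm hc) (hle _ hd hc'.ge) (hle m hm (by rw [hmr]; norm_num))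
      rwa [sub_add_cancel] at h4

end Cfsg.Agent.KFacts.RgdPerf
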