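import Mathlib
import Cfsg.Agent.KFacts.RgdSL
import Cfsg.Agent.Nodes.PosPair

/-!
# Two roots swapped by a diagram symmetry whose sum is a root have disjoint supports (ODD, D4, (k3), `A_{2m}`)

Simply laced, connected.

* `bf` : the integral form `∑ x i ⟨y, α_i^∨⟩`; `bf_even`, `bf_pos`;
* `disj` : `r, r'` positive, `σ r = r'`, `σ r' = r`, `⟨r, r'^∨⟩ = -1` ⟹ `r i = 0 ∨ r' i = 0` for all `i`.
-/

set_option autoImplicit false
set_option linter.unusedSectionVars false

namespace Cfsg.Agent.KFacts.RootDisj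

open CoxeterSystem Cfsg.Agent.ChevalleyStructure.CoxeterGeom Cfsg.Agent.Tits.Roots Cfsg.Agent.Tits.Core
  Cfsg.Agent.Nodes.Reps Cfsg.Agent.Nodes.Coroot Cfsg.Agent.Nodes.PosPair Cfsg.Agent.KFacts.RgdSL

variable {I W : Type*} [Fintype I] [DecidableEq I] [Group W] {M : CoxeterMatrix I}
variable {cs : CoxeterSystem M W} {A : I → I → ℤ} {h : IsCartan M A}

/-- the integral form -/
def bf (A : I → I → ℤ) (x y : I → ℤ) : ℤ := ∑ i, x i * pairing A i y

theorem pairing_sr_ (A : I → I → ℤ) (k l : I) : pairing A k (sr l) = A k l := by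
  show pairing A k (Pi.single l 1) = A k l
  rw [pairing_single, mul_one]

omit [DecidableEq I] in
theorem bf_add_left (x x' y : I → ℤ) : bf A (x + x') y = bf A x y + bf A x' y := by
  unfold bf
  rw [← Finset.sum_add_distrib]
  exact Finset.sum_congr rfl fun i _ => by rw [Pi.add_apply, add_mul]

omit [DecidableEq I] in
theorem bf_add_right (x y y' : I → ℤ) : bf A x (y + y') = bf A x y + bf A x y' := by
  unfold bf
  rw [← Finset.sum_add_distrib]
  exact Finset.sum_congr rfl fun i _ => by rw [pairing_add, mul_add]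

omit [DecidableEq I] in
theorem bf_eq (x y : I → ℤ) : bf A x y = ∑ i, ∑ j, x i * A i j * y j := by
  unfold bf
  refine Finset.sum_congr rfl fun i _ => ?_
  unfold pairing
  rw [Finset.mul_sum]
  exact Finset.sum_congr rfl fun j _ => by ring

omit [DecidableEq I] in
theorem bf_comm (hA : ∀ i j, A i j = A j i) (x y : I → ℤ) : bf A x y = bf A y x := by
  rw [bf_eq, bf_eq, Finset.sum_comm]
  exact Finset.sum_congr rfl fun i _ => Finset.sum_congr rfl fun j _ => by rw [hA j i]; ring

omit [DecidableEq I] in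
/-- invariance under diagram symmetries -/
theorem bf_comp {σ : Equiv.Perm I} (hσ : ∀ i j, A (σ i) (σ j) = A i j) (x y : I → ℤ) :
    bf A (x ∘ σ.symm) (y ∘ σ.symm) = bf A x y := by
  rw [bf_eq, bf_eq, ← Equiv.sum_comp σ]
  refine Finset.sum_congr rfl fun i _ => ?_
  rw [← Equiv.sum_comp σ]
  refine Finset.sum_congr rfl fun j _ => ?_
  simp only [Function.comp_apply, Equiv.symm_apply_apply, hσ]

theorem bf_even (hA : ∀ i j, A i j = A j i) (h2 : ∀ i, A i i = 2) (x : I → ℤ) : Even (bf A x x) := by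
  rw [← ZMod.intCast_eq_zero_iff_even, bf_eq, ← Finset.sum_product', Int.cast_sum]
  refine Finset.sum_involution (fun p _ => (p.2, p.1)) (fun p _ => ?_) (fun p _ hp hne => ?_) (fun p _ => ?_)
    (fun p _ => rfl)
  · have h3 : ((x p.1 * A p.1 p.2 * x p.2 + x p.2 * A p.2 p.1 * x p.1 : ℤ) : ZMod 2) = 0 := by
      rw [hA p.2 p.1]
      have : x p.1 * A p.1 p.2 * x p.2 + x p.2 * A p.1 p.2 * x p.1 = 2 * (x p.1 * A p.1 p.2 * x p.2) := by ring
      rw [this]
      push_cast
      have : (2 : ZMod 2) = 0 := rfl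
      rw [this, zero_mul]
    rw [← h3]
    push_cast
    rfl
  · apply hp
    have h3 : p.1 = p.2 := (congrArg Prod.snd hne)
    rw [h3, h2]
    push_cast
    have : (2 : ZMod 2) = 0 := rfl
    rw [this, mul_zero, zero_mul]
  · simp

section Pos

variable [Finite W] (hs : SL cs h)
  (hconn : ∀ J : Set I, J.Nonempty → J ≠ Set.univ → ∃ a ∈ J, ∃ b, b ∉ J ∧ M a b ≠ 2)

include hs

theorem cart_symm (i j : I) : A i j = A j i := by
  have h1 := hs (sr j) (sr i) (isRoot_sr cs h j) (isRoot_sr cs h i)
  rw [cpr_sr, cpr_sr, pairing_sr_, pairing_sr_] at h1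
  exact h1

/-- the form of a root with a root -/
theorem cpr_eq_bf (x : I → ℤ) {y : I → ℤ} (hy : IsRoot cs h y) : cpr cs h x y = bf A x y := by
  have h1 : x = ∑ k, x k • sr k := by
    funext j
    simp [Finset.sum_apply, sr, Pi.single_apply]
  conv_lhs => rw [h1]
  have key : ∀ s : Finset I, cpr cs h (∑ k ∈ s, x k • sr k) y = ∑ k ∈ s, x k * pairing A k y := by
    classical
    intro s
    induction s using Finset.induction_on with
    | empty =>
      rw [Finset.sum_empty, Finset.sum_empty]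
      have := cpr_smul cs h 0 0 hy
      rwa [zero_smul, zero_mul] at this
    | insert a s ha ih =>
      rw [Finset.sum_insert ha, Finset.sum_insert ha, cpr_add cs h _ _ hy, cpr_smul cs h _ _ hy, ih,
        hs _ _ (isRoot_sr cs h a) hy, cpr_sr]
  exact key Finset.univ

include hconn

theorem exists_norm [Fintype W] [Nonempty I] : ∃ N : ℤ, 0 < N ∧ ∀ x y, 2 * form cs h x y = N * bf A x y := by
  obtain ⟨i₀⟩ := ‹Nonempty I›
  have hN0 : 0 < form cs h (sr i₀) (sr i₀) := form_pos cs h (isRoot_sr cs h i₀).ne_zero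
  refine ⟨form cs h (sr i₀) (sr i₀), hN0, ?_⟩
  set N := form cs h (sr i₀) (sr i₀) with hN
  have hall : ∀ i, form cs h (sr i) (sr i) = N := by
    by_contra hcon
    have h1 : {i | form cs h (sr i) (sr i) = N} ≠ Set.univ := by
      intro h2
      apply hcon
      intro i
      have : i ∈ {i | form cs h (sr i) (sr i) = N} := by rw [h2]; trivial
      exact this
    obtain ⟨a, ha, b, hb, hab⟩ := hconn {i | form cs h (sr i) (sr i) = N} ⟨i₀, rfl⟩ h1
    apply hb
    have ra := isRoot_sr cs h a
    have rb := isRoot_sr cs h b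
    have e1 := two_form_cpr cs h (sr a) rb
    have e2 := two_form_cpr cs h (sr b) ra
    rw [form_comm cs h (sr b), hs _ _ rb ra] at e2
    have h3 : cpr cs h (sr a) (sr b) ≠ 0 := by
      have hne : a ≠ b := by
        rintro rfl
        exact hb ha
      rw [cpr_sr, pairing_sr_, cart_symm hs]
      rcases h.rel a b hne with ⟨h4, -⟩ | ⟨-, h4, -⟩ | ⟨-, ⟨h4, -⟩ | ⟨h4, -⟩⟩ | ⟨-, ⟨h4, -⟩ | ⟨h4, -⟩⟩
      · exact absurd h4 hab
      all_goals rw [h4]; norm_num
    have h4 := mul_left_cancel₀ h3 (e1.symm.trans e2)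
    show form cs h (sr b) (sr b) = N
    rw [h4]
    exact ha
  intro x y
  have h1 : x = ∑ k, x k • sr k := by
    funext j
    simp [Finset.sum_apply, sr, Pi.single_apply]
  have key : ∀ s : Finset I, 2 * form cs h (∑ k ∈ s, x k • sr k) y = N * ∑ k ∈ s, x k * pairing A k y := by
    classical
    intro s
    induction s using Finset.induction_on with
    | empty =>
      rw [Finset.sum_empty, Finset.sum_empty, form_comm, form_zero_right]
      ring
    | insert a s ha ih =>
      rw [Finset.sum_insert ha, Finset.sum_insert ha, form_add_left, form_smul_left, mul_add, ih, mul_add]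
      congr 1
      have h2 := two_form cs h a y
      rw [form_comm, hall] at h2
      calc 2 * (x a * form cs h (sr a) y) = x a * (2 * form cs h (sr a) y) := by ring
        _ = _ := by rw [h2]; ring
  conv_lhs => rw [h1]
  exact key Finset.univ

theorem bf_nonneg [Nonempty I] (x : I → ℤ) : 0 ≤ bf A x x ∧ (bf A x x = 0 → x = 0) := by
  have := Fintype.ofFinite W
  obtain ⟨N, hN, h1⟩ := exists_norm (cs := cs) (h := h) hs hconn
  by_cases hx : x = 0
  · subst hx
    refine ⟨?_, fun _ => rfl⟩
    have h2 := h1 0 0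
    rw [form_zero_right, mul_zero] at h2
    rcases mul_eq_zero.1 h2.symm with h3 | h3
    · omega
    · omega
  · have h2 := form_pos cs h hx
    have h3 := h1 x x
    have h4 : 0 < bf A x x := by
      by_contra h5
      push Not at h5
      have := mul_nonpos_of_nonneg_of_nonpos hN.le h5
      omega
    exact ⟨h4.le, fun h5 => by omega⟩

/-- **Disjoint supports.** -/
theorem disj {σ : Equiv.Perm I} (hσ : ∀ i j, A (σ i) (σ j) = A i j) {r r' : I → ℤ} (hr : IsRoot cs h r)
    (hr' : IsRoot cs h r') (hp : 0 ≤ r) (hp' : 0 ≤ r') (e1 : r ∘ σ.symm = r') (e2 : r' ∘ σ.symm = r)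
    (hc : cpr cs h r r' = -1) (i : I) : r i = 0 ∨ r' i = 0 := by
  have hI : Nonempty I := ⟨i⟩
  have hA := cart_symm (cs := cs) (h := h) hs
  have h2 : ∀ i, A i i = 2 := h.diag
  obtain ⟨s, hsd⟩ : ∃ s : I → ℤ, ∀ i, s i = min (r i) (r' i) := ⟨_, fun _ => rfl⟩
  obtain ⟨a, ha⟩ : ∃ a : I → ℤ, r = a + s := ⟨r - s, by abel⟩
  obtain ⟨a', ha'⟩ : ∃ a' : I → ℤ, r' = a' + s := ⟨r' - s, by abel⟩
  have hai : ∀ i, a i = r i - min (r i) (r' i) := fun i => by
    have := congrFun ha i
    rw [Pi.add_apply, hsd] at this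
    omega
  have hai' : ∀ i, a' i = r' i - min (r i) (r' i) := fun i => by
    have := congrFun ha' i
    rw [Pi.add_apply, hsd] at this
    omega
  have hs0 : ∀ i, 0 ≤ s i := fun i => by rw [hsd]; exact le_min (hp i) (hp' i)
  have ha0 : ∀ i, 0 ≤ a i := fun i => by rw [hai]; have := min_le_left (r i) (r' i); omega
  have ha0' : ∀ i, 0 ≤ a' i := fun i => by rw [hai']; have := min_le_right (r i) (r' i); omega
  have hdis : ∀ i, a i = 0 ∨ a' i = 0 := fun i => by
    rw [hai, hai']
    rcases le_total (r i) (r' i) with h3 | h3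
    · rw [min_eq_left h3]; left; omega
    · rw [min_eq_right h3]; right; omega
  -- symmetry
  have ss : s ∘ σ.symm = s := by
    funext j
    have e3 := congrFun e1 j
    have e4 := congrFun e2 j
    simp only [Function.comp_apply] at e3 e4 ⊢
    rw [hsd, hsd, e3, e4, min_comm]
  have sa : a ∘ σ.symm = a' := by
    funext j
    have e3 := congrFun e1 j
    have e4 := congrFun e2 j
    simp only [Function.comp_apply] at e3 e4 ⊢
    rw [hai, hai', e3, e4, min_comm]
  have eP : bf A a' a' = bf A a a := by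
    conv_lhs => rw [← sa]
    exact bf_comp hσ a a
  have ek : bf A s a' = bf A s a := by
    conv_lhs => rw [← sa, ← ss]
    exact bf_comp hσ s a
  -- values
  have hrr : bf A r r = 2 := by rw [← cpr_eq_bf hs r hr, cpr_self cs h hr]
  have hrr' : bf A r r' = -1 := by rw [← cpr_eq_bf hs r hr', hc]
  have f1 : bf A a a + 2 * bf A s a + bf A s s = 2 := by
    rw [ha, bf_add_left, bf_add_right, bf_add_right, bf_comm hA a s] at hrr
    linarith
  have f2 : bf A a a' + 2 * bf A s a + bf A s s = -1 := by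
    rw [ha, ha', bf_add_left, bf_add_right, bf_add_right, bf_comm hA a s, ek] at hrr'
    linarith
  have hQ : bf A a a' ≤ 0 := by
    rw [bf_eq]
    refine Finset.sum_nonpos fun i _ => Finset.sum_nonpos fun j _ => ?_
    by_cases hij : i = j
    · subst hij
      rcases hdis i with h3 | h3 <;> rw [h3] <;> simp
    · have h3 : A i j ≤ 0 := by
        rcases h.rel i j hij with ⟨-, h4, -⟩ | ⟨-, h4, -⟩ | ⟨-, ⟨h4, -⟩ | ⟨h4, -⟩⟩ | ⟨-, ⟨h4, -⟩ | ⟨h4, -⟩⟩ <;>
          rw [h4] <;> norm_num
      have h4 := mul_nonneg (ha0 i) (ha0' j)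
      have h5 := mul_nonpos_of_nonneg_of_nonpos h4 h3
      calc a i * A i j * a' j = a i * a' j * A i j := by ring
        _ ≤ 0 := h5
  have hPe := bf_even hA h2 a
  have hZe := bf_even hA h2 s
  have hP := bf_nonneg hs hconn a
  have hZ := bf_nonneg hs hconn s
  have hP0 : bf A a a ≠ 0 := by
    intro h3
    have h4 : bf A a a' = 0 := by
      rw [hP.2 h3]
      unfold bf
      simp
    omega
  obtain ⟨m, hm⟩ := hPe
  obtain ⟨n, hn⟩ := hZe
  have hP2 : bf A a a = 2 := by omega
  have hQ1 : bf A a a' = -1 := by omega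
  have hV := bf_nonneg hs hconn (s + (a + a'))
  have hvv : bf A (s + (a + a')) (s + (a + a')) = 2 - bf A s s := by
    have g1 : bf A a' a = bf A a a' := bf_comm hA _ _
    have g2 : bf A a s = bf A s a := bf_comm hA _ _
    have g3 : bf A a' s = bf A s a' := bf_comm hA _ _
    simp only [bf_add_left, bf_add_right]
    rw [g1, g2, g3, eP, ek]
    omega
  rw [hvv] at hV
  have hZ0 : bf A s s = 0 := by
    by_contra h3
    have h4 : bf A s s = 2 := by omega
    have h5 := hV.2 (by omega)
    have h6 : a = 0 := by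
      funext j
      have h7 := congrFun h5 j
      have h8 := hs0 j
      have h9 := ha0 j
      have h10 := ha0' j
      simp only [Pi.add_apply, Pi.zero_apply] at h7 ⊢
      omega
    apply hP0
    rw [h6]
    unfold bf
    simp
  have h3 := congrFun (hZ.2 hZ0) i
  rw [hsd, Pi.zero_apply] at h3
  rcases le_total (r i) (r' i) with h4 | h4
  · rw [min_eq_left h4] at h3; exact Or.inl h3
  · rw [min_eq_right h4] at h3; exact Or.inr h3

end Pos

end Cfsg.Agent.KFacts.RootDisj
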