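import Cfsg.Agent.OddHalf.CaseM.Sheet

/-!
# The sheet of case (M): `P = R φ(M)` for a quasisimple group `M`

`QData P R φ`: `R` normal in `P`, `P = R φ(M)`, and the proper normal subgroups of `M` are central.
`QData.hq`: the hypothesis of `CaseM.big_of_quasisimple`.
`QData.idx`: `P` has no proper subgroup of index `≤ w` if `2 ^ a` divides `|M|` and not `w !`.
-/

set_option autoImplicit false

namespace Cfsg.Agent.KFacts.SheetMQuot

open Subgroup Cfsg.Agent.OddHalf.D8.Sheet Cfsg.Agent.OddHalf.CaseM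
open scoped commutatorElement

variable {K M : Type*} [Group K] [Group M]

structure QData (P R : Subgroup K) (φ : M →* K) : Prop where
  RP : R ≤ P
  Rn : ∀ x ∈ P, ∀ r ∈ R, x * r * x⁻¹ ∈ R
  mem : ∀ m, φ m ∈ P
  dec : ∀ x ∈ P, ∃ r ∈ R, ∃ m, x = r * φ m
  simple : ∀ N : Subgroup M, N.Normal → N ≤ center M ∨ N = ⊤

namespace QData

variable {P R : Subgroup K} {φ : M →* K}

/-- the proper normal subgroups of `P` containing `R` are central modulo `R` -/
theorem cases (Q : QData P R φ) (N : Subgroup K) (hRN : R ≤ N)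
    (hn : ∀ p ∈ P, ∀ n ∈ N, p * n * p⁻¹ ∈ N) :
    (N.comap φ ≤ center M) ∨ P ≤ N := by
  have h1 : (N.comap φ).Normal := by
    constructor
    intro n hn' m
    rw [mem_comap, map_mul, map_mul, map_inv]
    exact hn _ (Q.mem m) _ hn'
  rcases Q.simple _ h1 with h2 | h2
  · exact Or.inl h2
  · right
    intro x hx
    obtain ⟨r, hr, m, rfl⟩ := Q.dec x hx
    refine mul_mem (hRN hr) ?_
    have : m ∈ N.comap φ := by rw [h2]; exact mem_top _
    exact this

theorem hq (Q : QData P R φ) : ∀ N : Subgroup K, N ≤ P → R ≤ N → (∀ p ∈ P, ∀ n ∈ N, p * n * p⁻¹ ∈ N) →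
    ⁅N, P⁆ ≤ R ∨ N = P := by
  intro N hNP hRN hn
  rcases Q.cases N hRN hn with h | h
  · left
    rw [commutator_le]
    intro x hx y hy
    obtain ⟨r, hr, a, rfl⟩ := Q.dec x (hNP hx)
    obtain ⟨s, hs, b, rfl⟩ := Q.dec y hy
    have ha : a ∈ center M := by
      apply h
      have h1 := mul_mem (inv_mem (hRN hr)) hx
      rwa [inv_mul_cancel_left] at h1
    have hab : φ a * φ b = φ b * φ a := by
      rw [← map_mul, ← map_mul, mem_center_iff.1 ha b]
    have h1 : φ a * s * (φ a)⁻¹ ∈ R := Q.Rn _ (Q.mem a) _ hs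
    have h2 : φ b * r * (φ b)⁻¹ ∈ R := Q.Rn _ (Q.mem b) _ hr
    have h3 : ⁅r * φ a, s * φ b⁆ = r * (φ a * s * (φ a)⁻¹) * (φ b * r * (φ b)⁻¹)⁻¹ * s⁻¹ := by
      rw [commutatorElement_def]
      calc r * φ a * (s * φ b) * (r * φ a)⁻¹ * (s * φ b)⁻¹
          = r * (φ a * s * (φ a)⁻¹) * (φ a * φ b) * (φ a)⁻¹ * r⁻¹ * (φ b)⁻¹ * s⁻¹ := by group
        _ = r * (φ a * s * (φ a)⁻¹) * (φ b * φ a) * (φ a)⁻¹ * r⁻¹ * (φ b)⁻¹ * s⁻¹ := by rw [hab]
        _ = _ := by group
    rw [h3]
    exact mul_mem (mul_mem (mul_mem hr h1) (inv_mem h2)) (inv_mem hs)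
  · exact Or.inr (le_antisymm hNP h)

/-- **`(idx)`** -/
theorem idx [Finite K] [Finite M] (Q : QData P R φ) (perf : ⁅P, P⁆ = P) (R2 : IsPGroup 2 R)
    (hZ : Odd (Nat.card (center M))) {a w : ℕ} (ha : 2 ^ a ∣ Nat.card M) (hw : ¬ 2 ^ a ∣ Nat.factorial w) :
    ∀ H : Subgroup K, H ≤ P → H.relIndex P ≤ w → H = P := by
  intro H hHP hH
  have : Fact (Nat.Prime 2) := ⟨Nat.prime_two⟩
  have hmapR : (R.subgroupOf P).map P.subtype = R := by
    rw [subgroupOf_map_subtype, inf_of_le_left Q.RP]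
  have hRn : (R.subgroupOf P).Normal := ⟨fun r hr g => Q.Rn g g.2 r hr⟩
  set N := (H.subgroupOf P).normalCore with hN
  have hNn : N.Normal := normalCore_normal _
  have h1 : N.index ∣ Nat.factorial w := by
    have h2 : N.index ∣ Nat.factorial (H.subgroupOf P).index := by
      rw [hN, normalCore_eq_ker, index_ker, index_eq_card, ← Nat.card_perm]
      exact card_subgroup_dvd_card _
    exact h2.trans (Nat.factorial_dvd_factorial hH)
  set N1 := N ⊔ R.subgroupOf P with hN1
  have hN1n : N1.Normal := inferInstance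
  have hperf' : commutator P = ⊤ := by
    rw [_root_.commutator_def]
    apply map_injective P.subtype_injective
    rw [map_commutator, ← MonoidHom.range_eq_map, range_subtype, perf]
  have key : N1 = ⊤ → H = P := by
    intro htop
    -- `P / N` is a perfect 2-group
    let π := QuotientGroup.mk' N
    have hsurj : (R.subgroupOf P).map π = ⊤ := by
      have h3 := congrArg (Subgroup.map π) htop
      rw [hN1, Subgroup.map_sup, (QuotientGroup.map_mk'_self N), bot_sup_eq,
        ← MonoidHom.range_eq_map, MonoidHom.range_eq_top.2 (QuotientGroup.mk'_surjective _)] at h3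
      exact h3
    have hR2' : IsPGroup 2 (R.subgroupOf P) := R2.comap_subtype
    have h2g : IsPGroup 2 ((R.subgroupOf P).map π) := hR2'.map π
    rw [hsurj] at h2g
    have hperf'' : ⁅(⊤ : Subgroup (P ⧸ N)), (⊤ : Subgroup (P ⧸ N))⁆ = (⊤ : Subgroup (P ⧸ N)) := by
      have h4 := congrArg (Subgroup.map π) hperf'
      rw [_root_.commutator_def, map_commutator, ← MonoidHom.range_eq_map,
        MonoidHom.range_eq_top.2 (QuotientGroup.mk'_surjective _)] at h4
      exact h4
    have h5 := eq_bot_of_perfect_two hperf'' h2g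
    apply le_antisymm hHP
    intro x hx
    have h6 : π ⟨x, hx⟩ ∈ (⊤ : Subgroup (P ⧸ N)) := mem_top _
    rw [h5, mem_bot] at h6
    have h7 : (⟨x, hx⟩ : P) ∈ N := (QuotientGroup.eq_one_iff (N := N) _).1 h6
    exact mem_subgroupOf.1 (normalCore_le _ h7)
  rcases Q.cases (N1.map P.subtype) (by rw [← hmapR]; exact map_mono le_sup_right) (by
      rintro p hp _ ⟨n, hn, rfl⟩
      exact ⟨⟨p, hp⟩ * n * ⟨p, hp⟩⁻¹, hN1n.conj_mem n hn ⟨p, hp⟩, rfl⟩) with h2 | h2
  · exfalso
    apply hw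
    refine dvd_trans ?_ h1
    -- the map into `P`
    let ψ : M →* P := φ.codRestrict P Q.mem
    have h3 : N1.comap ψ ≤ center M := by
      intro m hm
      apply h2
      exact ⟨ψ m, hm, rfl⟩
    have h4 : Odd (Nat.card (N1.comap ψ)) := hZ.of_dvd_nat (card_dvd_of_le h3)
    have h5 : 2 ^ a ∣ (N1.comap ψ).index := by
      rw [← (N1.comap ψ).card_mul_index] at ha
      exact (Nat.Coprime.pow_left a (Nat.coprime_two_left.2 h4)).dvd_of_dvd_mul_left ha
    refine h5.trans ?_
    rw [index_comap]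
    exact (relIndex_dvd_index_of_normal _ _).trans (index_dvd_of_le le_sup_left)
  · apply key
    rw [eq_top_iff]
    intro x _
    obtain ⟨y, hy, hyx⟩ := h2 x.2
    have : y = x := Subtype.ext hyx
    rwa [← this]

end QData

end Cfsg.Agent.KFacts.SheetMQuot
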