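import Mathlib
import Cfsg.Agent.Nodes.WittAll
import Cfsg.Agent.Nodes.KindBC

/-!
# Witt frames of orthogonal type in characteristic two (ODD, D4, K-side; helper335)

* `Orth Fr` : `σ = 1`, `ε = 1`, `2 = 0`, the anisotropic part is nondegenerate;
* the relations of the root elements in this case (`swap`, `xx`, `xx0`, `xz`, `zz`);
* `Dg Fr` : the diagonal isometries; `hX`, `hZ` : the diagonal elements of the rank one groups.
-/

set_option autoImplicit false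
set_option linter.unusedSectionVars false

namespace Cfsg.Agent.KFacts.WittOrth

open Cfsg.Agent.ChevalleyStructure.CoxeterGeom Cfsg.Agent.Tits.Roots Cfsg.Agent.Nodes.TypeC
open Cfsg.Agent.Nodes.Comb Cfsg.Agent.Nodes.Reps Cfsg.Agent.Nodes.WittRoot
open Cfsg.Agent.TitsThree Cfsg.Agent.TitsThree.Siegel Cfsg.Agent.TitsThree.WittFrame Cfsg.Agent.TitsThree.WittWeyl
open scoped commutatorElement

variable {F : Type*} [Field F] {V : Type*} [AddCommGroup V] [Module F V] {H : HForm F V} {n : ℕ}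

/-- Witt frames of orthogonal type in characteristic two. -/
structure Orth (Fr : Frame H (Fin n)) : Prop where
  two : (2 : F) = 0
  σ : ∀ t, H.σ t = t
  ε : H.ε = 1
  ok0 : ∀ w, Fr.ok w 0 → w = 0
  ok1 : ∀ c, Fr.ok 0 c → c = 0
  full : ∀ w ∈ Fr.V0, ∃ c, Fr.ok w c
  nd : ∀ w ∈ Fr.V0, (∀ w' ∈ Fr.V0, H.h w w' = 0) → w = 0
  V0 : ∀ v, (∀ x, H.h v (Fr.b x) = 0) → v ∈ Fr.V0
  p0 : ∃ p : Fr.Adm, p.c ≠ 0

namespace Orth

variable {Fr : Frame H (Fin n)} (O : Orth Fr)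

include O

theorem neg (t : F) : -t = t := by
  have h1 : t + t = 0 := by rw [← two_mul, O.two, zero_mul]
  exact neg_eq_of_add_eq_zero_left h1

theorem add_self (t : F) : t + t = 0 := by rw [← two_mul, O.two, zero_mul]

theorem sub (s t : F) : s - t = s + t := by rw [sub_eq_add_neg, O.neg]

theorem eq_of_add {s t : F} (h : s + t = 0) : s = t := by
  have := eq_neg_of_add_eq_zero_left h
  rwa [O.neg] at this

theorem negV (v : V) : -v = v := by
  have h1 : v + v = 0 := by rw [← two_smul F v, O.two, zero_smul]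
  exact neg_eq_of_add_eq_zero_left h1

theorem addV (v : V) : v + v = 0 := by rw [← two_smul F v, O.two, zero_smul]

theorem η (x : Fin n × Bool) : Fr.η x = 1 := by
  unfold Frame.η; rw [O.ε]; split_ifs <;> rfl

theorem sc (x : Fin n × Bool) (t : F) : Fr.sc x t = t := by
  unfold Frame.sc; rw [O.ε, O.η, O.σ, O.neg]; simp

theorem h_comm (v w : V) : H.h v w = H.h w v := by rw [H.swap w v, O.ε, O.σ, one_mul]

theorem h_self (p : Fr.Adm) : H.h p.w p.w = 0 := by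
  have h1 := p.herm
  rw [O.ε, O.σ, one_mul, O.add_self, O.neg] at h1
  exact h1.symm

theorem hbb (x : Fin n × Bool) : H.h (Fr.b x) (Fr.b (ng x)) = 1 := by
  have h1 := Fr.hb_self_neg x
  rw [O.η] at h1
  exact h1

theorem hbb' (x : Fin n × Bool) : H.h (Fr.b (ng x)) (Fr.b x) = 1 := by
  have h1 := Fr.hb_neg_self x
  rw [O.η] at h1
  exact h1

/-! ### admissible pairs -/

theorem adm_ext {p q : Fr.Adm} (h : p.w = q.w) : p = q := by
  have h1 := (p * q⁻¹).ok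
  rw [Frame.Adm.mul_w, Frame.Adm.inv_w, h, add_neg_cancel] at h1
  have h2 := O.ok1 _ h1
  rw [Frame.Adm.mul_c, Frame.Adm.inv_c, Frame.Adm.inv_w, h, H.neg_left, O.h_self] at h2
  apply Frame.Adm.ext h
  have h3 : p.c + q.c = 0 := by
    rw [mul_zero, sub_zero, neg_zero, mul_zero, sub_zero, O.neg] at h2
    exact h2
  exact O.eq_of_add h3

theorem adm_one {p : Fr.Adm} (h : p.c = 0) : p = 1 :=
  O.adm_ext (O.ok0 _ (by have := p.ok; rwa [h] at this))

theorem adm_one' {p : Fr.Adm} (h : p.w = 0) : p = 1 := O.adm_ext h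

theorem adm_comm (p q : Fr.Adm) : p * q = q * p := O.adm_ext (by simp [add_comm])

theorem adm_sq (p : Fr.Adm) : p * p = 1 := O.adm_ext (by simp [O.addV])

theorem adm_c (a : F) (p : Fr.Adm) : (Frame.Adm.smul a p).c = a * a * p.c := by
  rw [Frame.Adm.smul_c, O.σ]

theorem exists_adm {w : V} (hw : w ∈ Fr.V0) : ∃ p : Fr.Adm, p.w = w := by
  obtain ⟨c, hc⟩ := O.full w hw
  exact ⟨⟨w, c, hc⟩, rfl⟩

theorem adm_nd {p : Fr.Adm} (h : ∀ q : Fr.Adm, H.h p.w q.w = 0) : p = 1 := by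
  apply O.adm_one'
  refine O.nd _ (Fr.ok_mem p.ok) fun w' hw' => ?_
  obtain ⟨q, rfl⟩ := O.exists_adm hw'
  exact h q

/-! ### relations -/

theorem swap {x y : Fin n × Bool} (h : x.1 ≠ y.1) (t : F) : Fr.X x y t = Fr.X y x t := by
  rw [Fr.X_swap h, O.ε, O.η, O.η, O.σ, O.neg]; simp

theorem xx {x y z : Fin n × Bool} (hxy : x.1 ≠ y.1) (hyz : y.1 ≠ z.1) (hxz : x.1 ≠ z.1) (s t : F) :
    ⁅Fr.X x y s, Fr.X (ng y) z t⁆ = Fr.X x z (s * t) := by
  rw [commutatorElement_def]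
  have e3 : Fr.X x y s * Fr.X (ng y) z t * (Fr.X x y s)⁻¹ = _ := Fr.conj_X_X hxy hyz hxz s t
  rw [e3]
  exact mul_inv_cancel_right _ _

theorem xx' {x y z : Fin n × Bool} (hxy : x.1 ≠ y.1) (hyz : y.1 ≠ z.1) (hxz : x.1 ≠ z.1) (s t : F) :
    ⁅Fr.X x (ng y) s, Fr.X y z t⁆ = Fr.X x z (s * t) := by
  have := O.xx (x := x) (y := ng y) (z := z) hxy hyz hxz s t
  rwa [ng_ng] at this

theorem xx0 {x y : Fin n × Bool} (hxy : x.1 ≠ y.1) (s t : F) :
    Commute (Fr.X x y s) (Fr.X x (ng y) t) := by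
  have e1 : Fr.X x y s * Fr.X x (ng y) t = _ := Fr.X_mul_X_same hxy s t
  have e2 : ∀ m, (Frame.Adm.tr m : Fr.Adm) = 1 := fun m => O.adm_one' rfl
  rw [e2, Fr.Z_one, one_mul] at e1
  exact e1

theorem xz {x y : Fin n × Bool} (hxy : x.1 ≠ y.1) (t : F) (p : Fr.Adm) :
    ⁅Fr.X x (ng y) t, Fr.Z y p⁆ = Fr.Z x (Frame.Adm.smul t p) * Fr.X x y (p.c * t) := by
  rw [commutatorElement_def]
  have e3 : Fr.X x (ng y) t * Fr.Z y p * (Fr.X x (ng y) t)⁻¹ = _ := Fr.conj_X_Z hxy t p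
  rw [e3, O.ε, O.η, O.σ, O.σ, O.neg]
  simp only [inv_one, one_mul]
  group

theorem xz' {x y : Fin n × Bool} (hxy : x.1 ≠ y.1) (t : F) (p : Fr.Adm) :
    ⁅Fr.X x y t, Fr.Z (ng y) p⁆ = Fr.Z x (Frame.Adm.smul t p) * Fr.X x (ng y) (p.c * t) := by
  have := O.xz (x := x) (y := ng y) hxy t p
  rwa [ng_ng] at this

theorem zz {x y : Fin n × Bool} (hxy : x.1 ≠ y.1) (p q : Fr.Adm) :
    ⁅Fr.Z x p, Fr.Z y q⁆ = Fr.X x y (H.h p.w q.w) := by
  rw [commutatorElement_def, Fr.Z_mul_Z hxy, O.η, O.σ, O.neg, one_mul]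
  group

theorem z_comm (x : Fin n × Bool) (p q : Fr.Adm) : Commute (Fr.Z x p) (Fr.Z x q) := by
  unfold Commute SemiconjBy
  rw [← Fr.Z_mul, ← Fr.Z_mul, O.adm_comm]

theorem z_sq (x : Fin n × Bool) (p : Fr.Adm) : Fr.Z x p * Fr.Z x p = 1 := by
  rw [← Fr.Z_mul, O.adm_sq, Fr.Z_one]

theorem x_sq (x y : Fin n × Bool) (t : F) : Fr.X x y t * Fr.X x y t = 1 := by
  rw [← Fr.X_add, O.add_self, Fr.X_zero]

/-! ### injectivity -/

theorem b_ne (x : Fin n × Bool) : Fr.b x ≠ 0 := by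
  intro h
  have := O.hbb x
  rw [h, H.zero_left] at this
  exact zero_ne_one this

theorem x_inj {x y : Fin n × Bool} (h : x.1 ≠ y.1) {t : F} (ht : Fr.X x y t = 1) : t = 0 := by
  have h1 := X_apply_neg Fr h t
  rw [ht] at h1
  have h2 : t • Fr.b x = 0 := by
    have h3 : ∀ v, (1 : V ≃ₗ[F] V) v = v := fun _ => rfl
    rw [h3] at h1
    exact (left_eq_add.1 h1)
  exact (smul_eq_zero.1 h2).resolve_right (O.b_ne x)

theorem z_inj {x : Fin n × Bool} {p : Fr.Adm} (hp : Fr.Z x p = 1) : p = 1 := by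
  have h1 := Z_apply_neg Fr x p
  rw [hp, O.η] at h1
  have h3 : ∀ v, (1 : V ≃ₗ[F] V) v = v := fun _ => rfl
  rw [h3, add_assoc, left_eq_add, one_smul, mul_one] at h1
  have h2 := congrArg (fun v => H.h v (Fr.b (ng x))) h1
  simp only [H.add_left, H.smul_left, Fr.h0' _ (Fr.ok_mem p.ok), H.zero_left, O.hbb, zero_add, mul_one] at h2
  exact O.adm_one h2

theorem h_sum {α : Type*} (s : Finset α) (f : α → V) (w : V) : H.h (∑ i ∈ s, f i) w = ∑ i ∈ s, H.h (f i) w := by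
  classical
  induction s using Finset.induction_on with
  | empty => simp [H.zero_left]
  | insert a s ha ih => rw [Finset.sum_insert ha, Finset.sum_insert ha, H.add_left, ih]

/-- an element fixing the frame and `V0` is trivial -/
theorem eq_one {g : V ≃ₗ[F] V} (hb : ∀ x, g (Fr.b x) = Fr.b x) (h0 : ∀ w ∈ Fr.V0, g w = w) : g = 1 := by
  ext v
  show g v = v
  set s : V := ∑ x, H.h v (Fr.b (ng x)) • Fr.b x with hs
  have h1 : v - s ∈ Fr.V0 := by
    apply O.V0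
    intro y
    rw [H.sub_left, hs, O.h_sum]
    have h2 : ∑ x, H.h (H.h v (Fr.b (ng x)) • Fr.b x) (Fr.b y) = H.h v (Fr.b y) := by
      rw [Finset.sum_eq_single (ng y)]
      · rw [H.smul_left, ng_ng, O.hbb', mul_one]
      · intro x _ hx
        have h3 : H.h (Fr.b x) (Fr.b y) = 0 := by
          apply Fr.hb_ne
          rintro rfl
          exact hx (ng_ng x).symm
        rw [H.smul_left, h3, mul_zero]
      · intro h; exact absurd (Finset.mem_univ _) h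
    rw [h2, sub_self]
  have h2 : g s = s := by
    rw [hs, map_sum]
    exact Finset.sum_congr rfl fun x _ => by rw [map_smul, hb]
  have h3 := h0 _ h1
  rw [map_sub, h2] at h3
  exact sub_left_injective h3

end Orth

/-! ### diagonal isometries -/

section Diag

variable (Fr : Frame H (Fin n))

/-- `g` is diagonal with coefficients `l`. -/
structure Co (g : V ≃ₗ[F] V) (l : Fin n × Bool → F) : Prop where
  iso : H.IsIso g
  fx : ∀ w ∈ Fr.V0, g w = w
  ne : ∀ x, l x ≠ 0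
  ap : ∀ x, g (Fr.b x) = l x • Fr.b x

variable {Fr}

theorem Co.one : Co Fr (1 : V ≃ₗ[F] V) fun _ => 1 where
  iso _ _ := rfl
  fx _ _ := rfl
  ne _ := one_ne_zero
  ap x := by rw [one_smul]; rfl

theorem Co.mul {g k : V ≃ₗ[F] V} {l m : Fin n × Bool → F} (hg : Co Fr g l) (hk : Co Fr k m) :
    Co Fr (g * k) fun x => l x * m x where
  iso := HForm.IsIso.mul H hg.iso hk.iso
  fx w hw := by rw [mul_apply', hk.fx w hw, hg.fx w hw]
  ne x := mul_ne_zero (hg.ne x) (hk.ne x)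
  ap x := by rw [mul_apply', hk.ap, map_smul, hg.ap, smul_smul, mul_comm]

theorem inv_apply_of {g : V ≃ₗ[F] V} {v w : V} (h : g w = v) : g⁻¹ v = w := by
  rw [← h]; exact g.symm_apply_apply w

theorem Co.inv {g : V ≃ₗ[F] V} {l : Fin n × Bool → F} (hg : Co Fr g l) : Co Fr g⁻¹ fun x => (l x)⁻¹ where
  iso := HForm.IsIso.inv H hg.iso
  fx w hw := inv_apply_of (hg.fx w hw)
  ne x := inv_ne_zero (hg.ne x)
  ap x := by
    apply inv_apply_of
    rw [map_smul, hg.ap, smul_smul, inv_mul_cancel₀ (hg.ne x), one_smul]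

theorem Co.mono {g : V ≃ₗ[F] V} {l : Fin n × Bool → F} (hg : Co Fr g l) : Mono Fr g id :=
  fun x => ⟨l x, hg.ne x, hg.ap x⟩

variable (Fr) in
/-- the diagonal isometries which are trivial on `V0` -/
def Dg : Subgroup (V ≃ₗ[F] V) where
  carrier := {g | ∃ l, Co Fr g l}
  one_mem' := ⟨_, Co.one⟩
  mul_mem' := by
    rintro g k ⟨l, hl⟩ ⟨m, hm⟩
    exact ⟨_, hl.mul hm⟩
  inv_mem' := by
    rintro g ⟨l, hl⟩
    exact ⟨_, hl.inv⟩

theorem mem_Dg {g : V ≃ₗ[F] V} : g ∈ Dg Fr ↔ ∃ l, Co Fr g l := Iff.rfl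

namespace Orth

variable (O : Orth Fr)

include O

theorem co_ext {g k : V ≃ₗ[F] V} {l : Fin n × Bool → F} (hg : Co Fr g l) (hk : Co Fr k l) : g = k := by
  have h1 := hg.inv.mul hk
  have h2 : g⁻¹ * k = 1 := by
    apply O.eq_one
    · intro x
      rw [h1.ap, inv_mul_cancel₀ (hg.ne x), one_smul]
    · exact h1.fx
  exact (inv_mul_eq_one.1 h2)

theorem co_neg {g : V ≃ₗ[F] V} {l : Fin n × Bool → F} (hg : Co Fr g l) (x : Fin n × Bool) : l (ng x) = (l x)⁻¹ := by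
  have h1 := hg.iso (Fr.b x) (Fr.b (ng x))
  rw [hg.ap, hg.ap, H.smul_left, H.smul_right, O.σ, O.hbb, mul_one] at h1
  exact eq_inv_of_mul_eq_one_right h1

theorem dg_comm {s t : V ≃ₗ[F] V} (hs : s ∈ Dg Fr) (ht : t ∈ Dg Fr) : s * t = t * s := by
  obtain ⟨l, hl⟩ := hs
  obtain ⟨m, hm⟩ := ht
  have h1 := hm.mul hl
  have h2 : (fun x => m x * l x) = fun x => l x * m x := by funext x; rw [mul_comm]
  rw [h2] at h1
  exact O.co_ext (hl.mul hm) h1

omit O in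
theorem _root_.Cfsg.Agent.KFacts.WittOrth.Co.pow {g : V ≃ₗ[F] V} {l : Fin n × Bool → F} (hg : Co Fr g l) (k : ℕ) :
    Co Fr (g ^ k) fun x => l x ^ k := by
  induction k with
  | zero => simpa using Co.one
  | succ k ih =>
    have := ih.mul hg
    simpa [pow_succ] using this

theorem dg_odd [Finite F] [Finite V] : (Nat.card ↥(Dg Fr)).Coprime 2 := by
  have hfin : Finite (V ≃ₗ[F] V) := Finite.of_injective (fun g : V ≃ₗ[F] V => (g : V → V)) DFunLike.coe_injective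
  have := Fintype.ofFinite F
  rw [Nat.coprime_comm, Nat.prime_two.coprime_iff_not_dvd]
  intro hdvd
  have : Fact (Nat.Prime 2) := ⟨Nat.prime_two⟩
  obtain ⟨⟨g, hgT⟩, hg⟩ := exists_prime_orderOf_dvd_card' 2 hdvd
  have hgp : g ^ 2 = 1 := by
    have := pow_orderOf_eq_one (⟨g, hgT⟩ : Dg Fr)
    rw [hg] at this
    exact congrArg Subtype.val this
  obtain ⟨l, hl⟩ := hgT
  have h1 : ∀ x, l x = 1 := by
    intro x
    have h2 := (hl.pow 2).ap x
    rw [hgp] at h2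
    have h3 : Fr.b x = l x ^ 2 • Fr.b x := h2
    have h4 : (1 - l x ^ 2) • Fr.b x = 0 := by rw [sub_smul, one_smul, ← h3, sub_self]
    have h5 := (smul_eq_zero.1 h4).resolve_right (O.b_ne x)
    have h6 : (1 + l x) * (1 + l x) = 0 := by
      have : (1 + l x) * (1 + l x) = (1 - l x ^ 2) + (2 : F) * (l x + l x ^ 2) := by ring
      rw [this, h5, O.two]; ring
    have h7 := mul_self_eq_zero.1 h6
    exact (O.eq_of_add h7).symm
  have h2 : g = 1 := by
    apply O.eq_one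
    · intro x
      rw [hl.ap, h1, one_smul]
    · exact hl.fx
  have h3 : (⟨g, ⟨l, hl⟩⟩ : Dg Fr) = 1 := Subtype.ext h2
  rw [h3, orderOf_one] at hg
  omega

theorem conjX {g : V ≃ₗ[F] V} {l : Fin n × Bool → F} (hg : Co Fr g l) {a b : Fin n × Bool} (hab : a.1 ≠ b.1) (t : F) :
    g * Fr.X a b t * g⁻¹ = Fr.X a b (l a * l b * t) := by
  rw [conj_X Fr hg.iso hab hab (hg.ap a) (hg.ap b), O.σ, O.η]
  simp

theorem conjZ {g : V ≃ₗ[F] V} {l : Fin n × Bool → F} (hg : Co Fr g l) {a : Fin n × Bool} (p : Fr.Adm) :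
    g * Fr.Z a p * g⁻¹ = Fr.Z a (Frame.Adm.smul (l a) p) := by
  rw [conj_Z Fr hg.iso (hg.ap a) p p (hg.fx _ (Fr.ok_mem p.ok)) rfl, O.σ]

/-- commutators with diagonal elements -/
theorem brX {g : V ≃ₗ[F] V} {l : Fin n × Bool → F} (hg : Co Fr g l) {a b : Fin n × Bool} (hab : a.1 ≠ b.1)
    (h1 : l a * l b ≠ 1) (t : F) : ∃ s, ⁅g, Fr.X a b s⁆ = Fr.X a b t := by
  have h2 : l a * l b + 1 ≠ 0 := fun h => h1 (O.eq_of_add h)
  refine ⟨(l a * l b + 1)⁻¹ * t, ?_⟩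
  rw [commutatorElement_def, O.conjX hg hab, ← Fr.X_neg, O.neg, ← Fr.X_add]
  congr 1
  field_simp

theorem brZ {g : V ≃ₗ[F] V} {l : Fin n × Bool → F} (hg : Co Fr g l) {a : Fin n × Bool}
    (h1 : l a ≠ 1) (p : Fr.Adm) : ∃ q, ⁅g, Fr.Z a q⁆ = Fr.Z a p := by
  have h2 : l a + 1 ≠ 0 := fun h => h1 (O.eq_of_add h)
  refine ⟨Frame.Adm.smul (l a + 1)⁻¹ p, ?_⟩
  rw [commutatorElement_def, O.conjZ hg, ← Fr.Z_inv, ← Fr.Z_mul]
  congr 1
  apply O.adm_ext
  rw [Frame.Adm.mul_w, Frame.Adm.inv_w, Frame.Adm.smul_w, Frame.Adm.smul_w, O.negV, smul_smul, ← add_smul]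
  have h3 : l a * (l a + 1)⁻¹ + (l a + 1)⁻¹ = 1 := by field_simp
  rw [h3, one_smul]

theorem fixX {g : V ≃ₗ[F] V} {l : Fin n × Bool → F} (hg : Co Fr g l) {a b : Fin n × Bool} (hab : a.1 ≠ b.1)
    (h1 : l a * l b ≠ 1) {t : F} (h : g * Fr.X a b t * g⁻¹ = Fr.X a b t) : t = 0 := by
  rw [O.conjX hg hab] at h
  have h2 : Fr.X a b (l a * l b * t + t) = 1 := by
    rw [Fr.X_add, h, O.x_sq]
  have h3 := O.x_inj hab h2
  have h4 : (l a * l b + 1) * t = 0 := by rw [← h3]; ring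
  exact (mul_eq_zero.1 h4).resolve_left fun h => h1 (O.eq_of_add h)

theorem fixZ {g : V ≃ₗ[F] V} {l : Fin n × Bool → F} (hg : Co Fr g l) {a : Fin n × Bool}
    (h1 : l a ≠ 1) {p : Fr.Adm} (h : g * Fr.Z a p * g⁻¹ = Fr.Z a p) : p = 1 := by
  rw [O.conjZ hg] at h
  have h2 : Fr.Z a (Frame.Adm.smul (l a) p * p) = 1 := by
    rw [Fr.Z_mul, h, O.z_sq]
  have h3 := congrArg Frame.Adm.w (O.z_inj h2)
  rw [Frame.Adm.mul_w, Frame.Adm.smul_w, Frame.Adm.one_w] at h3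
  have h4 : (l a + 1) • p.w = 0 := by rw [← h3]; module
  exact O.adm_one' ((smul_eq_zero.1 h4).resolve_left fun h => h1 (O.eq_of_add h))

end Orth

end Diag

/-! ### diagonal elements of the rank one groups -/

section Rank

variable (Fr : Frame H (Fin n))

/-- `h_{a,b}(t)` -/
def hX (a b : Fin n × Bool) (t : F) : V ≃ₗ[F] V := nX Fr a b t * (nX Fr a b 1)⁻¹

/-- `h_a(p, t)` -/
def hZ (a : Fin n × Bool) (p : Fr.Adm) (t : F) : V ≃ₗ[F] V := nZ Fr a (Frame.Adm.smul t p) * (nZ Fr a p)⁻¹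

variable {Fr}

theorem nX_mem (a b : Fin n × Bool) (t : F) : nX Fr a b t ∈ XG Fr a b ⊔ XG Fr (ng a) (ng b) := by
  by_cases hab : a.1 = b.1
  · have h1 : nX Fr a b t = 1 := by
      have h2 : ∀ s, Fr.X a b s = 1 := fun s => dif_neg (by simpa using hab)
      have h3 : ∀ s, Fr.X (WittFrame.neg b) (WittFrame.neg a) s = 1 := fun s => dif_neg (by simpa using hab.symm)
      unfold nX; rw [h2, h3]; group
    rw [h1]; exact one_mem _
  unfold nX
  refine mul_mem (mul_mem ?_ ?_) ?_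
  · exact Subgroup.mem_sup_left ⟨_, rfl⟩
  · refine Subgroup.mem_sup_right ?_
    rw [XG_swap Fr (a := ng a) (b := ng b) hab]
    exact ⟨_, rfl⟩
  · exact Subgroup.mem_sup_left ⟨_, rfl⟩

theorem hX_mem (a b : Fin n × Bool) (t : F) : hX Fr a b t ∈ XG Fr a b ⊔ XG Fr (ng a) (ng b) :=
  mul_mem (nX_mem _ _ _) (inv_mem (nX_mem _ _ _))

theorem nZ_mem (a : Fin n × Bool) (p : Fr.Adm) : nZ Fr a p ∈ ZG Fr a ⊔ ZG Fr (ng a) := by
  unfold nZ
  refine mul_mem (mul_mem ?_ ?_) ?_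
  · exact Subgroup.mem_sup_left ⟨_, rfl⟩
  · exact Subgroup.mem_sup_right ⟨_, rfl⟩
  · exact Subgroup.mem_sup_left ⟨_, rfl⟩

theorem hZ_mem (a : Fin n × Bool) (p : Fr.Adm) (t : F) : hZ Fr a p t ∈ ZG Fr a ⊔ ZG Fr (ng a) :=
  mul_mem (nZ_mem _ _) (inv_mem (nZ_mem _ _))

/-- coefficients -/
def lX (a b : Fin n × Bool) (t : F) (z : Fin n × Bool) : F :=
  if z = a ∨ z = b then t else if z = ng a ∨ z = ng b then t⁻¹ else 1

/-- coefficients -/
def lZ (a : Fin n × Bool) (t : F) (z : Fin n × Bool) : F :=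
  if z = a then t * t else if z = ng a then (t * t)⁻¹ else 1

theorem ne_ng (a : Fin n × Bool) : a ≠ ng a := by
  intro h
  have := congrArg Prod.snd h
  simp [ng] at this

theorem ne_of_fst {a b : Fin n × Bool} (h : a.1 ≠ b.1) : a ≠ b := fun h' => h (by rw [h'])

theorem ne_ng_of_fst {a b : Fin n × Bool} (h : a.1 ≠ b.1) : a ≠ ng b := fun h' => h (by rw [h']; rfl)

theorem fst_of_ne {a z : Fin n × Bool} (h1 : z ≠ a) (h2 : z ≠ ng a) : z.1 ≠ a.1 := by
  obtain ⟨i, s⟩ := a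
  obtain ⟨j, t⟩ := z
  intro h
  simp only at h
  subst h
  cases s <;> cases t <;> simp_all [ng]

theorem lX_fst {a b : Fin n × Bool} {t : F} : lX a b t a = t := by simp [lX]

theorem lX_snd {a b : Fin n × Bool} {t : F} : lX a b t b = t := by simp [lX]

theorem lX_nfst {a b : Fin n × Bool} (hab : a.1 ≠ b.1) {t : F} : lX a b t (ng a) = t⁻¹ := by
  rw [lX, if_neg, if_pos (Or.inl rfl)]
  rintro (h | h)
  · exact ne_ng a h.symm
  · exact hab (by rw [← h]; rfl)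

theorem lX_nsnd {a b : Fin n × Bool} (hab : a.1 ≠ b.1) {t : F} : lX a b t (ng b) = t⁻¹ := by
  rw [lX, if_neg, if_pos (Or.inr rfl)]
  rintro (h | h)
  · exact hab (by rw [← h]; rfl)
  · exact ne_ng b h.symm

theorem lX_of {a b z : Fin n × Bool} (h1 : z.1 ≠ a.1) (h2 : z.1 ≠ b.1) {t : F} : lX a b t z = 1 := by
  rw [lX, if_neg, if_neg]
  · rintro (h | h)
    · exact ne_ng_of_fst h1 h
    · exact ne_ng_of_fst h2 h
  · rintro (h | h)
    · exact ne_of_fst h1 h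
    · exact ne_of_fst h2 h

theorem lZ_self {a : Fin n × Bool} {t : F} : lZ a t a = t * t := by simp [lZ]

theorem lZ_ng {a : Fin n × Bool} {t : F} : lZ a t (ng a) = (t * t)⁻¹ := by
  rw [lZ, if_neg (ne_ng a).symm, if_pos rfl]

theorem lZ_of {a z : Fin n × Bool} (h1 : z.1 ≠ a.1) {t : F} : lZ a t z = 1 := by
  rw [lZ, if_neg (ne_of_fst h1), if_neg (ne_ng_of_fst h1)]

theorem Orth.hX_co (O : Orth Fr) {a b : Fin n × Bool} (hab : a.1 ≠ b.1) {t : F} (ht : t ≠ 0) :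
    Co Fr (hX Fr a b t) (lX a b t) := by
  have h1 : ∀ s : F, s ≠ 0 → nX Fr a b s (Fr.b (ng b)) = s • Fr.b a := fun s hs => nX_apply_neg Fr hab hs
  have h2 : ∀ s : F, s ≠ 0 → nX Fr a b s (Fr.b a) = s⁻¹ • Fr.b (ng b) := fun s hs => by
    have := nX_apply_self Fr hab hs
    rw [O.negV] at this
    exact this
  have h3 : ∀ s : F, s ≠ 0 → nX Fr a b s (Fr.b (ng a)) = s • Fr.b b := fun s hs => by
    have := nX_apply_neg' Fr hab hs
    rw [O.negV, O.ε, O.η, O.η, O.σ, inv_one, one_mul, one_mul, one_mul] at this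
    exact this
  have h4 : ∀ s : F, s ≠ 0 → nX Fr a b s (Fr.b b) = s⁻¹ • Fr.b (ng a) := fun s hs => by
    have := nX_apply_self' Fr hab hs
    rw [O.ε, O.η, O.η, O.σ, inv_one, one_mul, one_mul, one_mul] at this
    exact this
  have k1 : (nX Fr a b 1)⁻¹ (Fr.b a) = Fr.b (ng b) := inv_apply_of (by rw [h1 1 one_ne_zero, one_smul])
  have k2 : (nX Fr a b 1)⁻¹ (Fr.b (ng b)) = Fr.b a := inv_apply_of (by rw [h2 1 one_ne_zero, inv_one, one_smul])
  have k3 : (nX Fr a b 1)⁻¹ (Fr.b b) = Fr.b (ng a) := inv_apply_of (by rw [h3 1 one_ne_zero, one_smul])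
  have k4 : (nX Fr a b 1)⁻¹ (Fr.b (ng a)) = Fr.b b := inv_apply_of (by rw [h4 1 one_ne_zero, inv_one, one_smul])
  refine ⟨HForm.IsIso.mul H (isIso_nX Fr _ _ _) (HForm.IsIso.inv H (isIso_nX Fr _ _ _)), fun w hw => ?_, fun z => ?_,
    fun z => ?_⟩
  · unfold hX
    rw [mul_apply', inv_apply_of (nX_apply_V0 Fr hab hw 1), nX_apply_V0 Fr hab hw]
  · unfold lX
    split_ifs
    · exact ht
    · exact inv_ne_zero ht
    · exact one_ne_zero
  · unfold hX
    rw [mul_apply']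
    by_cases e1 : z = a
    · subst e1
      rw [k1, h1 t ht, lX_fst]
    by_cases e2 : z = b
    · subst e2
      rw [k3, h3 t ht, lX_snd]
    by_cases e3 : z = ng a
    · subst e3
      rw [k4, h4 t ht, lX_nfst hab]
    by_cases e4 : z = ng b
    · subst e4
      rw [k2, h2 t ht, lX_nsnd hab]
    · have f1 := fst_of_ne e1 e3
      have f2 := fst_of_ne e2 e4
      rw [inv_apply_of (nX_apply_of_ne Fr hab f1 f2 1), nX_apply_of_ne Fr hab f1 f2, lX_of f1 f2, one_smul]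

theorem Orth.hZ_co (O : Orth Fr) {a : Fin n × Bool} {p : Fr.Adm} (hp : p.c ≠ 0) {t : F} (ht : t ≠ 0) :
    Co Fr (hZ Fr a p t) (lZ a t) := by
  have hp' : (Frame.Adm.smul t p).c ≠ 0 := by
    rw [O.adm_c]
    exact mul_ne_zero (mul_ne_zero ht ht) hp
  have h1 : ∀ q : Fr.Adm, q.c ≠ 0 → nZ Fr a q (Fr.b (ng a)) = q.c • Fr.b a := fun q hq => by
    have := nZ_apply_neg Fr a q hq
    rw [O.η, one_mul] at this
    exact this
  have h2 : ∀ q : Fr.Adm, q.c ≠ 0 → nZ Fr a q (Fr.b a) = q.c⁻¹ • Fr.b (ng a) := fun q hq => by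
    have := nZ_apply_self Fr a q hq
    rw [O.ε, O.η, O.σ, inv_one, one_mul, one_mul] at this
    exact this
  have k1 : (nZ Fr a p)⁻¹ (Fr.b a) = p.c⁻¹ • Fr.b (ng a) :=
    inv_apply_of (by rw [map_smul, h1 p hp, smul_smul, inv_mul_cancel₀ hp, one_smul])
  have k2 : (nZ Fr a p)⁻¹ (Fr.b (ng a)) = p.c • Fr.b a :=
    inv_apply_of (by rw [map_smul, h2 p hp, smul_smul, mul_inv_cancel₀ hp, one_smul])
  refine ⟨HForm.IsIso.mul H (isIso_nZ Fr _ _) (HForm.IsIso.inv H (isIso_nZ Fr _ _)), fun w hw => ?_, fun z => ?_,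
    fun z => ?_⟩
  · have e : nZ Fr a (Frame.Adm.smul t p) ((nZ Fr a p)⁻¹ w) = nZ Fr a p ((nZ Fr a p)⁻¹ w) := by
      have hV : (nZ Fr a p)⁻¹ w ∈ Fr.V0 := by
        have h3 : ∀ v ∈ Fr.V0, nZ Fr a p v ∈ Fr.V0 := fun v hv => by
          rw [nZ_apply_V0 Fr a p hp hv]
          exact Submodule.add_mem _ hv (Submodule.smul_mem _ _ (Fr.ok_mem p.ok))
        have h4 : (nZ Fr a p)⁻¹ w = nZ Fr a p w := by
          apply inv_apply_of
          rw [nZ_apply_V0 Fr a p hp (h3 w hw), nZ_apply_V0 Fr a p hp hw, H.add_left, H.smul_left, O.h_self, O.ε,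
            mul_zero, add_zero, add_assoc, O.addV, add_zero]
        rw [h4]; exact h3 w hw
      rw [nZ_apply_V0 Fr a p hp hV, nZ_apply_V0 Fr a _ hp' hV, Frame.Adm.smul_w, O.adm_c, H.smul_right, O.σ]
      congr 1
      rw [smul_smul]
      congr 1
      field_simp
    unfold hZ
    rw [mul_apply', e]
    exact (nZ Fr a p).apply_symm_apply w
  · unfold lZ
    split_ifs
    · exact mul_ne_zero ht ht
    · exact inv_ne_zero (mul_ne_zero ht ht)
    · exact one_ne_zero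
  · unfold hZ
    rw [mul_apply']
    by_cases e1 : z = a
    · subst e1
      rw [k1, map_smul, h1 _ hp', O.adm_c, lZ_self, smul_smul]
      congr 1
      field_simp
    by_cases e3 : z = ng a
    · subst e3
      rw [k2, map_smul, h2 _ hp', O.adm_c, lZ_ng, smul_smul]
      congr 1
      field_simp
    · have f1 := fst_of_ne e1 e3
      rw [inv_apply_of (nZ_apply_of_ne Fr f1 p), nZ_apply_of_ne Fr f1, lZ_of f1, one_smul]

end Rank

end Cfsg.Agent.KFacts.WittOrth
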