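import Mathlib
import Cfsg.Agent.KFacts.WittOrth
import Cfsg.Agent.KFacts.SpecLoc
import Cfsg.Agent.KFacts.RgdOdd

/-!
# `Full` for Witt frames of orthogonal type in characteristic two (ODD, D4, K-side; helper335)

`r = ε_x + ε_y` a long root (label `rt x y`, `x.1 ≠ y.1`) of the root group datum `rg Fr` of type `B_n` (labelled `C_n`);
`P = ⟨X_a : ⟨a, r⟩ ≥ 0⟩`, `Q = ⟨X_a : ⟨a, r⟩ > 0⟩`, `Z = X_r`.
-/

set_option autoImplicit false
set_option linter.unusedSectionVars false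

namespace Cfsg.Agent.KFacts.SpecWitt

open CoxeterSystem Cfsg.Agent.ChevalleyStructure.CoxeterGeom Cfsg.Agent.Tits.Roots Cfsg.Agent.Nodes.TypeC
open Cfsg.Agent.Nodes.Comb Cfsg.Agent.Nodes.Reps Cfsg.Agent.Nodes.WittRoot Cfsg.Agent.Nodes.BNOf
  Cfsg.Agent.Nodes.StabComb Cfsg.Agent.Nodes.Coroot Cfsg.Agent.Nodes.KindBC Cfsg.Agent.Nodes.TypeCForm
open Cfsg.Agent Cfsg.Agent.TitsThree Cfsg.Agent.TitsThree.Siegel Cfsg.Agent.TitsThree.WittFrame Cfsg.Agent.TitsThree.WittWeyl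
open Cfsg.Agent.KFacts.WittOrth Cfsg.Agent.KFacts.SpecKfour Cfsg.Agent.KFacts.SpecLoc Cfsg.Agent.KFacts.RgdTI
  Cfsg.Agent.KFacts.RgdOdd
open scoped commutatorElement

/-! ### `P` normalises `Q` -/

section QN

variable {I W Y : Type*} [Fintype I] [DecidableEq I] [Group W] [Finite W] [Group Y] {M : CoxeterMatrix I}
  {cs : CoxeterSystem M W} {A : I → I → ℤ} {h : IsCartan M A} {p : ℕ} {T : Subgroup Y} {n : I → Y}
  {X : (I → ℤ) → Subgroup Y}

theorem btwn_cpr {r a b z : I → ℤ} (hr : IsRoot cs h r) (hz : Btwn cs h a b z) (ha : 0 ≤ cpr cs h a r)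
    (hb : 1 ≤ cpr cs h b r) : z ∈ Rad cs h r := by
  obtain ⟨hzr, m, c, d, hm, hc, hd, e⟩ := hz
  refine ⟨hzr, ?_⟩
  have h1 : cpr cs h (m • z) r = cpr cs h (c • a + d • b) r := by rw [e]
  rw [cpr_smul cs h m z hr, cpr_add cs h _ _ hr, cpr_smul cs h c a hr, cpr_smul cs h d b hr] at h1
  have h2 : 0 < m * cpr cs h z r := by
    rw [h1]
    nlinarith
  exact (pos_iff_pos_of_mul_pos h2).1 hm

theorem QN_gen (R : RGD cs h p T n X) {r : I → ℤ} (hr : IsRoot cs h r) {g q : Y} (hg : g ∈ RGD.Sup X (Ge cs h r))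
    (hq : q ∈ RGD.Sup X (Rad cs h r)) : g * q * g⁻¹ ∈ RGD.Sup X (Rad cs h r) := by
  have key : ∀ a ∈ Ge cs h r, ∀ u ∈ X a, ∀ q ∈ RGD.Sup X (Rad cs h r), u * q * u⁻¹ ∈ RGD.Sup X (Rad cs h r) := by
    intro a ha u hu
    suffices h1 : RGD.Sup X (Rad cs h r) ≤ (RGD.Sup X (Rad cs h r)).comap (MulAut.conj u).toMonoidHom from
      fun q hq => h1 hq
    refine RGD.Sup_le fun b hb => ?_
    intro v hv
    rw [Subgroup.mem_comap]
    show u * v * u⁻¹ ∈ RGD.Sup X (Rad cs h r)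
    have hvQ : v ∈ RGD.Sup X (Rad cs h r) := RGD.le_Sup hb hv
    by_cases hab : a = b
    · subst hab
      have huQ : u ∈ RGD.Sup X (Rad cs h r) := RGD.le_Sup hb hu
      exact mul_mem (mul_mem huQ hvQ) (inv_mem huQ)
    by_cases hab' : a = -b
    · exfalso
      have h1 := ha.2
      have h2 := hb.2
      rw [hab', cpr_neg cs h b hr] at h1
      omega
    have h1 : ⁅u, v⁆ ∈ RGD.Sup X (Rad cs h r) := by
      have h2 := R.comm a b ha.1 hb.1 hab hab' u hu v hv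
      refine (iSup_le fun z => ?_ : btw cs h X a b ≤ _) h2
      exact RGD.le_Sup (btwn_cpr hr z.2 ha.2 hb.2)
    have h3 : u * v * u⁻¹ = ⁅u, v⁆ * v := by rw [commutatorElement_def]; group
    rw [h3]
    exact mul_mem h1 hvQ
  -- the elements normalising `Q` form a subgroup
  let L : Subgroup Y :=
    { carrier := {g | (∀ q ∈ RGD.Sup X (Rad cs h r), g * q * g⁻¹ ∈ RGD.Sup X (Rad cs h r)) ∧
        ∀ q ∈ RGD.Sup X (Rad cs h r), g⁻¹ * q * g ∈ RGD.Sup X (Rad cs h r)}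
      one_mem' := ⟨fun q hq => by simpa using hq, fun q hq => by simpa using hq⟩
      mul_mem' := by
        rintro g k ⟨hg, hg'⟩ ⟨hk, hk'⟩
        refine ⟨fun q hq => ?_, fun q hq => ?_⟩
        · have : g * k * q * (g * k)⁻¹ = g * (k * q * k⁻¹) * g⁻¹ := by group
          rw [this]; exact hg _ (hk _ hq)
        · have : (g * k)⁻¹ * q * (g * k) = k⁻¹ * (g⁻¹ * q * g) * k := by group
          rw [this]; exact hk' _ (hg' _ hq)
      inv_mem' := by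
        rintro g ⟨hg, hg'⟩
        exact ⟨fun q hq => by rw [inv_inv]; exact hg' q hq, fun q hq => by rw [inv_inv]; exact hg q hq⟩ }
  have hL : RGD.Sup X (Ge cs h r) ≤ L := by
    refine RGD.Sup_le fun a ha u hu => ⟨key a ha u hu, fun q hq => ?_⟩
    have := key a ha u⁻¹ (inv_mem hu) q hq
    rwa [inv_inv] at this
  exact (hL hg).1 q hq

end QN

variable {F : Type*} [Field F] {V : Type*} [AddCommGroup V] [Module F V] {H : HForm F V} {n : ℕ}

/-! ### signed indices -/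

/-- `x`, `y` -/
def xs (x y : Fin n × Bool) (b : Bool) : Fin n × Bool := if b then x else y

/-- the signed indices different from `± x`, `± y` -/
def Out (x y : Fin n × Bool) (z : Fin n × Bool) : Prop := z.1 ≠ x.1 ∧ z.1 ≠ y.1

section Index

variable {x y : Fin n × Bool}

theorem Out.ne {z : Fin n × Bool} (h : Out x y z) (b : Bool) : z.1 ≠ (xs x y b).1 := by
  cases b
  · exact h.2
  · exact h.1

theorem Out.ne' {z : Fin n × Bool} (h : Out x y z) (b : Bool) : (xs x y b).1 ≠ z.1 := (h.ne b).symm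

theorem Out.ng {z : Fin n × Bool} (h : Out x y z) : Out x y (ng z) := h

theorem xs_ne (hxy : x.1 ≠ y.1) (b : Bool) : (xs x y b).1 ≠ (xs x y !b).1 := by
  cases b
  · exact hxy.symm
  · exact hxy

theorem cases_c (c : Fin n × Bool) : (∃ b, c = xs x y b) ∨ (∃ b, c = ng (xs x y b)) ∨ Out x y c := by
  by_cases h1 : c = x
  · exact Or.inl ⟨true, h1⟩
  by_cases h2 : c = y
  · exact Or.inl ⟨false, h2⟩
  by_cases h3 : c = ng x
  · exact Or.inr (Or.inl ⟨true, h3⟩)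
  by_cases h4 : c = ng y
  · exact Or.inr (Or.inl ⟨false, h4⟩)
  exact Or.inr (Or.inr ⟨fst_of_ne h1 h3, fst_of_ne h2 h4⟩)

/-- the value of `r` -/
def vl (x y c : Fin n × Bool) : ℤ := wt c x.1 * sn x + wt c y.1 * sn y

theorem vl_xs (hxy : x.1 ≠ y.1) (b : Bool) : vl x y (xs x y b) = 1 := by
  unfold vl
  cases b
  · show wt y x.1 * sn x + wt y y.1 * sn y = 1
    rw [wt_apply, if_neg hxy, wt_apply, if_pos rfl]
    unfold sn; split_ifs <;> simp
  · show wt x x.1 * sn x + wt x y.1 * sn y = 1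
    rw [wt_apply, if_pos rfl, wt_apply, if_neg hxy.symm]
    unfold sn; split_ifs <;> simp

theorem vl_ng (c : Fin n × Bool) : vl x y (ng c) = -vl x y c := by
  unfold vl
  rw [wt_ng, Pi.neg_apply, Pi.neg_apply]; ring

theorem vl_out {c : Fin n × Bool} (h : Out x y c) : vl x y c = 0 := by
  unfold vl
  rw [wt_apply, if_neg h.1.symm, wt_apply, if_neg h.2.symm]; ring

variable {W : Type*} [Group W] (cs : CoxeterSystem (CoxeterMatrix.B n) W)

theorem cpr_rtxy (hxy : x.1 ≠ y.1) (c d : Fin n × Bool) :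
    cpr cs (isCartan n) (rt c d) (rt x y) = vl x y c + vl x y d := by
  have := finite_W cs
  rw [cpr_rt cs _ hxy, ee_rt, Pi.add_apply, Pi.add_apply]
  unfold vl; ring

theorem mem_Ge (hxy : x.1 ≠ y.1) {c d : Fin n × Bool} (hcd : Ok c d) (h : 0 ≤ vl x y c + vl x y d) :
    rt c d ∈ Ge cs (isCartan n) (rt x y) := ⟨isRoot_rt cs hcd, by rw [cpr_rtxy cs hxy]; exact h⟩

theorem mem_Rad (hxy : x.1 ≠ y.1) {c d : Fin n × Bool} (hcd : Ok c d) (h : 1 ≤ vl x y c + vl x y d) :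
    rt c d ∈ Rad cs (isCartan n) (rt x y) := ⟨isRoot_rt cs hcd, by rw [cpr_rtxy cs hxy]; exact h⟩

end Index

/-! ### `P` and `Q` -/

section PQ

variable (Fr : Frame H (Fin n)) {W : Type*} [Group W] (cs : CoxeterSystem (CoxeterMatrix.B n) W) (x y : Fin n × Bool)

/-- `P` -/
def PP : Subgroup (V ≃ₗ[F] V) := RGD.Sup (rg Fr) (Ge cs (isCartan n) (rt x y))

/-- `Q` -/
def QQ : Subgroup (V ≃ₗ[F] V) := RGD.Sup (rg Fr) (Rad cs (isCartan n) (rt x y))

/-- `Z` -/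
def ZZ : Subgroup (V ≃ₗ[F] V) := rg Fr (rt x y)

/-- the index set -/
abbrev Ix (x y : Fin n × Bool) : Type := Bool × Option {z : Fin n × Bool // Out x y z}

/-- the pieces of `Q / Z` -/
def VV : Ix x y → Subgroup (V ≃ₗ[F] V)
  | (b, some z) => XG Fr (xs x y b) z.1
  | (b, none) => ZG Fr (xs x y b)

/-- the duality -/
def st {x y : Fin n × Bool} : Ix x y → Ix x y
  | (b, some z) => (!b, some ⟨ng z.1, z.2.ng⟩)
  | (b, none) => (!b, none)

variable {Fr cs x y} (hxy : x.1 ≠ y.1)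

theorem rg_rt {c d : Fin n × Bool} (h : Ok c d) : rg Fr (rt c d) = PG Fr c d := rg_eq Fr h (ee_rt c d)

include hxy

theorem ZZ_eq : ZZ Fr x y = XG Fr x y := by
  unfold ZZ
  rw [rg_rt (Or.inl hxy), PG_ne Fr hxy]

theorem mem_ZZ (b : Bool) (t : F) : Fr.X (xs x y b) (xs x y !b) t ∈ ZZ Fr x y := by
  rw [ZZ_eq hxy]
  cases b
  · show Fr.X y x t ∈ XG Fr x y
    rw [XG_swap Fr hxy]
    exact ⟨t, rfl⟩
  · exact ⟨t, rfl⟩

theorem ZZ_le : ZZ Fr x y ≤ QQ Fr cs x y :=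
  RGD.le_Sup (mem_Rad cs hxy (Or.inl hxy) (by
    have h1 := vl_xs hxy true
    have h2 := vl_xs hxy false
    change vl x y x = 1 at h1
    change vl x y y = 1 at h2
    omega))

theorem mem_QX (b : Bool) {z : Fin n × Bool} (hz : Out x y z) (t : F) : Fr.X (xs x y b) z t ∈ QQ Fr cs x y := by
  have h1 : Ok (xs x y b) z := Or.inl (hz.ne' b)
  refine RGD.le_Sup (mem_Rad cs hxy h1 (by rw [vl_xs hxy, vl_out hz]; norm_num)) ?_
  rw [rg_rt h1, PG_ne Fr (hz.ne' b)]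
  exact ⟨t, rfl⟩

theorem mem_QZ (b : Bool) (p : Fr.Adm) : Fr.Z (xs x y b) p ∈ QQ Fr cs x y := by
  have h1 : Ok (xs x y b) (xs x y b) := Or.inr rfl
  refine RGD.le_Sup (mem_Rad cs hxy h1 (by rw [vl_xs hxy]; norm_num)) ?_
  rw [rg_rt h1, PG_self]
  exact ⟨p, rfl⟩

theorem QQ_le_PP : QQ Fr cs x y ≤ PP Fr cs x y :=
  RGD.Sup_mono fun _ ha => ⟨ha.1, le_trans (by norm_num) ha.2⟩

theorem mem_PL (b : Bool) (t : F) : Fr.X (xs x y b) (ng (xs x y !b)) t ∈ PP Fr cs x y := by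
  have h0 : (xs x y b).1 ≠ (ng (xs x y !b)).1 := xs_ne hxy b
  have h1 : Ok (xs x y b) (ng (xs x y !b)) := Or.inl h0
  refine RGD.le_Sup (mem_Ge cs hxy h1 (by rw [vl_ng, vl_xs hxy, vl_xs hxy]; norm_num)) ?_
  rw [rg_rt h1, PG_ne Fr h0]
  exact ⟨t, rfl⟩

theorem mem_PX {z u : Fin n × Bool} (hz : Out x y z) (hu : Out x y u) (hzu : z.1 ≠ u.1) (t : F) :
    Fr.X z u t ∈ PP Fr cs x y := by
  have h1 : Ok z u := Or.inl hzu
  refine RGD.le_Sup (mem_Ge cs hxy h1 (by rw [vl_out hz, vl_out hu]; norm_num)) ?_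
  rw [rg_rt h1, PG_ne Fr hzu]
  exact ⟨t, rfl⟩

theorem mem_PZ {z : Fin n × Bool} (hz : Out x y z) (p : Fr.Adm) : Fr.Z z p ∈ PP Fr cs x y := by
  have h1 : Ok z z := Or.inr rfl
  refine RGD.le_Sup (mem_Ge cs hxy h1 (by rw [vl_out hz]; norm_num)) ?_
  rw [rg_rt h1, PG_self]
  exact ⟨p, rfl⟩

omit hxy in
theorem bool_cases (b b' : Bool) : b' = b ∨ b' = !b := by cases b <;> cases b' <;> simp

omit hxy in
theorem not_ok_ng (c : Fin n × Bool) : ¬ Ok c (ng c) := by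
  rintro (h | h)
  · exact h rfl
  · exact ne_ng c h

/-- generation of `Q` -/
theorem QQ_le {K : Subgroup (V ≃ₗ[F] V)} (h1 : XG Fr x y ≤ K)
    (h2 : ∀ b z, Out x y z → XG Fr (xs x y b) z ≤ K) (h3 : ∀ b, ZG Fr (xs x y b) ≤ K) : QQ Fr cs x y ≤ K := by
  refine RGD.Sup_le fun a ha => ?_
  obtain ⟨c, d, hcd, rfl⟩ := exists_rt ha.1
  have h0 := ha.2
  rw [cpr_rtxy cs hxy] at h0
  rw [rg_rt hcd]
  rcases cases_c (x := x) (y := y) c with ⟨b, rfl⟩ | ⟨b, rfl⟩ | hc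
  · rcases cases_c (x := x) (y := y) d with ⟨b', rfl⟩ | ⟨b', rfl⟩ | hd
    · rcases bool_cases b b' with rfl | rfl
      · rw [PG_self]; exact h3 _
      · rw [PG_ne Fr (xs_ne hxy b)]
        cases b
        · show XG Fr y x ≤ K
          rw [XG_swap Fr hxy.symm]; exact h1
        · exact h1
    · rw [vl_ng, vl_xs hxy, vl_xs hxy] at h0; omega
    · rw [PG_ne Fr (hd.ne' b)]; exact h2 b d hd
  · rcases cases_c (x := x) (y := y) d with ⟨b', rfl⟩ | ⟨b', rfl⟩ | hd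
    · rw [vl_ng, vl_xs hxy, vl_xs hxy] at h0; omega
    · rw [vl_ng, vl_ng, vl_xs hxy, vl_xs hxy] at h0; omega
    · rw [vl_ng, vl_xs hxy, vl_out hd] at h0; omega
  · rcases cases_c (x := x) (y := y) d with ⟨b', rfl⟩ | ⟨b', rfl⟩ | hd
    · rw [PG_ne Fr (hc.ne b'), XG_swap Fr (hc.ne b')]; exact h2 b' c hc
    · rw [vl_ng, vl_xs hxy, vl_out hc] at h0; omega
    · rw [vl_out hc, vl_out hd] at h0; omega

/-- generation of `P` -/
theorem PP_le {K : Subgroup (V ≃ₗ[F] V)} (h1 : XG Fr x y ≤ K)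
    (h2 : ∀ b z, Out x y z → XG Fr (xs x y b) z ≤ K) (h3 : ∀ b, ZG Fr (xs x y b) ≤ K)
    (h4 : ∀ b, XG Fr (xs x y b) (ng (xs x y !b)) ≤ K)
    (h5 : ∀ z u, Out x y z → Out x y u → z.1 ≠ u.1 → XG Fr z u ≤ K) (h6 : ∀ z, Out x y z → ZG Fr z ≤ K) :
    PP Fr cs x y ≤ K := by
  refine RGD.Sup_le fun a ha => ?_
  obtain ⟨c, d, hcd, rfl⟩ := exists_rt ha.1
  have h0 := ha.2
  rw [cpr_rtxy cs hxy] at h0
  rw [rg_rt hcd]
  rcases cases_c (x := x) (y := y) c with ⟨b, rfl⟩ | ⟨b, rfl⟩ | hc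
  · rcases cases_c (x := x) (y := y) d with ⟨b', rfl⟩ | ⟨b', rfl⟩ | hd
    · rcases bool_cases b b' with rfl | rfl
      · rw [PG_self]; exact h3 _
      · rw [PG_ne Fr (xs_ne hxy b)]
        cases b
        · show XG Fr y x ≤ K
          rw [XG_swap Fr hxy.symm]; exact h1
        · exact h1
    · rcases bool_cases b b' with rfl | rfl
      · exact absurd hcd (not_ok_ng _)
      · rw [PG_ne Fr (show (xs x y b).1 ≠ (ng (xs x y !b)).1 from xs_ne hxy b)]; exact h4 b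
    · rw [PG_ne Fr (hd.ne' b)]; exact h2 b d hd
  · rcases cases_c (x := x) (y := y) d with ⟨b', rfl⟩ | ⟨b', rfl⟩ | hd
    · rcases bool_cases b' b with rfl | rfl
      · exact absurd hcd.symm (not_ok_ng _)
      · have h7 : (ng (xs x y !b')).1 ≠ (xs x y b').1 := (xs_ne hxy b').symm
        rw [PG_ne Fr h7, XG_swap Fr h7]; exact h4 b'
    · rw [vl_ng, vl_ng, vl_xs hxy, vl_xs hxy] at h0; omega
    · rw [vl_ng, vl_xs hxy, vl_out hd] at h0; omega
  · rcases cases_c (x := x) (y := y) d with ⟨b', rfl⟩ | ⟨b', rfl⟩ | hd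
    · rw [PG_ne Fr (hc.ne b'), XG_swap Fr (hc.ne b')]; exact h2 b' c hc
    · rw [vl_ng, vl_xs hxy, vl_out hc] at h0; omega
    · rcases hcd with h7 | rfl
      · rw [PG_ne Fr h7]; exact h5 c d hc hd h7
      · rw [PG_self]; exact h6 c hc

theorem ZZ_eq' (b : Bool) : ZZ Fr x y = XG Fr (xs x y b) (xs x y !b) := by
  rw [ZZ_eq hxy]
  cases b
  · exact XG_swap Fr hxy
  · rfl

theorem xs_ne_ng (b b' : Bool) : xs x y b ≠ ng (xs x y b') := by
  rcases bool_cases b b' with rfl | rfl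
  · exact ne_ng _
  · exact ne_ng_of_fst (xs_ne hxy b)

omit hxy in
theorem out_ne_ng {z : Fin n × Bool} (hz : Out x y z) (b : Bool) : z ≠ ng (xs x y b) := ne_ng_of_fst (hz.ne b)

omit hxy in
theorem xs_ne_ng_out {z : Fin n × Bool} (hz : Out x y z) (b : Bool) : xs x y b ≠ ng z := ne_ng_of_fst (hz.ne' b)

/-- elements of `P` centralise `Z` -/
theorem cen (O : Orth Fr) {p z : V ≃ₗ[F] V} (hp : p ∈ PP Fr cs x y) (hz : z ∈ ZZ Fr x y) : p * z = z * p := by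
  have key : PP Fr cs x y ≤ Subgroup.centralizer {z} := by
    refine PP_le hxy ?_ ?_ ?_ ?_ ?_ ?_
    · rintro _ ⟨t, rfl⟩
      rw [ZZ_eq' hxy true] at hz
      obtain ⟨s, rfl⟩ := hz
      rw [Subgroup.mem_centralizer_singleton_iff]
      exact (Fr.commute_XX (x := x) (y := y) (z := x) (u := y) (xs_ne_ng hxy true true) (xs_ne_ng hxy true false)
        (xs_ne_ng hxy false true) (xs_ne_ng hxy false false) _ _).eq
    · rintro b u hu _ ⟨t, rfl⟩
      rw [ZZ_eq' hxy b] at hz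
      obtain ⟨s, rfl⟩ := hz
      rw [Subgroup.mem_centralizer_singleton_iff]
      exact (Fr.commute_XX (xs_ne_ng hxy _ _) (xs_ne_ng_out hu b) (xs_ne_ng hxy _ _) (xs_ne_ng_out hu _) _ _).eq
    · rintro b _ ⟨q, rfl⟩
      rw [ZZ_eq' hxy b] at hz
      obtain ⟨s, rfl⟩ := hz
      rw [Subgroup.mem_centralizer_singleton_iff]
      exact (Fr.commute_ZX (xs_ne_ng hxy _ _) (xs_ne_ng hxy _ _) _ _).eq
    · rintro b _ ⟨t, rfl⟩
      rw [ZZ_eq' hxy b] at hz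
      obtain ⟨s, rfl⟩ := hz
      rw [Subgroup.mem_centralizer_singleton_iff]
      exact (O.xx0 (xs_ne hxy b) s t).eq.symm
    · rintro u w hu hw huw _ ⟨t, rfl⟩
      rw [ZZ_eq' hxy true] at hz
      obtain ⟨s, rfl⟩ := hz
      rw [Subgroup.mem_centralizer_singleton_iff]
      exact (Fr.commute_XX (xs_ne_ng_out hu _) (xs_ne_ng_out hw _) (xs_ne_ng_out hu _) (xs_ne_ng_out hw _) _ _).eq
    · rintro u hu _ ⟨q, rfl⟩
      rw [ZZ_eq' hxy true] at hz
      obtain ⟨s, rfl⟩ := hz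
      rw [Subgroup.mem_centralizer_singleton_iff]
      exact (Fr.commute_ZX (xs_ne_ng_out hu _) (xs_ne_ng_out hu _) _ _).eq
  exact (Subgroup.mem_centralizer_singleton_iff.1 (key hp))

/-- the pieces commute -/
theorem comm1 (O : Orth Fr) (i j : Ix x y) (hij : j ≠ st i) {u v : V ≃ₗ[F] V} (hu : u ∈ VV Fr x y i)
    (hv : v ∈ VV Fr x y j) : u * v = v * u := by
  obtain ⟨b, z | z⟩ := i
  · obtain ⟨b', z' | z'⟩ := j
    · obtain ⟨p, rfl⟩ := hu
      obtain ⟨q, rfl⟩ := hv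
      rcases bool_cases b b' with rfl | rfl
      · exact (O.z_comm _ _ _).eq
      · exact absurd rfl hij
    · obtain ⟨p, rfl⟩ := hu
      obtain ⟨t, rfl⟩ := hv
      exact (Fr.commute_ZX (xs_ne_ng hxy _ _) (out_ne_ng z'.2 _) _ _).eq
  · obtain ⟨b', z' | z'⟩ := j
    · obtain ⟨t, rfl⟩ := hu
      obtain ⟨p, rfl⟩ := hv
      exact (Fr.commute_ZX (xs_ne_ng hxy _ _) (out_ne_ng z.2 _) _ _).eq.symm
    · obtain ⟨t, rfl⟩ := hu
      obtain ⟨s, rfl⟩ := hv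
      by_cases h1 : z'.1 = ng z.1
      · rcases bool_cases b b' with rfl | rfl
        · rw [h1]
          exact (O.xx0 (z.2.ne' _) t s).eq
        · exfalso
          apply hij
          show ((!b, some z') : Ix x y) = (!b, some ⟨ng z.1, z.2.ng⟩)
          congr 2
          exact Subtype.ext h1
      · exact (Fr.commute_XX (xs_ne_ng hxy _ _) (xs_ne_ng_out z.2 _) (out_ne_ng z'.2 _) h1 _ _).eq

/-- commutators of dual pieces -/
theorem br_XX (O : Orth Fr) (b : Bool) {z : Fin n × Bool} (hz : Out x y z) (s t : F) :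
    ⁅Fr.X (xs x y b) z s, Fr.X (xs x y !b) (ng z) t⁆ = Fr.X (xs x y b) (xs x y !b) (s * t) := by
  rw [O.swap (x := xs x y !b) (y := ng z) (hz.ne' _)]
  exact O.xx (hz.ne' b) (hz.ne _) (xs_ne hxy b) s t

theorem br_ZZ (O : Orth Fr) (b : Bool) (p q : Fr.Adm) :
    ⁅Fr.Z (xs x y b) p, Fr.Z (xs x y !b) q⁆ = Fr.X (xs x y b) (xs x y !b) (H.h p.w q.w) := O.zz (xs_ne hxy b) p q

variable {G0 : Subgroup (V ≃ₗ[F] V)}

/-- **`Spec`** -/
theorem spec (O : Orth Fr) [Finite F] [Finite V] {T : Subgroup (V ≃ₗ[F] V)} {nn : Fin n → V ≃ₗ[F] V}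
    (R : RGD cs (isCartan n) 2 T nn (rg Fr)) :
    Spec (PP Fr cs x y) (QQ Fr cs x y) (ZZ Fr x y) (Dg Fr ⊓ G0) (VV Fr x y) st where
  QP := QQ_le_PP hxy
  ZQ := ZZ_le hxy
  VQ := by
    rintro ⟨b, z | z⟩
    · rintro _ ⟨p, rfl⟩; exact mem_QZ hxy b p
    · rintro _ ⟨t, rfl⟩; exact mem_QX hxy b z.2 t
  gen := by
    refine QQ_le hxy ?_ (fun b z hz => ?_) (fun b => ?_)
    · rw [← ZZ_eq hxy]; exact le_sup_right
    · exact le_trans (le_iSup (VV Fr x y) ((b, some ⟨z, hz⟩) : Ix x y)) le_sup_left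
    · exact le_trans (le_iSup (VV Fr x y) ((b, none) : Ix x y)) le_sup_left
  cen := fun p hp z hz => cen hxy O hp hz
  QN := fun p hp q hq => by
    have := finite_W cs
    exact QN_gen R (isRoot_rt cs (Or.inl hxy)) hp hq
  stst := by
    rintro ⟨b, z | z⟩
    · show ((!(!b), none) : Ix x y) = (b, none)
      rw [Bool.not_not]
    · show ((!(!b), some ⟨ng (ng z.1), z.2.ng.ng⟩) : Ix x y) = (b, some z)
      rw [Bool.not_not]
      congr 2
      exact Subtype.ext (ng_ng _)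
  ab := by
    intro i u hu v hv
    refine comm1 hxy O i i ?_ hu hv
    obtain ⟨b, z | z⟩ := i
    · intro h
      have := congrArg Prod.fst h
      revert this
      show b = !b → False
      cases b <;> simp
    · intro h
      have := congrArg Prod.fst h
      revert this
      show b = !b → False
      cases b <;> simp
  comm1 := fun i j hij u hu v hv => comm1 hxy O i j hij hu hv
  br := by
    rintro ⟨b, z | z⟩
    · rintro _ ⟨p, rfl⟩ _ ⟨q, rfl⟩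
      rw [ZZ_eq' hxy b, br_ZZ hxy O]
      exact ⟨_, rfl⟩
    · rintro _ ⟨s, rfl⟩ _ ⟨t, rfl⟩
      rw [ZZ_eq' hxy b, br_XX hxy O b z.2]
      exact ⟨_, rfl⟩
  nd := by
    rintro ⟨b, z | z⟩
    · rintro _ ⟨p, rfl⟩ h
      have h1 : p = 1 := by
        apply O.adm_nd
        intro q
        have h2 := h (Fr.Z (xs x y !b) q) ⟨q, rfl⟩
        have h3 := br_ZZ hxy O b p q
        rw [commutatorElement_eq_one_iff_mul_comm.2 h2] at h3
        exact O.x_inj (xs_ne hxy b) h3.symm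
      rw [h1, Fr.Z_one]
    · rintro _ ⟨s, rfl⟩ h
      have h2 := h (Fr.X (xs x y !b) (ng z.1) 1) ⟨1, rfl⟩
      have h3 := br_XX hxy O b z.2 s 1
      rw [commutatorElement_eq_one_iff_mul_comm.2 h2] at h3
      have h4 := O.x_inj (xs_ne hxy b) h3.symm
      rw [mul_one] at h4
      rw [h4, Fr.X_zero]
  sq := by
    rintro ⟨b, z | z⟩
    · rintro _ ⟨p, rfl⟩; exact O.z_sq _ _
    · rintro _ ⟨t, rfl⟩; exact O.x_sq _ _ _
  TV := by
    rintro t ⟨⟨l, hl⟩, -⟩ ⟨b, z | z⟩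
    · rintro _ ⟨p, rfl⟩
      exact ⟨_, O.conjZ hl p⟩
    · rintro _ ⟨s, rfl⟩
      exact ⟨_, O.conjX hl (z.2.ne' b) s⟩
  TZ := by
    rintro t ⟨⟨l, hl⟩, -⟩ z hz
    rw [ZZ_eq hxy] at hz ⊢
    obtain ⟨s, rfl⟩ := hz
    exact ⟨_, O.conjX hl hxy s⟩
  Tab := fun s hs t ht => O.dg_comm hs.1 ht.1
  Todd := by
    have h1 : Nat.card ↥(Dg Fr ⊓ G0 : Subgroup (V ≃ₗ[F] V)) ∣ Nat.card ↥(Dg Fr) := Subgroup.card_dvd_of_le inf_le_left
    exact Nat.Coprime.coprime_dvd_left h1 O.dg_odd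

/-! ### diagonal elements of `P` -/

theorem XG_le_PL (b : Bool) : XG Fr (xs x y b) (ng (xs x y !b)) ≤ PP Fr cs x y := by
  rintro _ ⟨t, rfl⟩; exact mem_PL hxy b t

/-- the diagonal element of `⟨X_a, X_{-a}⟩`, `a = ε_x - ε_y` -/
theorem kk_mem (b : Bool) (t : F) : hX Fr (xs x y b) (ng (xs x y !b)) t ∈ PP Fr cs x y := by
  have h0 : (ng (xs x y b)).1 ≠ (xs x y !b).1 := xs_ne hxy b
  refine (sup_le (XG_le_PL hxy b) ?_ : _ ≤ PP Fr cs x y) (hX_mem _ _ _)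
  rw [ng_ng, XG_swap Fr h0]
  have h1 := XG_le_PL (Fr := Fr) (cs := cs) hxy !b
  rwa [Bool.not_not] at h1

theorem kz_mem {z : Fin n × Bool} (hz : Out x y z) (p : Fr.Adm) (t : F) : hZ Fr z p t ∈ PP Fr cs x y := by
  refine (sup_le ?_ ?_ : _ ≤ PP Fr cs x y) (hZ_mem _ _ _)
  · rintro _ ⟨q, rfl⟩; exact mem_PZ hxy hz q
  · rintro _ ⟨q, rfl⟩; exact mem_PZ hxy hz.ng q

omit hxy in
theorem hX_G0 {p : ℕ} (hA : Nodes.WittAll.AmbT Fr p G0) (a b : Fin n × Bool) (t : F) : hX Fr a b t ∈ G0 := by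
  refine (sup_le ?_ ?_ : _ ≤ G0) (hX_mem _ _ _)
  · rintro _ ⟨q, rfl⟩; exact hA.X_mem _ _ _
  · rintro _ ⟨q, rfl⟩; exact hA.X_mem _ _ _

omit hxy in
theorem hZ_G0 {p : ℕ} (hA : Nodes.WittAll.AmbT Fr p G0) (a : Fin n × Bool) (q : Fr.Adm) (t : F) :
    hZ Fr a q t ∈ G0 := by
  refine (sup_le ?_ ?_ : _ ≤ G0) (hZ_mem _ _ _)
  · rintro _ ⟨q, rfl⟩; exact hA.Z_mem _ _
  · rintro _ ⟨q, rfl⟩; exact hA.Z_mem _ _

theorem lk_xs (b : Bool) {t : F} : lX (xs x y b) (ng (xs x y !b)) t (xs x y b) = t := lX_fst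

theorem lk_ng (b : Bool) {t : F} : lX (xs x y b) (ng (xs x y !b)) t (ng (xs x y !b)) = t := lX_snd

theorem lk_not (b : Bool) {t : F} : lX (xs x y b) (ng (xs x y !b)) t (xs x y !b) = t⁻¹ := by
  have h := lX_nsnd (a := xs x y b) (b := ng (xs x y !b)) (xs_ne hxy b) (t := t)
  rwa [ng_ng] at h

theorem lk_out (b : Bool) {z : Fin n × Bool} (hz : Out x y z) {t : F} :
    lX (xs x y b) (ng (xs x y !b)) t z = 1 := lX_of (b := ng (xs x y !b)) (hz.ne b) (hz.ne _)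

omit hxy in
theorem sq_ne (O : Orth Fr) {s : F} (h : s ≠ 1) : s * s ≠ 1 := by
  intro h1
  apply h
  have h2 : (s + 1) * (s + 1) = 0 := by
    have : (s + 1) * (s + 1) = s * s + 1 + 2 * s := by ring
    rw [this, h1, O.two, O.add_self]; ring
  exact O.eq_of_add (mul_self_eq_zero.1 h2)

omit hxy in
theorem inv_ne {s : F} (h : s ≠ 1) : s⁻¹ ≠ 1 := fun h1 => h (by rw [← inv_inv s, h1, inv_one])

/-! ### the hypotheses -/

variable (O : Orth Fr) {s : F} (hs0 : s ≠ 0) (hs1 : s ≠ 1)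

section Fields

include O hs0 hs1

/-- `fix` -/
theorem fix [Finite F] [Finite V] {T : Subgroup (V ≃ₗ[F] V)} {nn : Fin n → V ≃ₗ[F] V}
    (R : RGD cs (isCartan n) 2 T nn (rg Fr)) (b : Bool) (z : {z // Out x y z}) :
    Fix (PP Fr cs x y) (QQ Fr cs x y) (ZZ Fr x y) (VV Fr x y) ((b, some z) : Ix x y) := by
  refine (spec (G0 := ⊤) hxy O R).fix_of_gen _ le_rfl ?_
  obtain ⟨p0, hp0⟩ := O.p0
  have hss0 : s * s ≠ 0 := mul_ne_zero hs0 hs0
  have hss1 : s * s ≠ 1 := sq_ne O hs1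
  set k := hX Fr (xs x y b) (ng (xs x y !b)) (s * s) * hZ Fr z.1 p0 s⁻¹ with hk
  have hkP : k ∈ PP Fr cs x y := mul_mem (kk_mem hxy b _) (kz_mem hxy z.2 _ _)
  set l := fun u => lX (xs x y b) (ng (xs x y !b)) (s * s) u * lZ z.1 s⁻¹ u with hl
  have hco : Co Fr k l := (O.hX_co (a := xs x y b) (b := ng (xs x y !b)) (xs_ne hxy b) hss0).mul
    (O.hZ_co hp0 (inv_ne_zero hs0))
  have l1 : l (xs x y b) = s * s := by
    simp only [hl]; rw [lk_xs hxy, lZ_of (z.2.ne' _), mul_one]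
  have l2 : l (xs x y !b) = (s * s)⁻¹ := by
    simp only [hl]; rw [lk_not hxy, lZ_of (z.2.ne' _), mul_one]
  have l3 : l z.1 = (s * s)⁻¹ := by
    simp only [hl]; rw [lk_out hxy b z.2, lZ_self, one_mul, mul_inv]
  have l4 : l (ng z.1) = s * s := by
    simp only [hl]; rw [lk_out hxy b z.2.ng, lZ_ng, one_mul, mul_inv, inv_inv]
  have l5 : ∀ u, Out x y u → u.1 ≠ z.1.1 → l u = 1 := by
    intro u hu huz
    simp only [hl]; rw [lk_out hxy b hu, lZ_of huz, one_mul]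
  have hkV : ∀ v ∈ VV Fr x y ((b, some z) : Ix x y), k * v = v * k := by
    rintro _ ⟨t, rfl⟩
    have h1 := O.conjX hco (z.2.ne' b) t
    rw [l1, l3, mul_inv_cancel₀ hss0, one_mul] at h1
    exact mul_inv_eq_iff_eq_mul.1 h1
  rintro ⟨b', u | u⟩ hj
  · rintro _ ⟨p, rfl⟩
    refine Subgroup.mem_sup_left (Subgroup.subset_closure ?_)
    have hne : l (xs x y b') ≠ 1 := by
      rcases bool_cases b b' with rfl | rfl
      · rw [l1]; exact hss1
      · rw [l2]; exact inv_ne hss1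
    obtain ⟨q, hq⟩ := O.brZ hco hne p
    exact ⟨k, hkP, hkV, _, mem_QZ hxy b' q, hq.symm⟩
  · rintro _ ⟨t, rfl⟩
    refine Subgroup.mem_sup_left (Subgroup.subset_closure ?_)
    have hne : (b' = b ∧ u = z) ∨ l (xs x y b') * l u.1 ≠ 1 := by
      rcases bool_cases b b' with rfl | rfl
      · by_cases h1 : u = z
        · exact Or.inl ⟨rfl, h1⟩
        right
        by_cases h2 : u.1 = ng z.1
        · rw [h2, l1, l4]; exact sq_ne O hss1
        · rw [l1, l5 u.1 u.2 (fst_of_ne (fun h => h1 (Subtype.ext h)) h2), mul_one]; exact hss1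
      · right
        by_cases h1 : u.1 = z.1
        · rw [h1, l2, l3]; exact sq_ne O (inv_ne hss1)
        by_cases h2 : u.1 = ng z.1
        · exfalso
          apply hj
          show ((!b, some u) : Ix x y) = (!b, some ⟨ng z.1, z.2.ng⟩)
          congr 2
          exact Subtype.ext h2
        · rw [l2, l5 u.1 u.2 (fst_of_ne h1 h2), mul_one]; exact inv_ne hss1
    rcases hne with ⟨rfl, rfl⟩ | hne
    · refine ⟨_, mem_PL hxy b' 1, ?_, _, mem_QX hxy (!b') u.2 t, ?_⟩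
      · rintro _ ⟨t', rfl⟩
        exact (Fr.commute_XX (xs_ne_ng hxy _ _) (by
          show xs x y b' ≠ ng (ng (xs x y !b'))
          rw [ng_ng]; exact ne_of_fst (xs_ne hxy b')) (out_ne_ng u.2 _) (by
          show u.1 ≠ ng (ng (xs x y !b'))
          rw [ng_ng]; exact ne_of_fst (u.2.ne _)) _ _).eq
      · rw [O.xx' (xs_ne hxy b') (u.2.ne' _) (u.2.ne' _), one_mul]
    · obtain ⟨t', ht'⟩ := O.brX hco (u.2.ne' b') hne t
      exact ⟨k, hkP, hkV, _, mem_QX hxy b' u.2 t', ht'.symm⟩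

/-- `kap` -/
theorem kap {p : ℕ} (hA : Nodes.WittAll.AmbT Fr p G0) (j : Ix x y) : ∃ k ∈ (Dg Fr ⊓ G0 : Subgroup (V ≃ₗ[F] V)),
    k ∈ PP Fr cs x y ∧ ∀ v ∈ VV Fr x y j, k * v * k⁻¹ = v → v = 1 := by
  have hco := fun b => O.hX_co (a := xs x y b) (b := ng (xs x y !b)) (xs_ne hxy b) hs0
  obtain ⟨b, z | z⟩ := j
  · refine ⟨_, ⟨⟨_, hco b⟩, hX_G0 hA _ _ _⟩, kk_mem hxy b s, ?_⟩
    rintro _ ⟨p, rfl⟩ h
    rw [O.fixZ (hco b) (by rw [lk_xs hxy]; exact hs1) h, Fr.Z_one]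
  · refine ⟨_, ⟨⟨_, hco b⟩, hX_G0 hA _ _ _⟩, kk_mem hxy b s, ?_⟩
    rintro _ ⟨p, rfl⟩ h
    rw [O.fixX (hco b) (z.2.ne' b) (by rw [lk_xs hxy, lk_out hxy b z.2, mul_one]; exact hs1) h, Fr.X_zero]

/-- `perf` -/
theorem perf (z : {z // Out x y z}) : PP Fr cs x y ≤ ⁅PP Fr cs x y, PP Fr cs x y⁆ := by
  obtain ⟨p0, hp0⟩ := O.p0
  have hss1 : s * s ≠ 1 := sq_ne O hs1
  have hco := fun b => O.hX_co (a := xs x y b) (b := ng (xs x y !b)) (xs_ne hxy b) hs0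
  have hQP : ∀ {g}, g ∈ QQ Fr cs x y → g ∈ PP Fr cs x y := fun h => QQ_le_PP hxy h
  have hcz := fun u => O.hZ_co (a := u) hp0 hs0
  refine PP_le hxy ?_ ?_ ?_ ?_ ?_ ?_
  · rintro _ ⟨t, rfl⟩
    have h1 := br_XX hxy O true z.2 1 t
    rw [one_mul] at h1
    show Fr.X (xs x y true) (xs x y !true) t ∈ _
    rw [← h1]
    exact Subgroup.commutator_mem_commutator (hQP (mem_QX hxy _ z.2 _)) (hQP (mem_QX hxy _ z.2.ng _))
  · rintro b u hu _ ⟨t, rfl⟩
    obtain ⟨t', ht'⟩ := O.brX (hco b) (hu.ne' b) (by rw [lk_xs hxy, lk_out hxy b hu, mul_one]; exact hs1) t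
    rw [← ht']
    exact Subgroup.commutator_mem_commutator (kk_mem hxy b _) (hQP (mem_QX hxy _ hu _))
  · rintro b _ ⟨p, rfl⟩
    obtain ⟨t', ht'⟩ := O.brZ (hco b) (by rw [lk_xs hxy]; exact hs1) p
    rw [← ht']
    exact Subgroup.commutator_mem_commutator (kk_mem hxy b _) (hQP (mem_QZ hxy _ _))
  · rintro b _ ⟨t, rfl⟩
    obtain ⟨t', ht'⟩ := O.brX (hco b) (a := xs x y b) (b := ng (xs x y !b)) (xs_ne hxy b)
      (by rw [lk_xs hxy, lk_ng hxy]; exact hss1) t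
    rw [← ht']
    exact Subgroup.commutator_mem_commutator (kk_mem hxy b _) (mem_PL hxy _ _)
  · rintro u w hu hw huw _ ⟨t, rfl⟩
    obtain ⟨t', ht'⟩ := O.brX (hcz u) huw (by rw [lZ_self, lZ_of huw.symm, mul_one]; exact hss1) t
    rw [← ht']
    exact Subgroup.commutator_mem_commutator (kz_mem hxy hu _ _) (mem_PX hxy hu hw huw _)
  · rintro u hu _ ⟨p, rfl⟩
    obtain ⟨t', ht'⟩ := O.brZ (hcz u) (by rw [lZ_self]; exact hss1) p
    rw [← ht']
    exact Subgroup.commutator_mem_commutator (kz_mem hxy hu _ _) (mem_PZ hxy hu _)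

/-- `ncl` -/
theorem ncl [Finite F] [Finite V] {T : Subgroup (V ≃ₗ[F] V)} {nn : Fin n → V ≃ₗ[F] V}
    (R : RGD cs (isCartan n) 2 T nn (rg Fr)) (b : Bool) (z : {z // Out x y z}) {q : V ≃ₗ[F] V}
    (hq : q ∈ QQ Fr cs x y) (h : ∀ p ∈ PP Fr cs x y, ∀ v ∈ VV Fr x y ((b, some z) : Ix x y),
      q * (p * v * p⁻¹) = (p * v * p⁻¹) * q) : q ∈ ZZ Fr x y := by
  have S := spec (G0 := ⊤) hxy O R
  obtain ⟨p0, hp0⟩ := O.p0
  have hQP : ∀ {g}, g ∈ QQ Fr cs x y → g ∈ PP Fr cs x y := fun h => QQ_le_PP hxy h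
  let C : Subgroup (V ≃ₗ[F] V) :=
    { carrier := {v | ∀ p ∈ PP Fr cs x y, q * (p * v * p⁻¹) = (p * v * p⁻¹) * q}
      one_mem' := fun p _ => by simp
      mul_mem' := by
        intro u v hu hv p hp
        have h1 := hu p hp
        have h2 := hv p hp
        calc q * (p * (u * v) * p⁻¹) = (q * (p * u * p⁻¹)) * (p * v * p⁻¹) := by group
          _ = (p * u * p⁻¹) * (q * (p * v * p⁻¹)) := by rw [h1]; group
          _ = _ := by rw [h2]; group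
      inv_mem' := by
        intro u hu p hp
        have h1 : Commute q (p * u * p⁻¹) := hu p hp
        have h2 : p * u⁻¹ * p⁻¹ = (p * u * p⁻¹)⁻¹ := by group
        rw [h2]
        exact h1.inv_right.eq }
  have hconj : ∀ p ∈ PP Fr cs x y, ∀ v ∈ C, p * v * p⁻¹ ∈ C := by
    intro p hp v hv p' hp'
    have h1 := hv (p' * p) (mul_mem hp' hp)
    have h2 : p' * p * v * (p' * p)⁻¹ = p' * (p * v * p⁻¹) * p'⁻¹ := by group
    rwa [h2] at h1
  have hbr : ∀ p ∈ PP Fr cs x y, ∀ v ∈ C, ⁅p, v⁆ ∈ C := fun p hp v hv => by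
    rw [commutatorElement_def]
    exact mul_mem (hconj p hp v hv) (inv_mem hv)
  have hbr' : ∀ p ∈ PP Fr cs x y, ∀ v ∈ C, ⁅v, p⁆ ∈ C := fun p hp v hv => by
    rw [← commutatorElement_inv]
    exact inv_mem (hbr p hp v hv)
  have hZ : ∀ v ∈ ZZ Fr x y, v ∈ C := by
    intro v hv p hp
    have h1 : p * v * p⁻¹ = v := by rw [cen hxy O hp hv]; group
    rw [h1]
    exact cen hxy O (hQP hq) hv
  -- the pieces of one side
  have c0 : ∀ t, Fr.X (xs x y b) z.1 t ∈ C := fun t p hp => h p hp _ ⟨t, rfl⟩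
  have c1 : ∀ t, Fr.X (xs x y b) (ng z.1) t ∈ C := by
    have e1 := hbr' _ (mem_PZ hxy z.2.ng p0) _ (c0 s)
    rw [O.xz' (z.2.ne' b)] at e1
    have e2 := hbr' _ (mem_PZ hxy z.2.ng (Frame.Adm.smul s p0)) _ (c0 1)
    rw [O.xz' (z.2.ne' b), O.adm_c, mul_one, Frame.Adm.one_smul] at e2
    have e3 := mul_mem (inv_mem e1) e2
    have e4 : (Fr.Z (xs x y b) (Frame.Adm.smul s p0) * Fr.X (xs x y b) (ng z.1) (p0.c * s))⁻¹ *
        (Fr.Z (xs x y b) (Frame.Adm.smul s p0) * Fr.X (xs x y b) (ng z.1) (s * s * p0.c)) =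
        Fr.X (xs x y b) (ng z.1) (p0.c * s + s * s * p0.c) := by
      rw [Fr.X_add]
      have e5 : (Fr.X (xs x y b) (ng z.1) (p0.c * s))⁻¹ = Fr.X (xs x y b) (ng z.1) (p0.c * s) := by
        rw [← Fr.X_neg, O.neg]
      rw [mul_inv_rev, e5]; group
    rw [e4] at e3
    have h0 : p0.c * s + s * s * p0.c ≠ 0 := by
      have : p0.c * s + s * s * p0.c = p0.c * s * (s + 1) := by ring
      rw [this]
      exact mul_ne_zero (mul_ne_zero hp0 hs0) fun h => hs1 (O.eq_of_add h)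
    intro t
    by_cases ht : t = 0
    · rw [ht, Fr.X_zero]; exact one_mem _
    have hco := O.hX_co (a := xs x y b) (b := ng (xs x y !b)) (xs_ne hxy b)
      (mul_ne_zero ht (inv_ne_zero h0))
    have e6 := hconj _ (kk_mem hxy b (t * (p0.c * s + s * s * p0.c)⁻¹)) _ e3
    rw [O.conjX hco (z.2.ng.ne' b), lk_xs hxy, lk_out hxy b z.2.ng] at e6
    have e7 : t * (p0.c * s + s * s * p0.c)⁻¹ * 1 * (p0.c * s + s * s * p0.c) = t := by
      rw [mul_one, mul_assoc, inv_mul_cancel₀ h0, mul_one]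
    rwa [e7] at e6
  have c2 : ∀ p, Fr.Z (xs x y b) p ∈ C := by
    intro p
    have e2 := hbr' _ (mem_PZ hxy z.2.ng p) _ (c0 1)
    rw [O.xz' (z.2.ne' b), Frame.Adm.one_smul] at e2
    have e3 := mul_mem e2 (inv_mem (c1 (p.c * 1)))
    rwa [mul_inv_cancel_right] at e3
  have c3 : ∀ u, Out x y u → ∀ t, Fr.X (xs x y b) u t ∈ C := by
    intro u hu t
    by_cases h1 : u = z.1
    · rw [h1]; exact c0 t
    by_cases h2 : u = ng z.1
    · rw [h2]; exact c1 t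
    have h3 := fst_of_ne h1 h2
    have e2 := hbr' _ (mem_PX hxy z.2.ng hu h3.symm t) _ (c0 1)
    rwa [O.xx (z.2.ne' b) h3.symm (hu.ne' b), one_mul] at e2
  have c4 : ∀ u, Out x y u → ∀ t, Fr.X (xs x y !b) u t ∈ C := by
    intro u hu t
    have e2 := hbr _ (mem_PL hxy (!b) 1) _ (c3 u hu t)
    rw [Bool.not_not] at e2
    rwa [O.xx' (xs_ne hxy b).symm (hu.ne' _) (hu.ne' _), one_mul] at e2
  have c5 : ∀ p, Fr.Z (xs x y !b) p ∈ C := by
    intro p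
    have e2 := hbr _ (mem_PL hxy (!b) 1) _ (c2 p)
    rw [Bool.not_not] at e2
    rw [O.xz (xs_ne hxy b).symm, Frame.Adm.one_smul] at e2
    have e4 : Fr.X (xs x y !b) (xs x y b) (p.c * 1) ∈ C := by
      have := mem_ZZ (Fr := Fr) hxy (!b) (p.c * 1)
      rw [Bool.not_not] at this
      exact hZ _ this
    have e3 := mul_mem e2 (inv_mem e4)
    rwa [mul_inv_cancel_right] at e3
  refine S.mem_Z hq ?_
  rintro ⟨b', u | u⟩
  · rintro _ ⟨p, rfl⟩
    have e : Fr.Z (xs x y b') p ∈ C := by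
      rcases bool_cases b b' with rfl | rfl
      · exact c2 p
      · exact c5 p
    simpa using e 1 (one_mem _)
  · rintro _ ⟨t, rfl⟩
    have e : Fr.X (xs x y b') u.1 t ∈ C := by
      rcases bool_cases b b' with rfl | rfl
      · exact c3 _ u.2 t
      · exact c4 _ u.2 t
    simpa using e 1 (one_mem _)

end Fields

include O in
/-- `lin` -/
theorem lin {p : ℕ} (hA : Nodes.WittAll.AmbT Fr p G0) (b : Bool) (z : {z // Out x y z}) :
    Lin (PP Fr cs x y) (Dg Fr ⊓ G0) (VV Fr x y) ((b, some z) : Ix x y) := by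
  refine lin_of_trans (fun s hs t ht => O.dg_comm hs.1 ht.1) ?_
  rintro _ ⟨t, rfl⟩ _ ⟨t', rfl⟩ h1 h2
  have ht : t ≠ 0 := by rintro rfl; exact h1 (Fr.X_zero _ _)
  have ht' : t' ≠ 0 := by rintro rfl; exact h2 (Fr.X_zero _ _)
  have hco := O.hX_co (a := xs x y b) (b := ng (xs x y !b)) (xs_ne hxy b) (mul_ne_zero ht' (inv_ne_zero ht))
  refine ⟨_, ⟨⟨_, hco⟩, hX_G0 hA _ _ _⟩, kk_mem hxy b _, ?_⟩
  rw [O.conjX hco (z.2.ne' b), lk_xs hxy, lk_out hxy b z.2]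
  congr 1
  field_simp

/-! ### the torus of `⟨X_r, X_{-r}⟩` -/

theorem rg_neg : rg Fr (-rt x y) = XG Fr (ng x) (ng y) := by
  rw [← rt_ng, rg_rt (Or.inl hxy : Ok (ng x) (ng y)), PG_ne Fr (a := ng x) (b := ng y) hxy]

theorem sup_eq : rg Fr (rt x y) ⊔ rg Fr (-rt x y) = XG Fr x y ⊔ XG Fr (ng x) (ng y) := by
  rw [rg_neg hxy]
  congr 1
  exact ZZ_eq hxy

theorem sup_eq' (b : Bool) : rg Fr (rt x y) ⊔ rg Fr (-rt x y) =
    XG Fr (xs x y b) (xs x y !b) ⊔ XG Fr (ng (xs x y b)) (ng (xs x y !b)) := by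
  rw [sup_eq hxy]
  cases b
  · show _ = XG Fr y x ⊔ XG Fr (ng y) (ng x)
    rw [XG_swap Fr hxy, XG_swap Fr (show (ng x).1 ≠ (ng y).1 from hxy)]
  · rfl

/-- `⟨X_r, X_{-r}⟩` centralises the Levi factor. -/
theorem sup_comm (O : Orth Fr) {k : V ≃ₗ[F] V} (hk : k ∈ rg Fr (rt x y) ⊔ rg Fr (-rt x y)) :
    (∀ b t, k * Fr.X (xs x y b) (ng (xs x y !b)) t = Fr.X (xs x y b) (ng (xs x y !b)) t * k) ∧
    (∀ u w, Out x y u → Out x y w → ∀ t, k * Fr.X u w t = Fr.X u w t * k) ∧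
    (∀ u, Out x y u → ∀ p, k * Fr.Z u p = Fr.Z u p * k) ∧ ∀ w ∈ Fr.V0, k w = w := by
  refine ⟨fun b t => ?_, fun u w hu hw t => ?_, fun u hu p => ?_, fun w hw => ?_⟩
  · rw [sup_eq' hxy b] at hk
    have h1 : XG Fr (xs x y b) (xs x y !b) ⊔ XG Fr (ng (xs x y b)) (ng (xs x y !b)) ≤
        Subgroup.centralizer {Fr.X (xs x y b) (ng (xs x y !b)) t} := by
      refine sup_le ?_ ?_
      · rintro _ ⟨s, rfl⟩
        rw [Subgroup.mem_centralizer_singleton_iff]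
        exact (O.xx0 (xs_ne hxy b) s t).eq
      · rintro _ ⟨s, rfl⟩
        rw [Subgroup.mem_centralizer_singleton_iff, O.swap (x := ng (xs x y b)) (y := ng (xs x y !b)) (xs_ne hxy b),
          O.swap (x := xs x y b) (y := ng (xs x y !b)) (xs_ne hxy b)]
        have h2 := (O.xx0 (x := ng (xs x y !b)) (y := ng (xs x y b)) (xs_ne hxy b).symm s t).eq
        rwa [ng_ng] at h2
    exact Subgroup.mem_centralizer_singleton_iff.1 (h1 hk)
  · rw [sup_eq hxy] at hk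
    have h1 : XG Fr x y ⊔ XG Fr (ng x) (ng y) ≤ Subgroup.centralizer {Fr.X u w t} := by
      refine sup_le ?_ ?_
      · rintro _ ⟨s, rfl⟩
        rw [Subgroup.mem_centralizer_singleton_iff]
        exact (Fr.commute_XX (ne_ng_of_fst hu.1) (ne_ng_of_fst hu.2) (ne_ng_of_fst hw.1) (ne_ng_of_fst hw.2) s t).eq
      · rintro _ ⟨s, rfl⟩
        rw [Subgroup.mem_centralizer_singleton_iff]
        exact (Fr.commute_XX (x := ng x) (y := ng y) (ne_ng_of_fst hu.1) (ne_ng_of_fst hu.2) (ne_ng_of_fst hw.1)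
          (ne_ng_of_fst hw.2) s t).eq
    exact Subgroup.mem_centralizer_singleton_iff.1 (h1 hk)
  · rw [sup_eq hxy] at hk
    have h1 : XG Fr x y ⊔ XG Fr (ng x) (ng y) ≤ Subgroup.centralizer {Fr.Z u p} := by
      refine sup_le ?_ ?_
      · rintro _ ⟨s, rfl⟩
        rw [Subgroup.mem_centralizer_singleton_iff]
        exact (Fr.commute_ZX (x := u) (y := x) (z := y) (ne_ng_of_fst hu.1.symm) (ne_ng_of_fst hu.2.symm) p s).eq.symm
      · rintro _ ⟨s, rfl⟩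
        rw [Subgroup.mem_centralizer_singleton_iff]
        exact (Fr.commute_ZX (x := u) (y := ng x) (z := ng y) (ne_ng_of_fst (a := ng x) hu.1.symm)
          (ne_ng_of_fst (a := ng y) hu.2.symm) p s).eq.symm
    exact Subgroup.mem_centralizer_singleton_iff.1 (h1 hk)
  · rw [sup_eq hxy] at hk
    let S : Subgroup (V ≃ₗ[F] V) :=
      { carrier := {g | g w = w}
        one_mem' := rfl
        mul_mem' := by
          intro g g' hg hg'
          show (g * g') w = w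
          have h1 : g w = w := hg
          have h2 : g' w = w := hg'
          rw [mul_apply', h2, h1]
        inv_mem' := fun {g} hg => inv_apply_of hg }
    have h1 : XG Fr x y ⊔ XG Fr (ng x) (ng y) ≤ S := by
      refine sup_le ?_ ?_
      · rintro _ ⟨s, rfl⟩
        exact X_apply_V0 Fr hxy hw s
      · rintro _ ⟨s, rfl⟩
        exact X_apply_V0 Fr (x := ng x) (y := ng y) hxy hw s
    exact h1 hk

/-- `T0 ≤ Dg` -/
theorem T0_le {p : ℕ} (O : Orth Fr) (hA : Nodes.WittAll.AmbT Fr p G0) :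
    Nodes.WittRGD.Tor Fr G0 ⊓ (rg Fr (rt x y) ⊔ rg Fr (-rt x y)) ≤ Dg Fr ⊓ G0 := by
  rintro k ⟨⟨hk1, hk2⟩, hk3⟩
  choose l hl using hk2
  exact ⟨⟨l, ⟨hA.iso _ hk1, (sup_comm hxy O hk3).2.2.2, fun x => (hl x).1, fun x => (hl x).2⟩⟩, hk1⟩

/-- **`Full` for Witt frames of orthogonal type in characteristic two.** -/
theorem full (O : Orth Fr) [Finite F] [Finite V] (hs : ∃ s : F, s ≠ 0 ∧ s ≠ 1) (hA : Nodes.WittAll.AmbT Fr 2 G0)
    {T : Subgroup (V ≃ₗ[F] V)} {nn : Fin n → V ≃ₗ[F] V} (R : RGD cs (isCartan n) 2 T nn (rg Fr)) (b : Bool)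
    (z : {z // Out x y z}) :
    Full (PP Fr cs x y) (QQ Fr cs x y) (ZZ Fr x y) (Dg Fr ⊓ G0)
      (Nodes.WittRGD.Tor Fr G0 ⊓ (rg Fr (rt x y) ⊔ rg Fr (-rt x y))) (VV Fr x y) st ((b, some z) : Ix x y) where
  toSpec := spec hxy O R
  fix := by
    obtain ⟨s, hs0, hs1⟩ := hs
    exact fix hxy O hs0 hs1 R b z
  fix' := by
    obtain ⟨s, hs0, hs1⟩ := hs
    exact fix hxy O hs0 hs1 R (!b) ⟨ng z.1, z.2.ng⟩
  lin := lin hxy O hA b z
  lin' := lin hxy O hA (!b) ⟨ng z.1, z.2.ng⟩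
  surj := by
    refine ⟨Fr.X (xs x y b) z.1 1, ⟨1, rfl⟩, fun w hw => ?_⟩
    rw [ZZ_eq' hxy b] at hw
    obtain ⟨t, rfl⟩ := hw
    exact ⟨Fr.X (xs x y !b) (ng z.1) t, ⟨t, rfl⟩, by rw [br_XX hxy O b z.2, one_mul]⟩
  ncl := by
    obtain ⟨s, hs0, hs1⟩ := hs
    exact fun q hq h => ncl hxy O hs0 hs1 R b z hq h
  kap := by
    obtain ⟨s, hs0, hs1⟩ := hs
    exact kap hxy O hs0 hs1 hA
  perf := by
    obtain ⟨s, hs0, hs1⟩ := hs
    exact perf hxy O hs0 hs1 z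
  T0T := T0_le hxy O hA
  T0Q := by
    have S := spec (G0 := G0) hxy O R
    intro k hk p hp
    have hT := T0_le hxy O hA hk
    have hc := sup_comm hxy O hk.2
    let L : Subgroup (V ≃ₗ[F] V) :=
      { carrier := {p | p ∈ PP Fr cs x y ∧ k * p * k⁻¹ * p⁻¹ ∈ QQ Fr cs x y}
        one_mem' := ⟨one_mem _, by simp⟩
        mul_mem' := by
          rintro x y ⟨hx, hx'⟩ ⟨hy, hy'⟩
          refine ⟨mul_mem hx hy, ?_⟩
          have : k * (x * y) * k⁻¹ * (x * y)⁻¹ = (k * x * k⁻¹ * x⁻¹) * (x * (k * y * k⁻¹ * y⁻¹) * x⁻¹) := by group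
          rw [this]
          exact mul_mem hx' (S.QN _ hx _ hy')
        inv_mem' := by
          rintro x ⟨hx, hx'⟩
          refine ⟨inv_mem hx, ?_⟩
          have h1 : k * x⁻¹ * k⁻¹ * x⁻¹⁻¹ = x⁻¹ * (k * x * k⁻¹ * x⁻¹)⁻¹ * x := by group
          rw [h1]
          have := S.QN _ (inv_mem hx) _ (inv_mem hx')
          rwa [inv_inv] at this }
    have hL1 : ∀ {u : V ≃ₗ[F] V}, u ∈ PP Fr cs x y → k * u = u * k → u ∈ L := fun {u} hu h => by
      refine ⟨hu, ?_⟩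
      have : k * u * k⁻¹ * u⁻¹ = 1 := by rw [h]; group
      rw [this]; exact one_mem _
    have hL2 : ∀ i, VV Fr x y i ≤ L := fun i u hu =>
      ⟨S.QP (S.VQ i hu), mul_mem (S.VQ i (S.TV k hT i u hu)) (inv_mem (S.VQ i hu))⟩
    have hL : PP Fr cs x y ≤ L := by
      refine PP_le hxy ?_ (fun b z hz => hL2 (b, some ⟨z, hz⟩)) (fun b => hL2 (b, none)) ?_ ?_ ?_
      · rw [← ZZ_eq hxy]
        intro u hu
        exact ⟨S.QP (S.ZQ hu), mul_mem (S.ZQ (S.TZ k hT u hu)) (inv_mem (S.ZQ hu))⟩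
      · rintro b _ ⟨t, rfl⟩
        exact hL1 (mem_PL hxy b t) (hc.1 b t)
      · rintro u w hu hw huw _ ⟨t, rfl⟩
        exact hL1 (mem_PX hxy hu hw huw t) (hc.2.1 u w hu hw t)
      · rintro u hu _ ⟨p, rfl⟩
        exact hL1 (mem_PZ hxy hu p) (hc.2.2.1 u hu p)
    exact (hL hp).2
  tr := by
    intro u hu hu1 w hw hw1
    rw [ZZ_eq hxy] at hu hw
    obtain ⟨t, rfl⟩ := hu
    obtain ⟨t', rfl⟩ := hw
    have ht : t ≠ 0 := by rintro rfl; exact hu1 (Fr.X_zero _ _)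
    have ht' : t' ≠ 0 := by rintro rfl; exact hw1 (Fr.X_zero _ _)
    have hchar : ringChar F = 2 := by
      have : CharP F 2 := CharTwo.of_one_ne_zero_of_two_eq_zero one_ne_zero O.two
      exact ringChar.eq F 2
    obtain ⟨s, hs⟩ := FiniteField.isSquare_of_char_two hchar (t' * t⁻¹)
    have hs0 : s ≠ 0 := by
      rintro rfl
      rw [mul_zero] at hs
      exact mul_ne_zero ht' (inv_ne_zero ht) hs
    have hco := O.hX_co hxy hs0
    refine ⟨hX Fr x y s, ⟨⟨hX_G0 hA _ _ _, hco.mono⟩, ?_⟩, ?_⟩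
    · rw [sup_eq hxy]; exact hX_mem _ _ _
    · rw [O.conjX hco hxy, lX_fst, lX_snd, ← hs]
      congr 1
      field_simp
  big := by
    obtain ⟨s, hs0, hs1⟩ := hs
    refine ⟨Fr.X x y 1, by rw [ZZ_eq hxy]; exact ⟨1, rfl⟩, Fr.X x y s, by rw [ZZ_eq hxy]; exact ⟨s, rfl⟩,
      fun h => one_ne_zero (O.x_inj hxy h), fun h => hs0 (O.x_inj hxy h), fun h => hs1 ?_⟩
    have h1 : Fr.X x y (1 + s) = 1 := by rw [Fr.X_add, h, O.x_sq]
    exact (O.eq_of_add (O.x_inj hxy h1)).symm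
  zsq := by
    intro u hu
    rw [ZZ_eq hxy] at hu
    obtain ⟨t, rfl⟩ := hu
    exact O.x_sq _ _ _

end PQ

end Cfsg.Agent.KFacts.SpecWitt
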