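import Mathlib
import Cfsg.Agent.KFacts.SpecWitt
import Cfsg.Agent.KFacts.SpecComap
import Cfsg.Agent.KFacts.RgdLocL
import Cfsg.Agent.Nodes.WittInst

/-!
# `Full` for `PΩ⁻_{2m+2}(q)`, `q ≥ 4` even (ODD, D4, K-side; helper335)

* `φ_inj`, `ψ` : in characteristic two a model `Model Fr K` of orthogonal type is a subgroup of `GL(V)`;
* `full_model` : `Full` for the root group datum `WittAll.rgdC_model`;
* `orth_minus` : the Witt frame of `quadFormMinus`;
* `full_PO_minus`.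
-/

set_option autoImplicit false
set_option linter.unusedSectionVars false

namespace Cfsg.Agent.KFacts.SpecMinus

open CoxeterSystem Cfsg.Agent.ChevalleyStructure.CoxeterGeom Cfsg.Agent.Tits.Roots Cfsg.Agent.Nodes.TypeC
open Cfsg.Agent.Nodes.Comb Cfsg.Agent.Nodes.Reps Cfsg.Agent.Nodes.WittRoot Cfsg.Agent.Nodes.BNOf
  Cfsg.Agent.Nodes.StabComb Cfsg.Agent.Nodes.Coroot Cfsg.Agent.Nodes.KindBC Cfsg.Agent.Nodes.TypeCForm
open Cfsg.Agent Cfsg.Agent.TitsThree Cfsg.Agent.TitsThree.Siegel Cfsg.Agent.TitsThree.WittFrame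
  Cfsg.Agent.TitsThree.WittWeyl Cfsg.Agent.TitsThree.FrameCN Cfsg.Agent.TitsThree.LineBorel
open Cfsg.Agent.KFacts.WittOrth Cfsg.Agent.KFacts.SpecKfour Cfsg.Agent.KFacts.SpecLoc Cfsg.Agent.KFacts.RgdTI
  Cfsg.Agent.KFacts.RgdOdd Cfsg.Agent.KFacts.SpecWitt
open scoped commutatorElement

variable {F : Type*} [Field F] {V : Type*} [AddCommGroup V] [Module F V] {H : HForm F V} {n : ℕ}
  {Fr : Frame H (Fin n)} {K : Type*} [Group K] (M : Model Fr K) (O : Orth Fr)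

include O

/-- the kernel is trivial -/
theorem φ_inj (hI : ∀ g ∈ M.I, H.IsIso g) (hn : 0 < n) : Function.Injective M.φ := by
  rw [injective_iff_map_eq_one]
  intro g hg
  have hs : ∀ v, ∃ a : F, g.1 v = a • v := fun v => M.ker v g hg
  let x : Fin n × Bool := (⟨0, hn⟩, true)
  have hb : ∀ x, g.1 (Fr.b x) = Fr.b x := by
    intro x
    obtain ⟨a, ha⟩ := hs (Fr.b x)
    obtain ⟨c, hc⟩ := hs (Fr.b (ng x))
    obtain ⟨d, hd⟩ := hs (Fr.b x + Fr.b (ng x))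
    rw [map_add, ha, hc, smul_add] at hd
    have h1 := congrArg (fun v => H.h v (Fr.b (ng x))) hd
    have h2 := congrArg (fun v => H.h v (Fr.b x)) hd
    simp only [H.add_left, H.smul_left, O.hbb, O.hbb', Fr.hb_self, mul_one, mul_zero, add_zero, zero_add] at h1 h2
    have h3 := hI _ g.2 (Fr.b x) (Fr.b (ng x))
    rw [ha, hc, H.smul_left, H.smul_right, O.σ, O.hbb, mul_one, h1, h2] at h3
    have h4 : (d + 1) * (d + 1) = 0 := by
      have : (d + 1) * (d + 1) = d * d + 1 + 2 * d := by ring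
      rw [this, h3, O.two, O.add_self]; ring
    have h5 := O.eq_of_add (mul_self_eq_zero.1 h4)
    rw [ha, h1, h5, one_smul]
  have h0 : ∀ w ∈ Fr.V0, g.1 w = w := by
    intro w hw
    obtain ⟨d, hd⟩ := hs (w + Fr.b x)
    have h1 := congrArg (fun v => H.h v (Fr.b (ng x))) hd
    have h2 : H.h (g.1 w) (Fr.b (ng x)) = 0 := by
      have h3 := hI _ g.2 w (Fr.b (ng x))
      rwa [hb, Fr.h0' _ hw] at h3
    simp only [map_add, H.add_left, H.smul_left, O.hbb, hb, h2, Fr.h0' _ hw, mul_one, zero_add] at h1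
    rw [← h1, one_smul, map_add, hb] at hd
    exact add_right_cancel hd
  exact Subtype.ext (O.eq_one hb h0)

omit O in
theorem φ_surj {W : Type*} [Group W] (cs : CoxeterSystem (CoxeterMatrix.B n) W) (hn : 0 < n) :
    Function.Surjective M.φ := by
  rw [← MonoidHom.range_eq_top, eq_top_iff, ← Nodes.WittModel.G1_eq_top M hn cs]
  refine iSup_le fun z => ?_
  rintro _ ⟨g, -, rfl⟩
  exact ⟨g, rfl⟩

variable (hI : ∀ g ∈ M.I, H.IsIso g) (hn : 0 < n)

/-- `K` as a subgroup of `GL(V)` -/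
noncomputable def ψ {W : Type*} [Group W] (cs : CoxeterSystem (CoxeterMatrix.B n) W) : K →* (V ≃ₗ[F] V) :=
  M.I.subtype.comp (MulEquiv.ofBijective M.φ ⟨φ_inj M O hI hn, φ_surj M cs hn⟩).symm.toMonoidHom

section

variable {W : Type*} [Group W] (cs : CoxeterSystem (CoxeterMatrix.B n) W)

theorem ψ_φ (g : M.I) : ψ M O hI hn cs (M.φ g) = g.1 := by
  unfold ψ
  show M.I.subtype ((MulEquiv.ofBijective M.φ ⟨φ_inj M O hI hn, φ_surj M cs hn⟩).symm (M.φ g)) = g.1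
  have h1 : (MulEquiv.ofBijective M.φ ⟨φ_inj M O hI hn, φ_surj M cs hn⟩).symm (M.φ g) = g := by
    rw [MulEquiv.symm_apply_eq]
    rfl
  rw [h1]
  rfl

theorem ψ_inj : Function.Injective (ψ M O hI hn cs) :=
  Subtype.val_injective.comp (MulEquiv.injective _)

theorem map_ψ {A : Subgroup (V ≃ₗ[F] V)} (hA : A ≤ M.I) :
    ((A.subgroupOf M.I).map M.φ).map (ψ M O hI hn cs) = A := by
  ext g
  constructor
  · rintro ⟨_, ⟨k, hk, rfl⟩, rfl⟩
    rw [ψ_φ]
    exact hk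
  · intro hg
    exact ⟨M.φ ⟨g, hA hg⟩, ⟨⟨g, hA hg⟩, hg, rfl⟩, ψ_φ M O hI hn cs _⟩

/-- `K`-version of a subgroup of `GL(V)` -/
def dn (A : Subgroup (V ≃ₗ[F] V)) : Subgroup K := (A.subgroupOf M.I).map M.φ

omit O in
theorem PG_le_I {a b : Fin n × Bool} : PG Fr a b ≤ M.I := by
  unfold PG
  split_ifs
  · rintro _ ⟨p, rfl⟩; exact M.hZ _ _
  · rintro _ ⟨t, rfl⟩; exact M.hX _ _ _

omit O in
theorem rg_le_I (x : Fin n → ℤ) : rg Fr x ≤ M.I := iSup_le fun _ => PG_le_I M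

theorem map_X (x : Fin n → ℤ) : (Nodes.WittModel.X M x).map (ψ M O hI hn cs) = rg Fr x :=
  map_ψ M O hI hn cs (rg_le_I M x)

theorem map_Sup (S : Set (Fin n → ℤ)) :
    (RGD.Sup (Nodes.WittModel.X M) S).map (ψ M O hI hn cs) = RGD.Sup (rg Fr) S := by
  unfold RGD.Sup
  rw [Subgroup.map_iSup]
  exact iSup_congr fun z => map_X M O hI hn cs z.1

theorem map_T : (Nodes.WittModel.T M).map (ψ M O hI hn cs) = Nodes.WittRGD.Tor Fr M.I :=
  map_ψ M O hI hn cs fun _ hg => hg.1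

end

/-- **`Full` for models of orthogonal type in characteristic two.** -/
theorem full_model [Finite F] [Finite V] (hs : ∃ s : F, s ≠ 0 ∧ s ≠ 1) (hA : Nodes.WittAll.AmbT Fr 2 M.I)
    {W : Type*} [Group W] (cs : CoxeterSystem (CoxeterMatrix.B n) W) {x y : Fin n × Bool} (hxy : x.1 ≠ y.1) (b : Bool)
    (z : {z // Out x y z}) :
    Full (RGD.Sup (Nodes.WittModel.X M) (Ge cs (isCartan n) (rt x y)))
      (RGD.Sup (Nodes.WittModel.X M) (Rad cs (isCartan n) (rt x y))) (Nodes.WittModel.X M (rt x y))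
      (dn M (Dg Fr ⊓ M.I))
      (Nodes.WittModel.T M ⊓ (Nodes.WittModel.X M (rt x y) ⊔ Nodes.WittModel.X M (-rt x y)))
      (fun j => dn M (VV Fr x y j)) st ((b, some z) : Ix x y) := by
  have hn : 0 < n := lt_of_le_of_lt (Nat.zero_le _) x.1.2
  obtain ⟨p0, hp0⟩ := O.p0
  have : CharP F 2 := CharTwo.of_one_ne_zero_of_two_eq_zero one_ne_zero O.two
  have : Fact (Nat.Prime 2) := ⟨Nat.prime_two⟩
  have R := Nodes.WittAll.rgdC hA hp0 cs
  have h1 := full hxy O hs hA R b z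
  apply Full.of_map (ψ M O hA.iso hn cs) (ψ_inj M O hA.iso hn cs)
  have e1 := map_Sup M O hA.iso hn cs (Ge cs (isCartan n) (rt x y))
  have e2 := map_Sup M O hA.iso hn cs (Rad cs (isCartan n) (rt x y))
  have e3 := map_X M O hA.iso hn cs (rt x y)
  have e4 := map_X M O hA.iso hn cs (-rt x y)
  have e5 : (dn M (Dg Fr ⊓ M.I)).map (ψ M O hA.iso hn cs) = Dg Fr ⊓ M.I := map_ψ M O hA.iso hn cs inf_le_right
  have e6 : (fun j => (dn M (VV Fr x y j)).map (ψ M O hA.iso hn cs)) = VV Fr x y := by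
    funext j
    refine map_ψ M O hA.iso hn cs ?_
    obtain ⟨b, z | z⟩ := j
    · rintro _ ⟨p, rfl⟩; exact M.hZ _ _
    · rintro _ ⟨p, rfl⟩; exact M.hX _ _ _
  rw [e1, e2, e3, e5, e6, Subgroup.map_inf _ _ _ (ψ_inj M O hA.iso hn cs), Subgroup.map_sup, e3, e4,
    map_T M O hA.iso hn cs]
  exact h1

/-- `[T, T0] = 1`, ambient form -/
theorem tor_comm {p : ℕ} {G0 : Subgroup (V ≃ₗ[F] V)} (hA : Nodes.WittAll.AmbT Fr p G0) {s t : V ≃ₗ[F] V}
    (hs : s ∈ Nodes.WittRGD.Tor Fr G0) (ht : t ∈ Dg Fr) : s * t = t * s := by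
  obtain ⟨l, hl⟩ := ht
  have h1 : (t * s)⁻¹ * (s * t) = 1 := by
    apply O.eq_one
    · intro x
      rw [mul_apply']
      apply inv_apply_of
      obtain ⟨m, -, hm⟩ := hs.2 x
      have hm' : s (Fr.b x) = m • Fr.b x := hm
      rw [mul_apply', mul_apply', hm', hl.ap, map_smul, map_smul, hm', hl.ap, smul_smul, smul_smul, mul_comm]
    · intro w hw
      rw [mul_apply']
      apply inv_apply_of
      rw [mul_apply', mul_apply', hl.fx w hw]
      exact hl.fx _ (hA.map_V0 hs.1 hs.2 (ρ := id) (fun _ => rfl) hw)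
  exact (inv_mul_eq_one.1 h1).symm

section

variable [Finite F] [Finite V] (hs : ∃ s : F, s ≠ 0 ∧ s ≠ 1) (hA : Nodes.WittAll.AmbT Fr 2 M.I)
    {W : Type*} [Group W] (cs : CoxeterSystem (CoxeterMatrix.B n) W)

/-- `[T, T0] = 1` -/
theorem tc_model (hA : Nodes.WittAll.AmbT Fr 2 M.I) {x y : Fin n × Bool} (hxy : x.1 ≠ y.1) :
    ∀ s ∈ Nodes.WittModel.T M, ∀ t ∈ Nodes.WittModel.T M ⊓
      (Nodes.WittModel.X M (rt x y) ⊔ Nodes.WittModel.X M (-rt x y)), s * t = t * s := by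
  rintro _ ⟨s, hs, rfl⟩ t ht
  have hn : 0 < n := lt_of_le_of_lt (Nat.zero_le _) x.1.2
  have cs := (CoxeterMatrix.B n).toCoxeterSystem
  have h1 : ψ M O hA.iso hn cs t ∈ Dg Fr := by
    have h2 : ψ M O hA.iso hn cs t ∈ (Nodes.WittModel.T M ⊓
      (Nodes.WittModel.X M (rt x y) ⊔ Nodes.WittModel.X M (-rt x y))).map (ψ M O hA.iso hn cs) := ⟨t, ht, rfl⟩
    rw [Subgroup.map_inf _ _ _ (ψ_inj M O hA.iso hn cs), Subgroup.map_sup, map_X, map_X, map_T] at h2
    exact (T0_le hxy O hA h2).1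
  apply ψ_inj M O hA.iso hn cs
  rw [map_mul, map_mul, ψ_φ]
  exact tor_comm O hA hs h1

/-- long roots are `LR` -/
theorem lr_model {T : Subgroup K} {nn : Fin n → K} {x y : Fin n × Bool} (hxy : x.1 ≠ y.1)
    (R : RGD cs (isCartan n) 2 T nn (Nodes.WittModel.X M)) : LR R (rt x y) := by
  refine ⟨isRoot_rt cs (Or.inl hxy), fun a ha hc u hu v hv => ?_⟩
  obtain ⟨g, hg, rfl⟩ := hu
  obtain ⟨k, hk, rfl⟩ := hv
  rw [← map_mul, ← map_mul]
  congr 1
  apply Subtype.ext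
  exact cen (cs := cs) hxy O (RGD.le_Sup (X := rg Fr) (show a ∈ Ge cs (isCartan n) (rt x y) from ⟨ha, hc⟩)
    (Subgroup.mem_subgroupOf.1 hg)) (Subgroup.mem_subgroupOf.1 hk)

omit O in
theorem exists_out (hn : 3 ≤ n) (x y : Fin n × Bool) : ∃ z, Out x y z := by
  have h1 : ({x.1, y.1} : Finset (Fin n)).card < Fintype.card (Fin n) := by
    rw [Fintype.card_fin]
    exact lt_of_le_of_lt Finset.card_le_two hn
  obtain ⟨k, hk⟩ : ∃ k, k ∉ ({x.1, y.1} : Finset (Fin n)) := by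
    by_contra hcon
    push Not at hcon
    rw [← Finset.eq_univ_iff_forall] at hcon
    rw [hcon, Finset.card_univ] at h1
    exact lt_irrefl _ h1
  rw [Finset.mem_insert, Finset.mem_singleton, not_or] at hk
  exact ⟨(k, true), hk.1, hk.2⟩

include hs hA in
/-- **`HasFull` for the long roots of a model of orthogonal type in characteristic two.** -/
theorem hasFull_model (hn : 3 ≤ n) {r : Fin n → ℤ} (hr : r ∈ RB n) :
    RgdLocL.HasFull cs (isCartan n) (Nodes.WittModel.T M) (Nodes.WittModel.X M) r := by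
  obtain ⟨x, y, hxy, rfl⟩ := mem_RB.1 hr
  obtain ⟨z, hz⟩ := exists_out hn x y
  exact ⟨Ix x y, inferInstance, _, _, _, _, full_model M O hs hA cs hxy true ⟨z, hz⟩⟩

include hs hA in
/-- **`NorX`** -/
theorem norX_model {nn : Fin n → K} {r : Fin n → ℤ} (hr : r ∈ RB n)
    (R : RGD cs (isCartan n) 2 (Nodes.WittModel.T M) nn (Nodes.WittModel.X M)) :
    OddHalf.DblR.NorX (Nodes.Bruhat.GG cs (isCartan n) (Nodes.WittModel.T M) (Nodes.WittModel.X M))
      (RGD.Sup (Nodes.WittModel.X M) (Ge cs (isCartan n) r)) (Nodes.WittModel.X M r)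
      (Nodes.WittModel.T M ⊓ (Nodes.WittModel.X M r ⊔ Nodes.WittModel.X M (-r))) := by
  obtain ⟨x, y, hxy, rfl⟩ := mem_RB.1 hr
  have := finite_W cs
  exact RgdLocL.norX (lr_model M O cs hxy R) (tc_model M O hA hxy)

end

omit O

/-! ### the minus form -/

section Minus

open QuadraticMap
open Cfsg.Agent.LieClassical Cfsg.Agent.LieClassical.OrthCore Cfsg.Agent.LieClassical.OrthTrans
open Cfsg.Agent.LieClassical.OrthSimple Cfsg.Agent.LieClassical.OrthFinite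
open Cfsg.Agent.LieClassical.OrthForms
open Cfsg.Agent.TitsThree.KSideO Cfsg.Agent.TitsThree.StdData Cfsg.Agent.TitsThree.WBridge

theorem orth_minus [Finite F] (h2 : (2 : F) = 0) (m : ℕ) (a b : F)
    (hab : ∀ z₁ z₂ : F, z₁ ^ 2 + a * z₁ * z₂ + b * z₂ ^ 2 = 0 → z₁ = 0 ∧ z₂ = 0) :
    Orth (toFrame (wminus m F a b hab)) where
  two := h2
  σ _ := rfl
  ε := rfl
  ok0 w h := (wminus m F a b hab).aniso w h.1 h.2
  ok1 c h := by
    have h1 : c = -(minusForm m F a b) 0 := h.2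
    rw [h1, QuadraticMap.map_zero, neg_zero]
  full w hw := ⟨_, hw, rfl⟩
  nd := by
    intro w hw h
    refine nondeg_minusForm m F a b hab w fun v => ?_
    obtain ⟨x, y, w', hw', e⟩ := (wminus m F a b hab).span v
    have h6 : ∀ (s : Finset (Fin m)) (c : Fin m → F) (t : Fin m → ((Fin m ⊕ Fin m) ⊕ Fin 2 → F)),
        (∀ i, polar (minusForm m F a b) w (t i) = 0) → polar (minusForm m F a b) w (∑ i ∈ s, c i • t i) = 0 := by
      intro s c t ht
      induction s using Finset.induction_on with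
      | empty => simp
      | insert i s hi ih => rw [Finset.sum_insert hi, polar_add_right, ih, polar_smul_right, ht, smul_zero, add_zero]
    have h3 : polar (minusForm m F a b) w w' = 0 := h w' hw'
    rw [e, polar_add_right, polar_add_right, h6 _ _ _ fun i => (wminus m F a b hab).V0e w hw i,
      h6 _ _ _ fun i => (wminus m F a b hab).V0f w hw i, h3, zero_add, zero_add]
  V0 v h := Nodes.WittU.mem_V0_of_orth _ (fun i => h (i, true)) (fun i => h (i, false))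
  p0 := by
    have hp : ((embMinus m F a b hab).ngt ⟨(1, 0), -nf a b (1, 0), rfl⟩).c ≠ 0 := by
      change (1 : F)⁻¹ * (-nf a b (1, 0)) ≠ 0
      simp [nf]
    exact ⟨_, hp⟩

theorem good_minus [Finite F] {m : ℕ} (hm : 2 ≤ m) (a b : F)
    (hab : ∀ z₁ z₂ : F, z₁ ^ 2 + a * z₁ * z₂ + b * z₂ ^ 2 = 0 → z₁ = 0 ∧ z₂ = 0) : Good (minusForm m F a b) := by
  apply good_of_finite (nondeg_minusForm m F a b hab)
  rw [Module.finrank_fintype_fun_eq_card, Fintype.card_sum, Fintype.card_sum, Fintype.card_fin, Fintype.card_fin]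
  omega

theorem adm_minus (m : ℕ) (a b : F)
    (hab : ∀ z₁ z₂ : F, z₁ ^ 2 + a * z₁ * z₂ + b * z₂ ^ 2 = 0 → z₁ = 0 ∧ z₂ = 0) :
    ∃ p : (toFrame (wminus m F a b hab)).Adm, p.c ≠ 0 := by
  have hp : ((embMinus m F a b hab).ngt ⟨(1, 0), -nf a b (1, 0), rfl⟩).c ≠ 0 := by
    change (1 : F)⁻¹ * (-nf a b (1, 0)) ≠ 0
    simp [nf]
  exact ⟨_, hp⟩

/-- the model `E Q → PΩ Q` -/
noncomputable def modelMinus [Finite F] {m : ℕ} (hm : 2 ≤ m) (a b : F)
    (hab : ∀ z₁ z₂ : F, z₁ ^ 2 + a * z₁ * z₂ + b * z₂ ^ 2 = 0 → z₁ = 0 ∧ z₂ = 0) :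
    Model (toFrame (wminus m F a b hab)) (Cfsg.POmega F ⇑(minusForm m F a b)) :=
  model (wminus m F a b hab) (good_minus hm a b hab) (adm_minus m a b hab)

theorem ambT_minus [Finite F] (h2 : (2 : F) = 0) {m : ℕ} (hm : 2 ≤ m) (a b : F)
    (hab : ∀ z₁ z₂ : F, z₁ ^ 2 + a * z₁ * z₂ + b * z₂ ^ 2 = 0 → z₁ = 0 ∧ z₂ = 0) :
    Nodes.WittAll.AmbT (toFrame (wminus m F a b hab)) 2 (modelMinus hm a b hab).I :=
  Nodes.WittInst.ambT_O _ fun _ hg hg2 hb =>
    Nodes.WittInst.fixp_minus a b hab h2 hm (good_minus hm a b hab) hg hg2 hb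

/-- **`PΩ⁻_{2m+2}(F)`, `m ≥ 3`, `|F| ≥ 4` even: root group datum, `HasFull`, `LR`, `NorX` for the long roots.** -/
theorem main_minus [Finite F] (h2 : (2 : F) = 0) (hs : ∃ s : F, s ≠ 0 ∧ s ≠ 1) {m : ℕ} (hm : 3 ≤ m) (a b : F)
    (hab : ∀ z₁ z₂ : F, z₁ ^ 2 + a * z₁ * z₂ + b * z₂ ^ 2 = 0 → z₁ = 0 ∧ z₂ = 0) :
    ∃ (T : Subgroup (Cfsg.POmega F ⇑(minusForm m F a b))) (n : Fin m → Cfsg.POmega F ⇑(minusForm m F a b))
      (X : (Fin m → ℤ) → Subgroup (Cfsg.POmega F ⇑(minusForm m F a b)))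
      (R : RGD (CoxeterMatrix.B m).toCoxeterSystem (isCartan m) 2 T n X),
      Nodes.RGDLib.G1 (CoxeterMatrix.B m).toCoxeterSystem (isCartan m) X = ⊤ ∧
      ∀ r ∈ RB m, RgdLocL.HasFull (CoxeterMatrix.B m).toCoxeterSystem (isCartan m) T X r ∧ LR R r ∧
        OddHalf.DblR.NorX (Nodes.Bruhat.GG (CoxeterMatrix.B m).toCoxeterSystem (isCartan m) T X)
          (RGD.Sup X (Ge (CoxeterMatrix.B m).toCoxeterSystem (isCartan m) r)) (X r) (T ⊓ (X r ⊔ X (-r))) := by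
  have : CharP F 2 := CharTwo.of_one_ne_zero_of_two_eq_zero one_ne_zero h2
  have : Fact (Nat.Prime 2) := ⟨Nat.prime_two⟩
  have hm2 : 2 ≤ m := by omega
  have O := orth_minus h2 m a b hab
  have hA := ambT_minus h2 hm2 a b hab
  obtain ⟨p0, hp0⟩ := O.p0
  let cs := (CoxeterMatrix.B m).toCoxeterSystem
  have R := Nodes.WittAll.rgdC_model (modelMinus hm2 a b hab) hA hp0 cs
  refine ⟨_, _, _, R, Nodes.WittModel.G1_eq_top _ (by omega) cs, fun r hr => ⟨?_, ?_, ?_⟩⟩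
  · exact hasFull_model _ O hs hA cs hm hr
  · obtain ⟨x, y, hxy, rfl⟩ := mem_RB.1 hr
    exact lr_model _ O cs hxy R
  · exact norX_model _ O hs hA cs hr R

end Minus

end Cfsg.Agent.KFacts.SpecMinus
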