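import Cfsg.Agent.KFacts.RgdLocL
import Cfsg.Agent.KFacts.TwESix.Tor
import Cfsg.Agent.KFacts.TwESix.QRho

/-!
# `Full`, `Loc`, `NorX` for the long roots of `²E₆(q)`, `q = 2^a ≥ 4` (ODD, D4, K-side; helper335)

* `full_rho` : `Full` for the highest root `ρ` of a root group datum of type `F₄` with `Facts.Dat`, an abelian torus
  and root groups with at least two nontrivial elements;
* `hasFull` : `HasFull cs isCartan T X r` for every long root `r`;
* `main_twE6` : `HasFull`, `NorX`, `P_r ≤ ⁅P_r, P_r⁆` for `²E₆(q)`, `q > 2` even.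
-/

set_option autoImplicit false
set_option linter.unusedSectionVars false
set_option maxHeartbeats 400000

namespace Cfsg.Agent.KFacts.SpecTwE6

open CoxeterSystem Cfsg.Agent.ChevalleyStructure.CoxeterGeom Cfsg.Agent.Tits.Roots Cfsg.Agent.Tits.Core
  Cfsg.Agent.Tits.RootComb Cfsg.Agent.Tits.Exchange Cfsg.Agent.Nodes.Reps Cfsg.Agent.Nodes.BNOf
  Cfsg.Agent.Nodes.StabComb Cfsg.Agent.Nodes.Bruhat Cfsg.Agent.Nodes.OppDec
  Cfsg.Agent.Nodes.Coroot Cfsg.Agent.KFacts.RgdSL Cfsg.Agent.KFacts.RgdTI Cfsg.Agent.KFacts.RgdOdd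
  Cfsg.Agent.KFacts.RgdEx Cfsg.Agent.KFacts.RgdPar
  Cfsg.Agent.Nodes.RGDTwE6 Cfsg.Agent.KFacts.TwESix.Comb
  Cfsg.Agent.KFacts.TwESix.Facts Cfsg.Agent.KFacts.TwESix.QRho
  Cfsg.Agent.KFacts.SpecKfour Cfsg.Agent.KFacts.SpecLoc Cfsg.Agent.KFacts.RgdLocL Cfsg.Agent.OddHalf.DblR
open scoped commutatorElement

/-! ### combinatorics -/

/-- the simple root `α₀` -/
def b0 : Ix := ⟨![1, 0, 0, 0], by decide +kernel⟩

theorem b0_long : bf b0.1 b0.1 = 4 ∧ bf (op b0).1 (op b0).1 = 4 := by decide +kernel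

/-- `b` is reached from a root `b - d` by a root `d ⟂ ρ` with `⟨i, d⟩ ≥ 0` -/
def Rch (i : Ix) : Prop := ∀ b ∈ rts, b 0 = 1 → b ≠ rho - i.1 → ∃ d ∈ rts, d 0 = 0 ∧ 0 ≤ bf d i.1 ∧ b - d ∈ rts ∧
  bf d d = bf b b ∧ bf (b - d) (b - d) = bf b b ∧ 2 * bf d (b - d) = - bf b b

theorem rch : Rch b0 := by unfold Rch; decide +kernel

theorem rch' : Rch (op b0) := by unfold Rch; decide +kernel

/-- long roots of `Φ₁` from `α₀` -/
theorem up : ∀ b ∈ rts, b 0 = 1 → bf b b = 4 → b ≠ b0.1 → ∃ d ∈ rts, d 0 = 0 ∧ 0 < d 1 + d 2 + d 3 ∧ b - d ∈ rts ∧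
    bf d d = 4 ∧ bf (b - d) (b - d) = 4 ∧ bf d (b - d) = -2 := by decide +kernel

theorem pos : ∀ b ∈ rts, b 0 = 1 → 0 ≤ b 1 + b 2 + b 3 := by decide +kernel

section Abs

variable {W Y : Type*} [Group W] [Group Y] {cs : CoxeterSystem CoxeterMatrix.F₄ W} {T : Subgroup Y} {n : Fin 4 → Y}
  {X : (Fin 4 → ℤ) → Subgroup Y}

theorem op_op (b : Ix) : op (op b) = b := Subtype.ext (by rw [op_val, op_val]; abel)

variable (cs X) in
/-- every root group has two nontrivial elements -/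
def Big : Prop := ∀ b, IsRoot cs isCartan b → ∃ x ∈ X b, ∃ y ∈ X b, x ≠ 1 ∧ y ≠ 1 ∧ x ≠ y

section

variable {R : RGD cs isCartan 2 T n X} (D : Dat R) (tab : ∀ s ∈ T, ∀ t ∈ T, s * t = t * s)

include D

theorem QN {p q : Y} (hp : p ∈ PP cs X) (hq : q ∈ QQ cs X) : p * q * p⁻¹ ∈ QQ cs X :=
  (Subgroup.mem_normalizer_iff.1 (PP_normalizer R hp) q).1 hq

include tab

theorem spec : Spec (PP cs X) (QQ cs X) (X rho) T (fun b : Ix => X b.1) op where
  QP := QQ_le_PP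
  ZQ := le_QQ (rho_root cs) (by decide)
  VQ b := le_QQ (root b) (by rw [b.2.2])
  gen := by
    rw [← QS_eq (cs := cs)]
    refine Cfsg.Agent.OddHalf.D7Tw.QS_le le_sup_right fun b _ => ?_
    exact le_trans (le_iSup (fun b : Ix => X b.1) b) le_sup_left
  cen p hp z hz := (cen_PP D hz hp).symm
  QN p hp q hq := QN D hp hq
  stst := op_op
  ab b u hu v hv := abel R (root b) hu hv
  comm1 a b hab u hu v hv := comm1' D hab hu hv
  br b u hu v hv := by
    have := (loc D).brk b u hu v hv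
    rwa [commutatorElement_def]
  nd b u hu h := (loc D).nd b u hu h
  sq b u hu := sq R (root b) hu
  TV t ht b v hv := tor_mem R (root b) ht hv
  TZ t ht z hz := tor_mem R (rho_root cs) ht hz
  Tab := tab
  Todd := R.tcop

theorem fix {i : Ix} (hi : bf i.1 i.1 = 4) (hc : Rch i) :
    Fix (PP cs X) (QQ cs X) (X rho) (fun b : Ix => X b.1) i := by
  have : Finite W := finiteW cs
  refine (spec D tab).fix_of_gen _ le_rfl fun j hj w hw => ?_
  obtain ⟨d, hd, hd0, hdi, hjd, h1, h2, h3⟩ := hc j.1 j.2.1 j.2.2 fun h => hj (Subtype.ext h)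
  have hdr := (mem_rts cs).2 hd
  have hjr := (mem_rts cs).2 hjd
  have hA : A2 cs isCartan d (j.1 - d) := a2 cs hdr hjr (by rw [h1, h2]) (by rw [h3, h1])
  obtain ⟨u, hu, hu1⟩ := exists_ne_one R hdr
  obtain ⟨v, hv, e⟩ := hA.comm_surj R hu hu1 (w := w) (by rw [add_sub_cancel]; exact hw)
  refine Subgroup.mem_sup_left (Subgroup.subset_closure ⟨u, le_PP hdr (by rw [hd0]) hu, fun x hx => ?_, v, ?_, e.symm⟩)
  · exact comm_long D hdr (root i) hi hdi hu hx
  · refine le_QQ hjr ?_ hv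
    rw [Pi.sub_apply, j.2.2, hd0]; norm_num

omit tab in
/-- a root `d ⟂ ρ` forming an `A₂`-pair with `b` -/
theorem exists_a2 (b : Ix) : ∃ d, IsRoot cs isCartan d ∧ d 0 = 0 ∧ A2 cs isCartan d b.1 := by
  obtain ⟨h1, h2, h3, h4⟩ := Cfsg.Agent.KFacts.TwESix.CombRho.op_mem b.1 b.2.1 b.2.2
  obtain ⟨d, hd, hd0, h5, h6, h7, h8, h9, -⟩ := Cfsg.Agent.KFacts.TwESix.CombRho.ex _ h1 h2
  have hdr := (mem_rts cs).2 hd
  have e : rho - (rho - b.1) = b.1 := by abel
  rw [e] at h9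
  exact ⟨d, hdr, hd0, a2 cs hdr (root b) (by rw [h6, h3]) (by rw [h9, h6])⟩

omit tab in
theorem trans (b : Ix) {u v : Y} (hu : u ∈ X b.1) (hv : v ∈ X b.1) (hu1 : u ≠ 1) (hv1 : v ≠ 1) :
    ∃ k ∈ T, k ∈ PP cs X ∧ k * u * k⁻¹ = v := by
  have : Finite W := finiteW cs
  obtain ⟨d, hd, hd0, hA⟩ := exists_a2 D b
  obtain ⟨t, ht, e⟩ := hA.tor_trans R hu hu1 hv hv1
  refine ⟨t, ht.1, ?_, e⟩
  refine (sup_le (le_PP hd (by rw [hd0])) (le_PP hd.neg ?_)) ht.2
  rw [Pi.neg_apply, hd0]; norm_num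

theorem lin (b : Ix) : Lin (PP cs X) T (fun b : Ix => X b.1) b :=
  lin_of_trans tab fun _ hu _ hv hu1 hv1 => trans D b hu hv hu1 hv1

theorem kap (B : Big cs X) (b : Ix) : ∃ k ∈ T, k ∈ PP cs X ∧ ∀ v ∈ X b.1, k * v * k⁻¹ = v → v = 1 := by
  obtain ⟨x, hx, y, hy, hx1, hy1, hxy⟩ := B b.1 (root b)
  obtain ⟨k, hk, hkP, e⟩ := trans D b hx hy hx1 hy1
  refine ⟨k, hk, hkP, fun v hv he => ?_⟩
  by_contra hv1
  obtain ⟨t, ht, -, e2⟩ := trans D b hv hx hv1 hx1
  apply hxy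
  rw [← e, ← e2]
  symm
  calc k * (t * v * t⁻¹) * k⁻¹ = (k * t) * v * (k * t)⁻¹ := by group
    _ = t * (k * v * k⁻¹) * t⁻¹ := by rw [tab k hk t ht]; group
    _ = t * v * t⁻¹ := by rw [he]

theorem ncl {q : Y} (hq : q ∈ QQ cs X) (h : ∀ p ∈ PP cs X, ∀ v ∈ X b0.1, q * (p * v * p⁻¹) = (p * v * p⁻¹) * q) :
    q ∈ X rho := by
  have : Finite W := finiteW cs
  have S := spec D tab
  let C : Subgroup Y :=
    { carrier := {v | ∀ p ∈ PP cs X, q * (p * v * p⁻¹) = (p * v * p⁻¹) * q}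
      one_mem' := fun p _ => by simp
      mul_mem' := by
        intro u v hu hv p hp
        have h1 := hu p hp
        have h2 := hv p hp
        calc q * (p * (u * v) * p⁻¹) = (q * (p * u * p⁻¹)) * (p * v * p⁻¹) := by group
          _ = (p * u * p⁻¹) * (q * (p * v * p⁻¹)) := by rw [h1]; group
          _ = _ := by rw [h2]; group
      inv_mem' := by
        intro u hu p hp
        have h1 : Commute q (p * u * p⁻¹) := hu p hp
        have h2 : p * u⁻¹ * p⁻¹ = (p * u * p⁻¹)⁻¹ := by group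
        rw [h2]
        exact h1.inv_right.eq }
  have hconj : ∀ p ∈ PP cs X, ∀ v ∈ C, p * v * p⁻¹ ∈ C := by
    intro p hp v hv p' hp'
    have h1 := hv (p' * p) (mul_mem hp' hp)
    have h2 : p' * p * v * (p' * p)⁻¹ = p' * (p * v * p⁻¹) * p'⁻¹ := by group
    rwa [h2] at h1
  have hbr : ∀ p ∈ PP cs X, ∀ v ∈ C, ⁅p, v⁆ ∈ C := fun p hp v hv => by
    rw [commutatorElement_def]
    exact mul_mem (hconj p hp v hv) (inv_mem hv)
  have hbr' : ∀ p ∈ PP cs X, ∀ v ∈ C, ⁅v, p⁆ ∈ C := fun p hp v hv => by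
    rw [← commutatorElement_inv]
    exact inv_mem (hbr p hp v hv)
  have c0 : X b0.1 ≤ C := fun v hv p hp => h p hp v hv
  -- the long roots
  have c1 : ∀ k : ℕ, ∀ b ∈ rts, b 0 = 1 → bf b b = 4 → b 1 + b 2 + b 3 ≤ k → X b ≤ C := by
    intro k
    induction k using Nat.strong_induction_on with
    | _ k ih =>
      intro b hb hb1 hbb hbk
      by_cases hne : b = b0.1
      · rw [hne]; exact c0
      obtain ⟨d, hd, hd0, hd1, hbd, h1, h2, h3⟩ := up b hb hb1 hbb hne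
      have hdr := (mem_rts cs).2 hd
      have hbr1 := (mem_rts cs).2 hbd
      have hA : A2 cs isCartan d (b - d) := a2 cs hdr hbr1 (by rw [h1, h2]) (by rw [h3, h1]; norm_num)
      have h4 : (b - d) 0 = 1 := by rw [Pi.sub_apply, hb1, hd0]; norm_num
      have h5 := pos _ hbd h4
      have h6 : (b - d) 1 + (b - d) 2 + (b - d) 3 = (b 1 + b 2 + b 3) - (d 1 + d 2 + d 3) := by
        simp only [Pi.sub_apply]; ring
      have h7 : X (b - d) ≤ C := by
        refine ih ((b - d) 1 + (b - d) 2 + (b - d) 3).toNat ?_ (b - d) hbd h4 h2 ?_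
        · omega
        · omega
      intro w hw
      obtain ⟨u, hu, hu1⟩ := exists_ne_one R hdr
      obtain ⟨v, hv, e⟩ := hA.comm_surj R hu hu1 (w := w) (by rw [add_sub_cancel]; exact hw)
      rw [← e]
      exact hbr u (le_PP hdr (by rw [hd0]) hu) v (h7 hv)
  have c1' : ∀ b ∈ rts, b 0 = 1 → bf b b = 4 → X b ≤ C := fun b hb hb1 hbb => by
    have h5 := pos _ hb hb1
    exact c1 (b 1 + b 2 + b 3).toNat b hb hb1 hbb (by omega)
  -- the short roots
  have c2 : ∀ b : Ix, X b.1 ≤ C := by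
    intro b
    rcases norm cs (root b) with hbb | hbb
    · exact c1' b.1 b.2.1 b.2.2 hbb
    obtain ⟨c, hc, hc0, hcc, d, hd, hd0, hdd, hcd, hs, hl, hll, hl0⟩ :=
      Cfsg.Agent.KFacts.TwESix.CombRho.short b.1 b.2.1 b.2.2 hbb
    have hcr := (mem_rts cs).2 hc
    have hdr := (mem_rts cs).2 hd
    obtain ⟨x, hx, hx1⟩ := exists_ne_one R hcr
    intro w hw
    obtain ⟨v, hv, z, hz, e⟩ := surj_135 D hcr hdr hcc hdd hcd (by rw [hs]; exact root b) ((mem_rts cs).2 hl) hx hx1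
      (w := w) (by rw [hs]; exact hw)
    have hz' : z ∈ C := c1' _ hl hl0 hll hz
    have h1 := hbr' v (le_PP hdr (by rw [hd0]) hv) x (c1' c hc hc0 hcc hx)
    have e2 : w = ⁅x, v⁆ * z⁻¹ := by rw [e]; group
    rw [e2]
    exact mul_mem h1 (inv_mem hz')
  refine S.mem_Z hq fun b w hw => ?_
  have := c2 b hw 1 (one_mem _)
  simpa using this

/-- **`Full` for the highest root.** -/
theorem full_rho [Finite Y] (B : Big cs X) : Full (PP cs X) (QQ cs X) (X rho) T (T ⊓ (X rho ⊔ X (-rho)))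
    (fun b : Ix => X b.1) op b0 where
  toSpec := spec D tab
  fix := fix D tab b0_long.1 rch
  fix' := fix D tab b0_long.2 rch'
  lin := lin D tab b0
  lin' := lin D tab (op b0)
  surj := by
    have : Finite W := finiteW cs
    obtain ⟨x, hx, hx1⟩ := exists_ne_one R (root (cs := cs) b0)
    refine ⟨x, hx, fun z hz => ?_⟩
    exact (a2_op D (b := b0) b0_long.1).comm_surj R hx hx1 (by rw [add_op]; exact hz)
  ncl q hq h := ncl D tab hq h
  kap := kap D tab B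
  perf := (perfect D).ge
  T0T := inf_le_left
  T0Q := by
    have S := spec D tab
    intro k hk p hp
    let L : Subgroup Y :=
      { carrier := {p | p ∈ PP cs X ∧ k * p * k⁻¹ * p⁻¹ ∈ QQ cs X}
        one_mem' := ⟨one_mem _, by simp⟩
        mul_mem' := by
          rintro x y ⟨hx, hx'⟩ ⟨hy, hy'⟩
          refine ⟨mul_mem hx hy, ?_⟩
          have : k * (x * y) * k⁻¹ * (x * y)⁻¹ = (k * x * k⁻¹ * x⁻¹) * (x * (k * y * k⁻¹ * y⁻¹) * x⁻¹) := by group
          rw [this]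
          exact mul_mem hx' (S.QN _ hx _ hy')
        inv_mem' := by
          rintro x ⟨hx, hx'⟩
          refine ⟨inv_mem hx, ?_⟩
          have h1 : k * x⁻¹ * k⁻¹ * x⁻¹⁻¹ = x⁻¹ * (k * x * k⁻¹ * x⁻¹)⁻¹ * x := by group
          rw [h1]
          have := S.QN _ (inv_mem hx) _ (inv_mem hx')
          rwa [inv_inv] at this }
    have hL : PP cs X ≤ L := by
      refine PP_le fun b hb hb0 u hu => ?_
      refine ⟨le_PP hb hb0 hu, ?_⟩
      rcases hb0.eq_or_lt with h0 | h0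
      · have h1 : k * u = u * k := Cfsg.Agent.KFacts.TwESix.Tor.orth_comm R D.lr (rho_root cs) rho_long hb
          (by rw [bf_rho, ← h0]; norm_num) hk.2 hu
        have h2 : k * u * k⁻¹ * u⁻¹ = 1 := by rw [h1]; group
        rw [h2]; exact one_mem _
      · exact mul_mem (le_QQ hb h0 (tor_mem R hb hk.1 hu)) (inv_mem (le_QQ hb h0 hu))
    exact (hL hp).2
  tr x hx hx1 y hy hy1 := Cfsg.Agent.KFacts.TwESix.Tor.tor_self R tab (rho_root cs) hx hx1 hy hy1
  big := by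
    obtain ⟨x, hx, y, hy, hx1, hy1, hxy⟩ := B rho (rho_root cs)
    exact ⟨x, hx, y, hy, hx1, hy1, hxy⟩
  zsq z hz := sq R (rho_root cs) hz

/-- **`HasFull` for the long roots.** -/
theorem hasFull [Finite Y] (B : Big cs X) {r : Fin 4 → ℤ} (hr : IsRoot cs isCartan r) (hl : bf r r = 4) :
    HasFull cs isCartan T X r := by
  have : Finite W := finiteW cs
  obtain ⟨w, hw⟩ := exists_rep_long cs hr hl
  obtain ⟨w', hw'⟩ := exists_rep_long cs (rho_root cs) rho_long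
  have h1 : rep cs isCartan (w * w'⁻¹) rho = r := by
    rw [rep_mul_apply]
    conv_lhs => rw [← hw']
    rw [rep_inv_apply, hw]
  obtain ⟨k, hk⟩ := exists_rp cs R.nsys (w * w'⁻¹)
  have H := (full_rho D tab B).map (MulAut.conj k).toMonoidHom (MulAut.conj k).injective
  have e1 : (PP cs X).map (MulAut.conj k).toMonoidHom = RGD.Sup X (Ge cs isCartan r) := by
    rw [← h1]
    exact cj_Sup_Ge R (rho_root cs) hk
  have e2 : (QQ cs X).map (MulAut.conj k).toMonoidHom = RGD.Sup X (Rad cs isCartan r) := by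
    rw [← h1]
    exact cj_Sup_Rad R (rho_root cs) hk
  have e3 : (X rho).map (MulAut.conj k).toMonoidHom = X r := by
    rw [← h1]
    exact R.conj_rp hk (rho_root cs)
  have e4 : (X (-rho)).map (MulAut.conj k).toMonoidHom = X (-r) := by
    have := R.conj_rp hk (rho_root cs).neg
    rw [map_neg, h1] at this
    exact this
  have e5 : T.map (MulAut.conj k).toMonoidHom = T := cj_T R hk
  rw [e1, e2, e3, Subgroup.map_inf _ _ _ (MulAut.conj k).injective, Subgroup.map_sup, e3, e4, e5] at H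
  exact ⟨Ix, inferInstance, _, op, b0, _, H⟩

end

end Abs

section Model

open Cfsg.Lie Cfsg.Agent.Nodes.RGDTwGen Cfsg.Agent.Nodes.RGDFold Cfsg.Agent.Nodes.RGDFoldSL

universe u

variable {K : Type u} [Field K] [Fintype K] {q : ℕ} {φ : K →+* K} {W : Type*} [Group W]

theorem two_of_card {Y : Type*} [Group Y] [Finite Y] {S : Subgroup Y} (h : 2 < Nat.card ↥S) :
    ∃ x ∈ S, ∃ y ∈ S, x ≠ 1 ∧ y ≠ 1 ∧ x ≠ y := by
  classical
  have : Fintype ↥S := Fintype.ofFinite _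
  rw [Nat.card_eq_fintype_card] at h
  obtain ⟨u, v, w, huv, huw, hvw⟩ := Fintype.two_lt_card_iff.1 h
  have key : ∃ a b : ↥S, a ≠ 1 ∧ b ≠ 1 ∧ a ≠ b := by
    by_cases hu : u = 1
    · subst hu
      exact ⟨v, w, huv.symm, huw.symm, hvw⟩
    · by_cases hv : v = 1
      · subst hv
        exact ⟨u, w, hu, hvw.symm, huw⟩
      · exact ⟨u, v, hu, hv, huv⟩
  obtain ⟨a, b, ha, hb, hab⟩ := key
  exact ⟨a, a.2, b, b.2, fun h => ha (Subtype.ext h), fun h => hb (Subtype.ext h), fun h => hab (Subtype.ext h)⟩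

theorem big [CharP K 2] (cs : CoxeterSystem CoxeterMatrix.F₄ W) (hφ : ∀ x, φ x = x ^ q)
    (hqq : ∀ t : K, (t ^ q) ^ q = t) (hK : Fintype.card K = q ^ 2) (hq2 : 2 < q) : Big cs (X φ q) := by
  intro b hb
  apply two_of_card
  rcases norm cs hb with h | h
  · rw [Cfsg.Agent.KFacts.TwESix.Tor.card_long cs hφ hqq hK (by omega) hb h]
    exact hq2
  · rw [Cfsg.Agent.KFacts.TwESix.Tor.card_short cs hφ hqq hK hb h]
    nlinarith

/-- **`²E₆(q)`, `q > 2` even.** -/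
theorem main_twE6 [CharP K 2] (cs : CoxeterSystem CoxeterMatrix.F₄ W) (hφ : ∀ x, φ x = x ^ q)
    (hqq : ∀ t : K, (t ^ q) ^ q = t) (hK : Fintype.card K = q ^ 2) (hq2 : 2 < q) {r : Fin 4 → ℤ}
    (hr : IsRoot cs isCartan r) (hl : bf r r = 4) :
    HasFull cs isCartan (T K q) (X φ q) r ∧
      NorX (GG cs isCartan (T K q) (X φ q)) (RGD.Sup (X φ q) (Ge cs isCartan r)) (X φ q r)
        (T K q ⊓ (X φ q r ⊔ X φ q (-r))) := by
  have : Finite W := finiteW cs
  have D := Cfsg.Agent.KFacts.TwESix.Dat.dat cs hφ hqq hK (by omega)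
  have tab := Cfsg.Agent.KFacts.TwESix.Tor.T_comm (K := K) (q := q)
  exact ⟨hasFull D tab (big cs hφ hqq hK hq2) hr hl,
    norX (D.lr r hr hl) fun s hs t ht => tab s hs t ht.1⟩

end Model

end Cfsg.Agent.KFacts.SpecTwE6
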