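import Cfsg.Agent.KFacts.SuzTwoB

/-!
# Automorphisms of the Suzuki group centralising `L × ⟨e⟩`

`inn_of_fix`: an automorphism of `Suz` trivial on `L = ⟨a, b, c, f, g⟩ ≅ L₃(4)` and on `e` is inner.
-/

set_option autoImplicit false
set_option maxRecDepth 100000
set_option exponentiation.threshold 4000

namespace Cfsg.Agent.KFacts.SuzAutL

open Cfsg.Spor Cfsg.Agent.Lib.PermNet Cfsg.Agent.Lib.PermNetOrbit Cfsg.Agent.SporadicRecognition.SuzPhi
  Cfsg.Agent.SporadicRecognition.SuzBound Cfsg.Agent.SporadicRecognition.SuzOrder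
  Cfsg.Agent.SuzThree.Nets Cfsg.Agent.SuzThree.Basic Cfsg.Agent.SuzThree.Elts
  Cfsg.Agent.SuzThree.CentA Cfsg.Agent.SuzThree.CentB
  Cfsg.Agent.SuzThree.QZero Cfsg.Agent.KFacts.SuzCent Cfsg.Agent.KFacts.Codes Cfsg.Agent.KFacts.Orbits
  Cfsg.Agent.KFacts.SuzR Cfsg.Agent.KFacts.SuzLarge Cfsg.Agent.KFacts.AutLarge Cfsg.Agent.KFacts.SuzLFour
  Cfsg.Agent.KFacts.SuzTwoB

theorem C_mul (c d : ℕ) : C c * C d = C (mulc BB 6 c d) := by rw [C, C, cod_mul rels tri]

theorem C_64 : C 64 = z0 := cod_z (n := 6)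

/-- the first condition, on the image of `x 1` -/
def cond1 (y : ℕ) : Bool :=
  AA 2 y == mulc BB 6 (mulc BB 6 64 y) 8 && AA 3 y == mulc BB 6 (mulc BB 6 64 y) 16 && mulc BB 6 y y == 0

/-- the second condition, on the image of `x 5` -/
def cond2 (y w : ℕ) : Bool :=
  AA 2 w == mulc BB 6 (mulc BB 6 64 8) w && AA 3 w == mulc BB 6 (mulc BB 6 64 16) w &&
    AA 1 w == mulc BB 6 (mulc BB 6 (mulc BB 6 1 y) (AA 1 y)) w && mulc BB 6 w w == 0 &&
    mulc BB 6 y w != mulc BB 6 w y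

theorem chk1 : ∀ y < 128, cond1 y = true → y ∈ [2, 4, 32, 39, 66, 68, 96, 103] := by decide +kernel

/-- the solutions, with the element of `V` -/
def sols : List (ℕ × ℕ × ℕ) :=
  [(2, 32, 0), (2, 96, 0), (66, 32, 0), (66, 96, 0), (4, 39, 1), (4, 103, 1),
   (68, 39, 1), (68, 103, 1), (32, 2, 2), (32, 66, 2), (96, 2, 2),
   (96, 66, 2), (39, 4, 3), (39, 68, 3), (103, 4, 3), (103, 68, 3)]

theorem chk2 : ∀ y ∈ [2, 4, 32, 39, 66, 68, 96, 103], ∀ w < 128, cond2 y w = true →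
    ∃ s ∈ sols, s.1 = y ∧ s.2.1 = w := by decide +kernel

theorem AA_lt : ∀ c < 128, ∀ k < 5, AA k c < 128 := by decide +kernel
theorem mulc_lt' {c d : ℕ} (hc : c < 128) (hd : d < 128) : mulc BB 6 c d < 128 :=
  AutChain.mulc_lt (B := BB) (n := 6) hc hd

theorem C_inj {c d : ℕ} (hc : c < 128) (hd : d < 128) (h : C c = C d) : c = d :=
  cod_injOn rels tri nondeg z_ne hc hd h

theorem one_gen {x : Suz.Gen} (h : isL x = true) {α : MulAut Suz} (hL : ∀ l ∈ L, α l = l) :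
    α (el [x]) = el [x] := hL _ (gen_mem_L h)

/-- the codes of the images under an automorphism fixing the five generators and `e` -/
theorem codes {α : MulAut Suz} (hL : ∀ l ∈ L, α l = l) (he : α e0 = e0) :
    ∃ s ∈ sols, α (C 2) = C s.1 ∧ α (C 32) = C s.2.1 := by
  have hz : α z0 = z0 := one_gen (x := .a) rfl hL
  have hQ : ∀ c, α (C c) ∈ Q0 := fun c => map_mem large SuzOut.irr' exists_nc hz (C_mem c)
  have hex : ∀ c, ∃ y < 128, α (C c) = C y := by
    intro c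
    have h := hQ c
    rw [Q0_eq] at h
    obtain ⟨y, hy, h1⟩ := (mem_RG rels tri).1 h
    exact ⟨y, hy, h1.symm⟩
  obtain ⟨y, hy, hy1⟩ := hex 2
  obtain ⟨w, hw, hw1⟩ := hex 32
  have h64 : α (C 64) = C 64 := by rw [C_64]; exact hz
  have hx0 : C 1 = el [.c] := cod_pow (n := 6) (i := 0) (by norm_num)
  have hx3 : C 8 = el [.f] := cod_pow (n := 6) (i := 3) (by norm_num)
  have hx4 : C 16 = el [.g] := cod_pow (n := 6) (i := 4) (by norm_num)
  have h1 : α (C 1) = C 1 := by rw [hx0]; exact one_gen (x := .c) rfl hL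
  have h8 : α (C 8) = C 8 := by rw [hx3]; exact one_gen (x := .f) rfl hL
  have h16 : α (C 16) = C 16 := by rw [hx4]; exact one_gen (x := .g) rfl hL
  have hmul : ∀ {c d c' d' : ℕ}, α (C c) = C c' → α (C d) = C d' → α (C (mulc BB 6 c d)) = C (mulc BB 6 c' d') := by
    intro c d c' d' hc hd
    rw [← C_mul, ← C_mul, map_mul, hc, hd]
  have hcj : ∀ {k : ℕ} {c c' : ℕ}, α (gg k) = gg k → α (C c) = C c' → α (C (AA k c)) = C (AA k c') := by
    intro k c c' hk hc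
    rw [← conj_AA, ← conj_AA, map_mul, map_mul, map_inv, hk, hc]
  have g1 : α (gg 1) = gg 1 := he
  have g2 : α (gg 2) = gg 2 := hL _ (word_mem_L (w := SuzThree.CentA.h1) (by decide))
  have g3 : α (gg 3) = gg 3 := hL _ (word_mem_L (w := SuzThree.CentA.h2) (by decide))
  have hlt : ∀ {k c : ℕ}, k < 5 → c < 128 → AA k c < 128 := fun hk hc => AA_lt _ hc _ hk
  -- conditions on `y`
  have c1 : AA 2 y = mulc BB 6 (mulc BB 6 64 y) 8 := by
    apply C_inj (hlt (by norm_num) hy) (mulc_lt' (mulc_lt' (by norm_num) hy) (by norm_num))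
    rw [← hcj g2 hy1, ← hmul (hmul h64 hy1) h8]
    congr 2
  have c2 : AA 3 y = mulc BB 6 (mulc BB 6 64 y) 16 := by
    apply C_inj (hlt (by norm_num) hy) (mulc_lt' (mulc_lt' (by norm_num) hy) (by norm_num))
    rw [← hcj g3 hy1, ← hmul (hmul h64 hy1) h16]
    congr 2
  have hone : α (C 0) = C 0 := by
    have : C 0 = 1 := cod_zero
    rw [this, map_one]
  have c3 : mulc BB 6 y y = 0 := by
    apply C_inj (mulc_lt' hy hy) (by norm_num)
    rw [← hmul hy1 hy1, ← hone]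
    congr 2
  have hy' := chk1 y hy (by
    unfold cond1
    simp only [Bool.and_eq_true, beq_iff_eq]
    exact ⟨⟨c1, c2⟩, c3⟩)
  -- conditions on `w`
  have d1 : AA 2 w = mulc BB 6 (mulc BB 6 64 8) w := by
    apply C_inj (hlt (by norm_num) hw) (mulc_lt' (mulc_lt' (by norm_num) (by norm_num)) hw)
    rw [← hcj g2 hw1, ← hmul (hmul h64 h8) hw1]
    congr 2
  have d2 : AA 3 w = mulc BB 6 (mulc BB 6 64 16) w := by
    apply C_inj (hlt (by norm_num) hw) (mulc_lt' (mulc_lt' (by norm_num) (by norm_num)) hw)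
    rw [← hcj g3 hw1, ← hmul (hmul h64 h16) hw1]
    congr 2
  have d3 : AA 1 w = mulc BB 6 (mulc BB 6 (mulc BB 6 1 y) (AA 1 y)) w := by
    apply C_inj (hlt (by norm_num) hw) (mulc_lt' (mulc_lt' (mulc_lt' (by norm_num) hy) (hlt (by norm_num) hy)) hw)
    rw [← hcj g1 hw1, ← hmul (hmul (hmul h1 hy1) (hcj g1 hy1)) hw1]
    congr 2
  have d4 : mulc BB 6 w w = 0 := by
    apply C_inj (mulc_lt' hw hw) (by norm_num)
    rw [← hmul hw1 hw1, ← hone]
    congr 2
  have d5 : mulc BB 6 y w ≠ mulc BB 6 w y := by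
    intro h
    have h2 : α (C (mulc BB 6 2 32)) = α (C (mulc BB 6 32 2)) := by
      rw [hmul hy1 hw1, hmul hw1 hy1, h]
    have h3 := C_inj (by decide +kernel) (by decide +kernel) (α.injective h2)
    revert h3
    decide +kernel
  have hw' := chk2 y hy' w hw (by
    unfold cond2
    simp only [Bool.and_eq_true, beq_iff_eq, bne_iff_ne]
    exact ⟨⟨⟨⟨d1, d2⟩, d3⟩, d4⟩, d5⟩)
  obtain ⟨s, hs, rfl, rfl⟩ := hw'
  exact ⟨s, hs, hy1, hw1⟩

/-- the words of the elements of `V` in the generators of `P` -/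
def vw : ℕ → List ℕ
  | 0 => []
  | 1 => [1]
  | 2 => [4, 4, 4, 4, 1, 4, 4, 4, 4, 4, 4, 4, 4]
  | _ => [4, 4, 4, 4, 4, 4, 4, 4, 1, 4, 4, 4, 4]

theorem chk_sol : ∀ s ∈ sols, s.2.2 < 4 ∧ (actw AA (vw s.2.2) s.1) % 64 = 2 ∧
    (actw AA (vw s.2.2) s.2.1) % 64 = 32 ∧ (actw AA (vw s.2.2) (AA 1 s.1)) % 64 = 4 := by decide +kernel

theorem chk_vw : ∀ k < 4, (actw AA (vw k) 1) % 64 = 1 ∧ (actw AA (vw k) 8) % 64 = 8 ∧
    (actw AA (vw k) 16) % 64 = 16 := by decide +kernel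

theorem comm_gg (k : ℕ) : gg k * z0 = z0 * gg k := mem_C1.1 (gg_mem k)

/-- **An automorphism trivial on `L` and on `e` is inner.** -/
theorem inn_of_fix {α : MulAut Suz} (hL : ∀ l ∈ L, α l = l) (he : α e0 = e0) : ∃ k : Suz, α = MulAut.conj k := by
  have hz : α z0 = z0 := one_gen (x := .a) rfl hL
  obtain ⟨⟨y, w, k⟩, hs, hy1, hw1⟩ := codes hL he
  obtain ⟨hk, k1, k2, k3⟩ := chk_sol _ hs
  obtain ⟨k4, k5, k6⟩ := chk_vw k hk
  change α (C 2) = C y at hy1
  change α (C 32) = C w at hw1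
  change (actw AA (vw k) y) % 64 = 2 at k1
  change (actw AA (vw k) w) % 64 = 32 at k2
  change (actw AA (vw k) (AA 1 y)) % 64 = 4 at k3
  set p := gw gg (vw k) with hp
  have hpz : p * z0 = z0 * p := AutChain.gw_comm comm_gg _
  have hpc : ∀ c, p * C c * p⁻¹ = C (actw AA (vw k) c) := conj_word conj_AA (vw k)
  -- reduction modulo `z`
  have hmod : ∀ {c d : ℕ}, c % 64 = d % 64 → Eqz z0 (C c) (C d) := fun h => AutChain.eqz_cod rels (n := 6) h
  set β := MulAut.conj p * α with hβ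
  have hβz : β z0 = z0 := AutChain.conj_mul_fix hz hpz
  have hx0 : C 1 = el [.c] := cod_pow (n := 6) (i := 0) (by norm_num)
  have hx3 : C 8 = el [.f] := cod_pow (n := 6) (i := 3) (by norm_num)
  have hx4 : C 16 = el [.g] := cod_pow (n := 6) (i := 4) (by norm_num)
  have h1 : α (C 1) = C 1 := by rw [hx0]; exact one_gen (x := .c) rfl hL
  have h8 : α (C 8) = C 8 := by rw [hx3]; exact one_gen (x := .f) rfl hL
  have h16 : α (C 16) = C 16 := by rw [hx4]; exact one_gen (x := .g) rfl hL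
  have h4 : α (C 4) = C (AA 1 y) := by
    have e1 : C 4 = gg 1 * C 2 * (gg 1)⁻¹ := by rw [conj_AA]; congr 1
    have g1 : α (gg 1) = gg 1 := he
    rw [e1, map_mul, map_mul, map_inv, g1, hy1, conj_AA]
  have hb : ∀ {c d : ℕ}, α (C c) = C d → β (C c) = C (actw AA (vw k) d) := by
    intro c d h
    rw [hβ, MulAut.mul_apply, MulAut.conj_apply, h, hpc]
  have f0 : Eqz z0 (β (C 1)) (C 1) := by rw [hb h1]; exact hmod (by rw [k4])
  have f1 : Eqz z0 (β (C 2)) (C 2) := by rw [hb hy1]; exact hmod (by rw [k1])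
  have f2 : Eqz z0 (β (C 4)) (C 4) := by rw [hb h4]; exact hmod (by rw [k3])
  have f3 : Eqz z0 (β (C 8)) (C 8) := by rw [hb h8]; exact hmod (by rw [k5])
  have f4 : Eqz z0 (β (C 16)) (C 16) := by rw [hb h16]; exact hmod (by rw [k6])
  have f5 : Eqz z0 (β (C 32)) (C 32) := by rw [hb hw1]; exact hmod (by rw [k2])
  have key : ∀ i < 6, Eqz z0 (β (xx i)) (xx i) := by
    intro i hi
    have hxi : ∀ j < 6, xx j = C (2 ^ j) := fun j hj => (cod_pow (n := 6) hj).symm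
    rw [hxi i hi]
    have hc : i = 0 ∨ i = 1 ∨ i = 2 ∨ i = 3 ∨ i = 4 ∨ i = 5 := by omega
    rcases hc with h | h | h | h | h | h
    · rw [h, pow_zero]; exact f0
    · rw [h, pow_one]; exact f1
    · rw [h, show (2 : ℕ) ^ 2 = 4 by norm_num]; exact f2
    · rw [h, show (2 : ℕ) ^ 3 = 8 by norm_num]; exact f3
    · rw [h, show (2 : ℕ) ^ 4 = 16 by norm_num]; exact f4
    · rw [h, show (2 : ℕ) ^ 5 = 32 by norm_num]; exact f5
  have htr := SuzOut.cert.triv hβz key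
  obtain ⟨r, -, hr⟩ := eq_conj large SuzOut.perf SuzOut.n0_in SuzOut.n0_ne SuzOut.gen β hβz (fun x hx => by
    rw [Q0_eq] at hx; exact htr x hx)
  refine ⟨p⁻¹ * r, ?_⟩
  rw [map_mul, map_inv, ← hr, hβ, inv_mul_cancel_left]

end Cfsg.Agent.KFacts.SuzAutL
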