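import Cfsg.Agent.SuzThree.QZero

/-!
The centraliser of the involution `a` in the presented Suzuki group has order 3317760 = 2^13 3^4 5 and is generated
by five words.
-/

set_option autoImplicit false
set_option maxRecDepth 100000
set_option exponentiation.threshold 4000

namespace Cfsg.Agent.KFacts.SuzCent

open Cfsg.Spor Cfsg.Agent.Lib.PermNet Cfsg.Agent.Lib.PermNetOrbit Cfsg.Agent.SporadicRecognition.SuzPhi
  Cfsg.Agent.SporadicRecognition.SuzBound Cfsg.Agent.SporadicRecognition.SuzOrder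
  Cfsg.Agent.SuzThree.Nets Cfsg.Agent.SuzThree.Basic Cfsg.Agent.SuzThree.Elts
  Cfsg.Agent.SuzThree.Elementary Cfsg.Agent.SuzThree.CentA Cfsg.Agent.SuzThree.CentB

theorem card_stab2_le : Nat.card (stabL φ [1575, 0]) ≤ 604800 := by
  have h7 := step7
  have h6 := step6
  have h0 : Nat.card (stabL φ []) ≤ Nat.card Suz :=
    Nat.card_le_card_of_injective _ (Subtype.val_injective)
  rw [card_Suz] at h0
  omega

theorem card_stab2 : Nat.card (stabL φ [1575, 0]) = 604800 := by
  have h5 := step5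
  have h3 := card_stab3_eq
  have h2 := card_stab2_le
  omega

/-- orbit of 1 under the stabiliser of 0 and 1575 -/
noncomputable def U3 : ℕ := sat SporadicRecognition.SuzOrder.ws5 12 (Nat.pow 2 1)
/-- orbit of 16 under the stabiliser of 0, 1575 and 1 -/
noncomputable def O10 : ℕ := sat (gc.map wd) 12 (Nat.pow 2 16)

theorem pcU3 : Nat.beq (pc 11 U3) 315 = true := by decide +kernel
theorem ltU3 : Nat.beq (Nat.shiftRight U3 (Nat.pow 2 11)) 0 = true := by decide +kernel
theorem pcO : Nat.beq (pc 11 (Nat.lor 2 O10)) 11 = true := by decide +kernel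
theorem ltO : Nat.beq (Nat.shiftRight (Nat.lor 2 O10) (Nat.pow 2 11)) 0 = true := by decide +kernel
theorem chkO : Nat.beq (Nat.land F U3) (Nat.lor 2 O10) = true := by decide +kernel

theorem cardU3 : (bits (2 ^ 11) U3).card = 315 := by
  rw [← pc_eq 11 U3 (lt_of_chk ltU3)]; exact Nat.eq_of_beq_eq_true pcU3

theorem cardO : (bits (2 ^ 11) (2 ||| O10)).card = 11 := by
  rw [← pc_eq 11 (2 ||| O10) (lt_of_chk ltO)]; exact Nat.eq_of_beq_eq_true pcO

theorem mem_U3 {g : Suz} (hg : g ∈ stabL φ [1575, 0]) : U3.testBit (φ g 1) = true := by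
  by_contra hc
  have hT : ∀ t ∈ insert (φ g 1) (bits (2 ^ 11) U3), ∃ h ∈ stabL φ [1575, 0], φ h 1 = t := by
    intro t ht
    rcases Finset.mem_insert.1 ht with rfl | ht
    · exact ⟨g, hg, rfl⟩
    · obtain ⟨h, ⟨x, hx, rfl⟩, hh⟩ := sat_point_spec (K := (stabL φ [1575, 0]).map φ) (wsok SporadicRecognition.SuzOrder.ws5_wd)
        (fun w hw => by
          obtain ⟨u, rfl⟩ := SporadicRecognition.SuzOrder.ws5_wd w hw
          refine ⟨el u, ?_, φ_el u⟩
          intro q hq
          rw [φ_el]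
          have h : fixAllB SporadicRecognition.SuzOrder.ws5 [1575, 0] = true := by decide +kernel
          exact fixAllB_spec (wsok SporadicRecognition.SuzOrder.ws5_wd) h q hq _ hw) 12 (mem_bits.1 ht).2
      exact ⟨x, hx, hh⟩
  have h1 := stabL_step φ [1575, 0] 1 _ hT
  rw [Finset.card_insert_of_notMem (fun h => hc (mem_bits.1 h).2), cardU3, card_stab3_eq,
    card_stab2] at h1
  omega

theorem z0_fix2 : φ z0 1 = 1 := (Rep.el [.a]).pt (by decide +kernel)

theorem mem_FU {g : Suz} (hg : g ∈ stabL φ [1575, 0]) (hc : g ∈ C1) :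
    (2 ||| O10).testBit (φ g 1) = true := by
  have h1 := mem_U3 hg
  have h2 : F.testBit (φ g 1) = true :=
    mem_F_of_fix (φ_lt 1 (by norm_num)) (fix_of_C1 hc z0_fix2)
  have h3 : F &&& U3 = 2 ||| O10 := Nat.eq_of_beq_eq_true chkO
  rw [← h3, Nat.testBit_and, h1, h2]; rfl

/-- the stabiliser of 0 and 1575 in the centraliser, mapped to the whole group -/
theorem card_map_stab (qs : List ℕ) :
    Nat.card (stabL (φS C1) qs) = Nat.card (stabL φ qs ⊓ C1 : Subgroup Suz) := by
  have h : (stabL φ qs).subgroupOf C1 = stabL (φS C1) qs := by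
    ext g; rfl
  rw [← h, ← Nat.card_congr (Subgroup.subgroupOfEquivOfLe (inf_le_right :
    stabL φ qs ⊓ C1 ≤ C1)).toEquiv]
  congr 2
  ext g
  simp [Subgroup.mem_subgroupOf]

theorem card_stabS3 : Nat.card (stabL (φS C1) [1, 1575, 0]) = 1920 := by
  rw [card_map_stab, inf_eq_left.2 stab3_le, card_stab3_eq]

theorem fix_one {g : Suz} (hg : g ∈ stabL φ [1575, 0]) (hc : g ∈ C1) : φ g 1 = 1 := by
  by_contra hne
  -- the orbit of 1 has 11 points
  have hO : ∀ t, O10.testBit t = true → ∃ h ∈ stabL φ [1, 1575, 0], φ h 16 = t := by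
    intro t ht
    obtain ⟨h, ⟨x, hx, rfl⟩, hh⟩ := sat_point_spec (K := (cl gc).map φ) (wsokS gc)
      (fun w hw => by
        obtain ⟨u, hu, rfl⟩ := List.mem_map.1 hw
        exact ⟨el u, el_mem_cl hu, φ_el u⟩) 12 ht
    exact ⟨x, gc_le hx, hh⟩
  have hg1 : O10.testBit (φ g 1) = true := by
    have := mem_FU hg hc
    rw [Nat.testBit_or, Bool.or_eq_true] at this
    rcases this with h | h
    · exfalso
      apply hne
      by_contra hne'
      have : (2 : ℕ).testBit (φ g 1) = decide (1 = φ g 1) := by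
        rw [show (2 : ℕ) = 2 ^ 1 by norm_num, Nat.testBit_two_pow]
      rw [this, decide_eq_true_eq] at h
      exact hne' h.symm
    · exact h
  obtain ⟨k, hk, hk16⟩ := hO _ hg1
  have hall : ∀ t ∈ bits (2 ^ 11) (2 ||| O10), ∃ h ∈ stabL (φS C1) [1575, 0], φS C1 h 1 = t := by
    intro t ht
    have h1 := (mem_bits.1 ht).2
    rw [Nat.testBit_or, Bool.or_eq_true] at h1
    rcases h1 with h1 | h1
    · have h2 : (2 : ℕ).testBit t = decide (1 = t) := by
        rw [show (2 : ℕ) = 2 ^ 1 by norm_num, Nat.testBit_two_pow]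
      rw [h2, decide_eq_true_eq] at h1
      subst h1
      refine ⟨1, Subgroup.one_mem _, ?_⟩
      show φ (1 : Suz) 1 = 1
      rw [map_one φ]; rfl
    · obtain ⟨l, hl, hl16⟩ := hO _ h1
      have hkC := stab3_le hk
      have hlC := stab3_le hl
      refine ⟨⟨l * k⁻¹ * g, C1.mul_mem (C1.mul_mem hlC (C1.inv_mem hkC)) hc⟩, ?_, ?_⟩
      · intro q hq
        have hq' : q ∈ [1, 1575, 0] := List.mem_cons_of_mem _ hq
        show φ (l * k⁻¹ * g) q = q
        rw [map_mul, map_mul, map_inv, Equiv.Perm.mul_apply, Equiv.Perm.mul_apply, hg q hq,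
          Equiv.Perm.inv_eq_iff_eq.2 (hk q hq').symm, hl q hq']
      · show φ (l * k⁻¹ * g) 1 = t
        rw [map_mul, map_mul, map_inv, Equiv.Perm.mul_apply, Equiv.Perm.mul_apply,
          Equiv.Perm.inv_eq_iff_eq.2 hk16.symm, hl16]
  have h1 := card_stabL_eq (φS C1) [1575, 0] 1 _ hall (by
    intro h hh
    rw [mem_bits]
    have h2 : φ h 1 < 1782 := φ_lt 1 (by norm_num)
    exact ⟨lt_of_lt_of_le h2 (by norm_num), mem_FU hh h.2⟩)
  rw [cardO, card_stabS3, card_map_stab] at h1
  have h2 : Nat.card (stabL φ [1575, 0] ⊓ C1 : Subgroup Suz) ∣ Nat.card (stabL φ [1575, 0]) :=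
    Subgroup.card_dvd_of_le inf_le_left
  rw [h1, card_stab2] at h2
  revert h2
  decide

/-- **The order of the centraliser.** -/
theorem card_C1 : Nat.card C1 = 3317760 := by
  have h0 : Nat.card (stabL (φS C1) []) = Nat.card C1 := by
    have : stabL (φS C1) [] = ⊤ := by
      rw [eq_top_iff]; intro g _ q hq; exact absurd hq (by simp)
    rw [this, Subgroup.card_top]
  have h1 : Nat.card (stabL (φS C1) [1575, 0]) = 1920 := by
    rw [← card_stabS3]
    congr 2
    apply le_antisymm
    · intro g hg q hq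
      rcases List.mem_cons.1 hq with rfl | hq
      · exact fix_one hg g.2
      · exact hg q hq
    · intro g hg q hq
      exact hg q (List.mem_cons_of_mem _ hq)
  rw [← h0, card_C1_0, card_C1_1, h1]

theorem cl_ga : cl ga = C1 := cl_ga_eq card_C1

end Cfsg.Agent.KFacts.SuzCent
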