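import Cfsg.Agent.KFacts.SuzInvolTab

/-!
# Outer involutory automorphisms of the Suzuki group (helper399)

`outer_invol`: if `al : MulAut Suz`, `al * al = 1` and `al` is not inner, `al` centralises a perfect subgroup which
contains a conjugate of `e` (class 2B).
-/

set_option autoImplicit false
set_option maxRecDepth 100000
set_option exponentiation.threshold 4000

namespace Cfsg.Agent.KFacts.SuzInvol

open Cfsg.Spor Cfsg.Agent.SporadicRecognition.SuzOrder Cfsg.Agent.SuzThree.Basic
  Cfsg.Agent.SuzThree.CentA Cfsg.Agent.SuzThree.QZero Cfsg.Agent.KFacts.SuzCent Cfsg.Agent.LargeExtra.Model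
  Cfsg.Agent.LargeExtra.Pres Cfsg.Agent.KFacts.Codes Cfsg.Agent.KFacts.Orbits Cfsg.Agent.KFacts.SuzR
  Cfsg.Agent.KFacts.SuzSheet Cfsg.Agent.KFacts.SuzLarge Cfsg.Agent.KFacts.SuzOut Cfsg.Agent.Co2Type.Quad
  Cfsg.Agent.KFacts.AutLarge Cfsg.Agent.KFacts.SuzFour Cfsg.Agent.KFacts.SuzRho Cfsg.Agent.KFacts.SuzInvolTab

/-! ### Codes modulo `z0` -/

theorem xor_mod (a b : ℕ) : (a ^^^ b) % 64 = (a % 64) ^^^ (b % 64) := Nat.xor_mod_two_pow (n := 6)

theorem mulc_mod (a b : ℕ) : mulc BB 6 a b % 64 = (a ^^^ b) % 64 := by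
  unfold mulc
  rw [xor_mod]
  split_ifs
  · show (a ^^^ b) % 64 ^^^ 0 = _
    rw [Nat.xor_zero]
  · show (a ^^^ b) % 64 ^^^ 0 = _
    rw [Nat.xor_zero]

theorem aux_mod (I : ℕ → ℕ) (c : ℕ) : ∀ k, aux BB 6 I c k % 64 = lv (fun i => I i % 64) c k := by
  intro k
  induction k with
  | zero => rfl
  | succ k ih =>
    show (if c.testBit k = true then mulc BB 6 (aux BB 6 I c k) (I k) else aux BB 6 I c k) % 64 =
      if c.testBit k = true then lv (fun i => I i % 64) c k ^^^ (I k % 64) else lv (fun i => I i % 64) c k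
    split_ifs
    · rw [mulc_mod, xor_mod, ih]
    · exact ih

theorem act_mod (I : ℕ → ℕ) (c : ℕ) : act BB 6 I c % 64 = lv (fun i => I i % 64) c 6 := by
  rw [act, xor_mod, aux_mod]
  split_ifs
  · show _ ^^^ 0 = _
    rw [Nat.xor_zero]
  · show _ ^^^ 0 = _
    rw [Nat.xor_zero]

theorem lv_congr {I : ℕ → ℕ} {c d : ℕ} : ∀ {k : ℕ}, (∀ i < k, c.testBit i = d.testBit i) → lv I c k = lv I d k := by
  intro k
  induction k with
  | zero => intro _; rfl
  | succ k ih =>
    intro h
    show (if c.testBit k = true then lv I c k ^^^ I k else lv I c k) =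
      if d.testBit k = true then lv I d k ^^^ I k else lv I d k
    rw [ih fun i hi => h i (by omega), h k (by omega)]

theorem lv_mod (I : ℕ → ℕ) (c : ℕ) : lv I (c % 64) 6 = lv I c 6 := by
  apply lv_congr
  intro i hi
  rw [show (64 : ℕ) = 2 ^ 6 by norm_num, Nat.testBit_mod_two_pow, decide_eq_true hi, Bool.true_and]

theorem actw_mod (w : List ℕ) (c : ℕ) : actw AA w c % 64 = w6 w (c % 64) := by
  induction w with
  | nil => rfl
  | cons k w ih =>
    show AA k (actw AA w c) % 64 = lv (fun i => img (II k) i % 64) (w6 w (c % 64)) 6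
    rw [← ih, lv_mod]
    exact act_mod _ _

theorem lv_lt {I : ℕ → ℕ} (hI : ∀ i < 6, I i < 64) (c : ℕ) : ∀ k ≤ 6, lv I c k < 64 := by
  intro k
  induction k with
  | zero => intro _; exact Nat.two_pow_pos 6
  | succ k ih =>
    intro hk
    show (if c.testBit k = true then lv I c k ^^^ I k else lv I c k) < 64
    split_ifs
    · exact Nat.xor_lt_two_pow (n := 6) (ih (by omega)) (hI k (by omega))
    · exact ih (by omega)

/-! ### Elements modulo `z0` -/

theorem C_pow {i : ℕ} (hi : i < 6) : C (2 ^ i) = xx i := cod_pow hi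

theorem xx_mem {i : ℕ} (hi : i < 6) : xx i ∈ Q0 := by rw [← C_pow hi]; exact C_mem _

theorem Eqz.mul {x y x' y' : Suz} (h : Eqz z0 x y) (h' : Eqz z0 x' y') (hy' : y' * z0 = z0 * y') :
    Eqz z0 (x * x') (y * y') := by
  have hzz : z0 * z0 = 1 := large.z_sq
  rcases h with h | h <;> rcases h' with h' | h'
  · left; rw [h, h']
  · right; rw [h, h', mul_assoc]
  · right; rw [h, h', mul_assoc, ← hy', mul_assoc]
  · left
    rw [h, h']
    calc y * z0 * (y' * z0) = y * (z0 * y') * z0 := by group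
      _ = y * (y' * z0) * z0 := by rw [hy']
      _ = y * y' * (z0 * z0) := by group
      _ = y * y' := by rw [hzz, mul_one]

theorem C_xor (a b : ℕ) : Eqz z0 (C a * C b) (C (a ^^^ b)) := by
  rw [C_mul]
  exact eqz_C (mulc_mod a b)

/-- equality modulo `z0` and commuting -/
theorem ot_iff {c d : ℕ} (hc : c < 128) (hd : d < 128) : ot c d = true ↔ C c * C d = C d * C c := by
  rw [C_mul, C_mul]
  constructor
  · intro h; rw [Nat.eq_of_beq_eq_true h]
  · intro h
    rw [ot, C_inj (mulc_lt' hc hd) (mulc_lt' hd hc) h]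
    exact Nat.beq_refl _

theorem comm_eqz {x y x' y' : Suz} (h : Eqz z0 x y) (h' : Eqz z0 x' y') (hy : y * z0 = z0 * y)
    (hy' : y' * z0 = z0 * y') (hc : x * x' = x' * x) : y * y' = y' * y := by
  have hzz : z0 * z0 = 1 := large.z_sq
  rcases h with rfl | rfl <;> rcases h' with rfl | rfl
  · exact hc
  · have : x * y' * z0 = y' * x * z0 := by
      calc x * y' * z0 = x * (y' * z0) := by group
        _ = y' * (z0 * x) := by rw [hc]; group
        _ = y' * x * z0 := by rw [← hy]; group
    exact mul_right_cancel this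
  · have : y * x' * z0 = x' * y * z0 := by
      calc y * x' * z0 = y * (x' * z0) := by group
        _ = y * z0 * x' := by rw [hy']; group
        _ = x' * y * z0 := by rw [hc]; group
    exact mul_right_cancel this
  · calc y * y' = y * y' * (z0 * z0) := by rw [hzz, mul_one]
      _ = y * (y' * z0) * z0 := by group
      _ = y * (z0 * y') * z0 := by rw [hy']
      _ = (y * z0) * (y' * z0) := by group
      _ = (y' * z0) * (y * z0) := hc
      _ = y' * (z0 * y) * z0 := by group
      _ = y' * (y * z0) * z0 := by rw [hy]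
      _ = y' * y * (z0 * z0) := by group
      _ = y' * y := by rw [hzz, mul_one]

theorem ot_congr {c d c' d' : ℕ} (hc : c < 128) (hd : d < 128) (hc' : c' < 128) (hd' : d' < 128)
    (h : c % 64 = c' % 64) (h' : d % 64 = d' % 64) : ot c d = ot c' d' := by
  have key : ∀ {c d c' d' : ℕ}, c < 128 → d < 128 → c' < 128 → d' < 128 → c % 64 = c' % 64 → d % 64 = d' % 64 →
      ot c d = true → ot c' d' = true := by
    intro c d c' d' hc hd hc' hd' h h' h1
    rw [ot_iff hc hd] at h1
    rw [ot_iff hc' hd']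
    exact comm_eqz (eqz_C h) (eqz_C h') (large.comm_z _ (C_mem _)) (large.comm_z _ (C_mem _)) h1
  rw [Bool.eq_iff_iff]
  exact ⟨key hc hd hc' hd' h h', key hc' hd' hc hd h.symm h'.symm⟩

/-- an automorphism on codes modulo `z0` -/
theorem map_lv {α : MulAut Suz} {v : ℕ → ℕ} (hv : ∀ i < 6, Eqz z0 (α (xx i)) (C (v i)))
    (c : ℕ) : ∀ k ≤ 6, Eqz z0 (α (prd xx k c)) (C (lv v c k)) := by
  intro k
  induction k with
  | zero =>
    intro _
    left
    show α 1 = C 0
    rw [map_one, C0]
  | succ k ih =>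
    intro hk
    show Eqz z0 (α (prd xx k c * zp (xx k) (c.testBit k)))
      (C (if c.testBit k = true then lv v c k ^^^ v k else lv v c k))
    by_cases hb : c.testBit k = true
    · rw [if_pos hb, hb]
      show Eqz z0 (α (prd xx k c * xx k)) (C (lv v c k ^^^ v k))
      rw [map_mul]
      exact (Eqz.mul (ih (by omega)) (hv k (by omega)) (large.comm_z _ (C_mem _))).trans large (C_xor _ _)
    · rw [if_neg hb]
      have : zp (xx k) (c.testBit k) = 1 := by
        rw [zp, if_neg hb]
      rw [this, mul_one]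
      exact ih (by omega)

theorem map_C_lv {α : MulAut Suz} (hz : α z0 = z0) {v : ℕ → ℕ} (hv : ∀ i < 6, Eqz z0 (α (xx i)) (C (v i)))
    (c : ℕ) : Eqz z0 (α (C c)) (C (lv v c 6)) := by
  have h : Eqz z0 (C c) (prd xx 6 c) := by
    have hc : prd xx 6 c * z0 = z0 * prd xx 6 c := rels.prd_comm (le_refl 6) c
    show Eqz z0 (zp z0 (c.testBit 6) * prd xx 6 c) (prd xx 6 c)
    unfold zp
    split_ifs
    · right; exact hc.symm
    · left; exact one_mul _
  exact (h.map hz).trans large (map_lv hv c 6 (le_refl 6))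

/-- an automorphism on codes -/
theorem map_aux {α : MulAut Suz} {I : ℕ → ℕ} (hI : ∀ i < 6, α (xx i) = C (I i))
    (c : ℕ) : ∀ k ≤ 6, α (prd xx k c) = C (aux BB 6 I c k) := by
  intro k
  induction k with
  | zero =>
    intro _
    show α 1 = C 0
    rw [map_one, C0]
  | succ k ih =>
    intro hk
    show α (prd xx k c * zp (xx k) (c.testBit k)) =
      C (if c.testBit k = true then mulc BB 6 (aux BB 6 I c k) (I k) else aux BB 6 I c k)
    by_cases hb : c.testBit k = true
    · rw [if_pos hb, hb, ← C_mul, ← ih (by omega), ← hI k (by omega), ← map_mul]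
      rfl
    · rw [if_neg hb, ← ih (by omega)]
      have : zp (xx k) (c.testBit k) = 1 := by
        rw [zp, if_neg hb]
      rw [this, mul_one]

theorem map_act {α : MulAut Suz} (hz : α z0 = z0) {I : ℕ → ℕ} (hI : ∀ i < 6, α (xx i) = C (I i)) (c : ℕ) :
    α (C c) = C (act BB 6 I c) := by
  rw [act, C, C, cod_xor_flag rels, cod, map_mul, map_aux hI c 6 (le_refl 6)]
  congr 1
  unfold zp
  split_ifs
  · exact hz
  · exact map_one α

/-! ### `ρ` and `σ` on codes -/

theorem rho_z : rho z0 = z0 := rho_el [.a]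

theorem rho_xx : ∀ i < 6, rho (xx i) = C (img rl i) := by
  have h1 : ∀ {k j : ℕ} {w : List Suz.Gen}, k < 6 → j < 6 → xx k = el w → xx j = el (w.map sw) → img rl k = 2 ^ j →
      rho (xx k) = C (img rl k) := by
    intro k j w _ hj h1 h2 h3
    rw [h3, C_pow hj, h2, h1, rho_el]
  intro i hi
  interval_cases i
  · exact h1 (k := 0) (j := 0) (w := qw .k1) (by norm_num) (by norm_num) rfl rfl rfl
  · exact h1 (k := 1) (j := 1) (w := qw .k2) (by norm_num) (by norm_num) rfl rfl rfl
  · exact h1 (k := 2) (j := 2) (w := qw .k3) (by norm_num) (by norm_num) rfl rfl rfl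
  · exact h1 (k := 3) (j := 4) (w := qw .k4) (by norm_num) (by norm_num) rfl rfl rfl
  · exact h1 (k := 4) (j := 3) (w := qw .k5) (by norm_num) (by norm_num) rfl rfl rfl
  · exact h1 (k := 5) (j := 5) (w := qw .k6) (by norm_num) (by norm_num) rfl rfl rfl

theorem sigma_z : sigma z0 = z0 := by
  rw [sigma, MulAut.mul_apply, rho_z, MulAut.conj_apply]
  have h : el [.d] * z0 = z0 * el [.d] := mem_C1.1 d_mem
  rw [h, mul_inv_cancel_right]

theorem sigma_xx : ∀ i < 6, sigma (xx i) = C (img sl i) := by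
  intro i hi
  rw [sigma, MulAut.mul_apply, rho_xx i hi, MulAut.conj_apply]
  have h := conj_AA 0 (img rl i)
  have h2 : gg 0 = el [.d] := rfl
  rw [h2] at h
  have hdec : ∀ i < 6, AA 0 (img rl i) = img sl i := by decide +kernel
  rw [h, hdec i hi]

/-- `ρ` or `σ` -/
noncomputable def st (s : Bool) : MulAut Suz := cond s sigma rho

theorem st_z (s : Bool) : st s z0 = z0 := by cases s; exacts [rho_z, sigma_z]

theorem st_sq (s : Bool) : st s * st s = 1 := by cases s; exacts [rho_sq, sigma_sq]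

theorem st_st (s : Bool) (x : Suz) : st s (st s x) = x := congrArg (fun a : MulAut Suz => a x) (st_sq s)

theorem st_xx (s : Bool) : ∀ i < 6, st s (xx i) = C (img (cond s sl rl) i) := by
  cases s; exacts [rho_xx, sigma_xx]

theorem st_good (s : Bool) : Good (st s) := by cases s; exacts [good_rho, good_sigma]

theorem st_act (s : Bool) (c : ℕ) : st s (C c) = C (act BB 6 (img (cond s sl rl)) c) := map_act (st_z s) (st_xx s) c

theorem st_mem (s : Bool) {y : Suz} (hy : y ∈ Q0) : st s y ∈ Q0 := by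
  rw [← C_code hy, st_act]; exact C_mem _

theorem conj_st {β : MulAut Suz} (t : Suz) : MulAut.conj (β t) = β * MulAut.conj t * β⁻¹ := by
  ext y
  simp [MulAut.conj_apply]

/-- `p = f g` -/
theorem st_p (s : Bool) : el [.f, .g] * (st s (el [.f, .g]))⁻¹ = z0 := by
  cases s
  · show el [.f, .g] * (rho (el [.f, .g]))⁻¹ = el [.a]
    rw [rho_el, ← el_reverse, ← el_append]
    exact eq_of_reps (Rep.el _) (Rep.el _) (by decide +kernel)
  · show el [.f, .g] * (sigma (el [.f, .g]))⁻¹ = el [.a]
    rw [sigma_el, ← el_reverse, ← el_append]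
    exact eq_of_reps (Rep.el _) (Rep.el _) (by decide +kernel)

theorem st_inv (s : Bool) : (st s)⁻¹ = st s := inv_eq_of_mul_eq_one_left (st_sq s)

/-- a property of automorphisms invariant under inner conjugation and shared by `ρ` and `σ` -/
structure Inv (Q : MulAut Suz → Prop) : Prop where
  conj : ∀ (al : MulAut Suz) (g : Suz), Q al → Q (MulAut.conj g * al * (MulAut.conj g)⁻¹)
  st : ∀ s, Q (st s)

theorem Inv.iff {Q : MulAut Suz → Prop} (h : Inv Q) (al : MulAut Suz) (g : Suz) :
    Q (MulAut.conj g * al * (MulAut.conj g)⁻¹) ↔ Q al := by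
  constructor
  · intro h0
    have h1 := h.conj _ g⁻¹ h0
    have e : MulAut.conj g⁻¹ * (MulAut.conj g * al * (MulAut.conj g)⁻¹) * (MulAut.conj g⁻¹)⁻¹ = al := by
      rw [map_inv]; group
    rwa [e] at h1
  · exact fun h0 => h.conj _ g h0

theorem inv_good : Inv Good where
  conj _ g h := h.conj g
  st := st_good

theorem good_z {Q : MulAut Suz → Prop} (hQ : Inv Q) (s : Bool) : Q (st s * MulAut.conj z0) := by
  have h := hQ.conj _ (el [.f, .g]) (hQ.st s)
  have e : MulAut.conj (el [.f, .g]) * st s * (MulAut.conj (el [.f, .g]))⁻¹ = st s * MulAut.conj z0 := by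
    have h1 : MulAut.conj (st s (el [.f, .g])) = st s * MulAut.conj (el [.f, .g]) * (st s)⁻¹ := conj_st _
    have h2 : MulAut.conj z0 = MulAut.conj (el [.f, .g]) * (st s * MulAut.conj (el [.f, .g]) * (st s)⁻¹)⁻¹ := by
      rw [← h1, ← map_inv, ← map_mul, st_p]
    have h3 : MulAut.conj z0 = st s * MulAut.conj z0 * (st s)⁻¹ := by
      rw [← conj_st, st_z]
    have h4 : st s * MulAut.conj z0 = MulAut.conj z0 * st s := by
      conv_rhs => rw [h3]
      group
    rw [h4, h2]
    group
  rwa [e] at h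

/-! ### The centre of `Suz` -/

theorem center_triv {u : Suz} (hu : ∀ y, u * y = y * u) : u = 1 := by
  rcases Cfsg.Agent.KFacts.LargeE.cent_eq large (hu z0) (fun y _ => hu y) with h | h
  · exact h
  · exfalso
    apply n0_ne
    rw [← h, ← hu, mul_inv_cancel_right]

theorem conj_eq_one {u : Suz} (h : MulAut.conj u = 1) : u = 1 := by
  apply center_triv
  intro y
  have h1 := congrArg (fun a : MulAut Suz => a y) h
  have h2 : u * y * u⁻¹ = y := h1
  exact mul_inv_eq_iff_eq_mul.1 h2

/-! ### Stage 2 -/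

theorem cj_conj (c d : ℕ) : C c * C d * (C c)⁻¹ = C (cj c d) := by
  have h1 : C (cj c d) = zp z0 (bf BB 6 c d ^^ bf BB 6 d c) * C d := cod_xor_flag rels _ _
  rw [mul_inv_eq_iff_eq_mul, h1, mul_assoc, C_mul, C_mul]
  have h2 : ∀ a b, C (mulc BB 6 a b) = zp z0 (bf BB 6 a b) * C (a ^^^ b) := fun a b =>
    cod_xor_flag rels (a ^^^ b) (bf BB 6 a b)
  rw [h2, h2, ← mul_assoc, ← zp_xor large.z_sq, Nat.xor_comm d c]
  congr 2
  cases bf BB 6 c d <;> cases bf BB 6 d c <;> rfl

/-- the extended generators -/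
noncomputable def gR (k : ℕ) : Suz := if k < 5 then gg k else C (2 ^ (k - 5))

theorem conj_AR (k c : ℕ) : gR k * C c * (gR k)⁻¹ = C (AR k c) := by
  unfold gR AR
  split_ifs
  · exact conj_AA k c
  · exact cj_conj _ _

theorem gR_comm (k : ℕ) : gR k * z0 = z0 * gR k := by
  unfold gR
  split_ifs
  · exact mem_C1.1 (gg_mem k)
  · exact large.comm_z _ (C_mem _)

theorem gw_gR (w : List ℕ) : gw gR w * z0 = z0 * gw gR w := AutChain.gw_comm gR_comm w

theorem gw_gg (w : List ℕ) : gw gg w * z0 = z0 * gw gg w := AutChain.gw_comm (fun k => mem_C1.1 (gg_mem k)) w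

theorem fix_Q0 {α : MulAut Suz} (hz : α z0 = z0) (hx : ∀ i < 6, α (xx i) = xx i) : ∀ y ∈ Q0, α y = y := by
  intro y hy
  rw [← C_code hy, map_act hz (I := fun i => 2 ^ i) (fun i hi => by rw [hx i hi, C_pow hi])]
  rw [← map_act (α := (1 : MulAut Suz)) rfl (I := fun i => 2 ^ i) (fun i hi => by
    rw [C_pow hi]; rfl)]
  rfl

theorem good_of_translate {Q : MulAut Suz → Prop} (hQ : Inv Q) (s : Bool) {r : Suz} (hr : r ∈ Q0)
    (hsq : (st s * MulAut.conj r) * (st s * MulAut.conj r) = 1) : Q (st s * MulAut.conj r) := by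
  -- the code of `r`
  have h1 : st s r * r = 1 := by
    apply conj_eq_one
    have h2 : MulAut.conj (st s r) = st s * MulAut.conj r * (st s)⁻¹ := conj_st r
    rw [map_mul, h2, st_inv]
    rw [← hsq]; group
  have hc := code_lt r
  have hcr : C (code r) = r := C_code hr
  have h3 : mulc BB 6 (act BB 6 (img (cond s sl rl)) (code r)) (code r) = 0 := by
    have h4 : C (mulc BB 6 (act BB 6 (img (cond s sl rl)) (code r)) (code r)) = C 0 := by
      rw [← C_mul, ← st_act, hcr, h1, C0]
    have h5 : act BB 6 (img (cond s sl rl)) (code r) < 128 := by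
      have : ∀ c < 128, act BB 6 (img rl) c < 128 ∧ act BB 6 (img sl) c < 128 := by decide +kernel
      cases s
      · exact (this _ hc).1
      · exact (this _ hc).2
    exact C_inj (mulc_lt' h5 hc) (by norm_num) h4
  obtain ⟨w, hw⟩ := stage2 hc h3
  set g := gw gR w with hg
  have hgz : g * z0 = z0 * g := gw_gR w
  set β := st s * MulAut.conj r with hβ
  have hgC : ∀ c, g * C c * g⁻¹ = C (actw AR w c) := fun c => conj_word conj_AR w c
  have key : ∀ i < 6, g * β (xx i) * g⁻¹ = st s (g * xx i * g⁻¹) := by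
    intro i hi
    have e1 : β (xx i) = C (act BB 6 (img (cond s sl rl)) (cj (code r) (2 ^ i))) := by
      rw [hβ, MulAut.mul_apply, MulAut.conj_apply, ← st_act, ← cj_conj, hcr, C_pow hi]
    rw [e1, hgC, hw i hi, ← st_act, ← hgC, C_pow hi]
  -- the automorphism `α = g⁻¹ st g β`
  set α : MulAut Suz := (MulAut.conj g)⁻¹ * st s * MulAut.conj g * β with hα
  have hαa : ∀ y, α y = g⁻¹ * st s (g * β y * g⁻¹) * g := by
    intro y
    rw [hα, ← map_inv]
    simp only [MulAut.mul_apply, MulAut.conj_apply, inv_inv]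
  have hβz : β z0 = z0 := by
    rw [hβ, MulAut.mul_apply, MulAut.conj_apply, large.comm_z r hr, mul_inv_cancel_right, st_z]
  have hαz : α z0 = z0 := by
    rw [hαa, hβz, hgz, mul_inv_cancel_right, st_z, mul_assoc, ← hgz]; group
  have hαx : ∀ i < 6, α (xx i) = xx i := by
    intro i hi
    rw [hαa, key i hi, st_st]; group
  have hβe : β = (MulAut.conj g)⁻¹ * st s * MulAut.conj g * α := by
    rw [hα]
    calc β = (MulAut.conj g)⁻¹ * (st s * st s) * MulAut.conj g * β := by rw [st_sq]; group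
      _ = _ := by group
  rcases t1s α (fix_Q0 hαz hαx) with h | h
  · have h5 := hQ.conj _ g⁻¹ (hQ.st s)
    rw [hβe, h, mul_one]
    rwa [map_inv, inv_inv] at h5
  · have h5 := hQ.conj _ g⁻¹ (good_z hQ s)
    rw [hβe, h]
    rw [map_inv, inv_inv] at h5
    have h6 : MulAut.conj g * MulAut.conj z0 = MulAut.conj z0 * MulAut.conj g := by
      rw [← map_mul, ← map_mul, hgz]
    have h7 : (MulAut.conj g)⁻¹ * st s * MulAut.conj g * MulAut.conj z0 =
        (MulAut.conj g)⁻¹ * (st s * MulAut.conj z0) * MulAut.conj g := by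
      calc (MulAut.conj g)⁻¹ * st s * MulAut.conj g * MulAut.conj z0
          = (MulAut.conj g)⁻¹ * st s * (MulAut.conj g * MulAut.conj z0) := by group
        _ = _ := by rw [h6]; group
    rw [h7]
    exact h5

/-! ### Stage 1 -/

theorem outer_fixed {Q : MulAut Suz → Prop} (hQ : Inv Q) {τ : MulAut Suz} (hz : τ z0 = z0) (h8 : τ (C 8) = C 8) (hτ : τ * τ = 1)
    (hout : τ ∉ (MulAut.conj (G := Suz)).range) : Q τ := by
  have hττ : ∀ y, τ (τ y) = y := fun y => congrArg (fun a : MulAut Suz => a y) hτ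
  -- the codes
  set t : ℕ → ℕ := fun i => code (τ (xx i)) with ht
  set v : ℕ → ℕ := fun i => t i % 64 with hv
  have htl : ∀ i, t i < 128 := fun i => code_lt _
  have hvl : ∀ i, v i < 64 := fun i => Nat.mod_lt _ (by norm_num)
  have hvt : ∀ i, t i % 64 = v i % 64 := fun i => (Nat.mod_mod _ _).symm
  have hmem : ∀ {i}, i < 6 → τ (xx i) ∈ Q0 := fun hi =>
    AutLarge.map_mem large irr' exists_nc hz (xx_mem hi)
  have hCt : ∀ {i}, i < 6 → C (t i) = τ (xx i) := fun hi => C_code (hmem hi)
  have hCv : ∀ {i}, i < 6 → Eqz z0 (τ (xx i)) (C (v i)) := fun {i} hi => by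
    rw [← hCt hi]; exact eqz_C (hvt i)
  have h3 : v 3 = 8 := by
    have : t 3 = 8 := by
      show code (τ (xx 3)) = 8
      have h83 : C 8 = xx 3 := C_pow (i := 3) (by norm_num)
      rw [← h83, h8, code_C (by norm_num)]
    show t 3 % 64 = 8
    rw [this]
  -- singular
  have hsg : ∀ {i}, i < 6 → v i ∈ sg := by
    intro i hi
    have hp : 2 ^ i < 64 ∧ 2 ^ i ≠ 0 ∧ mulc BB 6 (2 ^ i) (2 ^ i) = 0 := by
      revert hi; revert i; decide +kernel
    have h1 := img_sq hz (c := 2 ^ i) (by omega) (by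
      rw [Nat.mod_eq_of_lt hp.1]; exact hp.2.1) hp.2.2
    rw [C_pow hi] at h1
    exact mem_sg _ (hvl i) h1.1 (sq_code _ (htl i) h1.2)
  -- commutation
  have hot : ∀ {i j}, i < 6 → j < 6 → ot (v i) (v j) = ot (2 ^ i) (2 ^ j) := by
    intro i j hi hj
    have hp : ∀ {k}, k < 6 → 2 ^ k < 128 := fun {k} hk => by
      revert hk; revert k; decide
    rw [ot_congr (c' := t i) (d' := t j) (by have := hvl i; omega) (by have := hvl j; omega) (htl i) (htl j)
      (hvt i).symm (hvt j).symm, Bool.eq_iff_iff, ot_iff (htl i) (htl j), ot_iff (hp hi) (hp hj), hCt hi, hCt hj,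
      C_pow hi, C_pow hj, ← map_mul, ← map_mul]
    exact ⟨fun h => τ.injective h, fun h => by rw [h]⟩
  -- involution
  have hinv : ∀ i < 6, lv v (v i) 6 = 2 ^ i := by
    intro i hi
    have h1 : Eqz z0 (τ (C (v i))) (C (lv v (v i) 6)) := map_C_lv hz (fun i hi => hCv hi) _
    have h2 : Eqz z0 (τ (τ (xx i))) (τ (C (v i))) := (hCv hi).map hz
    rw [hττ] at h2
    have h4 := code_eqz (xx_mem hi) (C_mem _) (h2.trans large h1)
    have hl := lv_lt (I := v) (fun i _ => hvl i) (v i) 6 (le_refl 6)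
    have hp : 2 ^ i < 64 := (by decide : ∀ i < 6, 2 ^ i < 64) i hi
    rw [← C_pow hi, code_C (by omega), code_C (by omega), Nat.mod_eq_of_lt hp, Nat.mod_eq_of_lt hl] at h4
    exact h4.symm
  -- the list
  set L : List ℕ := [v 0, v 1, v 2, 8, v 4, v 5] with hL
  have himg : ∀ i < 6, img L i = v i := by
    intro i hi
    interval_cases i
    · rfl
    · rfl
    · rfl
    · exact h3.symm
    · rfl
    · rfl
  have hlv : ∀ c k, k ≤ 6 → lv (img L) c k = lv v c k := by
    intro c k
    induction k with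
    | zero => intro _; rfl
    | succ k ih =>
      intro hk
      show (if c.testBit k = true then lv (img L) c k ^^^ img L k else lv (img L) c k) =
        if c.testBit k = true then lv v c k ^^^ v k else lv v c k
      rw [ih (by omega), himg k (by omega)]
  have hp : ∀ {i j : ℕ} {b : Bool}, i < 6 → j < 6 → ot (2 ^ i) (2 ^ j) = b → ot (v i) (v j) = b := by
    intro i j b hi hj h
    rw [hot hi hj, h]
  have hleaf : leaf L = true := by
    apply leaf_of (hsg (by norm_num)) (hsg (by norm_num)) (hsg (by norm_num)) (hsg (by norm_num))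
      (hsg (by norm_num))
    · rw [← h3]; exact hp (by norm_num) (by norm_num) (by decide +kernel)
    · rw [← h3]; exact hp (by norm_num) (by norm_num) (by decide +kernel)
    · exact hp (by norm_num) (by norm_num) (by decide +kernel)
    · rw [← h3]; exact hp (by norm_num) (by norm_num) (by decide +kernel)
    · exact hp (by norm_num) (by norm_num) (by decide +kernel)
    · rw [← h3]; exact hp (by norm_num) (by norm_num) (by decide +kernel)
    · exact hp (by norm_num) (by norm_num) (by decide +kernel)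
    · rw [← h3]; exact hp (by norm_num) (by norm_num) (by decide +kernel)
    · exact hp (by norm_num) (by norm_num) (by decide +kernel)
    · exact hp (by norm_num) (by norm_num) (by decide +kernel)
    · exact hp (by norm_num) (by norm_num) (by decide +kernel)
    · exact hp (by norm_num) (by norm_num) (by decide +kernel)
    · exact hp (by norm_num) (by norm_num) (by decide +kernel)
    · exact hp (by norm_num) (by norm_num) (by decide +kernel)
    · exact hp (by norm_num) (by norm_num) (by decide +kernel)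
  have hgC : ∀ (w : List ℕ) (c : ℕ), gw gg w * C c * (gw gg w)⁻¹ = C (actw AA w c) := fun w c =>
    conj_word conj_AA w c
  have htriv : ∀ {α : MulAut Suz}, α z0 = z0 → (∀ i < 6, Eqz z0 (α (xx i)) (xx i)) → ∃ r ∈ Q0, α = MulAut.conj r := by
    intro α hα hx
    apply AutLarge.eq_conj large perf n0_in n0_ne gen α hα
    rw [Q0_eq]
    exact cert.triv hα hx
  rcases stage1 hleaf (fun i hi => by rw [himg i hi, hlv _ _ (le_refl 6)]; exact hinv i hi) with ⟨w, hw⟩ | ⟨s, w, hw⟩
  · -- `τ` is inner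
    exfalso
    apply hout
    set g := gw gg w with hg
    have hgz : g * z0 = z0 * g := gw_gg w
    obtain ⟨r, _, hr⟩ := htriv (α := (MulAut.conj g)⁻¹ * τ) (by
      rw [MulAut.mul_apply, hz, ← map_inv, MulAut.conj_apply, inv_inv, mul_assoc, ← hgz]; group) (by
      intro i hi
      rw [MulAut.mul_apply, ← map_inv, MulAut.conj_apply, inv_inv]
      have e1 : Eqz z0 (τ (xx i)) (g * xx i * g⁻¹) := by
        rw [← C_pow (i := i) hi, hgC]
        refine ((by rw [C_pow hi]; exact hCv hi : Eqz z0 (τ (C (2 ^ i))) (C (v i)))).trans large (eqz_C ?_)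
        have hpi : 2 ^ i < 64 := (by decide : ∀ i < 6, 2 ^ i < 64) i hi
        rw [actw_mod, Nat.mod_eq_of_lt hpi, hw i hi, himg i hi, Nat.mod_eq_of_lt (hvl i)]
      have hgi : g⁻¹ * z0 = z0 * g⁻¹ := by
        rw [inv_mul_eq_iff_eq_mul, ← mul_assoc, hgz, mul_assoc, mul_inv_cancel, mul_one]
      have e2 := e1.conj hgi
      have e3 : g⁻¹ * (g * xx i * g⁻¹) * g⁻¹⁻¹ = xx i := by group
      rw [e3, inv_inv] at e2
      exact e2)
    refine ⟨g * r, ?_⟩
    rw [map_mul, ← hr]; group
  · -- `τ` is conjugate to a translate of `st s`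
    set g := gw gg w with hg
    have hgz : g * z0 = z0 * g := gw_gg w
    have hgi : g⁻¹ * z0 = z0 * g⁻¹ := by
      rw [inv_mul_eq_iff_eq_mul, ← mul_assoc, hgz, mul_assoc, mul_inv_cancel, mul_one]
    set β : MulAut Suz := MulAut.conj g * τ * (MulAut.conj g)⁻¹ with hβ
    obtain ⟨r, hrQ, hr⟩ := htriv (α := (MulAut.conj g)⁻¹ * st s * MulAut.conj g * τ) (by
      rw [← map_inv]
      simp only [MulAut.mul_apply, MulAut.conj_apply, inv_inv]
      rw [hz, hgz, mul_inv_cancel_right, st_z, mul_assoc, ← hgz]; group) (by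
      intro i hi
      rw [← map_inv]
      simp only [MulAut.mul_apply, MulAut.conj_apply, inv_inv]
      -- `g τ(x) g⁻¹ ~ st (g x g⁻¹)`
      have e1 : Eqz z0 (g * τ (xx i) * g⁻¹) (st s (g * xx i * g⁻¹)) := by
        refine ((hCv hi).conj hgz).trans large ?_
        rw [hgC, ← C_pow (i := i) hi, hgC, st_act]
        apply eqz_C
        have hpi : 2 ^ i < 64 := (by decide : ∀ i < 6, 2 ^ i < 64) i hi
        rw [actw_mod, Nat.mod_eq_of_lt (hvl i), act_mod, ← lv_mod, actw_mod, Nat.mod_eq_of_lt hpi, ← himg i hi, hw i hi]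
      have e2 := (e1.map (st_z s)).conj hgi
      rw [st_st] at e2
      have e3 : g⁻¹ * (g * xx i * g⁻¹) * g⁻¹⁻¹ = xx i := by group
      rwa [e3, inv_inv] at e2)
    have hβr : β = st s * MulAut.conj (g * r * g⁻¹) := by
      have e1 : MulAut.conj (g * r * g⁻¹) = MulAut.conj g * MulAut.conj r * (MulAut.conj g)⁻¹ := by
        rw [map_mul, map_mul, map_inv]
      rw [e1, ← hr, hβ]
      calc MulAut.conj g * τ * (MulAut.conj g)⁻¹ = (st s * st s) * (MulAut.conj g * τ * (MulAut.conj g)⁻¹) := by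
            rw [st_sq, one_mul]
        _ = _ := by group
    have hgr : g * r * g⁻¹ ∈ Q0 := large.conj_mem g hgz r hrQ
    have hββ : β * β = 1 := by
      rw [hβ]
      calc MulAut.conj g * τ * (MulAut.conj g)⁻¹ * (MulAut.conj g * τ * (MulAut.conj g)⁻¹)
          = MulAut.conj g * (τ * τ) * (MulAut.conj g)⁻¹ := by group
        _ = 1 := by rw [hτ]; group
    have h5 : Q β := by
      rw [hβr]
      exact good_of_translate hQ s hgr (by rw [← hβr]; exact hββ)
    exact (hQ.iff _ g).1 h5

/-- **Outer involutory automorphisms.** -/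
theorem outer_ind {Q : MulAut Suz → Prop} (hQ : Inv Q) {al : MulAut Suz} (hal : al * al = 1)
    (hout : al ∉ (MulAut.conj (G := Suz)).range) : Q al := by
  have haa : ∀ y, al (al y) = y := fun y => congrArg (fun a : MulAut Suz => a y) hal
  obtain ⟨g, hg⟩ := exists_fixed_conj large odd_index al hal
  -- conjugates of outer involutory automorphisms
  have hcj : ∀ (k : Suz) (β : MulAut Suz), β * β = 1 → β ∉ (MulAut.conj (G := Suz)).range →
      (MulAut.conj k * β * (MulAut.conj k)⁻¹) * (MulAut.conj k * β * (MulAut.conj k)⁻¹) = 1 ∧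
      MulAut.conj k * β * (MulAut.conj k)⁻¹ ∉ (MulAut.conj (G := Suz)).range := by
    intro k β hβ hβo
    constructor
    · calc MulAut.conj k * β * (MulAut.conj k)⁻¹ * (MulAut.conj k * β * (MulAut.conj k)⁻¹)
          = MulAut.conj k * (β * β) * (MulAut.conj k)⁻¹ := by group
        _ = 1 := by rw [hβ]; group
    · rintro ⟨x, hx⟩
      apply hβo
      refine ⟨k⁻¹ * x * k, ?_⟩
      rw [map_mul, map_mul, hx, map_inv]; group
  obtain ⟨h1, h2⟩ := hcj g⁻¹ al hal hout
  set β : MulAut Suz := MulAut.conj g⁻¹ * al * (MulAut.conj g⁻¹)⁻¹ with hβ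
  have hβa : ∀ y, β y = g⁻¹ * al (g * y * g⁻¹) * g := by
    intro y
    rw [hβ, ← map_inv]
    simp only [MulAut.mul_apply, MulAut.conj_apply, inv_inv]
  have hβz : β z0 = z0 := by rw [hβa, hg]; group
  obtain ⟨y, hy, hy1, hyz, hyy, hfix⟩ := exists_fixed_y hβz h1
  -- conjugate `y` to `C 8`
  have hyC : C (code y) = y := C_code hy
  have hc2 : mulc BB 6 (code y) (code y) = 0 := by
    apply C_inj (mulc_lt' (code_lt _) (code_lt _)) (by norm_num)
    rw [← C_mul, hyC, hyy, C0]
  have hc0 : code y % 64 ≠ 0 := by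
    intro h0
    have h2 : Eqz z0 (C (code y)) (C 0) := eqz_C (by rw [h0])
    rw [hyC, C0] at h2
    rcases h2 with h2 | h2
    · exact hy1 h2
    · rw [one_mul] at h2; exact hyz h2
  obtain ⟨p, hp, hpc⟩ := conj_one (code_lt y) hc0 hc2
  obtain ⟨p', hp', hpc'⟩ := conj_one (c := 8) (by norm_num) (by norm_num) (by decide +kernel)
  have hpi : p⁻¹ * z0 = z0 * p⁻¹ := by
    rw [inv_mul_eq_iff_eq_mul, ← mul_assoc, hp, mul_assoc, mul_inv_cancel, mul_one]
  set u := p' * p⁻¹ with hu
  have huz : u * z0 = z0 * u := by rw [hu, mul_assoc, hpi, ← mul_assoc, hp', mul_assoc]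
  have huy : u * y * u⁻¹ = C 8 := by
    rw [← hyC, ← hpc, ← hpc', hu]; group
  obtain ⟨h3, h4⟩ := hcj u β h1 h2
  have h5 : Q (MulAut.conj u * β * (MulAut.conj u)⁻¹) := by
    refine outer_fixed hQ ?_ ?_ h3 h4
    · rw [← map_inv]
      simp only [MulAut.mul_apply, MulAut.conj_apply, inv_inv]
      have e : u⁻¹ * z0 * u = z0 := by rw [mul_assoc, ← huz]; group
      rw [e, hβz, huz, mul_inv_cancel_right]
    · rw [← map_inv]
      simp only [MulAut.mul_apply, MulAut.conj_apply, inv_inv]
      have e : u⁻¹ * C 8 * u = y := by rw [← huy]; group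
      rw [e, hfix, huy]
  exact (hQ.iff _ g⁻¹).1 ((hQ.iff _ u).1 h5)

theorem outer_good {al : MulAut Suz} (hal : al * al = 1) (hout : al ∉ (MulAut.conj (G := Suz)).range) : Good al :=
  outer_ind inv_good hal hout

theorem sigma_eq : sigma = MulAut.conj (el [.e, .d]) * (rho * MulAut.conj (PresentedGroup.of Suz.Gen.e)) *
    (MulAut.conj (el [.e, .d]))⁻¹ := by
  have h1 : MulAut.conj (rho (el [.e, .d])) = rho * MulAut.conj (el [.e, .d]) * rho⁻¹ := conj_st _
  have h2 : rho (el [.e, .d]) = el [.e, .d] := rho_el [.e, .d]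
  have h3 : MulAut.conj (rho (el [.e])) = rho * MulAut.conj (el [.e]) * rho⁻¹ := conj_st _
  have h4 : rho (el [.e]) = el [.e] := rho_el [.e]
  have h5 : el [.d] = el [.e, .d] * el [.e] * (el [.e, .d])⁻¹ := by
    rw [← el_reverse, ← el_append, ← el_append]
    exact eq_of_reps (Rep.el _) (Rep.el _) (by decide +kernel)
  rw [h2] at h1
  rw [h4] at h3
  rw [← el_one, sigma, h5, map_mul, map_mul, map_inv]
  have h6 : rho * MulAut.conj (el [.e]) = MulAut.conj (el [.e]) * rho := by
    conv_rhs => rw [h3]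
    group
  have h7 : rho * MulAut.conj (el [.e, .d]) = MulAut.conj (el [.e, .d]) * rho := by
    conv_rhs => rw [h1]
    group
  have h8 : rho * (MulAut.conj (el [.e, .d]))⁻¹ = (MulAut.conj (el [.e, .d]))⁻¹ * rho := by
    rw [eq_inv_mul_iff_mul_eq, ← mul_assoc, ← h7]; group
  rw [h6]
  calc MulAut.conj (el [.e, .d]) * MulAut.conj (el [.e]) * (MulAut.conj (el [.e, .d]))⁻¹ * rho
      = MulAut.conj (el [.e, .d]) * MulAut.conj (el [.e]) * ((MulAut.conj (el [.e, .d]))⁻¹ * rho) := by group
    _ = _ := by rw [← h8]; group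

/-- **Classification of the outer involutory automorphisms**: `ρ` (2C) and `ρ ∘ conj e` (2D). -/
theorem outer {α : MulAut Suz} (h2 : α * α = 1) (ho : ∀ s, α ≠ MulAut.conj s) :
    (∃ g, α = MulAut.conj g * rho * (MulAut.conj g)⁻¹) ∨
    (∃ g, α = MulAut.conj g * (rho * MulAut.conj (PresentedGroup.of Suz.Gen.e)) * (MulAut.conj g)⁻¹) := by
  refine outer_ind (Q := fun α => (∃ g, α = MulAut.conj g * rho * (MulAut.conj g)⁻¹) ∨
    (∃ g, α = MulAut.conj g * (rho * MulAut.conj (PresentedGroup.of Suz.Gen.e)) * (MulAut.conj g)⁻¹)) ⟨?_, ?_⟩ h2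
    (fun ⟨s, hs⟩ => ho s hs.symm)
  · rintro al g (⟨k, rfl⟩ | ⟨k, rfl⟩)
    · left; exact ⟨g * k, by rw [map_mul]; group⟩
    · right; exact ⟨g * k, by rw [map_mul]; group⟩
  · intro s
    cases s
    · left; exact ⟨1, by rw [map_one]; show rho = _; group⟩
    · right; exact ⟨el [.e, .d], sigma_eq⟩

/-- **Outer involutory automorphisms of `Suz`**: they centralise a perfect subgroup with an involution of class 2B. -/
theorem outer_invol {al : MulAut Suz} (hal : al * al = 1) (hout : al ∉ (MulAut.conj (G := Suz)).range) :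
    ∃ X : Subgroup Suz, ⁅X, X⁆ = X ∧ (∀ x ∈ X, al x = x) ∧ ∃ g : Suz, g * PresentedGroup.of Suz.Gen.e * g⁻¹ ∈ X := by
  obtain ⟨X, h1, h2, g, h3⟩ := outer_good hal hout
  exact ⟨X, h1, h2, g, by rwa [el_one] at h3⟩

end Cfsg.Agent.KFacts.SuzInvol
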