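import Cfsg.Agent.KFacts.SuzTwoB
import Cfsg.Agent.KFacts.SuzInvol
import Cfsg.Agent.SuzThree.CentCard

/-!
# The fixed points of the outer involutions of the Suzuki group

`|C(ρ)| ∣ 1209600` (`J₂:2`) and `|C(ρ∘e)| = 190080` (`M₁₂:2`); in particular neither is divisible by 81.
-/

set_option autoImplicit false
set_option maxRecDepth 100000
set_option exponentiation.threshold 4000

namespace Cfsg.Agent.KFacts.SuzFix

open Cfsg.Spor Cfsg.Agent.Lib.PermNet Cfsg.Agent.Lib.PermNetOrbit Cfsg.Agent.SporadicRecognition.SuzPhi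
  Cfsg.Agent.SporadicRecognition.SuzBound Cfsg.Agent.SporadicRecognition.SuzOrder
  Cfsg.Agent.SuzThree.Nets Cfsg.Agent.SuzThree.Basic Cfsg.Agent.SuzThree.Elts
  Cfsg.Agent.SuzThree.CentA Cfsg.Agent.SuzThree.CentB Cfsg.Agent.SuzThree.CentCard
  Cfsg.Agent.SuzThree.QZero Cfsg.Agent.KFacts.SuzCent Cfsg.Agent.KFacts.SuzLFour
  Cfsg.Agent.KFacts.SuzTwoB Cfsg.Agent.KFacts.SuzRho
open Cfsg.Agent.SporRec.SuzCl (wtr wtr_spec)

/-! ### The group `J₂ = ⟨a, b, c, d, e⟩` -/

theorem el_mem_of {L : List (List Suz.Gen)} {w : List Suz.Gen} (h : ∀ x ∈ w, [x] ∈ L) : el w ∈ cl L := by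
  induction w with
  | nil => exact (cl L).one_mem
  | cons x w ih =>
    rw [el_cons]
    exact (cl L).mul_mem (el_mem_cl (h x (by simp))) (ih fun y hy => h y (by simp [hy]))

theorem h3_mem_J : el h3 ∈ cl ge := el_mem_of (by decide)

theorem ge_le : cl ge ≤ stabL φ [1575, 0] := cl_le fun _ hw => ge_fix hw

theorem card_J_ge : 604800 ≤ Nat.card (cl ge) := by
  have hA : 315 * Nat.card (stabL (φS (cl ge)) [1]) ≤ Nat.card (stabL (φS (cl ge)) []) :=
    stabL_step_of_check (φS (cl ge)) (k := 11) (ws := ge.map wd) [] 1 315 12 (wsokS _)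
      (himgS fun w hw => el_mem_cl hw) (by decide +kernel) (by decide +kernel) (by decide +kernel)
  have hgc : ∀ w ∈ gc, el w ∈ cl ge := by
    intro w hw
    simp only [gc, List.mem_cons, List.not_mem_nil, or_false] at hw
    rcases hw with rfl | rfl | rfl
    · exact el_mem_cl (by simp [ge])
    · exact el_mem_cl (by simp [ge])
    · exact h3_mem_J
  have hC : 640 * Nat.card (stabL (φS (cl ge)) [98, 1]) ≤ Nat.card (stabL (φS (cl ge)) [1]) :=
    stabL_step_of_check (φS (cl ge)) (k := 11) (ws := gc.map wd) [1] 98 640 14 (wsokS _)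
      (himgS hgc) (by decide +kernel) (by decide +kernel) (by decide +kernel)
  have hD : 3 * Nat.card (stabL (φS (cl ge)) [14, 98, 1]) ≤
      Nat.card (stabL (φS (cl ge)) [98, 1]) :=
    stabL_step_of_check (φS (cl ge)) (k := 11) (ws := [w0].map wd) [98, 1] 14 3 2 (wsokS _)
      (himgS fun w hw => by
        simp only [List.mem_cons, List.not_mem_nil, or_false] at hw
        subst hw
        exact w0_mem h3_mem_J) (by decide +kernel) (by decide +kernel)
      (by decide +kernel)
  have h1 : 0 < Nat.card (stabL (φS (cl ge)) [14, 98, 1]) := Nat.card_pos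
  have h0 : Nat.card (stabL (φS (cl ge)) []) ≤ Nat.card (cl ge) :=
    Nat.card_le_card_of_injective _ (Subtype.val_injective)
  omega

theorem J_eq : cl ge = stabL φ [1575, 0] :=
  Subgroup.eq_of_le_of_card_ge ge_le (card_stab2.trans card_J_ge)

theorem card_J : Nat.card (stabL φ [1575, 0]) = 604800 :=
  le_antisymm card_stab2 (by rw [← J_eq]; exact card_J_ge)

/-! ### The group `G₂(4) = ⟨a, b, c, d, e, f⟩` -/

/-- generators of the stabiliser of 0 -/
def gf : List (List Suz.Gen) := [[.a], [.b], [.c], [.d], [.e], [.f]]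
/-- generators of the stabiliser of 1575 -/
def gg' : List (List Suz.Gen) := [[.a], [.b], [.c], [.d], [.e], [.g]]

theorem gf_fix {w : List Suz.Gen} (hw : w ∈ gf) : el w ∈ stabL φ [0] := by
  intro q hq
  rw [φ_el]
  have h : fixAllB (gf.map wd) [0] = true := by decide +kernel
  exact fixAllB_spec (wsokS gf) h q hq _ (List.mem_map_of_mem hw)

theorem gg_fix {w : List Suz.Gen} (hw : w ∈ gg') : el w ∈ stabL φ [1575] := by
  intro q hq
  rw [φ_el]
  have h : fixAllB (gg'.map wd) [1575] = true := by decide +kernel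
  exact fixAllB_spec (wsokS gg') h q hq _ (List.mem_map_of_mem hw)

theorem card_gf : 251596800 ≤ Nat.card (cl gf) := by
  have hA : 416 * Nat.card (stabL (φS (cl gf)) [1575]) ≤ Nat.card (stabL (φS (cl gf)) []) :=
    stabL_step_of_check (φS (cl gf)) (k := 11) (ws := gf.map wd) [] 1575 416 12 (wsokS _)
      (himgS fun w hw => el_mem_cl hw) (by decide +kernel) (by decide +kernel) (by decide +kernel)
  have hle : cl ge ≤ cl gf := cl_mono fun w hw => by
    simp only [ge, gf, List.mem_cons, List.not_mem_nil, or_false] at hw ⊢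
    tauto
  have h2 : (cl ge).subgroupOf (cl gf) ≤ stabL (φS (cl gf)) [1575] := by
    intro g hg q hq
    simp only [List.mem_cons, List.not_mem_nil, or_false] at hq
    subst hq
    exact ge_le (Subgroup.mem_subgroupOf.1 hg) 1575 (by simp)
  have h3 := Subgroup.card_le_of_le h2
  rw [Nat.card_congr (Subgroup.subgroupOfEquivOfLe hle).toEquiv] at h3
  have h4 := card_J_ge
  have h0 : Nat.card (stabL (φS (cl gf)) []) ≤ Nat.card (cl gf) :=
    Nat.card_le_card_of_injective _ (Subtype.val_injective)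
  omega

theorem card_stab1 : Nat.card (stabL φ [0]) ≤ 251596800 := by
  have h7 := step7
  have h0 : Nat.card (stabL φ []) ≤ Nat.card Suz :=
    Nat.card_le_card_of_injective _ (Subtype.val_injective)
  rw [card_Suz] at h0
  omega

theorem gf_eq : cl gf = stabL φ [0] :=
  Subgroup.eq_of_le_of_card_ge (cl_le fun _ hw => gf_fix hw) (card_stab1.trans card_gf)

/-- `ρ` maps the stabiliser of 0 into the stabiliser of 1575. -/
theorem rho_fix {g : Suz} (hg : φ g 0 = 0) : φ (rho g) 1575 = 1575 := by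
  have h1 : g ∈ cl gf := by
    rw [gf_eq]
    intro q hq
    simp only [List.mem_cons, List.not_mem_nil, or_false] at hq
    subst hq
    exact hg
  have h2 : cl gf ≤ (stabL φ [1575]).comap (rho : Suz →* Suz) := by
    apply cl_le
    intro w hw
    rw [Subgroup.mem_comap]
    change rho (el w) ∈ _
    rw [rho_el]
    apply gg_fix
    simp only [gf, List.mem_cons, List.not_mem_nil, or_false] at hw
    rcases hw with rfl | rfl | rfl | rfl | rfl | rfl <;> decide
  exact h2 h1 1575 (by simp)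

theorem rho_rho (g : Suz) : rho (rho g) = g := congrArg (fun a : MulAut Suz => a g) rho_sq

/-- `ρ` centralises `J₂`. -/
theorem rho_J {g : Suz} (hg : g ∈ stabL φ [1575, 0]) : rho g = g := by
  rw [← J_eq] at hg
  refine fix_closure (al := rho) ?_ g hg
  rintro _ ⟨w, hw, rfl⟩
  rw [rho_el]
  simp only [ge, List.mem_cons, List.not_mem_nil, or_false] at hw
  rcases hw with rfl | rfl | rfl | rfl | rfl <;> rfl

/-! ### Suborbits of `J₂` -/

/-- orbit of `r` under `J₂` -/
noncomputable def O (r : ℕ) : ℕ := sat (ge.map wd) 8 (Nat.pow 2 r)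

theorem mem_O {r p : ℕ} (h : (O r).testBit p = true) : ∃ j ∈ stabL φ [1575, 0], φ j r = p := by
  obtain ⟨g', ⟨c, hc, rfl⟩, hg'⟩ := sat_point_spec (K := (stabL φ [1575, 0]).map φ) (wsokS ge)
    (fun w hw => by
      obtain ⟨u, hu, rfl⟩ := List.mem_map.1 hw
      exact ⟨el u, ge_fix hu, φ_el u⟩) 8 h
  exact ⟨c, hc, hg'⟩

/-- representatives of the suborbits -/
def reps6 : List ℕ := [0, 1575, 1, 21, 1366, 1370]

/-- union of sets -/
noncomputable def lorL (f : ℕ → ℕ) (l : List ℕ) : ℕ :=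
  List.rec (motive := fun _ => ℕ) 0 (fun x _ ih => Nat.lor (f x) ih) l

theorem lorL_spec {f : ℕ → ℕ} {l : List ℕ} {k : ℕ} (h : (lorL f l).testBit k = true) :
    ∃ x ∈ l, (f x).testBit k = true := by
  induction l with
  | nil =>
    have h' : (0 : ℕ).testBit k = true := h
    rw [Nat.zero_testBit] at h'; exact absurd h' (by simp)
  | cons y l ih =>
    have h' : (f y ||| lorL f l).testBit k = true := h
    rw [Nat.testBit_or, Bool.or_eq_true] at h'
    rcases h' with h' | h'
    · exact ⟨y, List.mem_cons_self, h'⟩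
    · obtain ⟨x, hx, hk⟩ := ih h'
      exact ⟨x, List.mem_cons_of_mem _ hx, hk⟩

theorem cover6 : Nat.beq (lorL O reps6) U0 = true := by decide +kernel

theorem exists_J {p : ℕ} (hp : p < 1782) : ∃ r ∈ reps6, ∃ j ∈ stabL φ [1575, 0], φ j r = p := by
  have h1 : (lorL O reps6).testBit p = true := by
    rw [Nat.eq_of_beq_eq_true cover6, U0_bits, decide_eq_true hp]
  obtain ⟨r, hr, h2⟩ := lorL_spec h1
  exact ⟨r, hr, mem_O h2⟩

/-- An element `h` fixed by `τ`, `v` with `v 0 = h 0`: `v⁻¹ (τ v) 1575` lies in the suborbit of length 416. -/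
theorem adj_of {τ : MulAut Suz} (hτ : ∀ g, φ g 0 = 0 → φ (τ g) 1575 = 1575) {h v : Suz} (hh : τ h = h)
    (h0 : φ v 0 = φ h 0) {s q : ℕ} (hq : φ (τ v) 1575 = q) (hs : φ v s = q) :
    φ h 1575 = q ∧ U2.testBit s = true := by
  have h1 : φ (v⁻¹ * h) 0 = 0 := by
    rw [map_mul, map_inv, Equiv.Perm.mul_apply, Equiv.Perm.inv_eq_iff_eq, h0]
  have h2 := hτ _ h1
  rw [map_mul, map_inv, hh, map_mul, map_inv, Equiv.Perm.mul_apply, Equiv.Perm.inv_eq_iff_eq, hq] at h2
  refine ⟨h2, ?_⟩
  have h3 := adj_of_fix h1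
  rwa [map_mul, map_inv, Equiv.Perm.mul_apply, h2, show (φ v)⁻¹ q = s by
    rw [Equiv.Perm.inv_eq_iff_eq, hs]] at h3

theorem notU {s : ℕ} (h : tb U2 s = false) : ¬ U2.testBit s = true := by
  rw [← tb_eq, h]; simp

theorem no_rep {τ : MulAut Suz} (hτ : ∀ g, φ g 0 = 0 → φ (τ g) 1575 = 1575) {h : Suz} (hh : τ h = h)
    (w w' : List Suz.Gen) (hw : τ (el w) = el w') {r q s : ℕ} (h0 : φ h 0 = r) (c1 : mv (wd w) 0 r = true)
    (c2 : mv (wd w') 1575 q = true) (c3 : mv (wd w) s q = true) (c4 : tb U2 s = false) : False := by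
  refine notU c4 (adj_of hτ hh (v := el w) ?_ (q := q) ?_ ?_).2
  · rw [h0]; exact (Rep.el w).pt c1
  · rw [hw]; exact (Rep.el w').pt c2
  · exact (Rep.el w).pt c3

theorem no_rep2 {h : Suz} (hh : rho h = h) (w : List Suz.Gen) {r q t x y : ℕ} (h0 : φ h 0 = r)
    (c1 : mv (wd w) 0 r = true) (c2 : mv (wd (w.map sw)) 1575 q = true) (c3 : mv (wd w) 1575 q = true)
    (c4 : mv (wd w) t x = true) (c5 : mv (wd (w.map sw)) t y = true) (c6 : x ≠ y) : False := by
  have e1 := (Rep.el w).pt c1
  have e2 := (Rep.el (w.map sw)).pt c2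
  have e3 := (Rep.el w).pt c3
  obtain ⟨h1, -⟩ := adj_of (fun _ => rho_fix) hh (v := el w) (q := q) (s := 1575) (by rw [h0, e1])
    (by rw [rho_el, e2]) e3
  have h2 : (el w)⁻¹ * h ∈ stabL φ [1575, 0] := by
    intro p hp
    rw [map_mul, map_inv, Equiv.Perm.mul_apply, Equiv.Perm.inv_eq_iff_eq]
    simp only [List.mem_cons, List.not_mem_nil, or_false] at hp
    rcases hp with rfl | rfl
    · rw [h1, e3]
    · rw [h0, e1]
  have h3 := rho_J h2
  rw [map_mul, map_inv, hh] at h3
  have h4 : rho (el w) = el w := inv_injective (mul_right_cancel h3)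
  rw [rho_el] at h4
  have h5 : φ (el (w.map sw)) t = φ (el w) t := by rw [h4]
  rw [(Rep.el w).pt c4, (Rep.el (w.map sw)).pt c5] at h5
  exact c6 h5.symm

/-- The elements fixed by `ρ` leave `{0, 1575}` invariant. -/
theorem zero_of_rho {h : Suz} (hh : rho h = h) : φ h 0 = 0 ∨ φ h 0 = 1575 := by
  obtain ⟨r, hr, j, hj, h1⟩ := exists_J (φ_lt (g := h) 0 (by norm_num))
  have hk : rho (j⁻¹ * h) = j⁻¹ * h := by rw [map_mul, map_inv, rho_J hj, hh]
  have hk0 : φ (j⁻¹ * h) 0 = r := by
    rw [map_mul, map_inv, Equiv.Perm.mul_apply, Equiv.Perm.inv_eq_iff_eq, h1]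
  have hj0 : φ j 0 = 0 := hj 0 (by simp)
  have hj1 : φ j 1575 = 1575 := hj 1575 (by simp)
  simp only [reps6, List.mem_cons, List.not_mem_nil, or_false] at hr
  rcases hr with rfl | rfl | rfl | rfl | rfl | rfl
  · left; rw [← h1, hj0]
  · right; rw [← h1, hj1]
  · exact (no_rep2 hk [.g, .f] (q := 1513) (t := 98) (x := 183) (y := 259) hk0 (by decide +kernel) (by decide +kernel)
      (by decide +kernel) (by decide +kernel) (by decide +kernel) (by decide)).elim
  · exact (no_rep (fun _ => rho_fix) hk [.f, .b, .c, .a, .b, .g] [.g, .b, .c, .a, .b, .f] (rho_el _) (q := 313)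
      (s := 238) hk0 (by decide +kernel) (by decide +kernel) (by decide +kernel) (by decide +kernel)).elim
  · exact (no_rep (fun _ => rho_fix) hk [.g, .b, .c, .d, .c, .b, .g] [.f, .b, .c, .d, .c, .b, .f] (rho_el _)
      (q := 1366) (s := 0) hk0 (by decide +kernel) (by decide +kernel) (by decide +kernel) (by decide +kernel)).elim
  · exact (no_rep2 hk [.f, .g, .b, .c, .d, .c, .b, .g, .b, .a, .b, .c, .a, .b, .f] (q := 24) (t := 1) (x := 34)
      (y := 1) hk0 (by decide +kernel) (by decide +kernel)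
      (by decide +kernel) (by decide +kernel) (by decide +kernel) (by decide)).elim

theorem stabL_nil (F : Subgroup Suz) : Nat.card (stabL (φS F) []) = Nat.card F := by
  have : stabL (φS F) [] = ⊤ := by
    rw [eq_top_iff]; intro g _ q hq; exact absurd hq (by simp)
  rw [this, Subgroup.card_top]

/-- **The order of `C(ρ)`.** -/
theorem card_rho {F : Subgroup Suz} (hF : ∀ g, g ∈ F ↔ rho g = g) : ¬ 81 ∣ Nat.card F := by
  have hJ : stabL φ [1575, 0] ≤ F := fun g hg => (hF g).2 (rho_J hg)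
  have h1 : Nat.card F ≤ 2 * Nat.card (stabL (φS F) [0]) := by
    have h := stabL_le (φS F) [] 0 {0, 1575} (fun g _ => by
      rcases zero_of_rho ((hF g).1 g.2) with h | h
      · rw [φS_apply, h]; simp
      · rw [φS_apply, h]; simp)
    rw [stabL_nil] at h
    exact h.trans (Nat.mul_le_mul_right _ (by decide))
  have h2 : Nat.card (stabL (φS F) [0]) ≤ Nat.card (stabL φ [1575, 0]) := by
    refine Nat.card_le_card_of_injective (fun g : stabL (φS F) [0] =>
      (⟨((g : F) : Suz), ?_⟩ : stabL φ [1575, 0])) ?_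
    · intro q hq
      have h0 : φ ((g : F) : Suz) 0 = 0 := g.2 0 (by simp)
      simp only [List.mem_cons, List.not_mem_nil, or_false] at hq
      rcases hq with rfl | rfl
      · have h3 := rho_fix h0
        rwa [(hF _).1 (g : F).2] at h3
      · exact h0
    · intro g g' h
      have h3 := congrArg Subtype.val h
      exact Subtype.ext (Subtype.ext h3)
  obtain ⟨k, hk⟩ := Subgroup.card_dvd_of_le hJ
  rw [card_J] at h2 hk
  have hpos : 0 < Nat.card F := Nat.card_pos
  have hk2 : k ≤ 2 := by omega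
  interval_cases k
  · omega
  · rw [hk]; norm_num
  · rw [hk]; norm_num

/-! ### `ρ ∘ e` -/

/-- the second outer involution -/
noncomputable def tau : MulAut Suz := rho * MulAut.conj e0

theorem tau_apply (g : Suz) : tau g = rho (e0 * g * e0⁻¹) := rfl

theorem e0_inv : e0⁻¹ = e0 := inv_eq_of_mul_eq_one_left (gen_sq .e)

theorem tau_el (w : List Suz.Gen) : tau (el w) = el (([Suz.Gen.e] ++ w ++ [Suz.Gen.e]).map sw) := by
  rw [tau_apply, e0_inv, ← rho_el, el_append, el_append]
  rfl

theorem e0_J : e0 ∈ stabL φ [1575, 0] := ge_fix (w := [.e]) (by simp [ge])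

theorem tau_fix {g : Suz} (hg : φ g 0 = 0) : φ (tau g) 1575 = 1575 := by
  rw [tau_apply]
  apply rho_fix
  rw [map_mul, map_mul, map_inv, Equiv.Perm.mul_apply, Equiv.Perm.mul_apply,
    show (φ e0)⁻¹ 0 = 0 by rw [Equiv.Perm.inv_eq_iff_eq, fe0], hg, fe0]

/-- a word fixed by `tau` -/
def ym : List Suz.Gen := [.d, .e, .c, .d, .c, .d, .f, .g, .e, .d]

/-- generators of a group fixed by `tau`, with orbits of lengths 792 and 990 -/
def gm : List (List Suz.Gen) := [[.a], [.b], [.c], [.e], ym]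

theorem tau_gm {w : List Suz.Gen} (hw : w ∈ gm) : tau (el w) = el w := by
  rw [tau_el]
  simp only [gm, List.mem_cons, List.not_mem_nil, or_false] at hw
  rcases hw with rfl | rfl | rfl | rfl | rfl
  · exact eq_of_reps (Rep.el _) (Rep.el _) (by decide +kernel)
  · exact eq_of_reps (Rep.el _) (Rep.el _) (by decide +kernel)
  · exact eq_of_reps (Rep.el _) (Rep.el _) (by decide +kernel)
  · exact eq_of_reps (Rep.el _) (Rep.el _) (by decide +kernel)
  · exact eq_of_reps (Rep.el _) (Rep.el _) (by decide +kernel)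

/-- orbit of `r` under the group generated by `gm` -/
noncomputable def P (r : ℕ) : ℕ := sat (gm.map wd) 8 (Nat.pow 2 r)

theorem cover2 : Nat.beq (lorL P [0, 8]) U0 = true := by decide +kernel
theorem pcP : Nat.beq (pc 11 (P 0)) 792 = true := by decide +kernel
theorem ltP : Nat.beq (Nat.shiftRight (P 0) (Nat.pow 2 11)) 0 = true := by decide +kernel

theorem cardP : (bits (2 ^ 11) (P 0)).card = 792 := by
  rw [← pc_eq 11 _ (lt_of_chk ltP)]; exact Nat.eq_of_beq_eq_true pcP

/-- **The order of `C(ρ∘e)`.** -/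
theorem card_tau {F : Subgroup Suz} (hF : ∀ g, g ∈ F ↔ tau g = g) : Nat.card F = 190080 := by
  have hmem : ∀ {r p : ℕ}, (P r).testBit p = true → ∃ j ∈ F, φ j r = p := by
    intro r p h
    obtain ⟨g', ⟨c, hc, rfl⟩, hg'⟩ := sat_point_spec (K := F.map φ) (wsokS gm)
      (fun w hw => by
        obtain ⟨u, hu, rfl⟩ := List.mem_map.1 hw
        exact ⟨el u, (hF _).2 (tau_gm hu), φ_el u⟩) 8 h
    exact ⟨c, hc, hg'⟩
  have h1 : Nat.card F = 792 * Nat.card (stabL (φS F) [0]) := by
    rw [← stabL_nil F, ← cardP]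
    apply card_stabL_eq
    · intro t ht
      obtain ⟨j, hj, h⟩ := hmem (mem_bits.1 ht).2
      exact ⟨⟨j, hj⟩, fun q hq => absurd hq (by simp), h⟩
    · intro g _
      have hlt : φ (g : Suz) 0 < 1782 := φ_lt 0 (by norm_num)
      rw [mem_bits]
      refine ⟨lt_of_lt_of_le hlt (by norm_num), ?_⟩
      have h1 : (lorL P [0, 8]).testBit (φ (g : Suz) 0) = true := by
        rw [Nat.eq_of_beq_eq_true cover2, U0_bits, decide_eq_true hlt]
      obtain ⟨r, hr, h2⟩ := lorL_spec h1
      simp only [List.mem_cons, List.not_mem_nil, or_false] at hr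
      rcases hr with rfl | rfl
      · exact h2
      · exfalso
        obtain ⟨j, hj, h3⟩ := hmem h2
        have hk := F.mul_mem (F.inv_mem hj) g.2
        have hk0 : φ (j⁻¹ * g) 0 = 8 := by
          rw [map_mul, map_inv, Equiv.Perm.mul_apply, Equiv.Perm.inv_eq_iff_eq, h3]
        exact no_rep (fun _ => tau_fix) ((hF _).1 hk) [.d, .c, .b, .g] _ (tau_el _)
          (q := 1421) (s := 107) hk0 (by decide +kernel) (by decide +kernel) (by decide +kernel) (by decide +kernel)
  have h2 : Nat.card (stabL (φS F) [0]) = Nat.card (stabL (φS CE) [1575, 0]) := by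
    have hA : ∀ g : Suz, (g ∈ F ∧ φ g 0 = 0) ↔ (g ∈ CE ∧ g ∈ stabL φ [1575, 0]) := by
      intro g
      constructor
      · rintro ⟨hg, h0⟩
        have h3 := tau_fix h0
        rw [(hF _).1 hg] at h3
        have h4 : g ∈ stabL φ [1575, 0] := by
          intro q hq
          simp only [List.mem_cons, List.not_mem_nil, or_false] at hq
          rcases hq with rfl | rfl
          · exact h3
          · exact h0
        refine ⟨?_, h4⟩
        have h5 : rho (e0 * g * e0⁻¹) = e0 * g * e0⁻¹ :=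
          rho_J (Subgroup.mul_mem _ (Subgroup.mul_mem _ e0_J h4) (Subgroup.inv_mem _ e0_J))
        have h6 := (hF _).1 hg
        rw [tau_apply, h5] at h6
        rw [mem_CE]
        exact (mul_inv_eq_iff_eq_mul.1 h6).symm
      · rintro ⟨hg, h4⟩
        refine ⟨(hF _).2 ?_, h4 0 (by simp)⟩
        rw [tau_apply, ← mem_CE.1 hg, mul_inv_cancel_right, rho_J h4]
    exact Nat.card_congr
      { toFun := fun g => ⟨⟨_, ((hA _).1 ⟨(g : F).2, g.2 0 (by simp)⟩).1⟩,
          ((hA _).1 ⟨(g : F).2, g.2 0 (by simp)⟩).2⟩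
        invFun := fun g => ⟨⟨_, ((hA _).2 ⟨(g : CE).2, g.2⟩).1⟩, fun q hq => by
          simp only [List.mem_cons, List.not_mem_nil, or_false] at hq
          subst hq
          exact ((hA _).2 ⟨(g : CE).2, g.2⟩).2⟩
        left_inv := fun g => rfl
        right_inv := fun g => rfl }
  have h3 : Nat.card (stabL (φS CE) [1575, 0]) = 240 := by
    have hlt : ∀ {g : CE} {p : ℕ}, p < 1782 → φ (g : Suz) p < 2 ^ 11 := fun hp =>
      lt_of_lt_of_le (φ_lt _ hp) (by norm_num)
    have hA : Nat.card CE ≤ 42 * Nat.card (stabL (φS CE) [0]) := by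
      have h := stabL_le (φS CE) [] 0 (bits (2 ^ 11) Fe) (fun g _ => mem_bits.2
        ⟨hlt (by norm_num), Fe_of_CE g.2 (by norm_num) fe0⟩)
      rwa [← pc_eq 11 Fe (lt_of_chk lt0), Nat.eq_of_beq_eq_true pc0, stabL_nil] at h
    have hB : Nat.card (stabL (φS CE) [0]) ≤ 16 * Nat.card (stabL (φS CE) [1575, 0]) := by
      have h := stabL_le (φS CE) [0] 1575 (bits (2 ^ 11) (Fe &&& U2)) (fun g hg => mem_bits.2
        ⟨hlt (by norm_num), by
          rw [Nat.testBit_and, Bool.and_eq_true]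
          exact ⟨Fe_of_CE g.2 (by norm_num) fe1575, adj_of_fix (hg 0 (by simp))⟩⟩)
      rwa [card_land lt0 pc1] at h
    have hC : Nat.card (stabL (φS CE) [1575, 0]) ≤ 15 * Nat.card (stabL (φS CE) [1, 1575, 0]) := by
      have h := stabL_le (φS CE) [1575, 0] 1 (bits (2 ^ 11) (Fe &&& U3)) (fun g hg => mem_bits.2
        ⟨hlt (by norm_num), by
          rw [Nat.testBit_and, Bool.and_eq_true]
          exact ⟨Fe_of_CE g.2 (by norm_num) fe1, mem_U3 (fun q hq => hg q hq)⟩⟩)
      rwa [card_land lt0 pc2] at h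
    have hD : Nat.card (stabL (φS CE) [1, 1575, 0]) ≤ 4 * Nat.card (stabL (φS CE) [11, 1, 1575, 0]) := by
      have h := stabL_le (φS CE) [1, 1575, 0] 11 (bits (2 ^ 11) (Fe &&& U4)) (fun g hg => mem_bits.2
        ⟨hlt (by norm_num), by
          rw [Nat.testBit_and, Bool.and_eq_true]
          exact ⟨Fe_of_CE g.2 (by norm_num) fe11, mem_U4 (fun q hq => hg q hq)⟩⟩)
      rwa [card_land lt0 pc3] at h
    have hE := card_end
    have hF := card_CE
    omega
  rw [h1, h2, h3]

end Cfsg.Agent.KFacts.SuzFix
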