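import Cfsg.Agent.KFacts.SuzOut

/-!
# Fixed involutions of an involutory automorphism of the Suzuki group (helper399)

`exists_four`: every `τ : MulAut Suz` with `τ² = 1` fixes two commuting involutions `g z0 g⁻¹`, `g y g⁻¹` with
`y ∈ R - ⟨z0⟩`; all involutions of `R` are conjugate to `z0`.
-/

set_option autoImplicit false
set_option maxRecDepth 100000
set_option exponentiation.threshold 4000

namespace Cfsg.Agent.KFacts.SuzFour

open scoped Pointwise

open Cfsg.Spor Cfsg.Agent.SporadicRecognition.SuzOrder Cfsg.Agent.SuzThree.Basic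
  Cfsg.Agent.SuzThree.CentA Cfsg.Agent.SuzThree.QZero Cfsg.Agent.KFacts.SuzCent Cfsg.Agent.LargeExtra.Model
  Cfsg.Agent.LargeExtra.Pres Cfsg.Agent.KFacts.Codes Cfsg.Agent.KFacts.Orbits Cfsg.Agent.KFacts.SuzR
  Cfsg.Agent.KFacts.SuzSheet Cfsg.Agent.KFacts.SuzLarge Cfsg.Agent.KFacts.SuzOut Cfsg.Agent.Co2Type.Quad

/-! ### Fixed points -/

/-- an involutory map of a finite set of odd cardinality has a fixed point -/
theorem exists_fixed_of_odd {s : Finset ℕ} (hs : Odd s.card) (f : ℕ → ℕ) (hf : ∀ c ∈ s, f c ∈ s)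
    (hff : ∀ c ∈ s, f (f c) = c) : ∃ c ∈ s, f c = c := by
  have hfact : Fact (Nat.Prime 2) := ⟨Nat.prime_two⟩
  let g : s → s := fun c => ⟨f c, hf c c.2⟩
  have hg : Function.Involutive g := fun c => Subtype.ext (hff c c.2)
  obtain ⟨a, ha⟩ := Equiv.Perm.exists_fixed_point_of_prime (p := 2) (n := 1) (α := s)
    (by rw [Fintype.card_coe]; rcases hs with ⟨m, hm⟩; omega) (σ := hg.toPerm g) (by
      rw [pow_one, pow_two]
      ext c
      exact congrArg Subtype.val (hg c))
  exact ⟨a, a.2, congrArg Subtype.val ha⟩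

section Sylow

variable {K : Type*} [Group K] {Q : Subgroup K} {z : K}

/-- an automorphism of order at most 2 fixes a conjugate of `z` -/
theorem exists_fixed_conj [Finite K] (h : Large Q z) (hodd : Odd (Subgroup.centralizer ({z} : Set K)).index)
    (τ : MulAut K) (hτ : τ * τ = 1) : ∃ g : K, τ (g * z * g⁻¹) = g * z * g⁻¹ := by
  have hfact : Fact (Nat.Prime 2) := ⟨Nat.prime_two⟩
  obtain ⟨S, hS⟩ := AutLarge.exists_sylow hodd
  have hQS := AutLarge.le_sylow h S hS
  have hp : IsPGroup 2 (Subgroup.zpowers τ) := by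
    intro ⟨g, hg⟩
    refine ⟨1, ?_⟩
    obtain ⟨k, rfl⟩ := Subgroup.mem_zpowers_iff.1 hg
    apply Subtype.ext
    show (τ ^ k) ^ (2 ^ 1) = 1
    rw [pow_one, pow_two, ← zpow_add, ← two_mul, zpow_mul, zpow_two, hτ, one_zpow]
  obtain ⟨P, hP⟩ := hp.nonempty_fixed_point_of_prime_not_dvd_card (Sylow 2 K) (by
    intro h2
    have h1 := card_sylow_modEq_one 2 K
    unfold Nat.ModEq at h1
    omega)
  obtain ⟨g, rfl⟩ := MulAction.exists_smul_eq K S P
  refine ⟨g, ?_⟩
  have hfix : τ • (g • S) = g • S := hP ⟨τ, Subgroup.mem_zpowers τ⟩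
  have hmem : ∀ y, y ∈ ((g • S : Sylow 2 K) : Subgroup K) ↔ g⁻¹ * y * g ∈ (S : Subgroup K) := by
    intro y
    rw [Sylow.coe_subgroup_smul, Subgroup.mem_pointwise_smul_iff_inv_smul_mem, ← map_inv]
    show g⁻¹ * y * g⁻¹⁻¹ ∈ (S : Subgroup K) ↔ _
    rw [inv_inv]
  have hτi : τ⁻¹ = τ := inv_eq_of_mul_eq_one_left hτ
  have hττ : ∀ y, τ (τ y) = y := fun y => by
    have := congrArg (fun a : MulAut K => a y) hτ
    exact this
  have hτS : ∀ y, y ∈ ((g • S : Sylow 2 K) : Subgroup K) → τ y ∈ ((g • S : Sylow 2 K) : Subgroup K) := by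
    intro y hy
    have h1 : ((τ • (g • S) : Sylow 2 K) : Subgroup K) = ((g • S : Sylow 2 K) : Subgroup K) := by rw [hfix]
    rw [← h1]
    show τ y ∈ τ • ((g • S : Sylow 2 K) : Subgroup K)
    exact Subgroup.smul_mem_pointwise_smul y τ _ hy
  have hcen : ∀ x ∈ (S : Subgroup K), x * z = z * x := fun x hx => Subgroup.mem_centralizer_singleton_iff.1 (hS hx)
  -- `g⁻¹ τ(z^g) g` centralises `S`
  have h1 : ∀ x ∈ (S : Subgroup K), (g⁻¹ * τ (g * z * g⁻¹) * g) * x = x * (g⁻¹ * τ (g * z * g⁻¹) * g) := by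
    intro x hx
    have hx1 : g * x * g⁻¹ ∈ ((g • S : Sylow 2 K) : Subgroup K) := by
      rw [hmem]
      have e : g⁻¹ * (g * x * g⁻¹) * g = x := by group
      rw [e]; exact hx
    have hx2 := hτS _ hx1
    rw [hmem] at hx2
    have h2 := hcen _ hx2
    have h3 : τ (g * x * g⁻¹) * (g * z * g⁻¹) = (g * z * g⁻¹) * τ (g * x * g⁻¹) := by
      calc τ (g * x * g⁻¹) * (g * z * g⁻¹) = g * ((g⁻¹ * τ (g * x * g⁻¹) * g) * z) * g⁻¹ := by group
        _ = g * (z * (g⁻¹ * τ (g * x * g⁻¹) * g)) * g⁻¹ := by rw [h2]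
        _ = (g * z * g⁻¹) * τ (g * x * g⁻¹) := by group
    have h4 : τ (g * z * g⁻¹) * (g * x * g⁻¹) = (g * x * g⁻¹) * τ (g * z * g⁻¹) := by
      generalize g * x * g⁻¹ = t at h3 ⊢
      generalize g * z * g⁻¹ = w at h3 ⊢
      have h5 := congrArg τ h3
      rw [map_mul, map_mul, hττ] at h5
      exact h5.symm
    calc (g⁻¹ * τ (g * z * g⁻¹) * g) * x = g⁻¹ * (τ (g * z * g⁻¹) * (g * x * g⁻¹)) * g := by group
      _ = g⁻¹ * (g * x * g⁻¹ * τ (g * z * g⁻¹)) * g := by rw [h4]
      _ = x * (g⁻¹ * τ (g * z * g⁻¹) * g) := by group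
  rcases LargeE.cent_eq h (h1 z (hQS h.z_mem)) (fun x hx => h1 x (hQS hx)) with h2 | h2
  · exfalso
    have h3 : τ (g * z * g⁻¹) = 1 := by
      calc τ (g * z * g⁻¹) = g * (g⁻¹ * τ (g * z * g⁻¹) * g) * g⁻¹ := by group
        _ = 1 := by rw [h2]; group
    have h4 : g * z * g⁻¹ = 1 := τ.injective (by rw [h3, map_one])
    exact h.z_ne (by
      calc z = g⁻¹ * (g * z * g⁻¹) * g := by group
        _ = 1 := by rw [h4]; group)
  · calc τ (g * z * g⁻¹) = g * (g⁻¹ * τ (g * z * g⁻¹) * g) * g⁻¹ := by group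
      _ = g * z * g⁻¹ := by rw [h2]

end Sylow

/-! ### Codes of elements of `R` -/

theorem exists_code {y : Suz} (hy : y ∈ Q0) : ∃ c, c < 128 ∧ C c = y := by
  rw [Q0_eq] at hy
  obtain ⟨c, hc, h⟩ := (mem_RG rels tri).1 hy
  exact ⟨c, hc, h⟩

/-- the code of an element of `R` -/
noncomputable def code (y : Suz) : ℕ := by
  classical
  exact if h : y ∈ Q0 then (exists_code h).choose else 0

theorem code_lt (y : Suz) : code y < 128 := by
  unfold code
  split_ifs with h
  · exact (exists_code h).choose_spec.1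
  · norm_num

theorem C_code {y : Suz} (h : y ∈ Q0) : C (code y) = y := by
  unfold code
  rw [dif_pos h]
  exact (exists_code h).choose_spec.2

theorem C_inj {c d : ℕ} (hc : c < 128) (hd : d < 128) (h : C c = C d) : c = d := by
  by_contra hne
  exact C_ne hc hd hne h

theorem code_C {c : ℕ} (hc : c < 128) : code (C c) = c := C_inj (code_lt _) hc (C_code (C_mem c))

theorem C_mul (c d : ℕ) : C c * C d = C (mulc BB 6 c d) := cod_mul rels tri c d

theorem C0 : C 0 = 1 := cod_zero

theorem mulc_lt' {c d : ℕ} (hc : c < 128) (hd : d < 128) : mulc BB 6 c d < 128 := AutChain.mulc_lt (n := 6) hc hd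

theorem eqz_C {c d : ℕ} (h : c % 64 = d % 64) : AutLarge.Eqz z0 (C c) (C d) := AutChain.eqz_cod rels h

theorem mulc64 : ∀ c < 128, mulc BB 6 c 64 % 64 = c % 64 := by decide +kernel

theorem code_eqz {y y' : Suz} (_hy : y ∈ Q0) (hy' : y' ∈ Q0) (h : AutLarge.Eqz z0 y y') :
    code y % 64 = code y' % 64 := by
  rcases h with h | h
  · rw [h]
  · have h1 : y = C (mulc BB 6 (code y') 64) := by rw [h, ← C_z, C_code hy']
    have h2 : code y = mulc BB 6 (code y') 64 := by
      rw [h1]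
      exact code_C (mulc_lt' (code_lt _) (by norm_num))
    rw [h2, mulc64 _ (code_lt _)]

theorem sq_code : ∀ c < 128, mulc BB 6 c c = 0 → mulc BB 6 (c % 64) (c % 64) = 0 := by decide +kernel

theorem comm_code : ∀ c < 128, mulc BB 6 c 8 = mulc BB 6 8 c → mulc BB 6 (c % 64) 8 = mulc BB 6 8 (c % 64) := by
  decide +kernel

/-- codes of the singular vectors -/
def Sg : Finset ℕ := (Finset.range 64).filter fun c => c ≠ 0 ∧ mulc BB 6 c c = 0

theorem card_Sg : Sg.card = 27 := by decide +kernel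

/-- codes of the singular vectors orthogonal to 8, without bit 3 -/
def Sl : Finset ℕ := (Finset.range 64).filter fun c => c ≠ 0 ∧ mulc BB 6 c c = 0 ∧ mulc BB 6 c 8 = mulc BB 6 8 c ∧
  c.testBit 3 = false

theorem card_Sl : Sl.card = 5 := by decide +kernel

/-- all involutions of `R - ⟨z⟩` are conjugate under `P` -/
theorem sing_orbit : ∀ c < 128, c % 64 ≠ 0 → mulc BB 6 c c = 0 →
    (run (stf BB 6 L0) t0 (2 ^ 1)).testBit c = true := by decide +kernel

theorem conj_one {c : ℕ} (hc : c < 128) (h0 : c % 64 ≠ 0) (h2 : mulc BB 6 c c = 0) :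
    ∃ p : Suz, p * z0 = z0 * p ∧ p * C 1 * p⁻¹ = C c := by
  obtain ⟨p, hp, h⟩ := run_conj (stage rels tri gg_mem C1_comm conj_AA ch0.1) t0 1 c (sing_orbit c hc h0 h2)
  exact ⟨p, C1_comm p hp, h⟩

theorem conj_z_of {c : ℕ} (hc : c < 128) (h0 : c % 64 ≠ 0) (h2 : mulc BB 6 c c = 0) :
    ∃ g : Suz, g * z0 * g⁻¹ = C c := by
  obtain ⟨p, _, hp⟩ := conj_one hc h0 h2
  refine ⟨p * n0, ?_⟩
  rw [← hp, C1', ← n0_conj]
  group

/-- the code of the image -/
theorem img_props {τ : MulAut Suz} (hz : τ z0 = z0) {c : ℕ} (_hc : c < 128) :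
    τ (C c) ∈ Q0 := AutLarge.map_mem large irr' exists_nc hz (C_mem c)

theorem img_sq {τ : MulAut Suz} (hz : τ z0 = z0) {c : ℕ} (hc : c < 128) (h0 : c % 64 ≠ 0)
    (h2 : mulc BB 6 c c = 0) : code (τ (C c)) % 64 ≠ 0 ∧ mulc BB 6 (code (τ (C c))) (code (τ (C c))) = 0 := by
  have hm := img_props hz hc
  constructor
  · intro h
    have h1 : AutLarge.Eqz z0 (C (code (τ (C c)))) (C 0) := eqz_C (by rw [h])
    rw [C_code hm, C0] at h1
    have h3 : C 64 = z0 := C64
    rcases h1 with h1 | h1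
    · have h4 : C c = C 0 := by rw [C0]; exact τ.injective (by rw [h1, map_one])
      have := C_inj hc (by norm_num) h4
      rw [this] at h0
      exact h0 rfl
    · rw [one_mul] at h1
      have h4 : C c = C 64 := by rw [h3]; exact τ.injective (by rw [h1, hz])
      have := C_inj hc (by norm_num) h4
      rw [this] at h0
      exact h0 rfl
  · apply C_inj (mulc_lt' (code_lt _) (code_lt _)) (by norm_num)
    rw [← C_mul, C_code hm, ← map_mul, C_mul, h2, C0, map_one]

/-- representative of a line through 8 -/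
def nb (d : ℕ) : ℕ := if (d % 64).testBit 3 = true then (d % 64) ^^^ 8 else d % 64

theorem nb_lt' : ∀ d < 128, nb d < 128 := by decide +kernel

theorem nb_lt {d : ℕ} (hd : d < 128) : nb d < 128 := nb_lt' d hd

theorem nb_self : ∀ c < 64, c.testBit 3 = false → nb c = c := by decide +kernel

theorem nb_mem' : ∀ d < 128, (d % 64 ≠ 0 ∧ mulc BB 6 d d = 0 ∧ d % 64 ≠ 8 ∧ mulc BB 6 d 8 = mulc BB 6 8 d) →
    nb d ∈ Sl := by
  unfold Sl
  decide +kernel

theorem nb_mem (d : ℕ) (hd : d < 128) (h1 : d % 64 ≠ 0) (h2 : mulc BB 6 d d = 0) (h3 : d % 64 ≠ 8 % 64)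
    (h4 : mulc BB 6 d 8 = mulc BB 6 8 d) : nb d ∈ Sl := nb_mem' d hd ⟨h1, h2, h3, h4⟩

/-- equality modulo `⟨z, C 8⟩` -/
def Rel8 (y y' : Suz) : Prop := y = y' ∨ y = y' * z0 ∨ y = C 8 * y' ∨ y = C 8 * y' * z0

theorem nb_cases : ∀ d < 128, nb d = d ∨ nb d = mulc BB 6 d 64 ∨ nb d = mulc BB 6 8 d ∨
    nb d = mulc BB 6 (mulc BB 6 8 d) 64 := by decide +kernel

theorem rel_nb {d : ℕ} (hd : d < 128) : Rel8 (C (nb d)) (C d) := by
  rcases nb_cases d hd with h | h | h | h
  · left; rw [h]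
  · right; left; rw [h, C_z]
  · right; right; left; rw [h, C_mul]
  · right; right; right; rw [h, C_mul, C_z]

theorem nb_inv : ∀ d < 128, nb (mulc BB 6 d 64) = nb d ∧ nb (mulc BB 6 8 d) = nb d ∧
    nb (mulc BB 6 (mulc BB 6 8 d) 64) = nb d := by decide +kernel

theorem nb_rel {y y' : Suz} (_hy : y ∈ Q0) (hy' : y' ∈ Q0) (h : Rel8 y y') : nb (code y) = nb (code y') := by
  obtain ⟨h1, h2, h3⟩ := nb_inv _ (code_lt y')
  have e : C (code y') = y' := C_code hy'
  have key : ∀ d < 128, y = C d → code y = d := fun d hd h => by rw [h]; exact code_C hd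
  rcases h with h | h | h | h
  · rw [h]
  · rw [key (mulc BB 6 (code y') 64) (mulc_lt' (code_lt y') (by norm_num)) (by rw [h, ← C_z, e]), h1]
  · rw [key (mulc BB 6 8 (code y')) (mulc_lt' (by norm_num) (code_lt y')) (by rw [h, ← C_mul, e]), h2]
  · rw [key (mulc BB 6 (mulc BB 6 8 (code y')) 64) (mulc_lt' (mulc_lt' (by norm_num) (code_lt y')) (by norm_num))
      (by rw [h, ← C_z, ← C_mul, e]), h3]

/-- **Fixed involutions**, `τ` fixes `z0`. -/
theorem exists_fixed_y {τ : MulAut Suz} (hz : τ z0 = z0) (hτ : τ * τ = 1) :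
    ∃ y ∈ Q0, y ≠ 1 ∧ y ≠ z0 ∧ y * y = 1 ∧ τ y = y := by
  -- a fixed singular point
  have hττ : ∀ y, τ (τ y) = y := fun y => congrArg (fun a : MulAut Suz => a y) hτ
  obtain ⟨c, hcS, hc⟩ := exists_fixed_of_odd (s := Sg) (by rw [card_Sg]; decide) (fun c => code (τ (C c)) % 64) (by
    intro c hc
    obtain ⟨h1, h2, h3⟩ := Finset.mem_filter.1 hc |>.imp Finset.mem_range.1 id
    obtain ⟨h4, h5⟩ := img_sq hz (c := c) (by omega) (by omega) h3
    exact Finset.mem_filter.2 ⟨Finset.mem_range.2 (Nat.mod_lt _ (by norm_num)), h4, sq_code _ (code_lt _) h5⟩) (by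
    intro c hc
    obtain ⟨h1, h2, h3⟩ := Finset.mem_filter.1 hc |>.imp Finset.mem_range.1 id
    have hm := img_props (τ := τ) hz (c := c) (by omega)
    have h4 : AutLarge.Eqz z0 (C (code (τ (C c)) % 64)) (τ (C c)) := by
      have := eqz_C (c := code (τ (C c)) % 64) (d := code (τ (C c))) (by rw [Nat.mod_mod])
      rwa [C_code hm] at this
    have h5 := h4.map hz
    rw [hττ] at h5
    show code (τ (C (code (τ (C c)) % 64))) % 64 = c
    rw [code_eqz (img_props hz (by
      have := Nat.mod_lt (code (τ (C c))) (show 0 < 64 by norm_num); omega)) (C_mem c) h5, code_C (by omega),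
      Nat.mod_eq_of_lt h1])
  obtain ⟨hc64, hc0, hc2⟩ := Finset.mem_filter.1 hcS |>.imp Finset.mem_range.1 id
  -- conjugate to the point 8
  obtain ⟨p, hp, hpc⟩ := conj_one (c := c) (by omega) (by omega) hc2
  obtain ⟨p', hp', hpc'⟩ := conj_one (c := 8) (by omega) (by omega) (by decide +kernel)
  set u := p' * p⁻¹ with hu
  have hpi : p⁻¹ * z0 = z0 * p⁻¹ := by
    rw [inv_mul_eq_iff_eq_mul, ← mul_assoc, hp, mul_assoc, mul_inv_cancel, mul_one]
  have huz : u * z0 = z0 * u := by rw [hu, mul_assoc, hpi, ← mul_assoc, hp', mul_assoc]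
  have huc : u * C c * u⁻¹ = C 8 := by
    rw [← hpc, ← hpc', hu]; group
  set σ : MulAut Suz := MulAut.conj u * τ * (MulAut.conj u)⁻¹ with hσ
  have hσa : ∀ y, σ y = u * τ (u⁻¹ * y * u) * u⁻¹ := by
    intro y
    rw [hσ, MulAut.mul_apply, MulAut.mul_apply, ← map_inv, MulAut.conj_apply, MulAut.conj_apply, inv_inv]
  have huzi : u⁻¹ * z0 * u = z0 := by rw [mul_assoc, ← huz]; group
  have hσz : σ z0 = z0 := by
    rw [hσa, huzi, hz, huz, mul_inv_cancel_right]
  have hσσ : ∀ y, σ (σ y) = y := by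
    intro y
    rw [hσa, hσa]
    have e : u⁻¹ * (u * τ (u⁻¹ * y * u) * u⁻¹) * u = τ (u⁻¹ * y * u) := by group
    rw [e, hττ]; group
  have hσ8 : AutLarge.Eqz z0 (σ (C 8)) (C 8) := by
    rw [hσa, ← huc]
    have e : u⁻¹ * (u * C c * u⁻¹) * u = C c := by group
    rw [e]
    apply AutLarge.Eqz.conj huz
    have hm := img_props (τ := τ) hz (c := c) (by omega)
    rw [← C_code hm]
    apply eqz_C
    rw [Nat.mod_eq_of_lt hc64]
    exact hc
  -- it suffices to treat `σ`
  suffices hsuff : ∃ y ∈ Q0, y ≠ 1 ∧ y ≠ z0 ∧ y * y = 1 ∧ σ y = y by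
    obtain ⟨y, hyQ, hy1, hyz, hyy, hσy⟩ := hsuff
    have hui : u⁻¹ * z0 = z0 * u⁻¹ := by
      rw [inv_mul_eq_iff_eq_mul, ← mul_assoc, huz, mul_assoc, mul_inv_cancel, mul_one]
    have hinj : ∀ {t : Suz}, u⁻¹ * y * u = t → y = u * t * u⁻¹ := by
      intro t h; rw [← h]; group
    refine ⟨u⁻¹ * y * u, ?_, fun h => hy1 ?_, fun h => hyz ?_, ?_, ?_⟩
    · have := large.conj_mem u⁻¹ hui y hyQ
      rwa [inv_inv] at this
    · rw [hinj h]; group
    · rw [hinj h, huz, mul_inv_cancel_right]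
    · calc u⁻¹ * y * u * (u⁻¹ * y * u) = u⁻¹ * (y * y) * u := by group
        _ = 1 := by rw [hyy]; group
    · have h1 := hσy
      rw [hσa] at h1
      calc τ (u⁻¹ * y * u) = u⁻¹ * (u * τ (u⁻¹ * y * u) * u⁻¹) * u := by group
        _ = u⁻¹ * y * u := by rw [h1]
  -- a fixed line through 8
  have hm8 := img_props (τ := σ) hσz (c := 8) (by norm_num)
  have hnb : ∀ y ∈ Q0, ∀ y' ∈ Q0, Rel8 y y' → nb (code y) = nb (code y') := fun y hy y' hy' h => nb_rel hy hy' h
  -- `σ` respects `Rel8`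
  have hσrel : ∀ y ∈ Q0, ∀ y' ∈ Q0, Rel8 y y' → Rel8 (σ y) (σ y') := by
    intro y hy y' hy' h
    have hyz : σ y' * z0 = z0 * σ y' := large.comm_z _ (AutLarge.map_mem large irr' exists_nc hσz hy')
    rcases h with h | h | h | h
    · left; rw [h]
    · right; left; rw [h, map_mul, hσz]
    · rw [h, map_mul]
      rcases hσ8 with h8 | h8
      · right; right; left; rw [h8]
      · right; right; right; rw [h8, mul_assoc, ← hyz, mul_assoc]
    · rw [h, map_mul, map_mul, hσz]
      rcases hσ8 with h8 | h8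
      · right; right; right; rw [h8]
      · right; right; left
        rw [h8]
        calc C 8 * z0 * σ y' * z0 = C 8 * (z0 * σ y') * z0 := by group
          _ = C 8 * (σ y' * z0) * z0 := by rw [hyz]
          _ = C 8 * σ y' * (z0 * z0) := by group
          _ = C 8 * σ y' := by rw [large.z_sq, mul_one]
  have hlt : ∀ c ∈ Sl, c < 64 ∧ c ≠ 0 ∧ mulc BB 6 c c = 0 ∧ mulc BB 6 c 8 = mulc BB 6 8 c ∧ c.testBit 3 = false := by
    intro c hc
    obtain ⟨h1, h2⟩ := Finset.mem_filter.1 hc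
    exact ⟨Finset.mem_range.1 h1, h2⟩
  obtain ⟨d, hdS, hd⟩ := exists_fixed_of_odd (s := Sl) (by rw [card_Sl]; decide) (fun c => nb (code (σ (C c)))) (by
    intro c hc
    obtain ⟨h1, h2, h3, h4, h5⟩ := hlt c hc
    obtain ⟨h6, h7⟩ := img_sq hσz (c := c) (by omega) (by omega) h3
    have hm := img_props (τ := σ) hσz (c := c) (by omega)
    apply nb_mem _ (code_lt _) h6 h7
    · -- the image is not `C 8` modulo `z`
      intro h8
      have e1 : AutLarge.Eqz z0 (σ (C c)) (C 8) := by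
        have := eqz_C (c := code (σ (C c))) (d := 8) h8
        rwa [C_code hm] at this
      have e2 : AutLarge.Eqz z0 (σ (C c)) (σ (C 8)) := e1.trans large (hσ8.symm large)
      have e3 := e2.map hσz
      rw [hσσ, hσσ] at e3
      have e4 := code_eqz (C_mem c) (C_mem 8) e3
      rw [code_C (by omega), code_C (by norm_num), Nat.mod_eq_of_lt h1] at e4
      rw [e4] at h5
      revert h5
      decide
    · -- commutes with `C 8`
      have e1 : C c * C 8 = C 8 * C c := by rw [C_mul, C_mul, h4]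
      have e2 : σ (C c) * σ (C 8) = σ (C 8) * σ (C c) := by rw [← map_mul, ← map_mul, e1]
      have hz' : σ (C c) * z0 = z0 * σ (C c) := large.comm_z _ hm
      have e3 : σ (C c) * C 8 = C 8 * σ (C c) := by
        rcases hσ8 with h8 | h8
        · rwa [h8] at e2
        · rw [h8] at e2
          have e4 : σ (C c) * C 8 * z0 = C 8 * σ (C c) * z0 := by
            calc σ (C c) * C 8 * z0 = σ (C c) * (C 8 * z0) := by group
              _ = C 8 * (z0 * σ (C c)) := by rw [e2]; group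
              _ = C 8 * σ (C c) * z0 := by rw [← hz']; group
          exact mul_right_cancel e4
      apply C_inj (mulc_lt' (code_lt _) (by norm_num)) (mulc_lt' (by norm_num) (code_lt _))
      rw [← C_mul, ← C_mul, C_code hm, e3]) (by
    intro c hc
    obtain ⟨h1, h2, h3, h4, h5⟩ := hlt c hc
    have hm := img_props (τ := σ) hσz (c := c) (by omega)
    show nb (code (σ (C (nb (code (σ (C c))))))) = c
    have e1 : Rel8 (C (nb (code (σ (C c))))) (σ (C c)) := by
      have := rel_nb (code_lt (σ (C c)))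
      rwa [C_code hm] at this
    have e2 := hσrel _ (C_mem _) _ hm e1
    rw [hσσ] at e2
    rw [hnb _ (img_props hσz (nb_lt (code_lt _))) _ (C_mem c) e2, code_C (by omega)]
    exact nb_self c h1 h5)
  obtain ⟨h1, h2, h3, h4, h5⟩ := hlt d hdS
  have hmd := img_props (τ := σ) hσz (c := d) (by omega)
  have hrel : Rel8 (C d) (σ (C d)) := by
    have := rel_nb (code_lt (σ (C d)))
    rw [C_code hmd] at this
    have e : nb (code (σ (C d))) = d := hd
    rwa [e] at this
  -- the end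
  have h0 : C 0 = 1 := C0
  have h64 : C 64 = z0 := C64
  set a := C 8 with ha
  set b := C d with hb
  have haa : a * a = 1 := by
    rw [ha, C_mul, ← h0]
    congr 1
  have hbb : b * b = 1 := by rw [hb, C_mul, h3, h0]
  have hab : b * a = a * b := by rw [ha, hb, C_mul, C_mul, h4]
  have haz : a * z0 = z0 * a := large.comm_z _ (C_mem 8)
  have hbz : b * z0 = z0 * b := large.comm_z _ (C_mem d)
  have hzz : z0 * z0 = 1 := large.z_sq
  have ha1 : a ≠ 1 := by rw [ha, ← h0]; exact C_ne (by norm_num) (by norm_num) (by norm_num)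
  have haz' : a ≠ z0 := by rw [ha, ← h64]; exact C_ne (by norm_num) (by norm_num) (by norm_num)
  have hb1 : b ≠ 1 := by rw [hb, ← h0]; exact C_ne (by omega) (by norm_num) (by omega)
  have hbz' : b ≠ z0 := by rw [hb, ← h64]; exact C_ne (by omega) (by norm_num) (by omega)
  have hd8 : d ≠ 8 := by
    rintro rfl
    revert h5
    decide
  have hba : b ≠ a := C_ne (by omega) (by norm_num) hd8
  have hba' : b ≠ a * z0 := by
    rw [ha, hb, C_z]
    refine C_ne (by omega) (by decide +kernel) ?_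
    have : mulc BB 6 8 64 = 72 := by decide +kernel
    omega
  rcases hσ8 with h8 | h8
  · exact ⟨a, C_mem 8, ha1, haz', haa, h8⟩
  · rcases hrel with h | h | h | h
    · exact ⟨b, C_mem d, hb1, hbz', hbb, h.symm⟩
    · -- `b = σ b z`
      have h6 : σ b = b * z0 := by rw [h, mul_assoc, hzz, mul_one, ← h]
      refine ⟨a * b, Q0.mul_mem (C_mem 8) (C_mem d), ?_, ?_, ?_, ?_⟩
      · intro h9
        apply hba
        calc b = a * a * b := by rw [haa, one_mul]
          _ = a * (a * b) := by group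
          _ = a := by rw [h9, mul_one]
      · intro h9
        apply hba'
        calc b = a * a * b := by rw [haa, one_mul]
          _ = a * (a * b) := by group
          _ = a * z0 := by rw [h9]
      · calc a * b * (a * b) = a * (b * a) * b := by group
          _ = a * (a * b) * b := by rw [hab]
          _ = (a * a) * (b * b) := by group
          _ = 1 := by rw [haa, hbb, one_mul]
      · rw [map_mul, h8, h6]
        calc a * z0 * (b * z0) = a * (z0 * b) * z0 := by group
          _ = a * (b * z0) * z0 := by rw [hbz]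
          _ = a * b * (z0 * z0) := by group
          _ = a * b := by rw [hzz, mul_one]
    · -- `b = a σ b`
      exfalso
      have h6 : σ b = a * b := by
        calc σ b = a * a * σ b := by rw [haa, one_mul]
          _ = a * (a * σ b) := by group
          _ = a * b := by rw [← h]
      have h7 := hσσ b
      rw [h6, map_mul, h8, h6] at h7
      have h9 : a * z0 * (a * b) = z0 * b := by
        calc a * z0 * (a * b) = z0 * (a * a) * b := by rw [haz]; group
          _ = z0 * b := by rw [haa, mul_one]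
      rw [h9] at h7
      exact large.z_ne (mul_eq_right.1 h7)
    · -- `b = a σ b z`
      exfalso
      have hsz : σ b * z0 = z0 * σ b := large.comm_z _ hmd
      have h6 : σ b = a * b * z0 := by
        calc σ b = (a * a) * σ b * (z0 * z0) := by rw [haa, hzz, one_mul, mul_one]
          _ = a * (a * σ b * z0) * z0 := by group
          _ = a * b * z0 := by rw [← h]
      have h7 := hσσ b
      rw [h6, map_mul, map_mul, h8, h6, hσz] at h7
      have h9 : a * z0 * (a * b * z0) * z0 = z0 * b := by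
        calc a * z0 * (a * b * z0) * z0 = (a * z0) * a * b * (z0 * z0) := by group
          _ = (z0 * a) * a * b := by rw [haz, hzz, mul_one]
          _ = z0 * (a * a) * b := by group
          _ = z0 * b := by rw [haa, mul_one]
      rw [h9] at h7
      exact large.z_ne (mul_eq_right.1 h7)

/-- **Two fixed commuting involutions**, conjugate to `z0` together with their product. -/
theorem exists_four (τ : MulAut Suz) (hτ : τ * τ = 1) : ∃ g y : Suz, y ∈ Q0 ∧ y ≠ 1 ∧ y ≠ z0 ∧ y * y = 1 ∧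
    τ (g * z0 * g⁻¹) = g * z0 * g⁻¹ ∧ τ (g * y * g⁻¹) = g * y * g⁻¹ := by
  have hττ : ∀ y, τ (τ y) = y := fun y => congrArg (fun a : MulAut Suz => a y) hτ
  obtain ⟨g, hg⟩ := exists_fixed_conj large odd_index τ hτ
  set σ : MulAut Suz := (MulAut.conj g)⁻¹ * τ * MulAut.conj g with hσ
  have hσa : ∀ y, σ y = g⁻¹ * τ (g * y * g⁻¹) * g := by
    intro y
    rw [hσ, MulAut.mul_apply, MulAut.mul_apply, ← map_inv, MulAut.conj_apply, MulAut.conj_apply, inv_inv]
  have hσz : σ z0 = z0 := by rw [hσa, hg]; group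
  have hσσ : σ * σ = 1 := by
    ext y
    rw [MulAut.mul_apply, hσa, hσa]
    have e : g * (g⁻¹ * τ (g * y * g⁻¹) * g) * g⁻¹ = τ (g * y * g⁻¹) := by group
    rw [e, hττ]
    show g⁻¹ * (g * y * g⁻¹) * g = y
    group
  obtain ⟨y, hy, hy1, hyz, hyy, hfix⟩ := exists_fixed_y hσz hσσ
  refine ⟨g, y, hy, hy1, hyz, hyy, hg, ?_⟩
  rw [hσa] at hfix
  calc τ (g * y * g⁻¹) = g * (g⁻¹ * τ (g * y * g⁻¹) * g) * g⁻¹ := by group
    _ = g * y * g⁻¹ := by rw [hfix]

/-- noncentral involutions of `R` are conjugate to `z0` -/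
theorem conj_z {y : Suz} (hy : y ∈ Q0) (hy1 : y ≠ 1) (hyy : y * y = 1) : ∃ g : Suz, g * z0 * g⁻¹ = y := by
  by_cases hyz : y = z0
  · exact ⟨1, by rw [hyz]; group⟩
  · have h1 : C (code y) = y := C_code hy
    obtain ⟨g, hg⟩ := conj_z_of (c := code y) (code_lt y) (by
      intro h0
      have h2 : AutLarge.Eqz z0 (C (code y)) (C 0) := eqz_C (by rw [h0])
      rw [h1, C0] at h2
      rcases h2 with h2 | h2
      · exact hy1 h2
      · rw [one_mul] at h2; exact hyz h2) (by
      apply C_inj (mulc_lt' (code_lt _) (code_lt _)) (by norm_num)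
      rw [← C_mul, h1, hyy, C0])
    exact ⟨g, by rw [hg, h1]⟩

end Cfsg.Agent.KFacts.SuzFour
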