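import Cfsg.Agent.KFacts.SuzRho

/-!
# Involutory isometries of the natural module of `C(z0)/R`, `Suz` (helper399)

Computation on codes modulo `z0`: every involutory isometry of `V = R/⟨z0⟩` fixing the singular point `8` is induced
by a word of `C(z0)` or conjugate by such a word to the isometry induced by `ρ` or `σ`.
-/

set_option autoImplicit false
set_option maxRecDepth 100000
set_option exponentiation.threshold 4000

namespace Cfsg.Agent.KFacts.SuzInvolTab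

open Cfsg.Agent.LargeExtra.Model Cfsg.Agent.LargeExtra.Pres Cfsg.Agent.KFacts.Codes Cfsg.Agent.KFacts.Orbits
  Cfsg.Agent.KFacts.SuzR Cfsg.Agent.SuzThree.QZero

/-- linear map with values `I i` on the basis, on the first `k` bits of `c` -/
def lv (I : ℕ → ℕ) (c : ℕ) : ℕ → ℕ
  | 0 => 0
  | k + 1 => if c.testBit k = true then lv I c k ^^^ I k else lv I c k

/-- images of `ρ` -/
def rl : List ℕ := [1, 2, 4, 16, 8, 32]

/-- images of `σ` -/
def sl : List ℕ := [2, 1, 4, 16, 8, 39]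

/-- action of a word modulo `z` -/
def w6 (w : List ℕ) (c : ℕ) : ℕ := actw (fun k c => lv (fun i => img (II k) i % 64) c 6) w c

/-- the indices -/
def ix : List ℕ := [0, 1, 2, 3, 4, 5]

theorem mem_ix {i : ℕ} (hi : i < 6) : i ∈ ix := by
  interval_cases i <;> decide

/-- commuting codes -/
def ot (c d : ℕ) : Bool := Nat.beq (mulc BB 6 c d) (mulc BB 6 d c)

/-- the codes of the nonzero singular vectors -/
def sg : List ℕ := [1, 2, 4, 8, 9, 10, 12, 16, 17, 18, 20, 27, 29, 30, 31, 32, 39, 40, 47, 48, 55, 57, 58, 59, 60, 61, 62]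

theorem mem_sg : ∀ c < 64, c ≠ 0 → mulc BB 6 c c = 0 → c ∈ sg := by decide +kernel

theorem sg_lt : ∀ c ∈ sg, c < 64 := by decide

/-- involution -/
def inv1 (L : List ℕ) : Bool := ix.all fun i => Nat.beq (lv (img L) (img L i) 6) (2 ^ i)

/-- induced by `w` -/
def cin (L w : List ℕ) : Bool := ix.all fun i => Nat.beq (w6 w (2 ^ i)) (img L i)

/-- conjugate by `w` to `ρ` or `σ` -/
def cout (L : List ℕ) (s : Bool) (w : List ℕ) : Bool :=
  ix.all fun i => Nat.beq (w6 w (img L i)) (lv (fun i => img (cond s sl rl) i % 64) (w6 w (2 ^ i)) 6)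

/-- key of a list -/
def key : List ℕ → ℕ
  | [] => 0
  | a :: l => a + 64 * key l

/-- involutory isometries fixing `8` induced by `P`: code of the images, word -/
def tin : List (ℕ × List ℕ) := [
  (34630287489, []), (42146472193, [1]), (2418178049, [4, 1, 4, 4]), (4565633473, [4, 4, 1, 4]), (42146480194, [0]),
  (4565631042, [4, 0]), (34630430786, [0, 4]), (42146467972, [0, 1, 0]), (2418022404, [1, 0, 4, 1]), (34630277572, [1,
  4, 0, 1]), (1344434336, [4, 0, 1, 4, 0]), (1344282912, [0, 1, 4, 0, 1, 0]), (1344293344, [1, 0, 4, 1, 0, 4, 1]),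
  (4565631143, [0, 4, 1, 0, 4]), (34630279463, [0, 1, 0, 4, 1, 0]), (2418034727, [1, 4, 0, 1, 4, 0, 1]), (43237032577,
  [2]), (50753217281, [2, 1]), (11024923137, [4, 1, 4, 4, 2]), (13172378561, [4, 4, 1, 4, 2]), (43253809289, [0, 2,
  0]), (50769989772, [0, 2, 1, 0]), (9967956136, [4, 0, 1, 4, 2, 0]), (13189152943, [0, 4, 2, 1, 0, 4]), (43287331465,
  [1, 0, 2, 0, 1]), (50803524170, [1, 0, 2, 0, 1, 0]), (10001337320, [1, 0, 4, 2, 1, 0, 4, 1]), (11075078703, [1, 4,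
  0, 1, 4, 2, 0, 1]), (34814837385, [2, 0, 2, 0]), (42331030090, [2, 0, 2]), (4750180938, [4, 2, 0, 2]), (34814980682,
  [2, 0, 4, 2]), (34848424073, [2, 1, 0, 2, 0, 1]), (42364604556, [2, 1, 0, 2, 1]), (2636158988, [2, 1, 0, 4, 2, 1]),
  (34848414156, [1, 4, 2, 0, 2, 1]), (34865201793, [0, 2, 1, 0, 2, 0, 1, 0]), (42381386497, [0, 2, 1, 0, 2, 1, 0]),
  (1579197216, [0, 1, 4, 2, 0, 2, 1, 0]), (34865193767, [0, 2, 1, 0, 4, 2, 1, 0]), (43471880321, [2, 0, 2, 1, 0, 2, 0,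
  1, 0]), (50988065025, [2, 0, 2, 1, 0, 2, 1, 0]), (50988073026, [2, 0, 2, 1, 0, 2, 0, 1]), (50988060804, [2, 0, 2, 1,
  0, 2]), (35167191689, [4, 1, 0, 2, 0, 1, 4, 4]), (35167334986, [4, 1, 0, 2, 0, 1, 4, 0]), (35167181772, [4, 1, 4, 0,
  2, 0, 1, 0, 4, 1]), (35167183663, [2, 0, 2, 1, 0, 4, 2, 1, 0, 2]), (43874566793, [4, 4, 1, 0, 2, 0, 1, 4]),
  (13809910346, [0, 4, 1, 0, 2, 0, 1, 4]), (11662301708, [1, 4, 1, 0, 2, 0, 1, 4, 0, 1]), (10588562216, [2, 0, 1, 4,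
  2, 0, 2, 1, 0, 2]), (43908087945, [4, 1, 0, 2, 0, 1, 4, 4, 2]), (10622234792, [4, 2, 0, 1, 4, 0, 2]), (10622083368,
  [2, 0, 1, 4, 1, 0, 2, 1]), (10622093800, [2, 1, 0, 4, 1, 0, 4, 2, 1]), (43924865665, [4, 1, 0, 2, 0, 1, 0, 4, 2,
  0]), (11712756225, [4, 0, 2, 0, 1, 0, 4, 2, 0]), (11712600580, [4, 0, 2, 0, 1, 4, 0, 2, 1, 0]), (11712612903, [4, 0,
  1, 4, 2, 0, 1, 4, 2, 0]), (35351740545, [4, 2, 1, 0, 2, 0, 1, 0, 4, 2, 0]), (3139631105, [4, 2, 0, 2, 0, 1, 0, 4, 2,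
  0]), (35351883842, [4, 1, 0, 2, 0, 1, 4, 2, 0, 2]), (2065887392, [4, 2, 0, 1, 4, 2, 0, 2]), (43958452353, [0, 4, 2,
  1, 0, 2, 0, 1, 0, 4, 2]), (13893798337, [0, 4, 2, 0, 1, 4, 2, 0, 2, 0]), (13893795906, [2, 0, 4, 1, 0, 2, 0, 1, 4,
  2]), (13893796007, [2, 0, 4, 2, 1, 0, 4, 2]), (35385262721, [0, 4, 2, 1, 0, 2, 0, 1, 0, 4]), (5320608705, [0, 4, 2,
  0, 1, 4, 0, 2, 0]), (35385252804, [0, 2, 0, 1, 4, 1, 0, 2, 1, 0]), (2099268576, [2, 1, 0, 4, 2, 1, 0, 4, 2, 1]),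
  (35402039433, [4, 4, 1, 0, 2, 0, 1, 4, 2]), (5337383087, [2, 0, 4, 1, 0, 4, 2]), (35402031407, [2, 0, 4, 1, 4, 0, 2,
  1]), (3189786671, [1, 4, 2, 0, 1, 4, 0, 2, 1])]

/-- the other ones: code of the images, conjugate to `σ` (else to `ρ`), conjugating word -/
def tout : List (ℕ × Bool × List ℕ) := [
  (42146480257, false, [2, 0, 1, 4, 3, 2, 0, 1, 4]), (4565631105, false, [2, 0, 3, 2, 1, 0, 4, 1]), (34630430849,
  false, [2, 0, 1, 4, 3, 2, 0, 1]), (34630279425, false, [2, 0, 3, 2, 1, 0]), (2418034689, false, [2, 0, 1, 4, 3, 2,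
  0]), (34630289857, false, [2, 0, 3, 2, 1, 0, 4]), (34630287426, false, [2, 0, 3, 2]), (34630275204, false, [2, 0, 3,
  2, 1]), (1344290976, false, [2, 0, 1, 4, 3, 2, 1]), (34630287527, false, [2, 0, 1, 4, 3, 2]), (50753225345, true,
  [2, 0, 1, 0, 4, 3, 0, 1, 4]), (13172376193, true, [2, 0, 1, 4, 0, 3, 0, 1]), (43237175937, true, [2, 0, 1, 0, 4, 3,
  0, 1]), (43237024513, true, [2, 1, 0, 3, 1, 0]), (11024779777, true, [2, 0, 1, 0, 4, 3, 0]), (43237034945, true, [2,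
  0, 1, 4, 0, 3, 0]), (50770002057, true, [2, 0, 1, 0, 4, 3, 0, 1, 4, 0]), (13189152905, true, [2, 0, 1, 0, 4, 3, 0,
  1, 0]), (43253952649, true, [2, 0, 1, 4, 0, 3, 0, 1, 0]), (43253797004, true, [2, 1, 0, 3, 1]), (9967812776, true,
  [2, 0, 1, 4, 0, 3]), (43253809327, true, [2, 0, 1, 0, 4, 3]), (50803524233, true, [4, 3, 2, 0, 1, 4, 0, 2, 0, 3]),
  (11075078665, true, [2, 0, 1, 4, 0, 3, 1, 0]), (43287333833, true, [2, 0, 1, 0, 4, 3, 1, 0]), (43287331402, true,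
  [2, 1, 0, 3]), (10001334952, true, [2, 0, 1, 0, 4, 3, 1]), (43287331503, true, [2, 0, 1, 4, 0, 3, 1]), (42331030153,
  true, [3, 0, 3]), (4750181001, true, [3, 0, 4, 3]), (34814980745, true, [4, 3, 0, 3]), (34814837322, false, [2, 0,
  3]), (42364616841, true, [3, 0, 3, 1]), (2636171273, true, [4, 3, 0, 3, 1]), (34848426441, true, [3, 0, 4, 3, 1]),
  (34848411788, false, [2, 0, 3, 1]), (42381394561, true, [3, 0, 3, 1, 0]), (34865193729, false, [2, 0, 3, 1, 0]),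
  (1579205280, true, [3, 0, 4, 3, 1, 0]), (34865201831, true, [4, 3, 0, 3, 1, 0]), (50988073089, false, [2, 0, 3, 1,
  0, 3]), (43471872257, true, [3, 0, 3, 1, 0, 3]), (43471880258, true, [2, 1, 0, 3, 2]), (43471868036, true, [2, 1, 0,
  3, 2, 1]), (35167335049, true, [4, 3, 0, 3, 1, 0, 2, 0, 1]), (35167183625, true, [1, 4, 2, 0, 3, 1, 0]),
  (35167194057, true, [3, 0, 4, 3, 1, 0, 2, 0]), (35167191626, true, [1, 4, 2, 0, 3]), (35167179404, true, [2, 1, 0,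
  4, 3, 1]), (35167191727, true, [4, 3, 0, 3, 1, 0, 2]), (13809910409, true, [3, 0, 4, 3, 1, 0, 2, 0, 1]),
  (43874558729, true, [2, 1, 0, 4, 3, 1, 0]), (11662313993, true, [4, 3, 0, 3, 1, 0, 2, 0]), (43874566730, true, [2,
  1, 0, 4, 3]), (43874554508, true, [1, 4, 2, 0, 3, 1]), (10588570280, true, [3, 0, 4, 3, 1, 0, 2]), (43908231305,
  true, [3, 0, 1, 4, 4, 3]), (43908079881, true, [4, 3, 0, 1, 4, 3, 1]), (43908090313, true, [3, 0, 1, 4, 3, 1]),
  (10622091432, false, [2, 0, 1, 4, 3, 1]), (43925009025, true, [3, 0, 1, 4, 3, 0]), (11712612865, false, [2, 0, 1, 4,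
  3, 0]), (43924853380, true, [4, 3, 0, 1, 4, 3, 0]), (43924865703, true, [3, 0, 4, 1, 4, 3, 0]), (35351883905, false,
  [2, 0, 1, 4, 3, 0, 1]), (3139487745, true, [3, 0, 1, 4, 3, 0, 1]), (35351740482, true, [1, 4, 2, 0, 3, 2]),
  (2065744032, true, [2, 0, 1, 4, 0, 3, 2]), (13893795969, false, [2, 0, 3, 1, 0, 4, 1]), (43958454721, true, [3, 0,
  3, 1, 0, 4, 1]), (43958452290, true, [2, 1, 0, 4, 3, 2]), (43958452391, true, [2, 0, 1, 0, 4, 3, 2]), (5320606337,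
  true, [3, 0, 3, 1, 0, 4]), (35385265089, false, [2, 0, 3, 1, 0, 4]), (35385250436, true, [2, 1, 0, 4, 3, 2, 1]),
  (2099266208, true, [3, 0, 1, 4, 3, 1, 0]), (5337383049, true, [3, 0, 1, 4, 3]), (35402031369, true, [4, 3, 0, 1, 4,
  3]), (3189786633, true, [3, 0, 4, 1, 4, 3]), (35402039471, false, [2, 0, 1, 4, 3])]

/-- translates of `ρ` -/
def tr : List (ℕ × List ℕ) := [
  (0, []), (1, [3, 2]), (2, [3, 2, 0]), (4, [3, 2, 0, 1]), (24, [8]), (25, [8, 3, 2]), (26, [8, 3, 2, 0]), (28, [8, 3,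
  2, 0, 1]), (32, [3, 2, 0, 1, 4, 0]), (39, [3, 2, 0, 1, 4]), (56, [8, 3, 2, 0, 1, 4, 0]), (63, [8, 3, 2, 0, 1, 4])]

/-- translates of `σ` -/
def ts : List (ℕ × List ℕ) := [
  (0, []), (3, [5]), (4, [5, 10]), (7, [10]), (24, [8]), (27, [5, 8]), (28, [5, 8, 10]), (31, [8, 10])]

/-- one isometry -/
def leaf (L : List ℕ) : Bool :=
  !(inv1 L) || (tin.any (fun e => Nat.beq e.1 (key L) && cin L e.2) ||
    tout.any (fun e => Nat.beq e.1 (key L) && cout L e.2.1 e.2.2))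

/-- all isometries fixing `8` -/
def chk : Bool :=
  sg.all fun v4 => ot v4 8 ||
    (fun S : List ℕ => S.all fun v0 => S.all fun v1 => ot v1 v0 || S.all fun v2 => (ot v2 v0 || ot v2 v1) ||
      S.all fun v5 => (ot v5 v0 || (ot v5 v1 || ot v5 v2)) || leaf [v0, v1, v2, 8, v4, v5])
    (sg.filter fun c => ot c 8 && ot c v4)

theorem chk_true : chk = true := by decide +kernel

theorem leaf_of {v0 v1 v2 v4 v5 : ℕ} (h0 : v0 ∈ sg) (h1 : v1 ∈ sg) (h2 : v2 ∈ sg) (h4 : v4 ∈ sg) (h5 : v5 ∈ sg)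
    (h48 : ot v4 8 = false) (h08 : ot v0 8 = true) (h04 : ot v0 v4 = true) (h18 : ot v1 8 = true)
    (h14 : ot v1 v4 = true) (h28 : ot v2 8 = true) (h24 : ot v2 v4 = true) (h58 : ot v5 8 = true)
    (h54 : ot v5 v4 = true) (h10 : ot v1 v0 = false) (h20 : ot v2 v0 = false) (h21 : ot v2 v1 = false)
    (h50 : ot v5 v0 = false) (h51 : ot v5 v1 = false) (h52 : ot v5 v2 = false) :
    leaf [v0, v1, v2, 8, v4, v5] = true := by
  have h := List.all_eq_true.1 chk_true v4 h4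
  rw [h48, Bool.false_or] at h
  have hS : ∀ {c : ℕ}, c ∈ sg → ot c 8 = true → ot c v4 = true → c ∈ sg.filter fun c => ot c 8 && ot c v4 := by
    intro c hc h1 h2
    rw [List.mem_filter]
    exact ⟨hc, by rw [h1, h2]; rfl⟩
  have ha := List.all_eq_true.1 (List.all_eq_true.1 h v0 (hS h0 h08 h04)) v1 (hS h1 h18 h14)
  rw [h10, Bool.false_or] at ha
  have hb := List.all_eq_true.1 ha v2 (hS h2 h28 h24)
  rw [h20, h21, Bool.false_or, Bool.false_or] at hb
  have hc := List.all_eq_true.1 hb v5 (hS h5 h58 h54)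
  rw [h50, h51, h52, Bool.false_or, Bool.false_or, Bool.false_or] at hc
  exact hc

/-- **Stage 1.** -/
theorem stage1 {L : List ℕ} (h : leaf L = true) (hi : ∀ i < 6, lv (img L) (img L i) 6 = 2 ^ i) :
    (∃ w, ∀ i < 6, w6 w (2 ^ i) = img L i) ∨
    ∃ s w, ∀ i < 6, w6 w (img L i) = lv (fun i => img (cond s sl rl) i % 64) (w6 w (2 ^ i)) 6 := by
  have hinv : inv1 L = true := by
    rw [inv1, List.all_eq_true]
    intro i hi'
    have : i < 6 := by
      revert hi' ; revert i; decide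
    rw [hi i this]
    exact Nat.beq_refl _
  rw [leaf, hinv, Bool.not_true, Bool.false_or, Bool.or_eq_true] at h
  rcases h with h | h
  · left
    obtain ⟨e, _, he⟩ := List.any_eq_true.1 h
    rw [Bool.and_eq_true] at he
    exact ⟨e.2, fun i hi => Nat.eq_of_beq_eq_true (List.all_eq_true.1 he.2 i (mem_ix hi))⟩
  · right
    obtain ⟨e, _, he⟩ := List.any_eq_true.1 h
    rw [Bool.and_eq_true] at he
    exact ⟨e.2.1, e.2.2, fun i hi => Nat.eq_of_beq_eq_true (List.all_eq_true.1 he.2 i (mem_ix hi))⟩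

/-! ### Stage 2 -/

/-- conjugation by `C c` on codes -/
def cj (c d : ℕ) : ℕ := d ^^^ (if (bf BB 6 c d ^^ bf BB 6 d c) = true then 2 ^ 6 else 0)

/-- the action of the extended generators -/
def AR (k c : ℕ) : ℕ := if k < 5 then AA k c else cj (2 ^ (k - 5)) c

/-- certificate -/
def ct (I : List ℕ) (c : ℕ) (w : List ℕ) : Bool :=
  ix.all fun i => Nat.beq (actw AR w (act BB 6 (img I) (cj c (2 ^ i)))) (act BB 6 (img I) (actw AR w (2 ^ i)))

/-- all translates -/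
def chk2 (I : List ℕ) (T : List (ℕ × List ℕ)) : Bool :=
  (List.range 128).all fun c => !(Nat.beq (mulc BB 6 (act BB 6 (img I) c) c) 0) ||
    T.any fun e => Nat.beq e.1 (c % 64) && ct I c e.2

theorem chk2_r : chk2 rl tr = true := by decide +kernel

theorem chk2_s : chk2 sl ts = true := by decide +kernel

theorem stage2 {s : Bool} {c : ℕ} (hc : c < 128)
    (h : mulc BB 6 (act BB 6 (img (cond s sl rl)) c) c = 0) :
    ∃ w, ∀ i < 6, actw AR w (act BB 6 (img (cond s sl rl)) (cj c (2 ^ i))) =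
      act BB 6 (img (cond s sl rl)) (actw AR w (2 ^ i)) := by
  have key : ∀ {I : List ℕ} {T : List (ℕ × List ℕ)}, chk2 I T = true → mulc BB 6 (act BB 6 (img I) c) c = 0 →
      ∃ w, ∀ i < 6, actw AR w (act BB 6 (img I) (cj c (2 ^ i))) = act BB 6 (img I) (actw AR w (2 ^ i)) := by
    intro I T hT h0
    have h1 := List.all_eq_true.1 hT c (List.mem_range.2 hc)
    rw [h0] at h1
    have h2 : (!(Nat.beq 0 0)) = false := rfl
    rw [h2, Bool.false_or] at h1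
    obtain ⟨e, _, he⟩ := List.any_eq_true.1 h1
    rw [Bool.and_eq_true] at he
    exact ⟨e.2, fun i hi => Nat.eq_of_beq_eq_true (List.all_eq_true.1 he.2 i (mem_ix hi))⟩
  cases s
  · exact key chk2_r h
  · exact key chk2_s h

end Cfsg.Agent.KFacts.SuzInvolTab
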