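import Cfsg.Agent.KFacts.SuzSheet
import Cfsg.Agent.KFacts.LargeAut

/-!
# The Suzuki group: `Large Q0 z0`, (hR), (hC)
-/

set_option autoImplicit false
set_option maxRecDepth 100000

namespace Cfsg.Agent.KFacts.SuzLarge

open Cfsg.Spor Cfsg.Agent.SuzThree.CentA Cfsg.Agent.SuzThree.QZero Cfsg.Agent.KFacts.SuzR
  Cfsg.Agent.KFacts.SuzSheet Cfsg.Agent.KFacts.Codes Cfsg.Agent.Co2Type.Quad
  Cfsg.Agent.KFacts.LargeO2

theorem large : Large Q0 z0 where
  z_mem := z_mem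
  z_ne := z_ne
  z_sq := z_sq
  comm_z _ hx := mem_C1.1 (Q0_le hx)
  conj_mem _ hg _ hx := normal_R (mem_C1.2 hg) hx
  sq _ hx := R_sq hx
  comm x hx y hy := by
    rcases R_comm hx hy with h1 | h1
    · exact Or.inl h1
    · right
      have h2 : (y * x) * z0 = z0 * (y * x) := mem_C1.1 (C1.mul_mem (Q0_le hy) (Q0_le hx))
      rw [h1, h2]
  cent _ _ hc := centralizer_R fun y hy => (hc y hy).symm
  self g _ hc := by
    rcases centralizer_R (g := g) fun y hy => (hc y hy).symm with h1 | h1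
    · rw [h1]; exact Q0.one_mem
    · rw [h1]; exact z_mem

theorem irr : Irr Q0 z0 := fun _ hN hinv =>
  SuzR.irr hN fun u hu y hy => hinv u (mem_C1.1 hu) y hy

theorem C_mem (c : ℕ) : C c ∈ Q0 := by rw [Q0_eq]; exact cod_mem c

theorem C_z (c : ℕ) : C c * z0 = C (mulc BB 6 c 64) := by
  have : C 64 = z0 := cod_z (n := 6)
  rw [← this, C, C, cod_mul rels tri]

theorem C_ne {c d : ℕ} (hc : c < 128) (hd : d < 128) (h : c ≠ d) : C c ≠ C d := fun he =>
  h (cod_injOn rels tri nondeg z_ne hc hd he)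

/-- noncentral elements exist -/
theorem exists_nc : ∃ x ∈ Q0, x ≠ 1 ∧ x ≠ z0 := by
  refine ⟨C 8, C_mem 8, ?_, ?_⟩
  · have : C 0 = 1 := cod_zero
    rw [← this]; exact C_ne (by norm_num) (by norm_num) (by norm_num)
  · have : C 64 = z0 := cod_z (n := 6)
    rw [← this]; exact C_ne (by norm_num) (by norm_num) (by norm_num)

/-- **(hR)**: `O₂(C_K(z)) = R`. -/
theorem hR {W : Subgroup Suz} (hW : IsPGroup 2 W) (hWz : ∀ w ∈ W, w * z0 = z0 * w)
    (hinv : ∀ u : Suz, u * z0 = z0 * u → ∀ w ∈ W, u * w * u⁻¹ ∈ W) : W ≤ Q0 :=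
  le_of_normal large irr exists_nc hW hWz hinv

/-- the set with one-dimensional fixed space -/
noncomputable def D : Set Suz := {d | ∃ k : ℕ, (k = 0 ∨ k = 2 ∨ k = 4) ∧ gg k = d}

theorem chkD : ∀ c < 128, (∀ k ∈ [0, 2, 4], AA k c = c ∨ AA k c = mulc BB 6 c 64) →
    c = 0 ∨ c = 64 ∨ c = 8 ∨ c = 72 := by decide +kernel

theorem D_comm : ∀ d ∈ D, d * z0 = z0 * d := by
  rintro d ⟨k, -, rfl⟩
  exact mem_C1.1 (gg_mem k)

theorem fix_D : ∀ x ∈ Q0, (∀ d ∈ D, d * x * d⁻¹ = x ∨ d * x * d⁻¹ = x * z0) →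
    x = 1 ∨ x = z0 ∨ x = C 8 ∨ x = C 8 * z0 := by
  intro x hx hd
  rw [Q0_eq] at hx
  obtain ⟨c, hc, rfl⟩ := (mem_RG rels tri).1 hx
  have hlt : ∀ k < 5, AA k c < 128 := by
    revert c
    have : ∀ c < 128, ∀ k < 5, AA k c < 128 := by decide +kernel
    intro c hc _ _
    exact this c hc
  have hlt2 : mulc BB 6 c 64 < 128 := by
    revert c
    have : ∀ c < 128, mulc BB 6 c 64 < 128 := by decide +kernel
    intro c hc _ _ _
    exact this c hc
  have h1 := chkD c hc (by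
    intro k hk
    have hk' : k = 0 ∨ k = 2 ∨ k = 4 := by
      simp only [List.mem_cons, List.not_mem_nil, or_false] at hk
      exact hk
    have hk5 : k < 5 := by omega
    have h2 := hd (gg k) ⟨k, hk', rfl⟩
    have h3 := conj_AA k c
    rw [C] at h3
    rw [h3] at h2
    rcases h2 with h2 | h2
    · left
      exact cod_injOn rels tri nondeg z_ne (hlt k hk5) hc h2
    · right
      have h4 : C (AA k c) = C (mulc BB 6 c 64) := by rw [← C_z]; exact h2
      exact cod_injOn rels tri nondeg z_ne (hlt k hk5) hlt2 h4)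
  rcases h1 with rfl | rfl | rfl | rfl
  · left; exact cod_zero
  · right; left; exact cod_z (n := 6)
  · right; right; left; rfl
  · right; right; right
    rw [C_z]
    congr 1

theorem fix_v : ∀ d ∈ D, d * C 8 * d⁻¹ = C 8 ∨ d * C 8 * d⁻¹ = C 8 * z0 := by
  rintro d ⟨k, hk, rfl⟩
  rw [conj_AA]
  left
  rcases hk with rfl | rfl | rfl
  · have : AA 0 8 = 8 := by decide +kernel
    rw [this]
  · have : AA 2 8 = 8 := by decide +kernel
    rw [this]
  · have : AA 4 8 = 8 := by decide +kernel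
    rw [this]

theorem v_ne : C 8 ≠ 1 ∧ C 8 ≠ z0 := by
  constructor
  · have : C 0 = 1 := cod_zero
    rw [← this]; exact C_ne (by norm_num) (by norm_num) (by norm_num)
  · have : C 64 = z0 := cod_z (n := 6)
    rw [← this]; exact C_ne (by norm_num) (by norm_num) (by norm_num)

/-- **(hC)** for elements -/
theorem hC {g : Suz} (hg : g * z0 = z0 * g) (hc : ∀ u : Suz, u * z0 = z0 * u → g * u * g⁻¹ * u⁻¹ ∈ Q0) :
    g ∈ Q0 :=
  mem_of_comm large irr (C_mem 8) v_ne.1 v_ne.2 D_comm fix_D fix_v hg hc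

/-- **(hC)** for automorphisms, given (T1') -/
theorem hC_aut (hT : ∀ β : MulAut Suz, (∀ c : Suz, c * z0 = z0 * c → β c = c) → β = 1 ∨ β = MulAut.conj z0)
    {α : MulAut Suz} (hz : α z0 = z0) (hc : ∀ u : Suz, u * z0 = z0 * u → α u * u⁻¹ ∈ Q0) :
    ∃ y ∈ Q0, α = MulAut.conj y :=
  LargeAut.exists_conj large irr (fun f u => hom_trivial f u) hT (C_mem 8) v_ne.1 v_ne.2 D_comm fix_D fix_v
    hz hc

end Cfsg.Agent.KFacts.SuzLarge
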