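import Cfsg.Agent.KFacts.SuzLarge
import Cfsg.Agent.KFacts.AutChain

/-!
# Automorphisms of the Suzuki group (helper399)

`t1'`: an automorphism of `Suz` centralising `C(z0)` is `1` or the conjugation by `z0`. `out_two`, `index_le_two`, `out`:
at most two classes of automorphisms modulo the inner ones.
-/

set_option autoImplicit false
set_option maxRecDepth 100000
set_option exponentiation.threshold 4000

namespace Cfsg.Agent.KFacts.SuzOut

open Cfsg.Spor Cfsg.Agent.Lib.PermNet Cfsg.Agent.Lib.PermNetOrbit Cfsg.Agent.SporadicRecognition.SuzPhi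
  Cfsg.Agent.SporadicRecognition.SuzBound Cfsg.Agent.SporadicRecognition.SuzOrder
  Cfsg.Agent.SuzThree.Nets Cfsg.Agent.SuzThree.Basic Cfsg.Agent.SuzThree.Elts
  Cfsg.Agent.SuzThree.Elementary Cfsg.Agent.SuzThree.CentA Cfsg.Agent.SuzThree.CentB
  Cfsg.Agent.SuzThree.QZero Cfsg.Agent.KFacts.SuzCent Cfsg.Agent.LargeExtra.Model
  Cfsg.Agent.LargeExtra.Pres Cfsg.Agent.KFacts.Codes Cfsg.Agent.KFacts.Orbits Cfsg.Agent.KFacts.SuzR
  Cfsg.Agent.KFacts.SuzSheet Cfsg.Agent.KFacts.SuzLarge Cfsg.Agent.KFacts.AutLarge Cfsg.Agent.KFacts.AutChain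

/-! ### Generation -/

/-- the word of an element conjugating `z0` to the generator `c` -/
def nw : List Suz.Gen := [.b, .c, .a, .b, .a, .b]

/-- the element -/
noncomputable def n0 : Suz := el nw

theorem n0_conj : n0 * z0 * n0⁻¹ = q .k1 := by
  rw [mul_inv_eq_iff_eq_mul]
  show el nw * el [.a] = el [.c] * el nw
  rw [← el_append, ← el_append]
  exact eq_of_reps (Rep.el _) (Rep.el _) (by decide +kernel)

/-- a word in `P` and `n0` -/
def mw : List Suz.Gen := h1 ++ ([.c] ++ ([.d] ++ (nw ++ (h1 ++ ([.d] ++ nw)))))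

theorem mw_comm : (el mw * z0 * (el mw)⁻¹) * el [.b] = el [.b] * (el mw * z0 * (el mw)⁻¹) := by
  rw [← el_reverse]
  show el mw * el [.a] * el mw.reverse * el [.b] = el [.b] * (el mw * el [.a] * el mw.reverse)
  rw [← el_append, ← el_append, ← el_append, ← el_append]
  exact eq_of_reps (Rep.el _) (Rep.el _) (by decide +kernel)

theorem comm_of {x : Suz.Gen} (h : checkEq 11 (wd ([x] ++ [.a])) (wd (.a :: [x])) = true) :
    el [x] * z0 = z0 * el [x] := mem_C1.1 (mem_C1_of h)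

theorem gen : Subgroup.closure ({c : Suz | c * z0 = z0 * c} ∪ {n0}) = ⊤ := by
  set H := Subgroup.closure ({c : Suz | c * z0 = z0 * c} ∪ {n0}) with hH
  have hP : ∀ c : Suz, c * z0 = z0 * c → c ∈ H := fun c hc => Subgroup.subset_closure (Or.inl hc)
  have hn : n0 ∈ H := Subgroup.subset_closure (Or.inr rfl)
  have ha : el [.a] ∈ H := hP _ rfl
  have hc : el [.c] ∈ H := hP _ (comm_of (by decide +kernel))
  have hd : el [.d] ∈ H := hP _ (comm_of (by decide +kernel))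
  have he : el [.e] ∈ H := hP _ (comm_of (by decide +kernel))
  have hf : el [.f] ∈ H := hP _ (comm_of (by decide +kernel))
  have hg : el [.g] ∈ H := hP _ (comm_of (by decide +kernel))
  have hh : el h1 ∈ H := hP _ (mem_C1.1 h1_mem)
  have hm : el mw ∈ H := by
    rw [mw, el_append, el_append, el_append, el_append, el_append, el_append]
    exact H.mul_mem hh (H.mul_mem hc (H.mul_mem hd (H.mul_mem hn (H.mul_mem hh (H.mul_mem hd hn)))))
  have hb : el [.b] ∈ H := by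
    have h1 : ((el mw)⁻¹ * el [.b] * el mw) * z0 = z0 * ((el mw)⁻¹ * el [.b] * el mw) := by
      calc ((el mw)⁻¹ * el [.b] * el mw) * z0
          = (el mw)⁻¹ * (el [.b] * (el mw * z0 * (el mw)⁻¹)) * el mw := by group
        _ = (el mw)⁻¹ * ((el mw * z0 * (el mw)⁻¹) * el [.b]) * el mw := by rw [mw_comm]
        _ = z0 * ((el mw)⁻¹ * el [.b] * el mw) := by group
    have h2 := hP _ h1
    have h3 : el [.b] = el mw * ((el mw)⁻¹ * el [.b] * el mw) * (el mw)⁻¹ := by group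
    rw [h3]
    exact H.mul_mem (H.mul_mem hm h2) (H.inv_mem hm)
  rw [eq_top_iff, ← closure_S7, Subgroup.closure_le]
  rintro g ⟨w, hw, rfl⟩
  simp only [List.mem_cons, List.not_mem_nil, or_false] at hw
  rcases hw with rfl | rfl | rfl | rfl | rfl | rfl | rfl
  · exact ha
  · exact hb
  · exact hc
  · exact hd
  · exact he
  · exact hf
  · exact hg

theorem n0_in : n0 * z0 * n0⁻¹ ∈ Q0 := by rw [n0_conj]; exact q_mem .k1

theorem C64 : C 64 = z0 := cod_z (n := 6)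

theorem C1' : C 1 = q .k1 := cod_pow (n := 6) (i := 0) (by norm_num)

theorem n0_ne : n0 * z0 * n0⁻¹ ≠ z0 := by
  rw [n0_conj, ← C1', ← C64]
  exact C_ne (by norm_num) (by norm_num) (by norm_num)

theorem perf : commutator (Subgroup.centralizer ({z0} : Set Suz)) = ⊤ := SuzR.perfect

theorem irr' : AutLarge.Irr Q0 z0 := SuzLarge.irr

/-- **(T1')** -/
theorem t1' (β : MulAut Suz) (h : ∀ c, c * z0 = z0 * c → β c = c) : β = 1 ∨ β = MulAut.conj z0 :=
  LargeE.eq_one_or_conj large n0_in n0_ne gen β h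

/-- **(T1s)** an automorphism centralising `R` is inner. -/
theorem t1s (β : MulAut Suz) (h : ∀ x ∈ Q0, β x = x) : β = 1 ∨ β = MulAut.conj z0 :=
  AutLarge.eq_one_or_conj large perf n0_in n0_ne gen β h

/-! ### The chain -/

/-- level 0: images of `x 3` -/
def W0 : List (ℕ × List ℕ) :=
  [(1, [3, 0, 2, 0]), (2, [3, 0, 2]), (4, [3, 0, 2, 1]), (8, []), (9, [3]), (10, [3, 0]), (12, [3,
   0, 1]), (16, [3, 0, 3, 2, 0, 2]), (17, [3, 0, 3, 2, 0]), (18, [3, 0, 3, 2]), (20, [3, 0, 3, 2,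
   1]), (27, [3, 0, 3]), (29, [3, 0, 3, 1]), (30, [3, 0, 3, 1, 0]), (31, [3, 0, 3, 1, 0, 2]), (32,
   [3, 0, 1, 4, 2, 0]), (39, [3, 0, 1, 4, 2]), (40, [3, 0, 1, 4, 0]), (47, [3, 0, 1, 4]), (48, [3,
   0, 1, 4, 3, 2, 0]), (55, [3, 0, 1, 4, 3, 2]), (57, [3, 0, 1, 4, 3, 1]), (58, [3, 0, 1, 4, 3, 0]),
   (59, [3, 0, 1, 4, 3, 0, 1]), (60, [3, 0, 3, 1, 0, 4, 1]), (61, [3, 0, 3, 1, 0, 4]), (62, [3, 0,
   1, 4, 3])]

/-- level 1: images of `x 4` -/
def W1 : List (ℕ × List ℕ) :=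
  [(16, []), (17, [2]), (18, [2, 0]), (20, [2, 0, 1]), (27, [2, 0, 2]), (29, [2, 0, 2, 1]), (30, [2,
   0, 2, 1, 0]), (31, [2, 0, 2, 1, 0, 2]), (48, [2, 0, 1, 4, 0]), (55, [2, 0, 1, 4]), (57, [2, 0, 1,
   4, 2, 1]), (58, [2, 0, 1, 4, 2, 0]), (59, [2, 0, 1, 4, 2, 0, 1]), (60, [2, 0, 2, 1, 0, 4, 1]),
   (61, [2, 0, 2, 1, 0, 4]), (62, [2, 0, 1, 4, 2])]

/-- level 2: images of `x 0` -/
def W2 : List (ℕ × List ℕ) :=
  [(1, []), (2, [0]), (4, [0, 1]), (32, [0, 1, 4, 0]), (39, [0, 1, 4])]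

/-- level 3: images of `x 1` -/
def W3 : List (ℕ × List ℕ) :=
  [(2, []), (4, [1]), (32, [1, 4, 1]), (39, [1, 4])]

/-- level 4: images of `x 2` -/
def W4 : List (ℕ × List ℕ) :=
  [(4, []), (32, [4, 4]), (39, [4])]

/-- level 5: images of `x 5` -/
def W5 : List (ℕ × List ℕ) :=
  [(32, [])]

theorem lv0 : LvOk BB 6 AA [] 3 W0 [] := by decide +kernel
theorem lv1 : LvOk BB 6 AA [3] 4 W1 [] := by decide +kernel
theorem lv2 : LvOk BB 6 AA [4, 3] 0 W2 [] := by decide +kernel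
theorem lv3 : LvOk BB 6 AA [0, 4, 3] 1 W3 [] := by decide +kernel
theorem lv4 : LvOk BB 6 AA [1, 0, 4, 3] 2 W4 [] := by decide +kernel
theorem lv5 : LvOk BB 6 AA [2, 1, 0, 4, 3] 5 W5 [39] := by decide +kernel

/-- the complete levels -/
def ls : List (ℕ × List (ℕ × List ℕ)) := [(3, W0), (4, W1), (0, W2), (1, W3), (2, W4)]

theorem lsOk : AutChain.ChOk BB 6 AA [] ls :=
  ⟨⟨by norm_num, lv0⟩, ⟨by norm_num, lv1⟩, ⟨by norm_num, lv2⟩, ⟨by norm_num, lv3⟩, ⟨by norm_num, lv4⟩, trivial⟩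

theorem cert : Cert Suz BB 6 z0 xx gg AA where
  rels := rels
  tri := tri
  nd := nondeg
  gz k := mem_C1.1 (gg_mem k)
  act := conj_AA
  large := by rw [← Q0_eq]; exact large

theorem all_idx : ∀ j < 6, j ∈ 5 :: idx [] ls := by
  intro j hj
  show j ∈ [5, 2, 1, 0, 4, 3]
  interval_cases j <;> simp

/-- **At most two classes of automorphisms.** -/
theorem out_two (α α' : MulAut Suz) : α ∈ (MulAut.conj (G := Suz)).range ∨ α' ∈ (MulAut.conj (G := Suz)).range ∨
    α⁻¹ * α' ∈ (MulAut.conj (G := Suz)).range :=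
  cert.out_two (by rw [← Q0_eq]; exact irr') perf odd_index (by rw [← Q0_eq]; exact n0_in) n0_ne gen lsOk
    (i := 5) (by norm_num) (L := W5) (c₁ := 39) lv5 all_idx α α'

/-- a subgroup with at most two cosets -/
theorem index_le_two_of {G : Type*} [Group G] (H : Subgroup G) (h : ∀ a b : G, a ∈ H ∨ b ∈ H ∨ a⁻¹ * b ∈ H) :
    H.index = 1 ∨ H.index = 2 := by
  by_cases hall : ∀ a, a ∈ H
  · left
    rw [Subgroup.index_eq_one]
    exact (Subgroup.eq_top_iff' H).2 hall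
  · right
    push Not at hall
    obtain ⟨a, ha⟩ := hall
    rw [Subgroup.index_eq_two_iff]
    refine ⟨a⁻¹, fun b => ?_⟩
    by_cases hb : b ∈ H
    · right
      refine ⟨hb, fun h1 => ha ?_⟩
      have h2 := (H.mul_mem_cancel_left hb).1 h1
      exact (H.inv_mem_iff).1 h2
    · left
      refine ⟨?_, hb⟩
      rcases h b⁻¹ a⁻¹ with h1 | h1 | h1
      · exact absurd ((H.inv_mem_iff).1 h1) hb
      · exact absurd ((H.inv_mem_iff).1 h1) ha
      · rwa [inv_inv] at h1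

theorem index_eq : (MulAut.conj : Suz →* MulAut Suz).range.index = 1 ∨
    (MulAut.conj : Suz →* MulAut Suz).range.index = 2 := index_le_two_of _ out_two

/-- **The outer automorphism group has order at most 2.** -/
theorem out : ¬ 4 ∣ (MulAut.conj : Suz →* MulAut Suz).range.index := by
  rcases index_eq with h | h <;> rw [h] <;> decide

end Cfsg.Agent.KFacts.SuzOut
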