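import Cfsg.Agent.KFacts.SuzLarge
import Cfsg.Agent.SporRec.SuzCl.Inv

/-!
# The `y`-trick datum of the Suzuki group

`P = C_K(z)`, `R = O₂(P)`. An involution `u ∈ P - R` such that every `y ∈ R` commutes with `u y u⁻¹` is `P`-conjugate
to `h1 = k z k⁻¹`, `k = bcfb`. Hence every automorphism of `P` fixing `z` maps `h1` to a `P`-conjugate of `h1`.
-/

set_option autoImplicit false
set_option maxRecDepth 100000

namespace Cfsg.Agent.KFacts.SuzY

open Cfsg.Spor Cfsg.Agent.SporadicRecognition.SuzPhi Cfsg.Agent.SporadicRecognition.SuzOrder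
  Cfsg.Agent.SuzThree.CentA Cfsg.Agent.SuzThree.QZero Cfsg.Agent.KFacts.SuzR
  Cfsg.Agent.KFacts.Codes Cfsg.Agent.KFacts.Orbits Cfsg.Agent.Co2Type.Quad
  Cfsg.Agent.KFacts.LargeO2 Cfsg.Agent.KFacts.SuzLarge
open Cfsg.Agent.SporRec.SuzCl (R wtr wtr_spec pr Gs Ts tev tev_zero R_Ts tb MA MB eqB eq_of_eqB eqB_of_eq app tA tC tF t2 allP allP_spec)

/-- elements of `R` in `T` conjugate to `a` : index, code -/
def LR : List (ℕ × ℕ) :=
  [(2, 2), (46, 96), (74, 4), (102, 103), (512, 16), (514, 18), (558, 112), (586, 20), (614, 119), (1024, 8),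
  (1026, 10), (1070, 104), (1098, 12), (1126, 111), (1580, 58), (1608, 94), (1636, 125), (2048, 1), (2560,
  17), (3072, 9), (3586, 27), (3628, 59), (3630, 121), (3656, 95), (3658, 29), (3684, 124), (3686, 126),
  (4096, 64), (4098, 66), (4142, 32), (4170, 68), (4198, 39), (4608, 80), (4610, 82), (4654, 48), (4682, 84),
  (4710, 55), (5120, 72), (5122, 74), (5166, 40), (5194, 76), (5222, 47), (5676, 122), (5704, 30), (5732, 61),
  (6144, 65), (6656, 81), (7168, 73), (7682, 91), (7724, 123), (7726, 57), (7752, 31), (7754, 93), (7780, 60),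
  (7782, 62)]

/-- elements of `T - R` conjugate to `a`: index, word in the generators of `P` -/
def LP : List (ℕ × List ℕ) :=
  [(128, [0, 2, 0, 3, 0]), (256, []), (420, [0, 2, 0, 3, 2, 1, 0]), (460, [0, 4, 2, 0, 3, 1, 0, 3]), (488, [0,
  2, 0, 3, 4, 2, 1, 0]), (640, [0, 3, 2, 0, 3, 0]), (1280, [3, 4]), (1960, [0, 4, 2, 0, 3, 2, 1, 0]), (1988,
  [4, 0, 2, 0, 3, 2, 1, 0]), (2028, [0, 2, 0, 3, 1, 0, 3]), (2176, [0, 2, 0, 3, 2, 0]), (2304, [3]), (2468,
  [0, 2, 0, 3, 1, 0]), (2508, [4, 4, 0, 2, 0, 3, 1, 0]), (2536, [0, 2, 0, 3, 4, 1, 0]), (2688, [4, 0, 2, 0, 3,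
  2, 0]), (3328, [4, 3]), (4008, [0, 2, 4, 0, 3, 2, 1, 0]), (4036, [0, 2, 0, 4, 3, 2, 1, 0]), (4076, [0, 2, 0,
  1, 4, 2, 3, 0]), (4224, [0, 2, 3, 0, 3, 0]), (4352, [4, 3, 4]), (4516, [1, 0, 2, 0, 3, 1, 0]), (4556, [4, 0,
  2, 0, 4, 3, 1, 0]), (4584, [0, 4, 2, 4, 0, 3, 1, 0]), (4736, [4, 0, 2, 0, 3, 0]), (5376, [4]), (6056, [0, 2,
  4, 0, 3, 1, 0]), (6084, [0, 2, 0, 4, 3, 1, 0]), (6124, [0, 2, 4, 0, 3, 4, 1, 0]), (6272, [0, 2, 0, 3, 4,
  0]), (6400, [0, 2, 0, 3]), (6564, [0, 2, 0, 2, 3, 1, 0]), (6604, [0, 2, 4, 0, 3, 1, 0, 3]), (6632, [1, 0, 2,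
  0, 3, 4, 1, 0]), (6784, [0, 2, 4, 0, 3, 0]), (7424, [3, 4, 3]), (8104, [0, 4, 2, 0, 3, 1, 0]), (8132, [4, 0,
  2, 0, 3, 1, 0]), (8172, [0, 2, 0, 1, 4, 3, 0])]

theorem z0_eq : z0 = SporRec.SuzCl.ia := by
  show ([Suz.Gen.a].map fun x => (PresentedGroup.of x : Suz)).prod = _
  rw [List.map_cons, List.map_nil, List.prod_cons, List.prod_nil, mul_one]
  rfl

/-- action of the generators of `P` on points -/
noncomputable def ga' (k p : ℕ) : ℕ :=
  match k with
  | 0 => wtr [.d] p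
  | 1 => wtr [.e] p
  | 2 => wtr h1 p
  | 3 => wtr h2 p
  | 4 => wtr h3 p
  | _ => p

theorem ga'_spec (k p : ℕ) (hp : p < 1782) : φ (gg k) p = ga' k p ∧ ga' k p < 1782 := by
  match k with
  | 0 => exact wtr_spec _ _ hp
  | 1 => exact wtr_spec _ _ hp
  | 2 => exact wtr_spec _ _ hp
  | 3 => exact wtr_spec _ _ hp
  | 4 => exact wtr_spec _ _ hp
  | k + 5 =>
    refine ⟨?_, hp⟩
    show φ 1 p = p
    rw [map_one φ]; rfl

/-- action of a word in the generators of `P` -/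
noncomputable def gwt : List ℕ → ℕ → ℕ
  | [], p => p
  | k :: w, p => ga' k (gwt w p)

theorem gwt_spec (w : List ℕ) (p : ℕ) (hp : p < 1782) : φ (gw gg w) p = gwt w p ∧ gwt w p < 1782 := by
  induction w with
  | nil =>
    refine ⟨?_, hp⟩
    show φ 1 p = p
    rw [map_one φ]; rfl
  | cons k w ih =>
    have h := ga'_spec k _ ih.2
    refine ⟨?_, h.2⟩
    show φ (gg k * gw gg w) p = ga' k (gwt w p)
    rw [map_mul, Equiv.Perm.mul_apply, ih.1]
    exact h.1

/-- action of the generators of `R` on points -/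
noncomputable def xt (i p : ℕ) : ℕ :=
  match i with
  | 0 => wtr (qw .k1) p
  | 1 => wtr (qw .k2) p
  | 2 => wtr (qw .k3) p
  | 3 => wtr (qw .k4) p
  | 4 => wtr (qw .k5) p
  | 5 => wtr (qw .k6) p
  | _ => p

theorem xt_spec (i p : ℕ) (hp : p < 1782) : φ (xx i) p = xt i p ∧ xt i p < 1782 := by
  match i with
  | 0 => exact wtr_spec _ _ hp
  | 1 => exact wtr_spec _ _ hp
  | 2 => exact wtr_spec _ _ hp
  | 3 => exact wtr_spec _ _ hp
  | 4 => exact wtr_spec _ _ hp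
  | 5 => exact wtr_spec _ _ hp
  | k + 6 =>
    refine ⟨?_, hp⟩
    show φ 1 p = p
    rw [map_one φ]; rfl

/-- action of the ordered product over the bits `i < k` of `c` -/
noncomputable def prt (c : ℕ) : ℕ → ℕ → ℕ
  | 0, p => p
  | k + 1, p => prt c k (if c.testBit k = true then xt k p else p)

theorem prt_spec (c k p : ℕ) (hp : p < 1782) :
    φ (LargeExtra.Pres.prd xx k c) p = prt c k p ∧ prt c k p < 1782 := by
  induction k generalizing p with
  | zero =>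
    refine ⟨?_, hp⟩
    show φ 1 p = p
    rw [map_one φ]; rfl
  | succ k ih =>
    show φ (LargeExtra.Pres.prd xx k c * LargeExtra.Pres.zp (xx k) (c.testBit k)) p =
      prt c k (if c.testBit k = true then xt k p else p) ∧
      prt c k (if c.testBit k = true then xt k p else p) < 1782
    by_cases hb : c.testBit k = true
    · rw [if_pos hb, hb]
      have h := xt_spec k p hp
      have h2 := ih _ h.2
      refine ⟨?_, h2.2⟩
      rw [map_mul, Equiv.Perm.mul_apply]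
      show φ (LargeExtra.Pres.prd xx k c) (φ (xx k) p) = _
      rw [h.1]
      exact h2.1
    · rw [if_neg hb]
      have h2 := ih _ hp
      refine ⟨?_, h2.2⟩
      have : LargeExtra.Pres.zp (xx k) (c.testBit k) = 1 := by
        rw [LargeExtra.Pres.zp, if_neg hb]
      rw [this, mul_one]
      exact h2.1

/-- action of the element with a code -/
noncomputable def ct (c p : ℕ) : ℕ := if c.testBit 6 = true then wtr [.a] (prt c 6 p) else prt c 6 p

theorem ct_spec (c p : ℕ) (hp : p < 1782) : φ (C c) p = ct c p ∧ ct c p < 1782 := by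
  have h := prt_spec c 6 p hp
  show φ (LargeExtra.Pres.zp z0 (c.testBit 6) * LargeExtra.Pres.prd xx 6 c) p = ct c p ∧ ct c p < 1782
  unfold ct
  by_cases hb : c.testBit 6 = true
  · rw [if_pos hb, hb, map_mul, Equiv.Perm.mul_apply, h.1]
    exact wtr_spec _ _ h.2
  · rw [if_neg hb]
    have : LargeExtra.Pres.zp z0 (c.testBit 6) = 1 := by
      rw [LargeExtra.Pres.zp, if_neg hb]
    rw [this, one_mul]
    exact h

/-- check of an element of `R` -/
noncomputable def chkR (a : ℕ × ℕ) : Bool := eqB (fun p => tev Ts a.1 0 p) (fun p => ct a.2 p)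

theorem chk_LR : allL chkR LR = true := by decide +kernel

theorem of_LR {a : ℕ × ℕ} (h : a ∈ LR) : pr Gs a.1 = C a.2 :=
  eq_of_eqB (fun p hp => (tev_zero R_Ts a.1 p hp).1) (fun p hp => (ct_spec a.2 p hp).1)
    (allL_spec chk_LR a h)

/-- check of an element outside `R`: `w h1 = pr k w` -/
noncomputable def chkP (a : ℕ × List ℕ) : Bool :=
  eqB (fun p => gwt a.2 (wtr h1 p)) (fun p => tev Ts a.1 0 (gwt a.2 p))

theorem chk_LP : allL chkP LP = true := by decide +kernel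

theorem of_LP {a : ℕ × List ℕ} (h : a ∈ LP) : gw gg a.2 * el h1 * (gw gg a.2)⁻¹ = pr Gs a.1 := by
  have h1' : gw gg a.2 * el h1 = pr Gs a.1 * gw gg a.2 := by
    refine eq_of_eqB (f := fun p => gwt a.2 (wtr h1 p)) (g := fun p => tev Ts a.1 0 (gwt a.2 p)) ?_ ?_
      (allL_spec chk_LP a h)
    · intro p hp
      have h2 := wtr_spec h1 p hp
      rw [map_mul, Equiv.Perm.mul_apply, h2.1]
      exact (gwt_spec _ _ h2.2).1
    · intro p hp
      have h2 := gwt_spec a.2 p hp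
      rw [map_mul, Equiv.Perm.mul_apply, h2.1]
      exact (tev_zero R_Ts _ _ h2.2).1
  rw [h1', mul_inv_cancel_right]

/-- all the indices of `MA` are in the lists -/
def covA (k : ℕ) : Bool := LR.any (fun a => Nat.beq a.1 k) || LP.any (fun a => Nat.beq a.1 k)

theorem cov : allP (fun k => or (not (tb MA k)) (covA k)) 13 0 = true := by decide +kernel

/-- witness for the elements of `MB` -/
noncomputable def wit (k : ℕ) : Bool :=
  or (not (eqB (fun p => app t2 (tev Ts k 0 (app t2 (tev Ts k 0 p))))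
      (fun p => tev Ts k 0 (app t2 (tev Ts k 0 (app t2 p))))))
    (not (eqB (fun p => app tF (tev Ts k 0 (app tF (tev Ts k 0 p))))
      (fun p => tev Ts k 0 (app tF (tev Ts k 0 (app tF p))))))

theorem witB : allP (fun k => or (not (tb MB k)) (wit k)) 13 0 = true := by decide +kernel

/-- the Aut(P)-invariant property of `h1` -/
def PA (u : Suz) : Prop := ∀ y ∈ Q0, y * (u * y * u⁻¹) = (u * y * u⁻¹) * y

theorem not_wit {k : ℕ} {y : Suz} {t : ℕ} (hy : R t y) (hyQ : y ∈ Q0) (hA : PA (pr Gs k))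
    (h2 : pr Gs k * pr Gs k = 1)
    (h : (!eqB (fun p => app t (tev Ts k 0 (app t (tev Ts k 0 p))))
      (fun p => tev Ts k 0 (app t (tev Ts k 0 (app t p))))) = true) : False := by
  have hi : (pr Gs k)⁻¹ = pr Gs k := inv_eq_of_mul_eq_one_left h2
  have h1 := hA y hyQ
  rw [hi] at h1
  have h3 := eqB_of_eq (f := fun p => app t (tev Ts k 0 (app t (tev Ts k 0 p))))
    (g := fun p => tev Ts k 0 (app t (tev Ts k 0 (app t p)))) ?_ ?_ h1
  · rw [h3] at h
    exact absurd h (by decide)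
  · intro p hp
    have e1 := tev_zero R_Ts k p hp
    have e2 := hy _ e1.2
    have e3 := tev_zero R_Ts k _ e2.2
    have e4 := hy _ e3.2
    rw [map_mul, map_mul, map_mul, Equiv.Perm.mul_apply, Equiv.Perm.mul_apply, Equiv.Perm.mul_apply,
      e1.1, e2.1, e3.1, e4.1]
  · intro p hp
    have e1 := hy p hp
    have e2 := tev_zero R_Ts k _ e1.2
    have e3 := hy _ e2.2
    have e4 := tev_zero R_Ts k _ e3.2
    rw [map_mul, map_mul, map_mul, Equiv.Perm.mul_apply, Equiv.Perm.mul_apply, Equiv.Perm.mul_apply,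
      e1.1, e2.1, e3.1, e4.1]

theorem T_le : ((SporRec.SuzCl.TS : Sylow 2 Suz) : Subgroup Suz) ≤ C1 := by
  rw [SporRec.SuzCl.coe_TS]
  have := SporRec.SuzCl.T_le
  rw [← z0_eq] at this
  exact this

/-- **The class of `h1` in `P`.** -/
theorem exists_conj {u : Suz} (huC : u ∈ C1) (h2 : u * u = 1) (hnR : u ∉ Q0) (hA : PA u) :
    ∃ p ∈ C1, p * el h1 * p⁻¹ = u := by
  obtain ⟨h, hh, hT⟩ := SporRec.SuzCl.conj_into SporRec.SuzCl.TS C1 T_le u huC h2
  obtain ⟨k, hk, hk2⟩ := (SporRec.SuzCl.mem_T _).1 hT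
  have hinvQ : ∀ g ∈ C1, ∀ y : Suz, g * y * g⁻¹ ∈ Q0 → y ∈ Q0 := by
    intro g hg y hy
    have h3 := normal_R (C1.inv_mem hg) hy
    have e : g⁻¹ * (g * y * g⁻¹) * g⁻¹⁻¹ = y := by group
    rwa [e] at h3
  have hvR : pr Gs k ∉ Q0 := by
    rw [← hk2]
    exact fun h3 => hnR (hinvQ h hh u h3)
  have hv1 : pr Gs k ≠ 1 := fun h3 => hvR (by rw [h3]; exact Q0.one_mem)
  have hv2 : pr Gs k * pr Gs k = 1 := by
    rw [← hk2]
    calc h * u * h⁻¹ * (h * u * h⁻¹) = h * (u * u) * h⁻¹ := by group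
      _ = 1 := by rw [h2]; group
  have hvA : PA (pr Gs k) := by
    intro y hy
    rw [← hk2]
    have hy' : h⁻¹ * y * h ∈ Q0 := by
      have := normal_R (C1.inv_mem hh) hy
      rwa [inv_inv] at this
    have h3 := hA _ hy'
    calc y * (h * u * h⁻¹ * y * (h * u * h⁻¹)⁻¹)
        = h * ((h⁻¹ * y * h) * (u * (h⁻¹ * y * h) * u⁻¹)) * h⁻¹ := by group
      _ = h * ((u * (h⁻¹ * y * h) * u⁻¹) * (h⁻¹ * y * h)) * h⁻¹ := by rw [h3]
      _ = h * u * h⁻¹ * y * (h * u * h⁻¹)⁻¹ * y := by group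
  rcases SporRec.SuzCl.inv_T hk hv1 hv2 with h3 | h3
  · have h4 := allP_spec _ 13 0 cov k (Nat.zero_le _) (by omega)
    simp only [Bool.or_eq_true, h3, Bool.not_true, Bool.false_eq_true, false_or] at h4
    rw [covA, Bool.or_eq_true, List.any_eq_true, List.any_eq_true] at h4
    rcases h4 with ⟨a, ha, hak⟩ | ⟨a, ha, hak⟩
    · exfalso
      have h5 : a.1 = k := Nat.eq_of_beq_eq_true hak
      apply hvR
      rw [← h5, of_LR ha]
      exact C_mem _
    · have h5 : a.1 = k := Nat.eq_of_beq_eq_true hak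
      have h6 := of_LP ha
      rw [h5, ← hk2] at h6
      refine ⟨h⁻¹ * gw gg a.2, C1.mul_mem (C1.inv_mem hh) (gw_mem gg_mem _), ?_⟩
      calc h⁻¹ * gw gg a.2 * el h1 * (h⁻¹ * gw gg a.2)⁻¹
          = h⁻¹ * (gw gg a.2 * el h1 * (gw gg a.2)⁻¹) * h := by group
        _ = h⁻¹ * (h * u * h⁻¹) * h := by rw [h6]
        _ = u := by group
  · exfalso
    have h4 := allP_spec _ 13 0 witB k (Nat.zero_le _) (by omega)
    simp only [Bool.or_eq_true, h3, Bool.not_true, Bool.false_eq_true, false_or] at h4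
    rw [wit, Bool.or_eq_true] at h4
    rcases h4 with h4 | h4
    · exact not_wit SporRec.SuzCl.R2 (q_mem .k2) hvA hv2 h4
    · have hf : (PresentedGroup.of Suz.Gen.f : Suz) ∈ Q0 := by
        have := q_mem .k4
        have e : q .k4 = PresentedGroup.of Suz.Gen.f := by
          show ([Suz.Gen.f].map fun x => (PresentedGroup.of x : Suz)).prod = _
          rw [List.map_cons, List.map_nil, List.prod_cons, List.prod_nil, mul_one]
        rwa [e] at this
      exact not_wit (SporRec.SuzCl.R_gen Suz.Gen.f) hf hvA hv2 h4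

theorem h1_PA : PA (el h1) := by
  have hchk : ∀ c < 128, mulc BB 6 c (AA 2 c) = mulc BB 6 (AA 2 c) c := by decide +kernel
  intro y hy
  rw [Q0_eq] at hy
  obtain ⟨c, hc, rfl⟩ := (mem_RG rels tri).1 hy
  have h1' : el h1 * C c * (el h1)⁻¹ = C (AA 2 c) := conj_AA 2 c
  show C c * (el h1 * C c * (el h1)⁻¹) = (el h1 * C c * (el h1)⁻¹) * C c
  rw [h1', C, C, cod_mul rels tri, cod_mul rels tri, hchk c hc]

theorem h1_sq : el h1 * el h1 = 1 := by
  have := s1
  rwa [pow_two] at this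

/-- the element `k` of the `y`-trick -/
noncomputable def k : Suz := el [.b, .c, .f, .b]

theorem k_conj : k * z0 * k⁻¹ = el h1 := SuzSheet.h1_conj

theorem cf : el [.c] * el [.f] = el [.f] * el [.c] := by
  have h := q_comm' .k1 .k4
  have e : LargeExtra.Pres.zp z0 (!cm .k1 .k4) = 1 := by
    rw [LargeExtra.Pres.zp, if_neg (by decide)]
  rw [e, one_mul] at h
  exact h

theorem k_inv : k⁻¹ = k := by
  rw [k, ← SuzThree.Basic.el_reverse]
  show el [.b, .f, .c, .b] = el [.b, .c, .f, .b]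
  have e1 : el [.b, .f, .c, .b] = el [.b] * ((el [.f] * el [.c]) * el [.b]) := by
    rw [← SuzThree.Basic.el_append, ← SuzThree.Basic.el_append, ← SuzThree.Basic.el_append]; rfl
  have e2 : el [.b, .c, .f, .b] = el [.b] * ((el [.c] * el [.f]) * el [.b]) := by
    rw [← SuzThree.Basic.el_append, ← SuzThree.Basic.el_append, ← SuzThree.Basic.el_append]; rfl
  rw [e1, e2, cf]

theorem k_conj' : k⁻¹ * z0 * k = el h1 := by
  have := k_conj
  rw [k_inv] at this ⊢
  exact this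

/-- an automorphism of `P` fixing `z` maps `R` to `R` -/
theorem aut_R (β : MulAut C1) (hβ : (β ⟨z0, z_mem_C1⟩ : Suz) = z0) {y : C1} (hy : (y : Suz) ∈ Q0) :
    ((β y : C1) : Suz) ∈ Q0 := by
  let W : Subgroup Suz := ((Q0.subgroupOf C1).map β.toMonoidHom).map C1.subtype
  have hW2 : IsPGroup 2 W := by
    have h1 : IsPGroup 2 (Q0.subgroupOf C1) := isPGroup_Q0.comap_of_injective C1.subtype C1.subtype_injective
    exact (h1.map _).map _
  have hWQ : W ≤ Q0 := by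
    apply hR hW2
    · rintro _ ⟨x, -, rfl⟩
      exact mem_C1.1 x.2
    · rintro u hu _ ⟨_, ⟨x, hx, rfl⟩, rfl⟩
      obtain ⟨v, hv⟩ := β.surjective ⟨u, mem_C1.2 hu⟩
      refine ⟨β (v * x * v⁻¹), ⟨v * x * v⁻¹, ?_, rfl⟩, ?_⟩
      · exact normal_R v.2 hx
      · have h1 : (β v : Suz) = u := by rw [hv]
        show ((β (v * x * v⁻¹) : C1) : Suz) = u * (β x : Suz) * u⁻¹
        rw [map_mul, map_mul, map_inv, Subgroup.coe_mul, Subgroup.coe_mul, Subgroup.coe_inv, h1]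
  exact hWQ ⟨β y, ⟨y, hy, rfl⟩, rfl⟩

theorem aut_inv_z {β : MulAut C1} (hβ : (β ⟨z0, z_mem_C1⟩ : Suz) = z0) :
    (β⁻¹ ⟨z0, z_mem_C1⟩ : Suz) = z0 := by
  have h1 : β ⟨z0, z_mem_C1⟩ = ⟨z0, z_mem_C1⟩ := Subtype.ext hβ
  have h2 : β⁻¹ ⟨z0, z_mem_C1⟩ = ⟨z0, z_mem_C1⟩ := by
    have : β⁻¹ (β ⟨z0, z_mem_C1⟩) = ⟨z0, z_mem_C1⟩ := β.symm_apply_apply _
    rwa [h1] at this
  rw [h2]

/-- **The `y`-trick datum.** -/
theorem ytrick (hkz : k⁻¹ * z0 * k ∈ C1) (β : MulAut C1)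
    (hβ : (β ⟨z0, z_mem_C1⟩ : Suz) = z0) :
    ∃ p : Suz, p * z0 = z0 * p ∧ (β ⟨k⁻¹ * z0 * k, hkz⟩ : Suz) = p * (k⁻¹ * z0 * k) * p⁻¹ := by
  set w : C1 := ⟨k⁻¹ * z0 * k, hkz⟩ with hw
  have hwv : (w : Suz) = el h1 := k_conj'
  have hsq : w * w = 1 := Subtype.ext (by
    show (w : Suz) * w = 1
    rw [hwv]; exact h1_sq)
  have hβinv : ∀ y : C1, (y : Suz) ∈ Q0 → ((β⁻¹ y : C1) : Suz) ∈ Q0 := fun y hy =>
    aut_R β⁻¹ (aut_inv_z hβ) hy
  have hββ : ∀ y : C1, β⁻¹ (β y) = y := fun y => β.symm_apply_apply y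
  have hββ' : ∀ y : C1, β (β⁻¹ y) = y := fun y => β.apply_symm_apply y
  obtain ⟨p, hp, hpw⟩ := exists_conj (u := (β w : Suz)) (β w).2
    (by
      have : β w * β w = 1 := by rw [← map_mul, hsq, map_one]
      exact congrArg Subtype.val this)
    (by
      intro h1'
      have h2 := hβinv (β w) h1'
      rw [hββ, hwv] at h2
      exact SuzSheet.h1_notin h2)
    (by
      intro y hy
      have hyC : y ∈ C1 := Q0_le hy
      have h3 := h1_PA _ (hβinv ⟨y, hyC⟩ hy)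
      rw [← hwv] at h3
      have h4 : (β⁻¹ ⟨y, hyC⟩) * (w * (β⁻¹ ⟨y, hyC⟩) * w⁻¹) = (w * (β⁻¹ ⟨y, hyC⟩) * w⁻¹) * (β⁻¹ ⟨y, hyC⟩) :=
        Subtype.ext h3
      have h5 := congrArg β h4
      simp only [map_mul, map_inv, hββ'] at h5
      exact congrArg Subtype.val h5)
  refine ⟨p, mem_C1.1 hp, ?_⟩
  rw [k_conj', hpw]

end Cfsg.Agent.KFacts.SuzY
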