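import Cfsg.Agent.KFacts.SuzFour

/-!
# The outer automorphism `ρ` of the Suzuki group (helper399)

`ρ` fixes the generators `a, b, c, d, e` and swaps `f, g`. `rho_sq : ρ * ρ = 1`. `good_rho`, `good_sigma`: `ρ` and
`σ = conj d ∘ ρ` centralise perfect subgroups containing conjugates of `e` (`J₂` and a subgroup of `M₁₂`).
-/

set_option autoImplicit false
set_option maxRecDepth 100000
set_option exponentiation.threshold 4000

namespace Cfsg.Agent.KFacts.SuzRho

open Cfsg.Spor Cfsg.Agent.Lib.PermNet Cfsg.Agent.Lib.PermNetOrbit Cfsg.Agent.SporadicRecognition.SuzPhi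
  Cfsg.Agent.SporadicRecognition.SuzOrder Cfsg.Agent.SuzThree.Basic

/-! ### The automorphism -/

/-- swap `f` and `g` -/
def sw : Suz.Gen → Suz.Gen
  | .f => .g
  | .g => .f
  | x => x

theorem sw_sw (x : Suz.Gen) : sw (sw x) = x := by cases x <;> rfl

theorem label_sw (x y : Suz.Gen) : coxLabel Suz.edges (sw x) (sw y) = coxLabel Suz.edges x y := by
  cases x <;> cases y <;> decide

theorem mem_nodes (x : Suz.Gen) : x ∈ coxNodes Suz.edges := by cases x <;> decide

theorem el_one (x : Suz.Gen) : el [x] = PresentedGroup.of x := by simp [el]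

theorem pair_pow (x y : Suz.Gen) : (el [x] * el [y]) ^ coxLabel Suz.edges x y = 1 := by
  have h : (PresentedGroup.mk (coxRelators Suz.edges ∪ {r | r ∈ Suz.extra}))
      ((FreeGroup.of x * FreeGroup.of y) ^ coxLabel Suz.edges x y) = 1 :=
    PresentedGroup.one_of_mem (Or.inl ⟨x, mem_nodes x, y, mem_nodes y, rfl⟩)
  rw [map_pow, map_mul] at h
  rw [el_one, el_one]
  exact h

theorem el_eq_one {w : List Suz.Gen} (h : checkEq 11 (wd w) [] = true) : el w = 1 :=
  eq_of_reps (Rep.el _) Rep.one h

theorem el_rp (w : List Suz.Gen) (m : ℕ) : el (rp w m) = el w ^ m := by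
  unfold el
  rw [rp_prod]

theorem cfa : ∀ r ∈ (coxRelators Suz.edges ∪ {r | r ∈ Suz.extra} : Set (FreeGroup Suz.Gen)),
    FreeGroup.lift (fun x => el [sw x]) r = 1 := by
  refine cox_lift_eq_one _ Suz.edges Suz.extra (fun x _ y _ => ?_) ?_
  · rw [← label_sw]; exact pair_pow (sw x) (sw y)
  · intro r hr
    rw [Suz.extra, List.mem_cons, List.mem_cons, List.mem_cons, List.mem_cons, List.mem_singleton] at hr
    rcases hr with rfl | rfl | rfl | rfl | rfl
    · simp only [map_mul, map_inv, map_pow, FreeGroup.lift_apply_of, sw, Suz.a, Suz.c, Suz.d]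
      rw [mul_inv_eq_one, ← el_append, ← el_rp]
      exact eq_of_reps (Rep.el _) (Rep.el _) (by decide +kernel)
    · simp only [map_mul, map_inv, map_pow, FreeGroup.lift_apply_of, sw, Suz.a, Suz.f, Suz.g]
      rw [mul_inv_eq_one, ← el_append, ← el_rp]
      exact eq_of_reps (Rep.el _) (Rep.el _) (by decide +kernel)
    · simp only [map_mul, map_pow, FreeGroup.lift_apply_of, sw, Suz.a, Suz.b, Suz.c, Suz.f]
      rw [← el_append, ← el_append, ← el_append, ← el_rp]
      exact el_eq_one (by decide +kernel)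
    · simp only [map_mul, map_pow, FreeGroup.lift_apply_of, sw, Suz.b, Suz.f, Suz.g]
      rw [← el_append, ← el_append, ← el_rp]
      exact el_eq_one (by decide +kernel)
    · simp only [map_mul, map_pow, FreeGroup.lift_apply_of, sw, Suz.b, Suz.c, Suz.d, Suz.e]
      rw [← el_append, ← el_append, ← el_append, ← el_append, ← el_rp, ← el_append, ← el_rp]
      exact el_eq_one (by decide +kernel)

/-- the endomorphism -/
noncomputable def rhoHom : Suz →* Suz := PresentedGroup.toGroup cfa

theorem rhoHom_of (x : Suz.Gen) : rhoHom (PresentedGroup.of x) = PresentedGroup.of (sw x) := by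
  rw [← el_one]
  exact PresentedGroup.toGroup.of cfa

theorem rhoHom_comp : rhoHom.comp rhoHom = MonoidHom.id Suz := by
  apply PresentedGroup.ext
  intro x
  rw [MonoidHom.comp_apply, rhoHom_of, rhoHom_of, sw_sw, MonoidHom.id_apply]

/-- **the automorphism `ρ`** -/
noncomputable def rho : MulAut Suz := rhoHom.toMulEquiv rhoHom rhoHom_comp rhoHom_comp

theorem rho_apply (x : Suz) : rho x = rhoHom x := rfl

theorem rho_sq : rho * rho = 1 := by
  ext x
  rw [MulAut.mul_apply, rho_apply, rho_apply, MulAut.one_apply]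
  exact DFunLike.congr_fun rhoHom_comp x

theorem rho_el (w : List Suz.Gen) : rho (el w) = el (w.map sw) := by
  rw [rho_apply]
  unfold el
  rw [map_list_prod, List.map_map, List.map_map]
  congr 1

/-- **`σ = conj d ∘ ρ`** -/
noncomputable def sigma : MulAut Suz := MulAut.conj (el [.d]) * rho

theorem sigma_el (w : List Suz.Gen) : sigma (el w) = el ([.d] ++ (w.map sw ++ [.d])) := by
  rw [sigma, MulAut.mul_apply, rho_el, MulAut.conj_apply, el_append, el_append,
    inv_eq_of_mul_eq_one_right (gen_sq .d), mul_assoc]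

theorem sigma_sq : sigma * sigma = 1 := by
  have h : rho * MulAut.conj (el [.d]) = MulAut.conj (el [.d]) * rho := by
    ext x
    rw [MulAut.mul_apply, MulAut.mul_apply, MulAut.conj_apply, MulAut.conj_apply, map_mul, map_mul, map_inv, rho_el]
    rfl
  calc sigma * sigma = MulAut.conj (el [.d]) * (rho * MulAut.conj (el [.d])) * rho := by
        unfold sigma; group
    _ = MulAut.conj (el [.d]) * MulAut.conj (el [.d]) * (rho * rho) := by rw [h]; group
    _ = 1 := by rw [← map_mul, gen_sq, map_one, rho_sq, mul_one]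

/-! ### Perfect subgroups -/

theorem one_of_odd {A : Type*} [Monoid A] {s : A} (hs : s * s = 1) {n : ℕ} (hn : Odd n) (h : s ^ n = 1) : s = 1 := by
  obtain ⟨k, rfl⟩ := hn
  rwa [pow_succ, pow_mul, pow_two, hs, one_pow, one_mul] at h

theorem eq_of_odd {A : Type*} [CommGroup A] {s t : A} (hs : s * s = 1) (ht : t * t = 1) {n : ℕ} (hn : Odd n)
    (h : (s * t) ^ n = 1) : s = t := by
  have h1 : s * t = 1 := one_of_odd (by
    calc s * t * (s * t) = (s * s) * (t * t) := by
          rw [mul_mul_mul_comm]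
      _ = 1 := by rw [hs, ht, one_mul]) hn h
  calc s = s * (t * t) := by rw [ht, mul_one]
    _ = s * t * t := by group
    _ = t := by rw [h1, one_mul]

/-- a subgroup generated by elements trivial in the commutator factor group is perfect -/
theorem perfect_of {G : Type*} [Group G] {S : Set G}
    (h : ∀ x (hx : x ∈ Subgroup.closure S), x ∈ S → (Abelianization.of (⟨x, hx⟩ : Subgroup.closure S)) = 1) :
    ⁅Subgroup.closure S, Subgroup.closure S⁆ = Subgroup.closure S := by
  apply le_antisymm (Subgroup.commutator_le_self _)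
  rw [Subgroup.closure_le]
  intro x hx
  have h1 := h x (Subgroup.subset_closure hx) hx
  have h2 : (⟨x, Subgroup.subset_closure hx⟩ : Subgroup.closure S) ∈ commutator (Subgroup.closure S) := by
    rw [← Abelianization.ker_of, MonoidHom.mem_ker]
    exact h1
  have h3 := Subgroup.mem_map_of_mem (Subgroup.closure S).subtype h2
  rw [commutator_def, Subgroup.map_commutator] at h3
  simpa [← MonoidHom.range_eq_map] using h3

/-- the property -/
def Good (al : MulAut Suz) : Prop := ∃ X : Subgroup Suz, ⁅X, X⁆ = X ∧ (∀ x ∈ X, al x = x) ∧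
  ∃ g : Suz, g * el [.e] * g⁻¹ ∈ X

theorem Good.conj {al : MulAut Suz} (h : Good al) (g : Suz) : Good (MulAut.conj g * al * (MulAut.conj g)⁻¹) := by
  obtain ⟨X, hX, hfix, k, hk⟩ := h
  refine ⟨X.map (MulAut.conj g).toMonoidHom, ?_, ?_, g * k, k⁻¹⁻¹ * el [.e] * k⁻¹, by simpa using hk, ?_⟩
  · rw [← Subgroup.map_commutator, hX]
  · rintro _ ⟨x, hx, rfl⟩
    show (MulAut.conj g * al * (MulAut.conj g)⁻¹) (MulAut.conj g x) = MulAut.conj g x
    rw [MulAut.mul_apply, MulAut.mul_apply, MulAut.inv_apply_self, hfix x hx]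
  · show g * (k⁻¹⁻¹ * el [.e] * k⁻¹) * g⁻¹ = g * k * el [.e] * (g * k)⁻¹
    group

theorem good_conj_iff {al : MulAut Suz} (g : Suz) : Good (MulAut.conj g * al * (MulAut.conj g)⁻¹) ↔ Good al := by
  constructor
  · intro h
    have h1 := h.conj g⁻¹
    have e : MulAut.conj g⁻¹ * (MulAut.conj g * al * (MulAut.conj g)⁻¹) * (MulAut.conj g⁻¹)⁻¹ = al := by
      rw [map_inv]; group
    rwa [e] at h1
  · exact fun h => h.conj g

/-- `al` fixes the generated subgroup -/
theorem fix_closure {al : MulAut Suz} {S : Set Suz} (h : ∀ x ∈ S, al x = x) : ∀ x ∈ Subgroup.closure S, al x = x := by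
  intro x hx
  induction hx using Subgroup.closure_induction with
  | mem x hx => exact h x hx
  | one => exact map_one al
  | mul a b _ _ ha hb => rw [map_mul, ha, hb]
  | inv a _ ha => rw [map_inv, ha]

/-- the generators of `J₂` -/
def SJ : Set Suz := {x | ∃ w ∈ [[Suz.Gen.a], [.b], [.c], [.d], [.e]], el w = x}

/-- the word `k` -/
def kw : List Suz.Gen := [.e, .d, .c, .d, .e]

/-- the word `y` -/
def yw : List Suz.Gen := [.c, .d, .c, .d, .f, .g]

/-- the generators of a subgroup of `M₁₂` -/
def SM : Set Suz := {x | ∃ w ∈ [[Suz.Gen.a], [.b], kw, [.d], yw], el w = x}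

/-- the image in the abelianization -/
theorem pow_ab {S : Set Suz} {n : ℕ} {w : List Suz.Gen} (hw : el w ∈ Subgroup.closure S) (h : el (rp w n) = 1) :
    (Abelianization.of (⟨el w, hw⟩ : Subgroup.closure S)) ^ n = 1 := by
  rw [← map_pow]
  have : (⟨el w, hw⟩ : Subgroup.closure S) ^ n = 1 := by
    apply Subtype.ext
    show el w ^ n = 1
    rw [← el_rp]; exact h
  rw [this, map_one]

theorem perfect_SJ : ⁅Subgroup.closure SJ, Subgroup.closure SJ⁆ = Subgroup.closure SJ := by
  have ha : el [.a] ∈ Subgroup.closure SJ := Subgroup.subset_closure ⟨_, by simp, rfl⟩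
  have hb : el [.b] ∈ Subgroup.closure SJ := Subgroup.subset_closure ⟨_, by simp, rfl⟩
  have hc : el [.c] ∈ Subgroup.closure SJ := Subgroup.subset_closure ⟨_, by simp, rfl⟩
  have hd : el [.d] ∈ Subgroup.closure SJ := Subgroup.subset_closure ⟨_, by simp, rfl⟩
  have he : el [.e] ∈ Subgroup.closure SJ := Subgroup.subset_closure ⟨_, by simp, rfl⟩
  set H := Subgroup.closure SJ with hH
  set A := Abelianization.of (G := H) with hA
  set a : H := ⟨el [.a], ha⟩
  set b : H := ⟨el [.b], hb⟩
  set c : H := ⟨el [.c], hc⟩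
  set d : H := ⟨el [.d], hd⟩
  set e : H := ⟨el [.e], he⟩
  have sq : ∀ (x : Suz.Gen) (hx : el [x] ∈ H), A ⟨el [x], hx⟩ * A ⟨el [x], hx⟩ = 1 := by
    intro x hx
    rw [← map_mul]
    have : (⟨el [x], hx⟩ : H) * ⟨el [x], hx⟩ = 1 := Subtype.ext (gen_sq x)
    rw [this, map_one]
  have r1 : (A a * A b) ^ 5 = 1 := by
    rw [← map_mul, ← map_pow]
    have : (a * b) ^ 5 = 1 := Subtype.ext (pair_pow .a .b)
    rw [this, map_one]
  have r2 : (A b * A c) ^ 3 = 1 := by
    rw [← map_mul, ← map_pow]
    have : (b * c) ^ 3 = 1 := Subtype.ext (pair_pow .b .c)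
    rw [this, map_one]
  have r3 : (A d * A e) ^ 3 = 1 := by
    rw [← map_mul, ← map_pow]
    have : (d * e) ^ 3 = 1 := Subtype.ext (pair_pow .d .e)
    rw [this, map_one]
  have r4 : A a = (A c * A d) ^ 4 := by
    rw [← map_mul, ← map_pow]
    congr 1
    apply Subtype.ext
    show el [.a] = (el [.c] * el [.d]) ^ 4
    rw [← el_append, ← el_rp]
    exact eq_of_reps (Rep.el _) (Rep.el _) (by decide +kernel)
  have r5 : ((A b * A c * A d * A c * A d) ^ 5 * A e) ^ 3 = 1 := by
    rw [← map_mul, ← map_mul, ← map_mul, ← map_mul, ← map_pow, ← map_mul, ← map_pow]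
    have : ((b * c * d * c * d) ^ 5 * e) ^ 3 = 1 := by
      apply Subtype.ext
      show ((el [.b] * el [.c] * el [.d] * el [.c] * el [.d]) ^ 5 * el [.e]) ^ 3 = 1
      rw [← el_append, ← el_append, ← el_append, ← el_append, ← el_rp, ← el_append, ← el_rp]
      exact el_eq_one (by decide +kernel)
    rw [this, map_one]
  have e1 : A a = A b := eq_of_odd (sq _ _) (sq _ _) (by decide) r1
  have e2 : A b = A c := eq_of_odd (sq _ _) (sq _ _) (by decide) r2
  have e3 : A d = A e := eq_of_odd (sq _ _) (sq _ _) (by decide) r3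
  have hc2 : A c * A c = 1 := sq _ _
  have hd2 : A d * A d = 1 := sq _ _
  have ea : A a = 1 := by
    rw [r4, mul_pow]
    calc A c ^ 4 * A d ^ 4 = (A c * A c) ^ 2 * (A d * A d) ^ 2 := by rw [← pow_two, ← pow_two, ← pow_mul, ← pow_mul]
      _ = 1 := by rw [hc2, hd2, one_pow, one_mul]
  have eb : A b = 1 := by rw [← e1]; exact ea
  have ec : A c = 1 := by rw [← e2]; exact eb
  have ee : A e = 1 := by
    rw [eb, ec, e3, one_mul, one_mul, mul_one, ← e3, hd2, one_pow, one_mul, e3] at r5
    exact one_of_odd (sq _ _) (by decide) r5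
  have ed : A d = 1 := by rw [e3]; exact ee
  apply perfect_of
  rintro x hx ⟨w, hw, rfl⟩
  simp only [List.mem_cons, List.not_mem_nil, or_false] at hw
  rcases hw with rfl | rfl | rfl | rfl | rfl
  · exact ea
  · exact eb
  · exact ec
  · exact ed
  · exact ee

theorem good_rho : Good rho := by
  refine ⟨Subgroup.closure SJ, perfect_SJ, ?_, 1, ?_⟩
  · apply fix_closure
    rintro _ ⟨w, hw, rfl⟩
    rw [rho_el]
    simp only [List.mem_cons, List.not_mem_nil, or_false] at hw
    rcases hw with rfl | rfl | rfl | rfl | rfl <;> rfl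
  · rw [one_mul, inv_one, mul_one]
    exact Subgroup.subset_closure ⟨_, by simp, rfl⟩

theorem perfect_SM : ⁅Subgroup.closure SM, Subgroup.closure SM⁆ = Subgroup.closure SM := by
  have ha : el [.a] ∈ Subgroup.closure SM := Subgroup.subset_closure ⟨_, by simp, rfl⟩
  have hb : el [.b] ∈ Subgroup.closure SM := Subgroup.subset_closure ⟨_, by simp, rfl⟩
  have hk : el kw ∈ Subgroup.closure SM := Subgroup.subset_closure ⟨_, by simp, rfl⟩
  have hd : el [.d] ∈ Subgroup.closure SM := Subgroup.subset_closure ⟨_, by simp, rfl⟩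
  have hy : el yw ∈ Subgroup.closure SM := Subgroup.subset_closure ⟨_, by simp, rfl⟩
  set H := Subgroup.closure SM with hH
  set A := Abelianization.of (G := H) with hA
  set a : H := ⟨el [.a], ha⟩
  set b : H := ⟨el [.b], hb⟩
  set k : H := ⟨el kw, hk⟩
  set d : H := ⟨el [.d], hd⟩
  set y : H := ⟨el yw, hy⟩
  have sq : ∀ (x : Suz.Gen) (hx : el [x] ∈ H), A ⟨el [x], hx⟩ * A ⟨el [x], hx⟩ = 1 := by
    intro x hx
    rw [← map_mul]
    have : (⟨el [x], hx⟩ : H) * ⟨el [x], hx⟩ = 1 := Subtype.ext (gen_sq x)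
    rw [this, map_one]
  have sqk : A k * A k = 1 := by
    rw [← map_mul]
    have : k * k = 1 := Subtype.ext (by
      show el kw * el kw = 1
      rw [← el_append]
      exact el_eq_one (by decide +kernel))
    rw [this, map_one]
  have sqy : A y * A y = 1 := by
    rw [← map_mul]
    have : y * y = 1 := Subtype.ext (by
      show el yw * el yw = 1
      rw [← el_append]
      exact el_eq_one (by decide +kernel))
    rw [this, map_one]
  have r1 : (A a * A b) ^ 5 = 1 := by
    rw [← map_mul, ← map_pow]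
    have : (a * b) ^ 5 = 1 := Subtype.ext (pair_pow .a .b)
    rw [this, map_one]
  have r2 : (A b * A k) ^ 3 = 1 := by
    rw [← map_mul, ← map_pow]
    have : (b * k) ^ 3 = 1 := Subtype.ext (by
      show (el [.b] * el kw) ^ 3 = 1
      rw [← el_append, ← el_rp]
      exact el_eq_one (by decide +kernel))
    rw [this, map_one]
  have r3 : (A a * A b * A k) ^ 5 = 1 := by
    rw [← map_mul, ← map_mul, ← map_pow]
    have : (a * b * k) ^ 5 = 1 := Subtype.ext (by
      show (el [.a] * el [.b] * el kw) ^ 5 = 1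
      rw [← el_append, ← el_append, ← el_rp]
      exact el_eq_one (by decide +kernel))
    rw [this, map_one]
  have r4 : (A a * A b * A y * A b * A k) ^ 5 = 1 := by
    rw [← map_mul, ← map_mul, ← map_mul, ← map_mul, ← map_pow]
    have : (a * b * y * b * k) ^ 5 = 1 := Subtype.ext (by
      show (el [.a] * el [.b] * el yw * el [.b] * el kw) ^ 5 = 1
      rw [← el_append, ← el_append, ← el_append, ← el_append, ← el_rp]
      exact el_eq_one (by decide +kernel))
    rw [this, map_one]
  have r5 : (A b * A k * A d * A y * A b * A y) ^ 11 = 1 := by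
    rw [← map_mul, ← map_mul, ← map_mul, ← map_mul, ← map_mul, ← map_pow]
    have : (b * k * d * y * b * y) ^ 11 = 1 := Subtype.ext (by
      show (el [.b] * el kw * el [.d] * el yw * el [.b] * el yw) ^ 11 = 1
      rw [← el_append, ← el_append, ← el_append, ← el_append, ← el_append, ← el_rp]
      exact el_eq_one (by decide +kernel))
    rw [this, map_one]
  have e1 : A a = A b := eq_of_odd (sq _ _) (sq _ _) (by decide) r1
  have e2 : A b = A k := eq_of_odd (sq _ _) sqk (by decide) r2
  have eb : A b = 1 := by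
    rw [e1, ← e2, sq .b hb, one_mul] at r3
    exact one_of_odd (sq _ _) (by decide) r3
  have ea : A a = 1 := by rw [e1]; exact eb
  have ek : A k = 1 := by rw [← e2]; exact eb
  have ey : A y = 1 := by
    rw [ea, eb, ek, one_mul, one_mul, mul_one, mul_one] at r4
    exact one_of_odd sqy (by decide) r4
  have ed : A d = 1 := by
    rw [eb, ek, ey, one_mul, one_mul, mul_one, mul_one, mul_one] at r5
    exact one_of_odd (sq _ _) (by decide) r5
  apply perfect_of
  rintro x hx ⟨w, hw, rfl⟩
  simp only [List.mem_cons, List.not_mem_nil, or_false] at hw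
  rcases hw with rfl | rfl | rfl | rfl | rfl
  · exact ea
  · exact eb
  · exact ek
  · exact ed
  · exact ey

theorem good_sigma : Good sigma := by
  refine ⟨Subgroup.closure SM, perfect_SM, ?_, el [.e, .d], ?_⟩
  · apply fix_closure
    rintro _ ⟨w, hw, rfl⟩
    rw [sigma_el]
    simp only [List.mem_cons, List.not_mem_nil, or_false] at hw
    rcases hw with rfl | rfl | rfl | rfl | rfl
    · exact eq_of_reps (Rep.el _) (Rep.el _) (by decide +kernel)
    · exact eq_of_reps (Rep.el _) (Rep.el _) (by decide +kernel)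
    · exact eq_of_reps (Rep.el _) (Rep.el _) (by decide +kernel)
    · exact eq_of_reps (Rep.el _) (Rep.el _) (by decide +kernel)
    · exact eq_of_reps (Rep.el _) (Rep.el _) (by decide +kernel)
  · refine Subgroup.subset_closure ⟨[.d], by simp, ?_⟩
    rw [← el_reverse, ← el_append, ← el_append]
    exact eq_of_reps (Rep.el _) (Rep.el _) (by decide +kernel)

end Cfsg.Agent.KFacts.SuzRho
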