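import Cfsg.Agent.KFacts.SuzR

/-!
# The sheet of the Suzuki group: the 2-central involution

Facts in the form used by the odd half of the classification (type (E)): `z`, `P = C_K(z)`, `R = O_2(P)`.
-/

set_option autoImplicit false
set_option maxRecDepth 100000

namespace Cfsg.Agent.KFacts.SuzSheet

open Cfsg.Spor Cfsg.Agent.Lib.PermNet Cfsg.Agent.SporadicRecognition.SuzPhi
  Cfsg.Agent.SporadicRecognition.SuzOrder Cfsg.Agent.SuzThree.Basic Cfsg.Agent.SuzThree.CentA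
  Cfsg.Agent.SuzThree.QZero Cfsg.Agent.KFacts.SuzCent Cfsg.Agent.KFacts.SuzR Cfsg.Agent.KFacts.Codes

/-- the centraliser has odd index -/
theorem index_C1 : C1.index = 135135 := by
  have h := C1.card_mul_index
  rw [card_C1, card_Suz] at h
  omega

theorem odd_index : Odd C1.index := by rw [index_C1]; decide

/-- **(P3)**: a conjugate of `z` in `P`, outside `R`. -/
theorem h1_conj : el [.b, .c, .f, .b] * z0 * (el [.b, .c, .f, .b])⁻¹ = el h1 := by
  rw [← el_reverse]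
  show el [.b, .c, .f, .b] * el [.a] * el [.b, .f, .c, .b] = el h1
  rw [← el_append, ← el_append]
  rfl

theorem h1_notin : el h1 ∉ Q0 := by
  intro h
  have h2 := conj_AA 2 2
  have h3 : el h1 * C 2 * (el h1)⁻¹ = C (AA 2 2) := h2
  have hC2 : C 2 ∈ Q0 := by rw [Q0_eq]; exact cod_mem 2
  have e1 : AA 2 2 = 74 := by decide +kernel
  rw [e1] at h3
  rcases R_comm h hC2 with h4 | h4
  · rw [h4, mul_inv_cancel_right] at h3
    have := cod_injOn rels tri nondeg z_ne (by norm_num) (by norm_num) h3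
    omega
  · rw [h4, ← mul_assoc, mul_inv_cancel_right] at h3
    have e2 : z0 * C 2 = C 66 := by
      have : C 64 = z0 := cod_z (n := 6)
      rw [← this, C, C, cod_mul rels tri]
      congr 1
    rw [e2] at h3
    have := cod_injOn rels tri nondeg z_ne (by norm_num) (by norm_num) h3
    omega

theorem exists_conj_outside : ∃ z1 : Suz, z1 ∈ C1 ∧ z1 ∉ Q0 ∧ z1 ≠ z0 ∧ ∃ g, g * z0 * g⁻¹ = z1 :=
  ⟨el h1, h1_mem, h1_notin, fun h => h1_notin (h ▸ z_mem), _, h1_conj⟩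

/-- `R` lies in every Sylow 2-subgroup of `P`. -/
theorem R_le {T : Subgroup Suz} (hT : IsPGroup 2 T) (hTC : T ≤ C1)
    (hmax : ∀ Q : Subgroup Suz, IsPGroup 2 Q → T ≤ Q → Q ≤ C1 → Q ≤ T) : Q0 ≤ T := by
  have hn : T ≤ Subgroup.normalizer (Q0 : Set Suz) := by
    rw [← cl_ga] at hTC
    exact hTC.trans cl_le_normalizer
  have h1 : IsPGroup 2 (T ⊔ Q0 : Subgroup Suz) := hT.to_sup_of_normal_right' isPGroup_Q0 hn
  exact le_sup_right.trans (hmax _ h1 le_sup_left (sup_le hTC Q0_le))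

/-- The centre of a Sylow 2-subgroup of `P` (which is a Sylow 2-subgroup of `K`) is `⟨z⟩`. -/
theorem center_sylow {T : Subgroup Suz} (hT : IsPGroup 2 T) (hTC : T ≤ C1)
    (hmax : ∀ Q : Subgroup Suz, IsPGroup 2 Q → T ≤ Q → Q ≤ C1 → Q ≤ T) {y : Suz}
    (hy : ∀ x ∈ T, x * y = y * x) : y = 1 ∨ y = z0 :=
  centralizer_R fun x hx => hy x (R_le hT hTC hmax hx)

/-- the sheet -/
structure Sheet (K : Type*) [Group K] (z : K) (R : Subgroup K) (w : ℕ) : Prop where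
  zz : z * z = 1
  z1 : z ≠ 1
  odd : Odd (Subgroup.centralizer ({z} : Set K)).index
  perfect : commutator (Subgroup.centralizer ({z} : Set K)) = ⊤
  zR : z ∈ R
  RC : ∀ y ∈ R, y * z = z * y
  normal : ∀ u : K, u * z = z * u → ∀ y ∈ R, u * y * u⁻¹ ∈ R
  card : Nat.card R = 2 ^ (2 * w + 1)
  sq : ∀ y ∈ R, y * y = 1 ∨ y * y = z
  comm : ∀ y ∈ R, ∀ y' ∈ R, y * y' = y' * y ∨ y * y' = z * (y' * y)
  self : ∀ g : K, (∀ y ∈ R, y * g = g * y) → g = 1 ∨ g = z
  irr : ∀ N : Subgroup K, N ≤ R → (∀ u : K, u * z = z * u → ∀ y ∈ N, u * y * u⁻¹ ∈ N) →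
    (∀ y ∈ N, y = 1 ∨ y = z) ∨ N = R
  out : ∃ z1 : K, z1 * z = z * z1 ∧ z1 ∉ R ∧ ∃ g, g * z * g⁻¹ = z1

theorem sheet : Sheet Suz z0 Q0 3 where
  zz := z_sq
  z1 := z_ne
  odd := odd_index
  perfect := perfect
  zR := z_mem
  RC y hy := mem_C1.1 (Q0_le hy)
  normal u hu y hy := normal_R (mem_C1.2 hu) hy
  card := card_R
  sq _ hy := R_sq hy
  comm _ hy _ hy' := R_comm hy hy'
  self _ hg := centralizer_R hg
  irr N hN hinv := irr hN fun u hu y hy => hinv u (mem_C1.1 hu) y hy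
  out := ⟨el h1, mem_C1.1 h1_mem, h1_notin, _, h1_conj⟩

end Cfsg.Agent.KFacts.SuzSheet
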