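import Cfsg.Agent.KFacts.SheetOf
import Cfsg.Agent.KFacts.SuzLarge
import Cfsg.Agent.KFacts.SuzY
import Cfsg.Agent.Schreier.Suz
import Cfsg.Agent.KFacts.SuzOut
import Cfsg.Agent.KFacts.SheetIso

/-!
# The sheet of type (E) for the Suzuki group
-/

set_option autoImplicit false
set_option maxRecDepth 100000

namespace Cfsg.Agent.KFacts.SuzSheetE

open Subgroup Cfsg.Spor Cfsg.Agent.SuzThree.CentA Cfsg.Agent.SuzThree.QZero Cfsg.Agent.KFacts.SuzR
  Cfsg.Agent.KFacts.SuzSheet Cfsg.Agent.KFacts.Codes Cfsg.Agent.KFacts.SuzLarge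

theorem finite_suz : Finite Suz := by
  apply Nat.finite_of_card_ne_zero
  rw [SporadicRecognition.SuzOrder.card_Suz]
  norm_num

/-- `R` is not abelian -/
theorem nonabelian : ∃ a ∈ Q0, ∃ b ∈ Q0, a * b ≠ b * a := by
  refine ⟨C 1, C_mem 1, C 2, C_mem 2, ?_⟩
  have h1 : C 1 * C 2 = C (mulc BB 6 1 2) := by rw [C, C, cod_mul rels tri]
  have h2 : C 2 * C 1 = C (mulc BB 6 2 1) := by rw [C, C, cod_mul rels tri]
  rw [h1, h2]
  exact C_ne (by decide +kernel) (by decide +kernel) (by decide +kernel)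

theorem sheetE_of
    (ht1 : ∀ β : MulAut Suz, (∀ c : Suz, c * z0 = z0 * c → β c = c) → β = 1 ∨ β = MulAut.conj z0)
    (hout : ¬ 4 ∣ (MulAut.conj : Suz →* MulAut Suz).range.index) :
    OddHalf.D8.Sheet.SheetE z0 (centralizer ({z0} : Set Suz)) Q0 :=
  haveI := finite_suz
  SheetOf.sheetE large irr perfect odd_index nonabelian (C_mem 8) v_ne.1 v_ne.2 D_comm fix_D fix_v ht1 hout
    Schreier.Suz.sch (k := SuzY.k)
    (by
      rw [SuzY.k_conj]
      exact mem_C1.1 h1_mem)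
    (by
      rw [SuzY.k_conj]
      exact h1_notin)
    SuzY.ytrick

/-- **the sheet of type (E) of the Suzuki group** -/
theorem sheetE : OddHalf.D8.Sheet.SheetE z0 (centralizer ({z0} : Set Suz)) Q0 :=
  sheetE_of SuzOut.t1' SuzOut.out

/-- **the sheet of a group isomorphic to the Suzuki group** -/
theorem sheetE_of_iso {K : Type*} [Group K] (h : IsoSuz K) :
    ∃ (z : K) (P R : Subgroup K), OddHalf.D8.Sheet.SheetE z P R := by
  obtain ⟨e⟩ := h
  exact ⟨_, _, _, SheetIso.sheetE_map e.symm sheetE⟩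

end Cfsg.Agent.KFacts.SuzSheetE
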