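import Cfsg.Agent.KFacts.SuzInvol
import Cfsg.Agent.OddHalf.CaseM.Sheet

/-!
# The sheet of case (M) of the Suzuki group (helper399)

`P/R ≅ Ω₆⁻(2)` has no proper nontrivial normal subgroup: Iwasawa's argument on the 27 singular points of `R/⟨z0⟩`.
-/

set_option autoImplicit false
set_option maxRecDepth 100000
set_option exponentiation.threshold 4000

namespace Cfsg.Agent.KFacts.SuzSheetM

open Subgroup Cfsg.Spor Cfsg.Agent.SporadicRecognition.SuzOrder Cfsg.Agent.SuzThree.Basic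
  Cfsg.Agent.SuzThree.CentA Cfsg.Agent.SuzThree.QZero Cfsg.Agent.KFacts.SuzCent Cfsg.Agent.LargeExtra.Model
  Cfsg.Agent.LargeExtra.Pres Cfsg.Agent.KFacts.Codes Cfsg.Agent.KFacts.Orbits Cfsg.Agent.KFacts.SuzR
  Cfsg.Agent.KFacts.SuzSheet Cfsg.Agent.KFacts.SuzLarge Cfsg.Agent.KFacts.SuzOut Cfsg.Agent.Co2Type.Quad
  Cfsg.Agent.KFacts.AutLarge Cfsg.Agent.KFacts.SuzFour Cfsg.Agent.KFacts.SuzInvolTab Cfsg.Agent.KFacts.SuzInvol

open scoped commutatorElement

/-! ### Action modulo `z0` -/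

/-- `p` maps the point of `x` to the point of `y` -/
def Mv (p x y : Suz) : Prop := Eqz z0 (p * x * p⁻¹) y

theorem Mv.mul {p q x y w : Suz} (hq : q * z0 = z0 * q) (h : Mv p x y) (h' : Mv q y w) : Mv (q * p) x w := by
  have h1 := h.conj hq
  have e : q * p * x * (q * p)⁻¹ = q * (p * x * p⁻¹) * q⁻¹ := by group
  unfold Mv
  rw [e]
  exact h1.trans large h'

theorem inv_comm {p : Suz} (hp : p * z0 = z0 * p) : p⁻¹ * z0 = z0 * p⁻¹ := by
  rw [inv_mul_eq_iff_eq_mul, ← mul_assoc, hp, mul_assoc, mul_inv_cancel, mul_one]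

theorem Mv.inv {p x y : Suz} (hp : p * z0 = z0 * p) (h : Mv p x y) : Mv p⁻¹ y x := by
  have h1 := (Eqz.symm large h).conj (inv_comm hp)
  have e : p⁻¹ * (p * x * p⁻¹) * p⁻¹⁻¹ = x := by group
  rwa [e] at h1

theorem w6_lt (w : List ℕ) {c : ℕ} (hc : c < 64) : w6 w c < 64 := by
  induction w with
  | nil => exact hc
  | cons k w _ =>
    exact lv_lt (fun i _ => Nat.mod_lt _ (by norm_num)) _ 6 (le_refl 6)

theorem mv_word (w : List ℕ) (c : ℕ) (hc : c < 64) : Mv (gw gg w) (C c) (C (w6 w c)) := by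
  unfold Mv
  rw [conj_word conj_AA]
  apply eqz_C
  rw [actw_mod, Nat.mod_eq_of_lt hc, Nat.mod_eq_of_lt (w6_lt w hc)]

theorem conj_Q0 {p : Suz} (hp : p * z0 = z0 * p) {x : Suz} (hx : x ∈ Q0) : p * x * p⁻¹ ∈ Q0 := large.conj_mem p hp x hx

/-- elements of `P` acting trivially on `R/⟨z0⟩` -/
theorem triv_mem {p : Suz} (hp : p * z0 = z0 * p) (h : ∀ i < 6, Mv p (xx i) (xx i)) : p ∈ Q0 := by
  have hz : (MulAut.conj p) z0 = z0 := by rw [MulAut.conj_apply, hp, mul_inv_cancel_right]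
  obtain ⟨r, hr, hpr⟩ := AutLarge.eq_conj large perf n0_in n0_ne gen (MulAut.conj p) hz (by
    rw [Q0_eq]
    exact cert.triv hz h)
  have h1 : p * r⁻¹ = 1 := conj_eq_one (by rw [map_mul, hpr, ← map_mul, mul_inv_cancel, map_one])
  rw [mul_inv_eq_one.1 h1]
  exact hr

/-- two elements of `P` with the same action -/
theorem mem_of_act {S : Subgroup Suz} (hS : Q0 ≤ S) {p q : Suz} (hp : p * z0 = z0 * p) (hq : q * z0 = z0 * q)
    (h : ∀ i < 6, ∃ y, Mv p (xx i) y ∧ Mv q (xx i) y) (hqS : q ∈ S) : p ∈ S := by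
  have h1 : q⁻¹ * p ∈ Q0 := triv_mem (by rw [mul_assoc, hp, ← mul_assoc, inv_comm hq, mul_assoc]) (by
    intro i hi
    obtain ⟨y, h1, h2⟩ := h i hi
    exact h1.mul (inv_comm hq) (h2.inv hq))
  have h2 := S.mul_mem hqS (hS h1)
  rwa [mul_inv_cancel_left] at h2

/-! ### Tables -/

/-- words moving a singular code to `8` -/
def o27 : List (ℕ × List ℕ) := [(1, [3, 0, 2, 0]), (2, [3, 0, 2]), (4, [3, 0, 1, 2]), (8, []),
  (16, [3, 0, 2, 3, 0, 2]), (32, [3, 0, 1, 2, 4, 0])]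

theorem o27_spec : ∀ i < 6, ∃ e ∈ o27, e.1 = 2 ^ i ∧ w6 e.2 (2 ^ i) = 8 := by decide +kernel

/-- words fixing `8`, moving codes orthogonal to `8` to `9` -/
def o10 : List (ℕ × List ℕ) := [(1, [0, 2, 0]), (2, [0, 2]), (4, [0, 1, 2]), (9, []), (10, [0]), (12, [0, 1]),
  (32, [0, 1, 2, 4, 0]), (39, [0, 1, 2, 4]), (40, [0, 1, 4, 0]), (47, [0, 1, 4])]

/-- words fixing `8`, moving codes not orthogonal to `8` to `16` -/
def o16 : List (ℕ × List ℕ) := [(16, []), (17, [2]), (18, [2, 0]), (20, [2, 0, 1]), (27, [2, 0, 2]),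
  (29, [2, 0, 1, 2]), (30, [2, 0, 1, 2, 0]), (31, [2, 0, 1, 2, 0, 2]), (48, [2, 0, 1, 4, 0]), (55, [2, 0, 1, 4]),
  (57, [2, 0, 1, 2, 4, 1]), (58, [2, 0, 1, 2, 4, 0]), (59, [2, 0, 1, 2, 4, 0, 1]), (60, [2, 0, 1, 2, 0, 2, 4]),
  (61, [2, 0, 1, 2, 0, 4]), (62, [2, 0, 1, 2, 4])]

/-- every singular code is `8` or moved by a word fixing `8` to `9` or `16` -/
def chkS : Bool := sg.all fun c => Nat.beq c 8 ||
  (o10.any (fun e => Nat.beq e.1 c && (Nat.beq (w6 e.2 c) 9 && Nat.beq (w6 e.2 8) 8)) ||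
   o16.any (fun e => Nat.beq e.1 c && (Nat.beq (w6 e.2 c) 16 && Nat.beq (w6 e.2 8) 8)))

theorem chkS_true : chkS = true := by decide +kernel

theorem orbit_spec {c : ℕ} (hc : c ∈ sg) (h8 : c ≠ 8) :
    ∃ w, w6 w 8 = 8 ∧ (w6 w c = 9 ∨ w6 w c = 16) := by
  have h := List.all_eq_true.1 chkS_true c hc
  rw [Bool.or_eq_true] at h
  rcases h with h | h
  · exact absurd (Nat.eq_of_beq_eq_true h) h8
  · rw [Bool.or_eq_true] at h
    rcases h with h | h
    · obtain ⟨e, _, he⟩ := List.any_eq_true.1 h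
      rw [Bool.and_eq_true, Bool.and_eq_true] at he
      exact ⟨e.2, Nat.eq_of_beq_eq_true he.2.2, Or.inl (Nat.eq_of_beq_eq_true he.2.1)⟩
    · obtain ⟨e, _, he⟩ := List.any_eq_true.1 h
      rw [Bool.and_eq_true, Bool.and_eq_true] at he
      exact ⟨e.2, Nat.eq_of_beq_eq_true he.2.2, Or.inr (Nat.eq_of_beq_eq_true he.2.1)⟩

/-! ### The stabiliser of the point `8` -/

/-- the stabiliser in `P` of the point `8` -/
def St : Subgroup Suz where
  carrier := {p | p * z0 = z0 * p ∧ Mv p (C 8) (C 8)}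
  one_mem' := ⟨by rw [one_mul, mul_one], by
    unfold Mv
    rw [one_mul, inv_one, mul_one]; exact eqz_refl _ _⟩
  mul_mem' := by
    rintro a b ⟨ha, ha'⟩ ⟨hb, hb'⟩
    exact ⟨by rw [mul_assoc, hb, ← mul_assoc, ha, mul_assoc], hb'.mul ha ha'⟩
  inv_mem' := by
    rintro a ⟨ha, ha'⟩
    exact ⟨inv_comm ha, ha'.inv ha⟩

theorem mem_St {p : Suz} : p ∈ St ↔ p * z0 = z0 * p ∧ Mv p (C 8) (C 8) := Iff.rfl

theorem word_St {w : List ℕ} (h : w6 w 8 = 8) : gw gg w ∈ St := by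
  refine ⟨gw_gg w, ?_⟩
  have := mv_word w 8 (by norm_num)
  rwa [h] at this

/-- `U = ⟨z0, C 8⟩` -/
def InU (u : Suz) : Prop := u = 1 ∨ u = z0 ∨ u = C 8 ∨ u = C 8 * z0

theorem y_sq : C 8 * C 8 = 1 := by
  rw [C_mul, ← C0]; congr 1

theorem y_z : C 8 * z0 = z0 * C 8 := large.comm_z _ (C_mem 8)

theorem y_ne : C 8 ≠ 1 := by rw [← C0]; exact C_ne (by norm_num) (by norm_num) (by norm_num)

theorem y_nz : C 8 ≠ z0 := by
  have h : C 64 = z0 := C64
  rw [← h]; exact C_ne (by norm_num) (by norm_num) (by norm_num)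

theorem InU.mul {u v : Suz} (hu : InU u) (hv : InU v) : InU (u * v) := by
  have hzz : z0 * z0 = 1 := large.z_sq
  have hyy := y_sq
  have hyz := y_z
  unfold InU at hu hv ⊢
  rcases hu with rfl | rfl | rfl | rfl <;> rcases hv with rfl | rfl | rfl | rfl
  · left; rw [one_mul]
  · right; left; rw [one_mul]
  · right; right; left; rw [one_mul]
  · right; right; right; rw [one_mul]
  · right; left; rw [mul_one]
  · left; exact hzz
  · right; right; right; rw [hyz]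
  · right; right; left; rw [hyz, ← mul_assoc, hzz, one_mul]
  · right; right; left; rw [mul_one]
  · right; right; right; rfl
  · left; exact hyy
  · right; left; rw [← mul_assoc, hyy, one_mul]
  · right; right; right; rw [mul_one]
  · right; right; left; rw [mul_assoc, hzz, mul_one]
  · right; left; rw [mul_assoc, ← hyz, ← mul_assoc, hyy, one_mul]
  · left
    calc C 8 * z0 * (C 8 * z0) = C 8 * (z0 * C 8) * z0 := by group
      _ = (C 8 * C 8) * (z0 * z0) := by rw [← hyz]; group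
      _ = 1 := by rw [hyy, hzz, one_mul]

theorem InU.inv {u : Suz} (hu : InU u) : InU u⁻¹ := by
  have hzz : z0⁻¹ = z0 := inv_eq_of_mul_eq_one_right large.z_sq
  have hyy : (C 8)⁻¹ = C 8 := inv_eq_of_mul_eq_one_right y_sq
  unfold InU at hu ⊢
  rcases hu with rfl | rfl | rfl | rfl
  · left; exact inv_one
  · right; left; exact hzz
  · right; right; left; exact hyy
  · right; right; right; rw [mul_inv_rev, hzz, hyy, y_z]

theorem InU.mem {u : Suz} (hu : InU u) : u ∈ Q0 := by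
  have h1 := C_mem 8
  have h2 : z0 ∈ Q0 := z_mem
  rcases hu with rfl | rfl | rfl | rfl
  · exact Q0.one_mem
  · exact h2
  · exact h1
  · exact Q0.mul_mem h1 h2

/-- `u ∈ U` commutes with the elements of `R` commuting with `y` -/
theorem InU.comm {u r : Suz} (hu : InU u) (hr : r ∈ Q0) (hry : r * C 8 = C 8 * r) : u * r = r * u := by
  have hrz : r * z0 = z0 * r := large.comm_z r hr
  rcases hu with rfl | rfl | rfl | rfl
  · rw [one_mul, mul_one]
  · exact hrz.symm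
  · exact hry.symm
  · rw [mul_assoc, ← hrz, ← mul_assoc, ← hry, mul_assoc]

/-- `U` is invariant under `St` -/
theorem InU.conj {u p : Suz} (hu : InU u) (hp : p ∈ St) : InU (p * u * p⁻¹) ∧ Eqz z0 (p * u * p⁻¹) u := by
  obtain ⟨h1, h2⟩ := hp
  have hpz : p * z0 * p⁻¹ = z0 := by rw [h1, mul_inv_cancel_right]
  have hzz : z0 * z0 = 1 := large.z_sq
  have hyz := y_z
  unfold Mv at h2
  unfold InU
  rcases hu with rfl | rfl | rfl | rfl
  · have : p * 1 * p⁻¹ = 1 := by group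
    rw [this]
    exact ⟨Or.inl rfl, eqz_refl _ _⟩
  · rw [hpz]
    exact ⟨Or.inr (Or.inl rfl), eqz_refl _ _⟩
  · refine ⟨?_, h2⟩
    rcases h2 with h2 | h2
    · right; right; left; exact h2
    · right; right; right; exact h2
  · have e : p * (C 8 * z0) * p⁻¹ = (p * C 8 * p⁻¹) * z0 := by
      calc p * (C 8 * z0) * p⁻¹ = (p * C 8 * p⁻¹) * (p * z0 * p⁻¹) := by group
        _ = _ := by rw [hpz]
    rw [e]
    rcases h2 with h2 | h2
    · rw [h2]
      exact ⟨Or.inr (Or.inr (Or.inr rfl)), eqz_refl _ _⟩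
    · rw [h2, mul_assoc, hzz, mul_one]
      refine ⟨Or.inr (Or.inr (Or.inl rfl)), Or.inr ?_⟩
      rw [mul_assoc, hzz, mul_one]

/-- elements of `R` commuting with `y` are permuted by `St` -/
theorem conj_cy {p r : Suz} (hp : p ∈ St) (hr : r ∈ Q0) (hry : r * C 8 = C 8 * r) :
    p * r * p⁻¹ ∈ Q0 ∧ (p * r * p⁻¹) * C 8 = C 8 * (p * r * p⁻¹) := by
  obtain ⟨h1, h2⟩ := hp
  refine ⟨conj_Q0 h1 hr, ?_⟩
  have h3 : (p * r * p⁻¹) * (p * C 8 * p⁻¹) = (p * C 8 * p⁻¹) * (p * r * p⁻¹) := by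
    calc (p * r * p⁻¹) * (p * C 8 * p⁻¹) = p * (r * C 8) * p⁻¹ := by group
      _ = (p * C 8 * p⁻¹) * (p * r * p⁻¹) := by rw [hry]; group
  have h4 := large.comm_z _ (conj_Q0 h1 hr)
  exact comm_eqz (eqz_refl _ _) h2 h4 y_z h3

/-- the kernel of `St` on `y^⊥/y` -/
def T : Subgroup Suz where
  carrier := {t | t ∈ St ∧ ∀ r ∈ Q0, r * C 8 = C 8 * r → InU (t * r * t⁻¹ * r⁻¹)}
  one_mem' := ⟨St.one_mem, fun r _ _ => by left; group⟩
  mul_mem' := by
    rintro t s ⟨ht, ht'⟩ ⟨hs, hs'⟩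
    refine ⟨St.mul_mem ht hs, fun r hr hry => ?_⟩
    have h1 := hs' r hr hry
    have h2 := ht' r hr hry
    have e : t * s * r * (t * s)⁻¹ * r⁻¹ = (t * (s * r * s⁻¹ * r⁻¹) * t⁻¹) * (t * r * t⁻¹ * r⁻¹) := by group
    rw [e]
    exact (h1.conj ht).1.mul h2
  inv_mem' := by
    rintro t ⟨ht, ht'⟩
    refine ⟨St.inv_mem ht, fun r hr hry => ?_⟩
    obtain ⟨h1, h2⟩ := conj_cy (St.inv_mem ht) hr hry
    rw [inv_inv] at h1 h2
    have h3 := (ht' _ h1 h2).inv
    have e : (t * (t⁻¹ * r * t) * t⁻¹ * (t⁻¹ * r * t)⁻¹)⁻¹ = t⁻¹ * r * t⁻¹⁻¹ * r⁻¹ := by group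
    rwa [e] at h3

theorem mem_T {t : Suz} : t ∈ T ↔ t ∈ St ∧ ∀ r ∈ Q0, r * C 8 = C 8 * r → InU (t * r * t⁻¹ * r⁻¹) := Iff.rfl

/-- `St` normalises `T` -/
theorem conj_T {p t : Suz} (hp : p ∈ St) (ht : t ∈ T) : p * t * p⁻¹ ∈ T := by
  obtain ⟨h1, h2⟩ := ht
  refine ⟨St.mul_mem (St.mul_mem hp h1) (St.inv_mem hp), fun r hr hry => ?_⟩
  obtain ⟨h3, h4⟩ := conj_cy (St.inv_mem hp) hr hry
  rw [inv_inv] at h3 h4
  have h5 := ((h2 _ h3 h4).conj hp).1
  have e : p * (t * (p⁻¹ * r * p) * t⁻¹ * (p⁻¹ * r * p)⁻¹) * p⁻¹ = p * t * p⁻¹ * r * (p * t * p⁻¹)⁻¹ * r⁻¹ := by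
    group
  rwa [e] at h5

/-- `h1 ∈ T` -/
theorem gg2_mem : gg 2 ∈ T := by
  refine ⟨word_St (w := [2]) (by decide +kernel) |> fun h => by simpa [gw] using h, fun r hr hry => ?_⟩
  have hc := code_lt r
  have hrc : C (code r) = r := C_code hr
  have hdec : ∀ c < 128, mulc BB 6 c 8 = mulc BB 6 8 c →
      mulc BB 6 0 c = AA 2 c ∨ mulc BB 6 64 c = AA 2 c ∨ mulc BB 6 8 c = AA 2 c ∨ mulc BB 6 72 c = AA 2 c := by
    decide +kernel
  have h1 : mulc BB 6 (code r) 8 = mulc BB 6 8 (code r) := by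
    apply C_inj (mulc_lt' hc (by norm_num)) (mulc_lt' (by norm_num) hc)
    rw [← C_mul, ← C_mul, hrc, hry]
  have h72 : C 72 = C 8 * z0 := by
    have h64 : C 64 = z0 := C64
    rw [← h64, C_mul]
    congr 1
  have h2 : gg 2 * r * (gg 2)⁻¹ * r⁻¹ = C (AA 2 (code r)) * (C (code r))⁻¹ := by
    rw [← conj_AA, hrc]
  rw [h2]
  have h64 : C 64 = z0 := C64
  rcases hdec _ hc h1 with h | h | h | h
  · left; rw [← h, ← C_mul, mul_inv_cancel_right, C0]
  · right; left; rw [← h, ← C_mul, mul_inv_cancel_right, h64]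
  · right; right; left; rw [← h, ← C_mul, mul_inv_cancel_right]
  · right; right; right; rw [← h, ← C_mul, mul_inv_cancel_right, h72]

/-- `[T, T] ≤ R` -/
theorem comm_T {s t : Suz} (hs : s ∈ T) (ht : t ∈ T) : ⁅s, t⁆ ∈ Q0 := by
  have hsS := (mem_T.1 hs).1
  have htS := (mem_T.1 ht).1
  have hg : ⁅s, t⁆ ∈ St := by
    rw [commutatorElement_def]
    exact St.mul_mem (St.mul_mem (St.mul_mem hsS htS) (St.inv_mem hsS)) (St.inv_mem htS)
  -- on the elements commuting with `y`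
  have key : ∀ r ∈ Q0, r * C 8 = C 8 * r → Mv ⁅s, t⁆ r r := by
    intro r hr hry
    have hts : t * s ∈ St := St.mul_mem htS hsS
    obtain ⟨h1, h2⟩ := conj_cy (St.inv_mem hts) hr hry
    rw [inv_inv] at h1 h2
    set r' := (t * s)⁻¹ * r * (t * s) with hr'
    -- `t r' t⁻¹ = u r'`, `s r' s⁻¹ = v r'`
    have hu := (mem_T.1 ht).2 r' h1 h2
    have hv := (mem_T.1 hs).2 r' h1 h2
    set u := t * r' * t⁻¹ * r'⁻¹ with hudef
    set v := s * r' * s⁻¹ * r'⁻¹ with hvdef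
    have e1 : s * t * r' * (s * t)⁻¹ = (s * u * s⁻¹) * (v * r') := by
      rw [hudef, hvdef]; group
    have e2 : r = (t * v * t⁻¹) * (u * r') := by
      rw [hudef, hvdef, hr']; group
    have e3 : ⁅s, t⁆ * r * ⁅s, t⁆⁻¹ = s * t * r' * (s * t)⁻¹ := by
      rw [hr', commutatorElement_def]; group
    have hzr : ∀ {x}, x ∈ Q0 → x * z0 = z0 * x := fun hx => large.comm_z _ hx
    have hm1 : v * r' ∈ Q0 := Q0.mul_mem hv.mem h1
    have hm2 : u * r' ∈ Q0 := Q0.mul_mem hu.mem h1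
    unfold Mv
    rw [e3, e1]
    have h5 : Eqz z0 ((s * u * s⁻¹) * (v * r')) (u * (v * r')) := Eqz.mul (hu.conj hsS).2 (eqz_refl _ _) (hzr hm1)
    have h6 : Eqz z0 ((t * v * t⁻¹) * (u * r')) (v * (u * r')) := Eqz.mul (hv.conj htS).2 (eqz_refl _ _) (hzr hm2)
    have huv : u * v = v * u := by
      apply hu.comm hv.mem
      exact (hv.comm (C_mem 8) rfl)
    have h7 : u * (v * r') = v * (u * r') := by rw [← mul_assoc, huv, mul_assoc]
    refine h5.trans large ?_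
    rw [h7]
    rw [← e2] at h6
    exact Eqz.symm large h6
  apply triv_mem hg.1
  intro i hi
  by_cases hi4 : i = 4
  · subst hi4
    -- `x 4`
    have hg1 := hg.1
    set g := ⁅s, t⁆ with hgdef
    have hx4 : C 16 = xx 4 := C_pow (i := 4) (by norm_num)
    have hwQ : g * C 16 * g⁻¹ ∈ Q0 := conj_Q0 hg1 (C_mem 16)
    have hc := code_lt (g * C 16 * g⁻¹)
    have hcw := C_code hwQ
    set c := code (g * C 16 * g⁻¹) with hcdef
    have hsq : mulc BB 6 c c = 0 := by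
      apply C_inj (mulc_lt' hc hc) (by norm_num)
      rw [← C_mul, hcw, C0]
      have : C 16 * C 16 = 1 := by
        rw [C_mul, ← C0]; congr 1
      calc g * C 16 * g⁻¹ * (g * C 16 * g⁻¹) = g * (C 16 * C 16) * g⁻¹ := by group
        _ = 1 := by rw [this]; group
    have hcomm : ∀ j ∈ [0, 1, 2, 3, 5], ot c (2 ^ j) = ot 16 (2 ^ j) := by
      intro j hj
      have hj6 : j < 6 ∧ mulc BB 6 (2 ^ j) 8 = mulc BB 6 8 (2 ^ j) ∧ 2 ^ j < 128 := by
        revert j
        decide +kernel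
      have hr : C (2 ^ j) ∈ Q0 := C_mem _
      have hry : C (2 ^ j) * C 8 = C 8 * C (2 ^ j) := by rw [C_mul, C_mul, hj6.2.1]
      have h1 := key _ hr hry
      rw [Bool.eq_iff_iff, ot_iff hc hj6.2.2, ot_iff (by norm_num) hj6.2.2, hcw]
      have hz1 := large.comm_z _ hwQ
      have hz2 := large.comm_z _ (conj_Q0 hg1 hr)
      have hz3 := large.comm_z _ hr
      have e1 : (g * C 16 * g⁻¹) * (g * C (2 ^ j) * g⁻¹) = g * (C 16 * C (2 ^ j)) * g⁻¹ := by group
      have e2 : (g * C (2 ^ j) * g⁻¹) * (g * C 16 * g⁻¹) = g * (C (2 ^ j) * C 16) * g⁻¹ := by group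
      constructor
      · intro h
        have h2 := comm_eqz (eqz_refl _ _) (Eqz.symm large h1) hz1 hz2 h
        rw [e1, e2] at h2
        exact mul_left_cancel (mul_right_cancel h2)
      · intro h
        have h2 : (g * C 16 * g⁻¹) * (g * C (2 ^ j) * g⁻¹) = (g * C (2 ^ j) * g⁻¹) * (g * C 16 * g⁻¹) := by
          rw [e1, e2, h]
        exact comm_eqz (eqz_refl _ _) h1 hz1 hz3 h2
    have hdec : ∀ c < 128, mulc BB 6 c c = 0 → (∀ j ∈ [0, 1, 2, 3, 5], ot c (2 ^ j) = ot 16 (2 ^ j)) →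
        c % 64 = 16 % 64 := by decide +kernel
    rw [← hx4]
    unfold Mv
    rw [← hcw]
    exact eqz_C (hdec c hc hsq hcomm)
  · have hj6 : mulc BB 6 (2 ^ i) 8 = mulc BB 6 8 (2 ^ i) := by
      revert hi4 hi
      revert i
      decide +kernel
    rw [← C_pow hi]
    exact key _ (C_mem _) (by rw [C_mul, C_mul, hj6])

/-! ### Iwasawa's argument -/

theorem gg_word (k : ℕ) : gw gg [k] = gg k := by
  show gg k * 1 = gg k
  rw [mul_one]

/-- `P` is contained in every subgroup containing the generators -/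
theorem P_le {S : Subgroup Suz} (h : ∀ k < 5, gg k ∈ S) : C1 ≤ S := by
  rw [← cl_ga]
  apply cl_le
  intro w hw
  simp only [ga, List.mem_cons, List.not_mem_nil, or_false] at hw
  rcases hw with rfl | rfl | rfl | rfl | rfl
  · exact h 0 (by norm_num)
  · exact h 1 (by norm_num)
  · exact h 2 (by norm_num)
  · exact h 3 (by norm_num)
  · exact h 4 (by norm_num)

/-- maximality of `St` -/
theorem le_of_moved {S : Subgroup Suz} (hS : St ≤ S) {n : Suz} (hn : n ∈ S) (hnz : n * z0 = z0 * n)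
    (hmv : ¬ Mv n (C 8) (C 8)) : C1 ≤ S := by
  -- the image of the point `8`
  have hm : n * C 8 * n⁻¹ ∈ Q0 := conj_Q0 hnz (C_mem 8)
  have hc := code_lt (n * C 8 * n⁻¹)
  have hcn := C_code hm
  set d := code (n * C 8 * n⁻¹) with hd
  have hd0 : mulc BB 6 d d = 0 := by
    apply C_inj (mulc_lt' hc hc) (by norm_num)
    rw [← C_mul, hcn, C0]
    calc n * C 8 * n⁻¹ * (n * C 8 * n⁻¹) = n * (C 8 * C 8) * n⁻¹ := by group
      _ = 1 := by rw [y_sq]; group
  have hdne : d % 64 ≠ 0 := by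
    intro h0
    have h1 : Eqz z0 (C d) (C 0) := eqz_C (by rw [h0])
    rw [hcn, C0] at h1
    rcases h1 with h1 | h1
    · apply y_ne
      calc C 8 = n⁻¹ * (n * C 8 * n⁻¹) * n := by group
        _ = 1 := by rw [h1]; group
    · apply y_nz
      calc C 8 = n⁻¹ * (n * C 8 * n⁻¹) * n := by group
        _ = n⁻¹ * (z0 * n) := by rw [h1, one_mul, mul_assoc]
        _ = z0 := by rw [← hnz]; group
  have hdsg : d % 64 ∈ sg := mem_sg _ (Nat.mod_lt _ (by norm_num)) hdne (sq_code d hc hd0)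
  have hmvd : Mv n (C 8) (C (d % 64)) := by
    unfold Mv
    rw [← hcn]
    exact eqz_C (Nat.mod_mod d 64).symm
  have hd8 : d % 64 ≠ 8 := by
    intro h8
    rw [h8] at hmvd
    exact hmv hmvd
  obtain ⟨w, hw8, hw⟩ := orbit_spec hdsg hd8
  have hwS : gw gg w ∈ S := hS (word_St hw8)
  have hww : Mv (gw gg w * n) (C 8) (C (w6 w (d % 64))) :=
    hmvd.mul (gw_gg w) (mv_word w _ (Nat.mod_lt _ (by norm_num)))
  have hwn : (gw gg w * n) * z0 = z0 * (gw gg w * n) := by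
    rw [mul_assoc, hnz, ← mul_assoc, gw_gg, mul_assoc]
  -- elements with the same image of the point
  have key : ∀ {q : Suz}, q * z0 = z0 * q → Mv q (C 8) (C (w6 w (d % 64))) → q ∈ S := by
    intro q hq hq'
    have h1 : (gw gg w * n)⁻¹ * q ∈ St := by
      refine ⟨?_, hq'.mul (inv_comm hwn) (hww.inv hwn)⟩
      rw [mul_assoc, hq, ← mul_assoc, inv_comm hwn, mul_assoc]
    have h2 := S.mul_mem (S.mul_mem hwS hn) (hS h1)
    rwa [mul_inv_cancel_left] at h2
  have h3S : gg 3 ∈ S := by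
    rcases hw with hw | hw
    · rw [hw] at key
      rw [← gg_word]
      apply key (gw_gg _)
      have := mv_word [3] 8 (by norm_num)
      have e : w6 [3] 8 = 9 := by decide +kernel
      rwa [e] at this
    · rw [hw] at key
      -- elements moving `8` to a point not orthogonal to `8`
      have key2 : ∀ {u : List ℕ} {u' : List ℕ}, w6 u' 8 = 8 → w6 (u' ++ u) 8 = 16 → gw gg u ∈ S := by
        intro u u' h1 h2
        have h3 : gw gg (u' ++ u) ∈ S := by
          apply key (gw_gg _)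
          have := mv_word (u' ++ u) 8 (by norm_num)
          rwa [h2] at this
        have h4 : gw gg (u' ++ u) = gw gg u' * gw gg u := by
          clear h1 h2 h3
          induction u' with
          | nil => show gw gg u = 1 * gw gg u; rw [one_mul]
          | cons k u' ih =>
            show gg k * gw gg (u' ++ u) = gg k * gw gg u' * gw gg u
            rw [ih, mul_assoc]
        rw [h4] at h3
        exact (S.mul_mem_cancel_left (hS (word_St h1))).1 h3
      have ha : gw gg [0, 3, 1, 0, 3] ∈ S := key2 (u' := [2, 0, 1, 2, 0]) (by decide +kernel) (by decide +kernel)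
      have hb : gw gg [3, 0, 3, 1, 0, 3] ∈ S := key2 (u' := [2, 0, 1, 2, 0, 2]) (by decide +kernel) (by decide +kernel)
      have e : gw gg [3, 0, 3, 1, 0, 3] = gg 3 * gw gg [0, 3, 1, 0, 3] := rfl
      rw [e] at hb
      exact (S.mul_mem_cancel_right ha).1 hb
  apply P_le
  intro k hk
  interval_cases k
  · rw [← gg_word]; exact hS (word_St (by decide +kernel))
  · rw [← gg_word]; exact hS (word_St (by decide +kernel))
  · rw [← gg_word]; exact hS (word_St (by decide +kernel))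
  · exact h3S
  · rw [← gg_word]; exact hS (word_St (by decide +kernel))

theorem gw_append (u v : List ℕ) : gw gg (u ++ v) = gw gg u * gw gg v := by
  induction u with
  | nil => show gw gg v = 1 * gw gg v; rw [one_mul]
  | cons k u ih =>
    show gg k * gw gg (u ++ v) = gg k * gw gg u * gw gg v
    rw [ih, mul_assoc]

/-- products of conjugates of `h1` -/
def cat : List (List ℕ × List ℕ) → List ℕ
  | [] => []
  | e :: l => e.1 ++ ([2] ++ (e.2 ++ cat l))

/-- the generators as products of conjugates of `h1` -/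
def gt : ℕ → List (List ℕ × List ℕ)
  | 0 => [([2, 1, 0, 4, 3, 1, 0], [0, 1, 3, 4, 4, 0, 1, 2]), ([1, 4, 2, 0, 3, 1, 0], [0, 1, 3, 0, 2, 4, 4, 1])]
  | 1 => [([0, 4, 2, 0, 3, 1, 0], [0, 1, 3, 0, 2, 4, 4, 0]), ([4, 0, 2, 0, 3, 1, 0], [0, 1, 3, 0, 2, 0, 4, 4])]
  | 2 => [([], [])]
  | 3 => [([0, 2, 0, 3, 0], [0, 3, 0, 2, 0])]
  | _ => [([4, 4, 1, 4, 0, 3, 1, 0], [0, 1, 3, 0, 4, 4, 1, 4, 4, 4, 4]), ([1, 4, 1, 0, 3, 1, 0],
      [0, 1, 3, 0, 1, 4, 4, 1]), ([1, 0, 4, 3, 1, 0], [0, 1, 3, 4, 4, 0, 1]), ([1, 4, 0, 3, 1, 0],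
      [0, 1, 3, 0, 4, 4, 1])]

theorem gt_inv : ∀ k < 5, ∀ e ∈ gt k, ∀ i < 6, w6 (e.1 ++ e.2) (2 ^ i) = 2 ^ i := by decide +kernel

theorem gt_act : ∀ k < 5, ∀ i < 6, w6 (cat (gt k)) (2 ^ i) = w6 [k] (2 ^ i) := by decide +kernel

/-- `P` is generated by the conjugates of `h1` and `R` -/
theorem le_of_normal' {S : Subgroup Suz} (hR : Q0 ≤ S) (h2 : gg 2 ∈ S)
    (hn : ∀ p : Suz, p * z0 = z0 * p → ∀ s ∈ S, p * s * p⁻¹ ∈ S) : C1 ≤ S := by
  have hpow : ∀ i < 6, 2 ^ i < 64 := by decide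
  have hcat : ∀ l : List (List ℕ × List ℕ), (∀ e ∈ l, ∀ i < 6, w6 (e.1 ++ e.2) (2 ^ i) = 2 ^ i) →
      gw gg (cat l) ∈ S := by
    intro l
    induction l with
    | nil => intro _; exact S.one_mem
    | cons e l ih =>
      intro h
      have h1 := h e List.mem_cons_self
      have h3 : gw gg (e.1 ++ e.2) ∈ S := by
        apply hR
        apply triv_mem (gw_gg _)
        intro i hi
        have := mv_word (e.1 ++ e.2) (2 ^ i) (hpow i hi)
        rwa [h1 i hi, C_pow hi] at this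
      have h4 : gw gg (cat (e :: l)) = (gw gg e.1 * gg 2 * (gw gg e.1)⁻¹) * (gw gg (e.1 ++ e.2)) * gw gg (cat l) := by
        show gw gg (e.1 ++ ([2] ++ (e.2 ++ cat l))) = _
        rw [gw_append, gw_append, gw_append, gw_append, gg_word]
        group
      rw [h4]
      exact S.mul_mem (S.mul_mem (hn _ (gw_gg _) _ h2) h3) (ih fun e' he' => h e' (List.mem_cons_of_mem _ he'))
  apply P_le
  intro k hk
  rw [← gg_word]
  refine mem_of_act hR (gw_gg _) (gw_gg (cat (gt k))) (fun i hi => ?_) (hcat _ (gt_inv k hk))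
  refine ⟨C (w6 [k] (2 ^ i)), ?_, ?_⟩
  · have := mv_word [k] (2 ^ i) (hpow i hi)
    rwa [C_pow hi] at this
  · have := mv_word (cat (gt k)) (2 ^ i) (hpow i hi)
    rwa [gt_act k hk i hi, C_pow hi] at this

/-- **`P/R` has no proper nontrivial normal subgroup.** -/
theorem normal_cases {N : Subgroup Suz} (hNP : N ≤ C1) (hR : Q0 ≤ N)
    (hn : ∀ p ∈ C1, ∀ n ∈ N, p * n * p⁻¹ ∈ N) : N ≤ Q0 ∨ N = C1 := by
  by_cases hNQ : N ≤ Q0
  · exact Or.inl hNQ
  right
  obtain ⟨n, hnN, hnQ⟩ := Set.not_subset.1 hNQ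
  have hnN' : n ∈ N := hnN
  have hnz : n * z0 = z0 * n := mem_C1.1 (hNP hnN')
  -- `n` moves a point `x i`
  obtain ⟨i, hi, hmv⟩ : ∃ i < 6, ¬ Mv n (xx i) (xx i) := by
    by_contra hcon
    push Not at hcon
    exact hnQ (triv_mem hnz hcon)
  obtain ⟨e, _, _, he⟩ := o27_spec i hi
  set g := gw gg e.2 with hg
  have hgz : g * z0 = z0 * g := gw_gg _
  have hg8 : Mv g (xx i) (C 8) := by
    have hpow : ∀ i < 6, 2 ^ i < 64 := by decide
    have := mv_word e.2 (2 ^ i) (hpow i hi)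
    rwa [he, C_pow hi] at this
  -- `n' = g n g⁻¹` moves the point `8`
  have hn'N : g * n * g⁻¹ ∈ N := hn g (mem_C1.2 hgz) n hnN'
  have hn'z : (g * n * g⁻¹) * z0 = z0 * (g * n * g⁻¹) := mem_C1.1 (hNP hn'N)
  have hmv' : ¬ Mv (g * n * g⁻¹) (C 8) (C 8) := by
    intro h
    apply hmv
    have h1 : Mv (g⁻¹ * ((g * n * g⁻¹) * g)) (xx i) (xx i) :=
      (hg8.mul hn'z h).mul (inv_comm hgz) (hg8.inv hgz)
    have e1 : g⁻¹ * ((g * n * g⁻¹) * g) = n := by group
    rwa [e1] at h1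
  have hmax : C1 ≤ N ⊔ St := le_of_moved le_sup_right (mem_sup_left hn'N) hn'z hmv'
  -- `N ⊔ T` is normalised by `P`
  have hNnorm : ∀ p : Suz, p * z0 = z0 * p → ∀ n ∈ N, p * n * p⁻¹ ∈ N := fun p hp n h => hn p (mem_C1.2 hp) n h
  have hTC : T ≤ C1 := fun t ht => mem_C1.2 (mem_T.1 ht).1.1
  have hTn : T ≤ normalizer (N : Set Suz) := by
    intro t ht
    have htz := (mem_T.1 ht).1.1
    rw [mem_normalizer_iff]
    intro x
    refine ⟨fun hx => hNnorm t htz x hx, fun hx => ?_⟩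
    have := hNnorm t⁻¹ (inv_comm htz) _ hx
    have e1 : t⁻¹ * (t * x * t⁻¹) * t⁻¹⁻¹ = x := by group
    rwa [e1] at this
  have hform : ∀ x ∈ N ⊔ T, ∃ n ∈ N, ∃ t ∈ T, n * t = x := by
    intro x hx
    have h1 := mul_normal_of hTn hx
    exact h1
  have hStT : ∀ p ∈ St, ∀ x ∈ N ⊔ T, p * x * p⁻¹ ∈ N ⊔ T := by
    intro p hp x hx
    obtain ⟨n, hn1, t, ht, rfl⟩ := hform x hx
    have e1 : p * (n * t) * p⁻¹ = (p * n * p⁻¹) * (p * t * p⁻¹) := by group
    rw [e1]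
    exact mul_mem (mem_sup_left (hNnorm p hp.1 n hn1)) (mem_sup_right (conj_T hp ht))
  have hnormS : C1 ≤ normalizer ((N ⊔ T : Subgroup Suz) : Set Suz) := by
    refine hmax.trans (sup_le ?_ ?_)
    · exact le_sup_left.trans le_normalizer
    · intro p hp
      rw [mem_normalizer_iff]
      intro x
      refine ⟨fun hx => hStT p hp x hx, fun hx => ?_⟩
      have := hStT p⁻¹ (St.inv_mem hp) _ hx
      have e1 : p⁻¹ * (p * x * p⁻¹) * p⁻¹⁻¹ = x := by group
      rwa [e1] at this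
  have hall : C1 ≤ N ⊔ T := by
    apply le_of_normal' (hR.trans le_sup_left) (mem_sup_right gg2_mem)
    intro p hp s hs
    exact (mem_normalizer_iff.1 (hnormS (mem_C1.2 hp)) s).1 hs
  -- commutators
  have hcomm : ∀ x ∈ N ⊔ T, ∀ y ∈ N ⊔ T, ⁅x, y⁆ ∈ N := by
    intro x hx y hy
    obtain ⟨n, hn1, t, ht, rfl⟩ := hform x hx
    obtain ⟨n', hn1', t', ht', rfl⟩ := hform y hy
    have e1 : ⁅n * t, n' * t'⁆ = n * (t * n' * t⁻¹) * ((t * t' * t⁻¹) * n⁻¹ * (t * t' * t⁻¹)⁻¹) * ⁅t, t'⁆ * n'⁻¹ := by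
      rw [commutatorElement_def, commutatorElement_def]; group
    rw [e1]
    have htz := (mem_T.1 ht).1.1
    have htz' : (t * t' * t⁻¹) * z0 = z0 * (t * t' * t⁻¹) :=
      (mem_T.1 (T.mul_mem (T.mul_mem ht ht') (T.inv_mem ht))).1.1
    exact N.mul_mem (N.mul_mem (N.mul_mem (N.mul_mem hn1 (hNnorm t htz _ hn1')) (hNnorm _ htz' _ (N.inv_mem hn1)))
      (hR (comm_T ht ht'))) (N.inv_mem hn1')
  have hperf : ⁅C1, C1⁆ = C1 := by
    have h1 : commutator C1 = ⊤ := perf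
    have h2 := congrArg (Subgroup.map C1.subtype) h1
    rwa [_root_.commutator_def, map_commutator, ← MonoidHom.range_eq_map, range_subtype] at h2
  apply le_antisymm hNP
  rw [← hperf, commutator_le]
  intro x hx y hy
  exact hcomm x (hall hx) y (hall hy)
where
  mul_normal_of {N T : Subgroup Suz} (hT : T ≤ normalizer (N : Set Suz)) {x : Suz} (hx : x ∈ N ⊔ T) :
      ∃ n ∈ N, ∃ t ∈ T, n * t = x := by
    rw [← SetLike.mem_coe, Subgroup.coe_mul_of_right_le_normalizer_left N T hT] at hx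
    obtain ⟨n, hn, t, ht, h⟩ := Set.mem_mul.1 hx
    exact ⟨n, hn, t, ht, h⟩

/-! ### The sheet -/

/-- word of an element of order `5` -/
def w5 : List Suz.Gen := h3 ++ ([.e] ++ [.d])

theorem w5_eq : el w5 = gw gg [4, 1, 0] := by
  show el (h3 ++ ([.e] ++ [.d])) = el h3 * (el [.e] * (el [.d] * 1))
  rw [el_append, el_append, mul_one]

theorem w5_pow : (el w5) ^ 5 = 1 := by
  have h : el (w5 ++ (w5 ++ (w5 ++ (w5 ++ w5)))) = el [] :=
    eq_of_reps (Rep.el _) (Rep.el _) (by decide +kernel)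
  rw [el_append, el_append, el_append, el_append] at h
  calc (el w5) ^ 5 = el w5 * (el w5 * (el w5 * (el w5 * el w5))) := by
        rw [pow_succ, pow_succ, pow_succ, pow_succ, pow_one]
        simp only [mul_assoc]
    _ = el [] := h
    _ = 1 := rfl

/-- `⁅x, y⁆ ∉ R` -/
theorem w5_comm : ⁅gw gg [4, 1, 0], gg 0⁆ ∉ Q0 := by
  intro h
  set x := gw gg [4, 1, 0] with hx
  set y := gg 0 with hy
  have hxz : x * z0 = z0 * x := gw_gg _
  have hyz : y * z0 = z0 * y := by rw [hy, ← gg_word]; exact gw_gg _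
  have e : x * y = ⁅x, y⁆ * (y * x) := by rw [commutatorElement_def]; group
  have hne : ∃ i < 6, w6 [4, 1, 0, 0] (2 ^ i) ≠ w6 [0, 4, 1, 0] (2 ^ i) := by decide +kernel
  obtain ⟨i, hi, hne⟩ := hne
  have hpow : ∀ i < 6, 2 ^ i < 64 := by decide
  have h1 := mv_word [4, 1, 0, 0] (2 ^ i) (hpow i hi)
  have h2 := mv_word [0, 4, 1, 0] (2 ^ i) (hpow i hi)
  have e1 : gw gg [4, 1, 0, 0] = x * y := by
    rw [hx, hy, ← gg_word, ← gw_append]; rfl
  have e2 : gw gg [0, 4, 1, 0] = y * x := by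
    rw [hx, hy]; rfl
  rw [e1, e] at h1
  rw [e2] at h2
  have hyxz : (y * x) * z0 = z0 * (y * x) := by rw [mul_assoc, hxz, ← mul_assoc, hyz, mul_assoc]
  -- elements of `R` act trivially
  have h3 : Mv ⁅x, y⁆ (C (w6 [0, 4, 1, 0] (2 ^ i))) (C (w6 [0, 4, 1, 0] (2 ^ i))) := by
    unfold Mv
    exact Eqz.conj_mem large h (C_mem _)
  have h4 := h2.mul (large.comm_z _ h) h3
  unfold Mv at h1 h4
  have h5 := (Eqz.symm large h1).trans large h4
  apply hne
  have h6 := code_eqz (C_mem _) (C_mem _) h5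
  have h7 := w6_lt [4, 1, 0, 0] (hpow i hi)
  have h8 := w6_lt [0, 4, 1, 0] (hpow i hi)
  rwa [code_C (by omega), code_C (by omega), Nat.mod_eq_of_lt h7, Nat.mod_eq_of_lt h8] at h6

theorem w5_ne : el w5 ≠ 1 := by
  intro h
  apply w5_comm
  rw [← w5_eq, h, commutatorElement_one_left]
  exact Q0.one_mem

theorem w5_p : IsPGroup 5 (zpowers (gw gg [4, 1, 0])) := by
  rw [← w5_eq]
  have : Fact (Nat.Prime 5) := ⟨by norm_num⟩
  apply IsPGroup.of_card (n := 1)
  rw [Nat.card_zpowers, orderOf_eq_prime w5_pow w5_ne, pow_one]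

theorem finite_suz : Finite Suz := by
  apply Nat.finite_of_card_ne_zero
  rw [SporadicRecognition.SuzOrder.card_Suz]
  norm_num

theorem C1_eq : C1 = centralizer ({z0} : Set Suz) := rfl

/-- **the sheet of case (M) of the Suzuki group** -/
theorem sheetM (h : OddHalf.D8.Sheet.SheetE z0 (centralizer ({z0} : Set Suz)) Q0) :
    OddHalf.CaseM.SheetM (centralizer ({z0} : Set Suz)) Q0 := by
  have := finite_suz
  have hC := C1_eq
  refine OddHalf.CaseM.SheetM.of_quasisimple h ?_ (p := 5) (w := 3) (by norm_num) (by norm_num) ?_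
    (x := gw gg [4, 1, 0]) (y := gg 0) ?_ w5_p ?_ w5_comm ?_ ⟨0, by rw [relIndex_self, pow_zero]⟩
  · intro N hNP hR hn
    rw [← hC] at hNP hn ⊢
    rcases normal_cases hNP hR hn with h1 | h1
    · left
      rw [commutator_le]
      intro x hx y hy
      have h2 := h1 hx
      rw [commutatorElement_def]
      have h3 : y * x⁻¹ * y⁻¹ ∈ Q0 := large.conj_mem y (mem_C1.1 hy) _ (Q0.inv_mem h2)
      have h4 := Q0.mul_mem h2 h3
      simpa only [mul_assoc] using h4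
    · right; exact h1
  · rw [card_R]
  · rw [← hC]; exact mem_C1.2 (gw_gg _)
  · rw [← hC, ← gg_word]; exact mem_C1.2 (gw_gg _)
  · rcases SuzOut.index_eq with h1 | h1
    · exact ⟨0, by rw [h1, pow_zero]⟩
    · exact ⟨1, by rw [h1, pow_one]⟩

end Cfsg.Agent.KFacts.SuzSheetM
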