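import Cfsg.Agent.KFacts.SuzTwoB
import Cfsg.Agent.SporRec.SuzCl.Inv

/-!
# Normal subgroups and the Sylow 2-subgroup of `L ≅ L₃(4)` in the Suzuki group

`bab_mem`: a nontrivial normal subgroup of `L` contains the involution `bab`. `TL`: a Sylow 2-subgroup of `L`, with centre
`⟨a, c⟩`.
-/

set_option autoImplicit false
set_option maxRecDepth 100000
set_option exponentiation.threshold 4000

namespace Cfsg.Agent.KFacts.SuzTL

open Cfsg.Spor Cfsg.Agent.Lib.PermNet Cfsg.Agent.Lib.PermNetOrbit Cfsg.Agent.SporadicRecognition.SuzPhi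
  Cfsg.Agent.SporadicRecognition.SuzBound Cfsg.Agent.SporadicRecognition.SuzOrder
  Cfsg.Agent.SuzThree.Nets Cfsg.Agent.SuzThree.Basic Cfsg.Agent.SuzThree.Elts
  Cfsg.Agent.SuzThree.CentA Cfsg.Agent.SuzThree.CentB
  Cfsg.Agent.SuzThree.QZero Cfsg.Agent.KFacts.SuzCent Cfsg.Agent.KFacts.SuzLFour Cfsg.Agent.KFacts.SuzTwoB

/-! ### The action on 21 points -/

/-- the 21 points -/
noncomputable def O21 : ℕ := sat (gl.map wd) 8 (Nat.pow 2 0)

/-- generators of the stabiliser of 0 -/
def gl0 : List (List Suz.Gen) := [[.a], [.b], [.c], [.f]]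

/-- the 20 points -/
noncomputable def O20 : ℕ := sat (gl0.map wd) 10 (Nat.pow 2 1)

theorem clO : closedB (gl.map wd) O21 = true := by decide +kernel
theorem ltO : Nat.beq (Nat.shiftRight O21 (Nat.pow 2 11)) 0 = true := by decide +kernel
theorem pcO : Nat.beq (pc 11 O21) 21 = true := by decide +kernel
theorem chkO20 : Nat.beq O21 (Nat.lor 1 O20) = true := by decide +kernel
theorem tb0 : tb O21 0 = true := by decide +kernel
theorem tb1 : tb O21 1 = true := by decide +kernel
theorem tb2 : tb O21 2 = true := by decide +kernel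
theorem tb5 : tb O21 5 = true := by decide +kernel

theorem map_O21 {l : Suz} (hl : l ∈ L) (p : ℕ) : O21.testBit (φ l p) = O21.testBit p := by
  have h1 : φ l ∈ Subgroup.closure {s : Equiv.Perm ℕ | ∃ w ∈ gl.map wd, wperm w = s} := by
    have h2 : (cl gl).map φ ≤ Subgroup.closure {s : Equiv.Perm ℕ | ∃ w ∈ gl.map wd, wperm w = s} := by
      rw [cl, MonoidHom.map_closure, Subgroup.closure_le]
      rintro _ ⟨_, ⟨w, hw, rfl⟩, rfl⟩
      exact Subgroup.subset_closure ⟨wd w, List.mem_map_of_mem hw, (φ_el w).symm⟩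
    exact h2 ⟨l, hl, rfl⟩
  exact testBit_eq_of_closure (U := O21) (S := {s : Equiv.Perm ℕ | ∃ w ∈ gl.map wd, wperm w = s})
    (by
      rintro s ⟨w, hw, rfl⟩
      exact closedB_spec (wsokS gl) clO w hw) h1 p

theorem trans1 {t : ℕ} (h : O21.testBit t = true) : ∃ l ∈ L, φ l 0 = t := by
  obtain ⟨g, ⟨x, hx, rfl⟩, hh⟩ := sat_point_spec (K := L.map φ) (wsokS gl)
    (fun w hw => by
      obtain ⟨u, hu, rfl⟩ := List.mem_map.1 hw
      exact ⟨el u, el_mem_cl hu, φ_el u⟩) 8 h
  exact ⟨x, hx, hh⟩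

theorem trans2 {t : ℕ} (h : O21.testBit t = true) (h0 : t ≠ 0) : ∃ l ∈ L, φ l 0 = 0 ∧ φ l 1 = t := by
  have h1 : O20.testBit t = true := by
    have h2 : O21 = (1 ||| O20) := Nat.eq_of_beq_eq_true chkO20
    rw [h2, Nat.testBit_or, Bool.or_eq_true, Nat.testBit_one_eq_true_iff_self_eq_zero] at h
    exact h.resolve_left h0
  obtain ⟨g, ⟨x, hx, rfl⟩, hh⟩ := sat_point_spec (K := (L ⊓ stabL φ [0]).map φ) (wsokS gl0)
    (fun w hw => by
      obtain ⟨u, hu, rfl⟩ := List.mem_map.1 hw
      refine ⟨el u, ⟨words_mem (by decide) u hu, ?_⟩, φ_el u⟩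
      intro q hq
      rw [φ_el]
      have h : fixAllB (gl0.map wd) [0] = true := by decide +kernel
      exact fixAllB_spec (wsokS gl0) h q hq _ (List.mem_map_of_mem hu)) 10 h1
  exact ⟨x, hx.1, hx.2 0 (by simp), hh⟩

/-- `L` is 2-transitive on the 21 points -/
theorem two_trans {p q r s : ℕ} (hp : O21.testBit p = true) (hq : O21.testBit q = true) (hpq : p ≠ q)
    (hr : O21.testBit r = true) (hs : O21.testBit s = true) (hrs : r ≠ s) :
    ∃ l ∈ L, φ l p = r ∧ φ l q = s := by
  have key : ∀ {p q : ℕ}, O21.testBit p = true → O21.testBit q = true → p ≠ q →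
      ∃ l ∈ L, φ l 0 = p ∧ φ l 1 = q := by
    intro p q hp hq hpq
    obtain ⟨l, hl, hlp⟩ := trans1 hp
    have h1 : O21.testBit (φ l⁻¹ q) = true := by rw [map_O21 (L.inv_mem hl)]; exact hq
    have h2 : φ l⁻¹ q ≠ 0 := by
      intro h
      apply hpq
      rw [← hlp, ← h, ← Equiv.Perm.mul_apply, ← map_mul, mul_inv_cancel, map_one φ]; rfl
    obtain ⟨m, hm, hm0, hm1⟩ := trans2 h1 h2
    refine ⟨l * m, L.mul_mem hl hm, ?_, ?_⟩
    · rw [map_mul, Equiv.Perm.mul_apply, hm0, hlp]
    · rw [map_mul, Equiv.Perm.mul_apply, hm1, ← Equiv.Perm.mul_apply, ← map_mul, mul_inv_cancel, map_one φ]; rfl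
  obtain ⟨u, hu, hu0, hu1⟩ := key hp hq hpq
  obtain ⟨w, hw, hw0, hw1⟩ := key hr hs hrs
  refine ⟨w * u⁻¹, L.mul_mem hw (L.inv_mem hu), ?_, ?_⟩
  · rw [map_mul, Equiv.Perm.mul_apply, map_inv, Equiv.Perm.inv_eq_iff_eq.2 hu0.symm, hw0]
  · rw [map_mul, Equiv.Perm.mul_apply, map_inv, Equiv.Perm.inv_eq_iff_eq.2 hu1.symm, hw1]

/-- `L` is faithful on the 21 points -/
theorem faithful {l : Suz} (hl : l ∈ L) (h : ∀ q, O21.testBit q = true → φ l q = q) : l = 1 := by
  have h1 := card_mul_L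
  rw [card_L] at h1
  have h2 : Nat.card (stabL (φS L) [2, 5, 1, 0]) = 1 := by
    have : 0 < Nat.card (stabL (φS L) [2, 5, 1, 0]) := Nat.card_pos
    omega
  have h3 : (⟨l, hl⟩ : L) ∈ stabL (φS L) [2, 5, 1, 0] := by
    intro q hq
    show φ l q = q
    apply h
    rw [← tb_eq]
    simp only [List.mem_cons, List.not_mem_nil, or_false] at hq
    rcases hq with rfl | rfl | rfl | rfl
    · exact tb2
    · exact tb5
    · exact tb1
    · exact tb0
  rw [Subgroup.eq_bot_of_card_eq _ h2, Subgroup.mem_bot] at h3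
  exact congrArg Subtype.val h3

/-! ### Normal subgroups of `L` -/

/-- the element of order 7 -/
def uw : List Suz.Gen := [.b, .c, .f, .g]

theorem u_pow : el uw ^ 7 = 1 := by
  have h : el uw ^ 7 = el (uw ++ uw ++ uw ++ uw ++ uw ++ uw ++ uw) := by
    rw [el_append, el_append, el_append, el_append, el_append, el_append]
    simp only [pow_succ, pow_zero, one_mul]
  rw [h]
  exact eq_of_reps (Rep.el _) Rep.one (by decide +kernel)

/-- **A nontrivial normal subgroup of `L` contains the involution `bab`.** -/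
theorem bab_mem {M : Subgroup Suz} (hML : M ≤ L) (hn : ∀ l ∈ L, ∀ m ∈ M, l * m * l⁻¹ ∈ M) (hne : M ≠ ⊥) :
    el [.b, .a, .b] ∈ M := by
  -- an element moving a point
  obtain ⟨m, hm, p, hp, hmp⟩ : ∃ m ∈ M, ∃ p, O21.testBit p = true ∧ φ m p ≠ p := by
    by_contra hcon
    push Not at hcon
    apply hne
    rw [eq_bot_iff]
    intro m hm
    exact Subgroup.mem_bot.2 (faithful (hML hm) (hcon m hm))
  -- `M` is transitive
  have htr : ∀ t, O21.testBit t = true → ∃ x ∈ M, φ x 0 = t := by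
    intro t ht
    by_cases h0 : t = 0
    · refine ⟨1, M.one_mem, ?_⟩
      rw [map_one φ, h0]; rfl
    · obtain ⟨l, hl, h1, h2⟩ := two_trans hp (by rw [map_O21 (hML hm)]; exact hp) (Ne.symm hmp)
        (by rw [← tb_eq]; exact tb0) ht (Ne.symm h0)
      refine ⟨l * m * l⁻¹, hn l hl m hm, ?_⟩
      rw [map_mul, map_mul, Equiv.Perm.mul_apply, Equiv.Perm.mul_apply, map_inv,
        Equiv.Perm.inv_eq_iff_eq.2 h1.symm, h2]
  have h7 : 7 ∣ Nat.card M := by
    have h1 := card_stabL_eq (φS M) [] 0 (bits (2 ^ 11) O21) (fun t ht => by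
        obtain ⟨x, hx, hx0⟩ := htr t (mem_bits.1 ht).2
        exact ⟨⟨x, hx⟩, fun q hq => absurd hq (by simp), hx0⟩)
      (fun g _ => mem_bits.2 ⟨lt_of_lt_of_le (φ_lt 0 (by norm_num)) (by norm_num), by
        show O21.testBit (φ (g : Suz) 0) = true
        rw [map_O21 (hML g.2), ← tb_eq]; exact tb0⟩)
    have h0 : Nat.card (stabL (φS M) []) = Nat.card M := by
      have : stabL (φS M) [] = ⊤ := by
        rw [eq_top_iff]; intro g _ q hq; exact absurd hq (by simp)
      rw [this, Subgroup.card_top]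
    rw [h0, ← pc_eq 11 O21 (lt_of_chk ltO), Nat.eq_of_beq_eq_true pcO] at h1
    rw [h1]
    exact Dvd.dvd.mul_right (by norm_num) _
  -- `u ∈ M`
  have hu : el uw ∈ M := by
    have hnorm : (M.subgroupOf L).Normal := by
      refine ⟨fun x hx l => ?_⟩
      rw [Subgroup.mem_subgroupOf] at hx ⊢
      exact hn l l.2 _ hx
    have hcard := (M.subgroupOf L).card_mul_index
    rw [Nat.card_congr (Subgroup.subgroupOfEquivOfLe hML).toEquiv, card_L] at hcard
    have huL : el uw ∈ L := word_mem_L (by decide)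
    have h7' : ¬ 7 ∣ (M.subgroupOf L).index := by
      intro h
      have h1 : 49 ∣ 20160 := by
        rw [← hcard]
        exact mul_dvd_mul h7 h
      omega
    have h1 : ((⟨el uw, huL⟩ : L) : L ⧸ M.subgroupOf L) ^ 7 = 1 := by
      rw [← QuotientGroup.mk_pow]
      have : (⟨el uw, huL⟩ : L) ^ 7 = 1 := Subtype.ext (by
        rw [Subgroup.coe_pow]; exact u_pow)
      rw [this]; rfl
    have h2 : orderOf ((⟨el uw, huL⟩ : L) : L ⧸ M.subgroupOf L) ∣ 7 := orderOf_dvd_of_pow_eq_one h1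
    have h3 : orderOf ((⟨el uw, huL⟩ : L) : L ⧸ M.subgroupOf L) ∣ (M.subgroupOf L).index := orderOf_dvd_natCard _
    rcases (Nat.dvd_prime (by norm_num : Nat.Prime 7)).1 h2 with h4 | h4
    · rw [orderOf_eq_one_iff, QuotientGroup.eq_one_iff] at h4
      exact Subgroup.mem_subgroupOf.1 h4
    · rw [h4] at h3
      exact absurd h3 h7'
  have hb : el [.b] * el uw * (el [.b])⁻¹ ∈ M := hn _ (gen_mem_L rfl) _ hu
  have he : el uw * (el [.b] * el uw * (el [.b])⁻¹) = el [.b, .a, .b] := by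
    rw [← el_reverse]
    show el uw * (el [.b] * el uw * el [.b]) = _
    rw [← el_append, ← el_append, ← el_append]
    exact eq_of (by decide +kernel)
  rw [← he]
  exact M.mul_mem hu hb

/-- the involution `bab` -/
theorem bab_eq : el [.b, .a, .b] = el [.b] * z0 * (el [.b])⁻¹ := by
  rw [← el_reverse]
  show _ = el [.b] * el [.a] * el [.b]
  rw [← el_append, ← el_append]; rfl

theorem bab_sq : el [.b, .a, .b] * el [.b, .a, .b] = 1 := by
  rw [bab_eq]
  calc el [.b] * z0 * (el [.b])⁻¹ * (el [.b] * z0 * (el [.b])⁻¹) = el [.b] * (z0 * z0) * (el [.b])⁻¹ := by group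
    _ = 1 := by rw [gen_sq .a]; group

theorem bab_ne : el [.b, .a, .b] ≠ 1 := by
  intro h
  rw [bab_eq] at h
  apply SuzR.z_ne
  calc z0 = (el [.b])⁻¹ * (el [.b] * z0 * (el [.b])⁻¹) * el [.b] := by group
    _ = 1 := by rw [h]; group

/-- a normal subgroup of odd order of `L` is trivial -/
theorem odd_eq_bot {M : Subgroup Suz} (hML : M ≤ L) (hn : ∀ l ∈ L, ∀ m ∈ M, l * m * l⁻¹ ∈ M)
    (hodd : Odd (Nat.card M)) : M = ⊥ := by
  by_contra hne
  have h1 := bab_mem hML hn hne
  have h2 : orderOf (⟨_, h1⟩ : M) ∣ Nat.card M := orderOf_dvd_natCard _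
  have h3 : orderOf (⟨_, h1⟩ : M) = 2 := orderOf_eq_prime (Subtype.ext (by
    rw [Subgroup.coe_pow, pow_two]; exact bab_sq)) (fun h => bab_ne (congrArg Subtype.val h))
  rw [h3] at h2
  exact (Nat.not_even_iff_odd.2 hodd) (even_iff_two_dvd.2 h2)

/-! ### The Sylow 2-subgroup of `L` -/

open Cfsg.Agent.SporRec.SuzCl (tA tC tF tG t8 t9 W8 W9 R8 R9 R_gen pcChk pcChk_spec tev tev_zero eqB eqB_of_eq allP
  allP_spec PC pr exists_pr card_closure app)

/-- polycyclic generators -/
noncomputable def gsL : List Suz := [el W9, el W8, PresentedGroup.of Suz.Gen.g, PresentedGroup.of Suz.Gen.f,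
  PresentedGroup.of Suz.Gen.c, PresentedGroup.of Suz.Gen.a]

/-- their tables -/
noncomputable def tsL : List ℕ := [t9, t8, tG, tF, tC, tA]

theorem R_L : List.Forall₂ SporRec.SuzCl.R tsL gsL := by
  unfold tsL gsL
  exact .cons R9 (.cons R8 (.cons (R_gen Suz.Gen.g) (.cons (R_gen Suz.Gen.f) (.cons (R_gen Suz.Gen.c)
    (.cons (R_gen Suz.Gen.a) .nil)))))

theorem pc_L : PC gsL :=
  pcChk_spec R_L [[9, 26, 4, 8, 16], [1, 14, 4, 8], [5, 2, 4], [1, 2], [1], []] (by decide +kernel)

theorem nontriv : allP (fun k => or (Nat.beq k 0) (not (eqB (fun p => tev tsL k 0 p) (fun p => p)))) 6 0 = true := by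
  decide +kernel

theorem pr_ne_one : ∀ k < 2 ^ gsL.length, pr gsL k = 1 → k = 0 := by
  intro k hk h1
  have hlen : gsL.length = 6 := rfl
  rw [hlen] at hk
  have h := allP_spec _ 6 0 nontriv k (Nat.zero_le _) (by omega)
  simp only [Bool.or_eq_true] at h
  rcases h with h | h
  · exact Nat.eq_of_beq_eq_true h
  · exfalso
    have h2 := eqB_of_eq (f := fun p => tev tsL k 0 p) (g := fun p => p)
      (fun p hp => (tev_zero R_L k p hp).1) (fun p _ => by rw [map_one]; rfl) h1
    rw [h2] at h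
    exact absurd h (by decide)

/-- the Sylow 2-subgroup of `L` -/
noncomputable def TL : Subgroup Suz := Subgroup.closure {x | x ∈ gsL}

theorem card_TL : Nat.card TL = 64 := by
  have h := card_closure gsL pc_L pr_ne_one
  rw [TL, h]; rfl

theorem of_eq (x : Suz.Gen) : (PresentedGroup.of x : Suz) = el [x] := by
  show _ = ([x].map fun x => (PresentedGroup.of x : Suz)).prod
  rw [List.map_singleton, List.prod_singleton]

theorem TL_le : TL ≤ L := by
  rw [TL, Subgroup.closure_le]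
  intro x hx
  have hx' : x ∈ gsL := hx
  unfold gsL at hx'
  simp only [List.mem_cons, List.not_mem_nil, or_false] at hx'
  rcases hx' with rfl | rfl | rfl | rfl | rfl | rfl
  · exact word_mem_L (w := W9) (by decide)
  · exact word_mem_L (w := W8) (by decide)
  · rw [of_eq]; exact gen_mem_L rfl
  · rw [of_eq]; exact gen_mem_L rfl
  · rw [of_eq]; exact gen_mem_L rfl
  · rw [of_eq]; exact gen_mem_L rfl

/-- the centre of `TL` -/
theorem center_chk : allP (fun k => or (or (or (Nat.beq k 0) (Nat.beq k 16)) (or (Nat.beq k 32) (Nat.beq k 48)))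
    (not (and (and (eqB (fun p => tev tsL k 0 (app t9 p)) (fun p => app t9 (tev tsL k 0 p)))
      (eqB (fun p => tev tsL k 0 (app t8 p)) (fun p => app t8 (tev tsL k 0 p))))
      (and (eqB (fun p => tev tsL k 0 (app tG p)) (fun p => app tG (tev tsL k 0 p)))
      (eqB (fun p => tev tsL k 0 (app tF p)) (fun p => app tF (tev tsL k 0 p))))))) 6 0 = true := by decide +kernel

theorem comm_eqB {t : ℕ} {g : Suz} (ht : SporRec.SuzCl.R t g) {k : ℕ} (h : pr gsL k * g = g * pr gsL k) :
    eqB (fun p => tev tsL k 0 (app t p)) (fun p => app t (tev tsL k 0 p)) = true :=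
  eqB_of_eq (f := fun p => tev tsL k 0 (app t p)) (g := fun p => app t (tev tsL k 0 p))
    (fun p hp => by
      rw [map_mul, Equiv.Perm.mul_apply, (ht p hp).1, (tev_zero R_L k _ (ht p hp).2).1])
    (fun p hp => by
      rw [map_mul, Equiv.Perm.mul_apply, (tev_zero R_L k p hp).1, (ht _ (tev_zero R_L k p hp).2).1]) h

theorem center_TL {x : Suz} (hx : x ∈ TL) (hc : ∀ y ∈ TL, y * x = x * y) :
    x = 1 ∨ x = el [.c] ∨ x = z0 ∨ x = el [.c] * z0 := by
  obtain ⟨k, hk, rfl⟩ := exists_pr gsL pc_L x hx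
  have hk' : k < 64 := hk
  have hm : ∀ g ∈ gsL, pr gsL k * g = g * pr gsL k := fun g hg => (hc g (Subgroup.subset_closure hg)).symm
  have h := allP_spec _ 6 0 center_chk k (Nat.zero_le _) (by omega)
  rw [Bool.or_eq_true] at h
  rcases h with h | h
  · simp only [Bool.or_eq_true, Nat.beq_eq] at h
    have e3 : ∀ g : Suz, (if (0 : ℕ) % 2 = 1 then g else 1) = 1 := fun g => by simp
    rcases h with (rfl | rfl) | (rfl | rfl)
    · left; exact SporRec.SuzCl.pr_zero gsL
    · right; left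
      rw [← of_eq]
      simp [gsL, pr]
    · right; right; left
      show _ = el [.a]
      rw [← of_eq]
      simp [gsL, pr]
    · right; right; right
      show _ = el [.c] * el [.a]
      rw [← of_eq, ← of_eq]
      simp [gsL, pr]
  · exfalso
    rw [comm_eqB R9 (hm _ (by simp [gsL])), comm_eqB R8 (hm _ (by simp [gsL])),
      comm_eqB (t := tG) (R_gen Suz.Gen.g) (hm _ (by simp [gsL])), comm_eqB (t := tF) (R_gen Suz.Gen.f) (hm _ (by simp [gsL]))] at h
    exact absurd h (by decide)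

/-- `a` is central in `TL` -/
theorem z0_central : ∀ y ∈ TL, y * z0 = z0 * y := by
  have h1 : TL ≤ C1 := by
    rw [TL, Subgroup.closure_le]
    intro x hx
    have hx' : x ∈ gsL := hx
    unfold gsL at hx'
    simp only [List.mem_cons, List.not_mem_nil, or_false] at hx'
    have cm : ∀ w : List Suz.Gen, checkEq 11 (wd (w ++ [.a])) (wd (.a :: w)) = true → el w ∈ C1 :=
      fun w h => mem_C1_of h
    rcases hx' with rfl | rfl | rfl | rfl | rfl | rfl
    · exact cm W9 (by decide +kernel)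
    · exact cm W8 (by decide +kernel)
    · rw [of_eq]; exact cm [.g] (by decide +kernel)
    · rw [of_eq]; exact cm [.f] (by decide +kernel)
    · rw [of_eq]; exact cm [.c] (by decide +kernel)
    · rw [of_eq]; exact cm [.a] (by decide +kernel)
  exact fun y hy => mem_C1.1 (h1 hy)

theorem fact_L : (Nat.card L).factorization 2 = 6 := by
  rw [card_L]
  have h : 20160 = 2 ^ 6 * 315 := by norm_num
  rw [h, Nat.factorization_mul (by norm_num) (by norm_num), Finsupp.add_apply,
    Nat.Prime.factorization_pow Nat.prime_two, Finsupp.single_eq_same,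
    Nat.factorization_eq_zero_of_not_dvd (by norm_num)]

/-- `TL` as a Sylow subgroup of `L` -/
noncomputable def TLS : Sylow 2 L := Sylow.ofCard (TL.subgroupOf L) (by
  rw [Nat.card_congr (Subgroup.subgroupOfEquivOfLe TL_le).toEquiv, card_TL, fact_L]; norm_num)

theorem mem_TLS {x : L} : x ∈ TLS ↔ (x : Suz) ∈ TL := Subgroup.mem_subgroupOf

end Cfsg.Agent.KFacts.SuzTL
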