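import Cfsg.Agent.KFacts.RgdAut

/-!
# A `p`-group of automorphisms normalises a Sylow `p`-subgroup
-/

set_option autoImplicit false

namespace Cfsg.Agent.KFacts.SylFix

open Cfsg.Agent.KFacts.RgdAut
open scoped Pointwise

theorem mem_smul_iff {Y : Type*} [Group Y] {p : ℕ} (α : MulAut Y) (P : Sylow p Y) (x : Y) :
    α x ∈ (α • P : Sylow p Y) ↔ x ∈ P := by
  change α x ∈ (α • (P : Subgroup Y) : Subgroup Y) ↔ x ∈ (P : Subgroup Y)
  have : α x = α • x := rfl
  rw [this, Subgroup.smul_mem_pointwise_smul_iff]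

/-- A `p`-group of automorphisms normalises a conjugate of the Sylow `p`-subgroup `U`. -/
theorem exists_conj_fix {Y : Type*} [Group Y] [Finite Y] {p : ℕ} [Fact p.Prime] {U : Subgroup Y}
    (hU : IsPGroup p ↥U) (hi : ¬ p ∣ U.index) {S : Subgroup (MulAut Y)} (hS : IsPGroup p ↥S) :
    ∃ g : Y, ∀ α ∈ S, Fix (MulAut.conj g⁻¹ * α * MulAut.conj g) U := by
  let P : Sylow p Y := hU.toSylow hi
  have hP : (P : Subgroup Y) = U := rfl
  let _ : MulAction ↥S (Sylow p Y) := inferInstance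
  have h1 : ¬ p ∣ Nat.card (Sylow p Y) := not_dvd_card_sylow p Y
  obtain ⟨Q, hQ⟩ := hS.nonempty_fixed_point_of_prime_not_dvd_card (Sylow p Y) h1
  obtain ⟨g, hg⟩ := MulAction.exists_smul_eq Y P Q
  have hQ' : ∀ x, x ∈ Q ↔ g⁻¹ * x * g ∈ U := by
    intro x
    rw [← hg, ← hP]
    have h2 := mem_smul_iff (MulAut.conj g) P (g⁻¹ * x * g)
    rw [MulAut.conj_apply] at h2
    have e : g * (g⁻¹ * x * g) * g⁻¹ = x := by group
    rw [e] at h2
    exact h2
  refine ⟨g, fun α hα x => ?_⟩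
  have h3 : ∀ y, α y ∈ Q ↔ y ∈ Q := by
    intro y
    have h4 := hQ ⟨α, hα⟩
    have h5 : α • Q = Q := h4
    have h6 := mem_smul_iff α Q y
    rwa [h5] at h6
  have h4 := h3 (g * x * g⁻¹)
  rw [hQ', hQ'] at h4
  rw [MulAut.mul_apply, MulAut.mul_apply, MulAut.conj_apply, MulAut.conj_apply, inv_inv, h4]
  have e : g⁻¹ * (g * x * g⁻¹) * g = x := by group
  rw [e]

end Cfsg.Agent.KFacts.SylFix
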