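import Mathlib
import Cfsg.Agent.KFacts.RgdSys
import Cfsg.Agent.KFacts.RgdAutFacts
import Cfsg.Agent.OddHalf.D4.Line

/-!
# Lines of the unipotent group (ODD, D4, (1B))

`S : Sys R e` (characteristic two, no triple bonds, no signs: `PSL_n`, `PΩ⁺`, `E₆, E₇, E₈, F₄, …`), `Y = ⟨X r⟩`.

* `comm_all` : an element of `Y` commuting with ONE nontrivial element of `X r` commutes with `X r`;
* `neg_cases`, `comm_gen` : the commutators of root elements of positive roots;
* `UH j` : the product of the `X r`, `ht r > j`; `UH_comm : [UH j, UH 0] ≤ UH (j + 1)`;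
* `filt`, `lineFacts : LineFacts Y` (`|K| ≥ 3`).
-/

set_option autoImplicit false
set_option linter.unusedSectionVars false

namespace Cfsg.Agent.KFacts.SysLine

open CoxeterSystem Cfsg.Agent.ChevalleyStructure.CoxeterGeom Cfsg.Agent.Tits.Roots Cfsg.Agent.Tits.Core
  Cfsg.Agent.Tits.Exchange Cfsg.Agent.Nodes.Reps Cfsg.Agent.Nodes.BNOf Cfsg.Agent.Nodes.StabComb
  Cfsg.Agent.Nodes.Bruhat Cfsg.Agent.Nodes.OppDec Cfsg.Agent.Nodes.LeviDec Cfsg.Agent.Nodes.NormalForm
  Cfsg.Agent.Nodes.Coroot Cfsg.Agent.Nodes.PosPair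
  Cfsg.Agent.KFacts.RgdOpp Cfsg.Agent.KFacts.RgdAut Cfsg.Agent.KFacts.RgdRigid
  Cfsg.Agent.KFacts.RgdSys Cfsg.Agent.KFacts.ChevTwo Cfsg.Agent.OddHalf.D4.Line
open scoped commutatorElement

variable {I W Y K : Type*} [Fintype I] [DecidableEq I] [Group W] [Group Y] [Field K] {M : CoxeterMatrix I}
variable {cs : CoxeterSystem M W} {A : I → I → ℤ} {h : IsCartan M A} {e : (I → ℤ) → K → Y}
  {p : ℕ} {T : Subgroup Y} {n : I → Y} {X : (I → ℤ) → Subgroup Y}

theorem ht_add (x y : I → ℤ) : ht (x + y) = ht x + ht y := RGD.ht_add x y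

theorem ht_smul (m : ℤ) (x : I → ℤ) : ht (m • x) = m * ht x := RGD.ht_smul m x

theorem ht_pos {x : I → ℤ} (hx : x ∈ RGD.Pos cs h) : 0 < ht x := RGD.ht_pos hx.1 hx.2

/-- The subgroup generated by the root groups of height `> j`. -/
def UH (cs : CoxeterSystem M W) (h : IsCartan M A) (X : (I → ℤ) → Subgroup Y) (j : ℕ) : Subgroup Y :=
  RGD.Sup X {r | r ∈ RGD.Pos cs h ∧ (j : ℤ) < ht r}

theorem UH_zero : UH cs h X 0 = RGD.Sup X (RGD.Pos cs h) := by
  unfold UH
  congr 1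
  ext r
  exact ⟨fun hr => hr.1, fun hr => ⟨hr, by exact_mod_cast ht_pos hr⟩⟩

theorem UH_le {i j : ℕ} (hij : i ≤ j) : UH cs h X j ≤ UH cs h X i :=
  RGD.Sup_mono fun _ hr => ⟨hr.1, lt_of_le_of_lt (by exact_mod_cast hij) hr.2⟩

theorem UH_bot [Finite W] : ∃ n, UH cs h X n = ⊥ := by
  have hfin : {x | IsRoot cs h x}.Finite := RGD.finite_roots
  obtain ⟨N, hN⟩ := (hfin.image (ht : (I → ℤ) → ℤ)).bddAbove
  refine ⟨N.toNat, ?_⟩
  rw [eq_bot_iff]
  refine RGD.Sup_le fun r hr => ?_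
  exfalso
  have h1 : ht r ≤ N := hN ⟨r, hr.1.1, rfl⟩
  have h2 := hr.2
  have h3 := Int.self_le_toNat N
  omega

section

variable [Finite W] {R : RGD cs h p T n X} (S : Sys R e)

include S

/-- The root groups are commutative of exponent two, and the centralisers are the same for all elements. -/
theorem comm_all (hG1 : RGD.Sup X {x | IsRoot cs h x} = ⊤) {r : I → ℤ} (hr : IsRoot cs h r) {z : Y} (hz : z ∈ X r)
    (hz1 : z ≠ 1) {g : Y} (hg : g * z = z * g) {x : Y} (hx : x ∈ X r) : g * x = x * g := by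
  have hgG : g ∈ GG cs h T X := by
    rw [GG_eq_top hG1]
    exact Subgroup.mem_top g
  obtain ⟨t, ht, h1, q, hq, rfl⟩ := S.centralizer (Ψ := {r}) (by rintro a rfl; exact hr) hgG (z := fun _ => z)
    (by rintro a rfl; exact ⟨hz, hz1, hg⟩)
  have h2 : q * x = x * q := S.comm_of_star (by rintro a rfl; exact hr) hq (Set.mem_singleton r) hx
  have h3 := h1 r (Set.mem_singleton r)
  obtain ⟨χ, hχ⟩ := S.chi t ht
  obtain ⟨u, hu, rfl⟩ := S.exists_e hr hz hz1
  obtain ⟨v, rfl⟩ := (S.mem_X r hr x).1 hx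
  have h4 := hχ r hr u
  rw [h3, mul_inv_cancel_right] at h4
  have h5 := S.data.injective hr h4
  have h6 : (((χ r).toMul : Kˣ) : K) = 1 := mul_right_cancel₀ hu (by rw [one_mul]; exact h5.symm)
  have h7 := hχ r hr v
  rw [h6, one_mul] at h7
  have h8 : t * e r v = e r v * t := by
    calc t * e r v = t * e r v * t⁻¹ * t := by group
      _ = e r v * t := by rw [h7]
  calc t * q * e r v = t * (q * e r v) := by group
    _ = t * e r v * q := by rw [h2]; group
    _ = e r v * (t * q) := by rw [h8]; group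

/-- Two roots with negative pairing. -/
theorem neg_cases {x y : I → ℤ} (hx : IsRoot cs h x) (hy : IsRoot cs h y) (hxy : x ≠ -y) (hc : cpr cs h x y < 0) :
    (cpr cs h x y = -1 ∧ cpr cs h y x = -1) ∨ (cpr cs h x y = -2 ∧ cpr cs h y x = -1) ∨
      (cpr cs h x y = -1 ∧ cpr cs h y x = -2) := by
  have := Fintype.ofFinite W
  have hne : x ≠ y := by
    rintro rfl
    rw [cpr_self cs h hx] at hc
    omega
  have hne' : y ≠ -x := fun h0 => hxy (by rw [h0, neg_neg])
  have h1 := gram_pos cs h hx hy hne hxy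
  have h2 := two_form_cpr cs h x hy
  have h3 := two_form_cpr cs h y hx
  rw [form_comm cs h y x] at h3
  have hxx := form_pos cs h hx.ne_zero
  have hyy := form_pos cs h hy.ne_zero
  have h4 : cpr cs h x y * cpr cs h y x < 4 := by
    by_contra h5
    push Not at h5
    have h6 : 4 * (form cs h x y * form cs h x y) =
        (cpr cs h x y * cpr cs h y x) * (form cs h x x * form cs h y y) := by
      calc 4 * (form cs h x y * form cs h x y) = (2 * form cs h x y) * (2 * form cs h x y) := by ring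
        _ = (cpr cs h x y * form cs h y y) * (cpr cs h y x * form cs h x x) := by rw [← h2, ← h3]
        _ = _ := by ring
    have h7 := mul_le_mul_of_nonneg_right h5 (mul_pos hxx hyy).le
    linarith
  have h5 := (S.data.lace x y hx hy hne hxy).2
  have h6 := (S.data.lace y x hy hx (Ne.symm hne) hne').2
  have h7 : cpr cs h y x < 0 := by
    by_contra h8
    push Not at h8
    rcases h8.lt_or_eq with h9 | h9
    · have h10 := (cpr_pos_iff cs h y hx).1 h9
      rw [form_comm] at h10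
      have := (cpr_pos_iff cs h x hy).2 h10
      omega
    · have := (cpr_zero_comm cs h hx hy).2 h9.symm
      omega
  have h8 : cpr cs h x y = -1 ∨ cpr cs h x y = -2 := by omega
  have h9 : cpr cs h y x = -1 ∨ cpr cs h y x = -2 := by omega
  rcases h8 with h8 | h8 <;> rcases h9 with h9 | h9
  · exact Or.inl ⟨h8, h9⟩
  · exact Or.inr (Or.inr ⟨h8, h9⟩)
  · exact Or.inr (Or.inl ⟨h8, h9⟩)
  · rw [h8, h9] at h4
    omega

/-- The commutators of root elements of positive roots. -/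
theorem comm_gen {x y : I → ℤ} (hx : x ∈ RGD.Pos cs h) (hy : y ∈ RGD.Pos cs h) {g v : Y} (hg : g ∈ X x)
    (hv : v ∈ X y) : ⁅g, v⁆ ∈ RGD.Sup X {z | z ∈ RGD.Pos cs h ∧ ht x + ht y ≤ ht z} := by
  obtain ⟨t, rfl⟩ := (S.mem_X x hx.1 g).1 hg
  obtain ⟨u, rfl⟩ := (S.mem_X y hy.1 v).1 hv
  have hxy : x ≠ -y := by
    rintro rfl
    have h1 := ht_pos hx
    have h2 := ht_pos hy
    have h3 := ht_smul (-1) y
    rw [neg_one_smul] at h3
    omega
  have hpx := ht_pos hx
  have hpy := ht_pos hy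
  -- root groups of the sums
  have key : ∀ (a b : ℤ), 1 ≤ a → 1 ≤ b → IsRoot cs h (a • x + b • y) → ∀ s : K,
      e (a • x + b • y) s ∈ RGD.Sup X {z | z ∈ RGD.Pos cs h ∧ ht x + ht y ≤ ht z} := by
    intro a b ha hb hr s
    refine RGD.le_Sup ?_ (S.mem hr s)
    refine ⟨⟨hr, ?_⟩, ?_⟩
    · intro i
      have h1 := hx.2 i
      have h2 := hy.2 i
      simp only [Pi.add_apply, Pi.smul_apply, smul_eq_mul, Pi.zero_apply] at h1 h2 ⊢
      have := mul_nonneg (by omega : (0 : ℤ) ≤ a) h1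
      have := mul_nonneg (by omega : (0 : ℤ) ≤ b) h2
      omega
    · rw [ht_add, ht_smul, ht_smul]
      nlinarith
  have key1 : IsRoot cs h (x + y) → ∀ s : K,
      e (x + y) s ∈ RGD.Sup X {z | z ∈ RGD.Pos cs h ∧ ht x + ht y ≤ ht z} := by
    intro hr s
    have := key 1 1 le_rfl le_rfl (by rwa [one_smul, one_smul]) s
    rwa [one_smul, one_smul] at this
  by_cases hc : 0 ≤ cpr cs h x y
  · have h1 := S.data.comm_of_nonneg hx.1 hy.1 hc t u
    rw [commutatorElement_eq_one_iff_mul_comm.2 h1]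
    exact one_mem _
  · push Not at hc
    rcases neg_cases S hx.1 hy.1 hxy hc with ⟨h1, h2⟩ | ⟨h1, h2⟩ | ⟨h1, h2⟩
    · rw [S.data.comm1 x y hx.1 hy.1 h1 h2]
      refine key1 ?_ _
      have := isRoot_refl cs h hx.1 hy.1
      rwa [h1, neg_smul, one_smul, sub_neg_eq_add] at this
    · rw [S.data.comm2 x y hx.1 hy.1 h1 h2]
      have h3 := isRoot_refl cs h hy.1 hx.1
      rw [h2, neg_smul, one_smul, sub_neg_eq_add, add_comm] at h3
      have h4 := isRoot_refl cs h hx.1 hy.1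
      rw [h1, neg_smul, sub_neg_eq_add] at h4
      refine mul_mem (key1 h3 _) ?_
      have := key 1 2 le_rfl (by norm_num) (by rwa [one_smul]) (t * u ^ 2)
      rwa [one_smul] at this
    · have h5 := S.data.comm2 y x hy.1 hx.1 h2 h1 u t
      have h3 := isRoot_refl cs h hx.1 hy.1
      rw [h1, neg_smul, one_smul, sub_neg_eq_add] at h3
      have h4 := isRoot_refl cs h hy.1 hx.1
      rw [h2, neg_smul, sub_neg_eq_add] at h4
      rw [← commutatorElement_inv, h5]
      refine inv_mem (mul_mem ?_ ?_)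
      · rw [add_comm y x]
        exact key1 h3 _
      · have := key 2 1 (by norm_num) le_rfl (by rwa [one_smul, add_comm ((2 : ℤ) • x) y]) (u * t ^ 2)
        rwa [one_smul, add_comm ((2 : ℤ) • x) y] at this

theorem comm_UH {x : I → ℤ} (hx : x ∈ RGD.Pos cs h) {j : ℕ} {y : I → ℤ} (hy : y ∈ RGD.Pos cs h) (hyj : (j : ℤ) < ht y)
    {g v : Y} (hg : g ∈ X x) (hv : v ∈ X y) : ⁅g, v⁆ ∈ UH cs h X (j + 1) := by
  refine RGD.Sup_mono ?_ (comm_gen S hx hy hg hv)
  intro z hz
  refine ⟨hz.1, ?_⟩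
  have h1 := ht_pos hx
  have h2 := hz.2
  push_cast
  omega

/-- `UH 0` normalises `UH j`. -/
theorem UH_norm (j : ℕ) : UH cs h X 0 ≤ Subgroup.normalizer (UH cs h X j : Set Y) := by
  have key : ∀ x ∈ RGD.Pos cs h, ∀ g ∈ X x, ∀ v ∈ UH cs h X j, g * v * g⁻¹ ∈ UH cs h X j := by
    intro x hx g hg v hv
    have h1 : UH cs h X j ≤ (UH cs h X j).comap (MulAut.conj g).toMonoidHom := by
      refine RGD.Sup_le fun y hy v hv => ?_
      show g * v * g⁻¹ ∈ UH cs h X j
      have h2 : g * v * g⁻¹ = ⁅g, v⁆ * v := by rw [commutatorElement_def]; group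
      rw [h2]
      exact mul_mem (UH_le (Nat.le_succ j) (comm_UH S hx hy.1 hy.2 hg hv)) (RGD.le_Sup (X := X) hy hv)
    exact h1 hv
  refine RGD.Sup_le fun x hx g hg => ?_
  rw [Subgroup.mem_normalizer_iff]
  intro v
  refine ⟨key x hx.1 g hg v, fun hv => ?_⟩
  have h1 := key x hx.1 g⁻¹ (inv_mem hg) _ hv
  have h2 : g⁻¹ * (g * v * g⁻¹) * g⁻¹⁻¹ = v := by group
  rwa [h2] at h1

theorem UH_conj {j : ℕ} {g v : Y} (hg : g ∈ UH cs h X 0) (hv : v ∈ UH cs h X j) : g * v * g⁻¹ ∈ UH cs h X j :=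
  (Subgroup.mem_normalizer_iff.1 (UH_norm S j hg) v).1 hv

/-- **`[UH 0, UH j] ≤ UH (j + 1)`.** -/
theorem UH_comm {j : ℕ} {g v : Y} (hg : g ∈ UH cs h X 0) (hv : v ∈ UH cs h X j) : ⁅g, v⁆ ∈ UH cs h X (j + 1) := by
  -- `g` in a root group
  have h1 : ∀ x ∈ RGD.Pos cs h, ∀ g ∈ X x, ∀ v ∈ UH cs h X j, ⁅g, v⁆ ∈ UH cs h X (j + 1) := by
    intro x hx g hg v hv
    let L : Subgroup Y :=
      { carrier := {v | v ∈ UH cs h X 0 ∧ ⁅g, v⁆ ∈ UH cs h X (j + 1)}
        one_mem' := ⟨one_mem _, by rw [commutatorElement_one_right]; exact one_mem _⟩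
        mul_mem' := by
          rintro a b ⟨ha, ha'⟩ ⟨hb, hb'⟩
          refine ⟨mul_mem ha hb, ?_⟩
          have h2 : ⁅g, a * b⁆ = ⁅g, a⁆ * (a * ⁅g, b⁆ * a⁻¹) := by
            simp only [commutatorElement_def]; group
          show ⁅g, a * b⁆ ∈ UH cs h X (j + 1)
          rw [h2]
          exact mul_mem ha' (UH_conj S ha hb')
        inv_mem' := by
          rintro a ⟨ha, ha'⟩
          refine ⟨inv_mem ha, ?_⟩
          have h2 : ⁅g, a⁻¹⁆ = a⁻¹ * (⁅g, a⁆)⁻¹ * a⁻¹⁻¹ := by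
            simp only [commutatorElement_def]; group
          show ⁅g, a⁻¹⁆ ∈ UH cs h X (j + 1)
          rw [h2]
          exact UH_conj S (inv_mem ha) (inv_mem ha') }
    have h2 : UH cs h X j ≤ L := by
      refine RGD.Sup_le fun y hy v hv => ⟨?_, comm_UH S hx hy.1 hy.2 hg hv⟩
      exact RGD.le_Sup (X := X) (S := {r | r ∈ RGD.Pos cs h ∧ ((0 : ℕ) : ℤ) < ht r})
        ⟨hy.1, by exact_mod_cast ht_pos hy.1⟩ hv
    exact (h2 hv).2
  let L : Subgroup Y :=
    { carrier := {g | g ∈ UH cs h X 0 ∧ ∀ v ∈ UH cs h X j, ⁅g, v⁆ ∈ UH cs h X (j + 1)}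
      one_mem' := ⟨one_mem _, fun v _ => by rw [commutatorElement_one_left]; exact one_mem _⟩
      mul_mem' := by
        rintro a b ⟨ha, ha'⟩ ⟨hb, hb'⟩
        refine ⟨mul_mem ha hb, fun v hv => ?_⟩
        have h2 : ⁅a * b, v⁆ = (a * ⁅b, v⁆ * a⁻¹) * ⁅a, v⁆ := by
          simp only [commutatorElement_def]; group
        rw [h2]
        exact mul_mem (UH_conj S ha (hb' v hv)) (ha' v hv)
      inv_mem' := by
        rintro a ⟨ha, ha'⟩
        refine ⟨inv_mem ha, fun v hv => ?_⟩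
        have h2 : ⁅a⁻¹, v⁆ = a⁻¹ * (⁅a, v⁆)⁻¹ * a⁻¹⁻¹ := by
          simp only [commutatorElement_def]; group
        rw [h2]
        exact UH_conj S (inv_mem ha) (inv_mem (ha' v hv)) }
  have h2 : UH cs h X 0 ≤ L := by
    refine RGD.Sup_le fun x hx g hg => ⟨?_, fun v hv => h1 x hx.1 g hg v hv⟩
    exact RGD.le_Sup (X := X) (S := {r | r ∈ RGD.Pos cs h ∧ ((0 : ℕ) : ℤ) < ht r}) hx hg
  exact (h2 hg).2 v hv

/-- The root groups are lines. -/
theorem isLine [Finite K] (hG1 : RGD.Sup X {x | IsRoot cs h x} = ⊤) (hK : 3 ≤ Nat.card K) {r : I → ℤ}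
    (hr : IsRoot cs h r) (S' : Subgroup Y) : IsLine S' (X r) where
  sq x hx := by
    obtain ⟨t, rfl⟩ := (S.mem_X r hr x).1 hx
    exact S.data.sq hr t
  card := by
    have h1 : Nat.card K = Nat.card ↥(X r) := by
      refine Nat.card_eq_of_bijective (fun t => (⟨e r t, S.mem hr t⟩ : ↥(X r))) ⟨fun t u htu => ?_, fun x => ?_⟩
      · exact S.data.injective hr (congrArg Subtype.val htu)
      · obtain ⟨t, ht⟩ := (S.mem_X r hr x.1).1 x.2
        exact ⟨t, Subtype.ext ht⟩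
    omega
  star y _ x hx hx1 hxy x' hx' := (comm_all S hG1 hr hx hx1 hxy.symm hx').symm

/-- **The central series of `U`.** -/
theorem filt [Finite K] (hG1 : RGD.Sup X {x | IsRoot cs h x} = ⊤) (hK : 3 ≤ Nat.card K) :
    Filt (RGD.Sup X (RGD.Pos cs h)) (UH cs h X) where
  zero := UH_zero
  bot := UH_bot
  le j := UH_le (Nat.le_succ j)
  comm j u hu s hs := by
    rw [← UH_zero] at hs
    have := UH_comm S hs hu
    rwa [commutatorElement_def] at this
  gen j u hu := by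
    have h1 : UH cs h X j ≤ Subgroup.closure ({x | ∃ l : Subgroup Y, l ≤ UH cs h X j ∧
        IsLine (RGD.Sup X (RGD.Pos cs h)) l ∧ x ∈ l} ∪ (UH cs h X (j + 1) : Set Y)) :=
      RGD.Sup_le fun r hr x hx => Subgroup.subset_closure
        (Or.inl ⟨X r, RGD.le_Sup hr, isLine S hG1 hK hr.1.1 _, hx⟩)
    exact h1 hu

end

/-! ### All Sylow 2-subgroups -/

theorem isLine_map {G G' : Type*} [Group G] [Group G'] (f : G ≃* G') {S l : Subgroup G} (H : IsLine S l) :
    IsLine (S.map f.toMonoidHom) (l.map f.toMonoidHom) where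
  sq := by
    rintro _ ⟨x, hx, rfl⟩
    rw [← map_mul, H.sq x hx, map_one]
  card := by
    rw [← Nat.card_congr (l.equivMapOfInjective f.toMonoidHom f.injective).toEquiv]
    exact H.card
  star := by
    rintro _ ⟨y, hy, rfl⟩ _ ⟨x, hx, rfl⟩ hx1 hxy _ ⟨x', hx', rfl⟩
    rw [← map_mul, ← map_mul, H.star y hy x hx (fun h0 => hx1 (by rw [h0, map_one])) (f.injective (by
      have : f.toMonoidHom x * f.toMonoidHom y = f.toMonoidHom y * f.toMonoidHom x := hxy
      rw [← map_mul, ← map_mul] at this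
      exact this)) x' hx']

theorem filt_map {G G' : Type*} [Group G] [Group G'] (f : G ≃* G') {S : Subgroup G} {U : ℕ → Subgroup G}
    (F : Filt S U) : Filt (S.map f.toMonoidHom) (fun j => (U j).map f.toMonoidHom) where
  zero := by rw [F.zero]
  bot := by
    obtain ⟨n, hn⟩ := F.bot
    exact ⟨n, by rw [hn, Subgroup.map_bot]⟩
  le j := Subgroup.map_mono (F.le j)
  comm := by
    rintro j _ ⟨u, hu, rfl⟩ _ ⟨s, hs, rfl⟩
    refine ⟨s * u * s⁻¹ * u⁻¹, F.comm j u hu s hs, ?_⟩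
    simp only [map_mul, map_inv]
  gen := by
    rintro j _ ⟨u, hu, rfl⟩
    have h1 : Subgroup.closure ({x | ∃ l : Subgroup G, l ≤ U j ∧ IsLine S l ∧ x ∈ l} ∪ (U (j + 1) : Set G)) ≤
        (Subgroup.closure ({x | ∃ l : Subgroup G', l ≤ (U j).map f.toMonoidHom ∧
          IsLine (S.map f.toMonoidHom) l ∧ x ∈ l} ∪ (((U (j + 1)).map f.toMonoidHom : Subgroup G') : Set G'))).comap
          f.toMonoidHom := by
      rw [Subgroup.closure_le]
      rintro x (⟨l, hl, hl1, hx⟩ | hx)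
      · exact Subgroup.subset_closure (Or.inl ⟨l.map f.toMonoidHom, Subgroup.map_mono hl, isLine_map f hl1, x, hx, rfl⟩)
      · exact Subgroup.subset_closure (Or.inr ⟨x, hx, rfl⟩)
    exact h1 (F.gen j u hu)

theorem lineFacts_of_equiv {G G' : Type*} [Group G] [Group G'] (f : G ≃* G') (H : LineFacts G) : LineFacts G' := by
  intro S'
  let S : Sylow 2 G := S'.comapOfInjective f.toMonoidHom f.injective (by
    rw [MonoidHom.range_eq_top.2 f.surjective]
    exact le_top)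
  obtain ⟨U, hU⟩ := H S
  have h1 := filt_map f hU
  have h2 : (S : Subgroup G).map f.toMonoidHom = (S' : Subgroup G') :=
    Subgroup.map_comap_eq_self_of_surjective f.surjective _
  rw [h2] at h1
  exact ⟨_, h1⟩

/-- **The K-fact `LineFacts`** in characteristic two, `|K| ≥ 3`. -/
theorem lineFacts [Finite W] [Finite Y] [Finite K] {R : RGD cs h 2 T n X} (S : Sys R e)
    (hG1 : RGD.Sup X {x | IsRoot cs h x} = ⊤) (hK : 3 ≤ Nat.card K) : LineFacts Y := by
  have : Fact (Nat.Prime 2) := ⟨Nat.prime_two⟩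
  intro S'
  obtain ⟨g, hg⟩ := RgdAutFacts.sylow_eq_cj R (GG_eq_top hG1) S'
  exact ⟨_, by rw [hg]; exact filt_map (MulAut.conj g) (filt S hG1 hK)⟩

end Cfsg.Agent.KFacts.SysLine
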