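import Mathlib
import Cfsg.Agent.KFacts.SysFlt
import Cfsg.Agent.KFacts.RgdAutFacts

/-!
# The outer automorphism group (ODD, D4, (K2))

`Y` with `Sys R e`, the symmetries of the diagram preserve the Cartan matrix (`hA`).

* `exists_out` : `l : MulAut Y →* Sym I × Aut F` killing the inner automorphisms, `2`-elements of the kernel are inner,
  `l β = (σ, τ)` for `Tau β σ τ`;
* in an overgroup: `exists_outG`, `OutG`.
-/

set_option autoImplicit false
set_option linter.unusedSectionVars false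

namespace Cfsg.Agent.KFacts.SysOut

open CoxeterSystem Cfsg.Agent.ChevalleyStructure.CoxeterGeom Cfsg.Agent.Tits.Roots Cfsg.Agent.Tits.Core
  Cfsg.Agent.Tits.Exchange Cfsg.Agent.Nodes.Reps Cfsg.Agent.Nodes.BNOf Cfsg.Agent.Nodes.StabComb
  Cfsg.Agent.Nodes.Bruhat Cfsg.Agent.Nodes.OppDec Cfsg.Agent.Nodes.LeviDec Cfsg.Agent.Nodes.NormalForm
  Cfsg.Agent.Nodes.Coroot Cfsg.Agent.Nodes.PosPair
  Cfsg.Agent.KFacts.RgdOpp Cfsg.Agent.KFacts.RgdAut Cfsg.Agent.KFacts.RgdDiag Cfsg.Agent.KFacts.RgdRigid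
  Cfsg.Agent.KFacts.RgdCent Cfsg.Agent.KFacts.RgdKap Cfsg.Agent.KFacts.RgdField Cfsg.Agent.KFacts.RgdTau
  Cfsg.Agent.KFacts.RgdSys Cfsg.Agent.KFacts.RgdOver Cfsg.Agent.KFacts.RgdPure Cfsg.Agent.KFacts.ChevTwo
open scoped commutatorElement

variable {I W Y K : Type*} [Fintype I] [DecidableEq I] [Group W] [Group Y] [Field K] {M : CoxeterMatrix I}
variable {cs : CoxeterSystem M W} {A : I → I → ℤ} {h : IsCartan M A} {e : (I → ℤ) → K → Y}
  {p : ℕ} {T : Subgroup Y} {n : I → Y} {X : (I → ℤ) → Subgroup Y}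

/-! ### Inner frame automorphisms -/

theorem fix_U_of_tau {F : Type*} [Field F] {χ : (I → ℤ) → Y → F} (R : RGD cs h p T n X) [Finite W] {β : MulAut Y}
    {σ : Equiv.Perm I} {τ : F ≃+* F} (B : Tau T X χ A β σ τ) : Fix β (RGD.Sup X (RGD.Pos cs h)) := by
  have key : ∀ {β : MulAut Y} {σ : Equiv.Perm I} {τ : F ≃+* F}, Tau T X χ A β σ τ →
      ∀ y ∈ RGD.Sup X (RGD.Pos cs h), β y ∈ RGD.Sup X (RGD.Pos cs h) := by
    intro β σ τ B y hy
    have h1 : RGD.Sup X (RGD.Pos cs h) ≤ (RGD.Sup X (RGD.Pos cs h)).comap β.toMonoidHom := by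
      refine RGD.Sup_le fun r hr z hz => ?_
      have h2 := (B.diag.root_comp R B.cartan hr.1 z).2 hz
      exact RGD.le_Sup (S := RGD.Pos cs h)
        ⟨isRoot_comp (B.diag.matrix (R := R)) B.cartan hr.1, fun i => hr.2 _⟩ h2
    exact h1 hy
  intro y
  refine ⟨fun hy => ?_, key B y⟩
  have := key B.inv _ hy
  rwa [MulAut.inv_apply_self] at this

theorem mem_T_of_fix [Finite W] (R : RGD cs h p T n X) (hG : GG cs h T X = ⊤) {z : Y}
    (hU : Fix (MulAut.conj z) (RGD.Sup X (RGD.Pos cs h))) (hUN : Fix (MulAut.conj z) (UN cs h X)) : z ∈ T := by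
  have h1 : z ∈ RGD.B cs h T X := by
    rw [← normalizer_U' R hG, Subgroup.mem_normalizer_iff]
    exact fun y => (hU y).symm
  have h2 : z ∈ BN cs h T X := by
    rw [← normalizer_UN R hG, Subgroup.mem_normalizer_iff]
    exact fun y => (hUN y).symm
  rw [← B_inf_BN R]
  exact ⟨h1, h2⟩

section

variable {R : RGD cs h p T n X} (S : Sys R e)

include S

theorem tau_conj {z : Y} (hz : z ∈ T) : Tau T X (chS e) A (MulAut.conj z) 1 1 where
  diag := {
    tor := fun t => (Subgroup.mem_normalizer_iff.1 (Subgroup.le_normalizer hz) t).symm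
    pos := fun i x => by
      rw [Equiv.Perm.one_apply, MulAut.conj_apply]
      have h1 := R.tor _ (isRoot_sr cs h i) z hz
      constructor
      · intro h2
        rw [← h1] at h2
        exact conj_mem_cj.1 h2
      · intro h2
        rw [← h1]
        exact conj_mem_cj.2 h2
    neg := fun i x => by
      rw [Equiv.Perm.one_apply, MulAut.conj_apply]
      have h1 := R.tor _ (isRoot_sr cs h i).neg z hz
      constructor
      · intro h2
        rw [← h1] at h2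
        exact conj_mem_cj.1 h2
      · intro h2
        rw [← h1]
        exact conj_mem_cj.2 h2 }
  cartan _ _ := rfl
  char i t ht := by
    rw [Equiv.Perm.one_apply, MulAut.conj_apply, RingAut.one_apply]
    have hi := isRoot_sr cs h i
    refine chS_eq S hi (mul_mem (mul_mem hz ht) (inv_mem hz)) fun a => ?_
    have h1 := chS_spec S hi hz
    have h2 := chS_spec S hi ht
    have h3 := chS_spec S hi (inv_mem hz)
    have h4 : chS e (sr i) z * chS e (sr i) z⁻¹ = 1 := by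
      have h5 : e (sr i) (chS e (sr i) z * (chS e (sr i) z⁻¹ * 1)) = e (sr i) 1 := by
        rw [← h1, ← h3]; group
      have h6 := S.data.injective hi h5
      rwa [mul_one] at h6
    calc z * t * z⁻¹ * e (sr i) a * (z * t * z⁻¹)⁻¹ = z * (t * (z⁻¹ * e (sr i) a * z⁻¹⁻¹) * t⁻¹) * z⁻¹ := by group
      _ = e (sr i) (chS e (sr i) z * (chS e (sr i) t * (chS e (sr i) z⁻¹ * a))) := by rw [h3, h2, h1]
      _ = e (sr i) (chS e (sr i) t * a) := by
        congr 1
        calc chS e (sr i) z * (chS e (sr i) t * (chS e (sr i) z⁻¹ * a)) =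
            (chS e (sr i) z * chS e (sr i) z⁻¹) * (chS e (sr i) t * a) := by ring
          _ = _ := by rw [h4, one_mul]

/-- an inner automorphism of the frame has trivial diagram symmetry and trivial field automorphism -/
theorem tau_inner [Finite W] [Finite K] [Nonempty I] (hG1 : RGD.Sup X {x | IsRoot cs h x} = ⊤) {z : Y}
    {σ : Equiv.Perm I} {τ : K ≃+* K} (B : Tau T X (chS e) A (MulAut.conj z) σ τ) : σ = 1 ∧ τ = 1 := by
  have hz := mem_T_of_fix R (GG_eq_top hG1) (fix_U_of_tau R B) (fix_UN_of_tau R B)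
  exact Tau.unique R (coords S hG1) B (tau_conj S hz)

end

/-! ### The outer automorphism group -/

section Out

variable [Finite W] [Finite Y] [Finite K] [Nonempty I] [CharP K p] [Fact p.Prime] {R : RGD cs h p T n X}
  (S : Sys R e) (hG1 : RGD.Sup X {x | IsRoot cs h x} = ⊤) (hN : NoCent cs h T X)
  (hconn : ∀ J : Set I, J.Nonempty → J ≠ Set.univ → ∃ a ∈ J, ∃ b, b ∉ J ∧ M a b ≠ 2)
  (hA : ∀ σ : Equiv.Perm I, (∀ i j, M (σ i) (σ j) = M i j) → ∀ i j, A (σ i) (σ j) = A i j)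

include S hG1 hN hconn hA

/-- an automorphism fixing `U` -/
theorem exists_rep_U {α : MulAut Y} (hα : Fix α (RGD.Sup X (RGD.Pos cs h))) :
    ∃ u ∈ RGD.Sup X (RGD.Pos cs h), ∃ σ τ, Tau T X (chS e) A (MulAut.conj u * α) σ τ ∧
      ∀ k : ℕ, α ^ k = 1 → (MulAut.conj u * α) ^ k = 1 := by
  obtain ⟨u, hu, -, -, hp, σ, D⟩ := exists_frame_pow R (GG_eq_top hG1) hα
  obtain ⟨τ, hτ⟩ := exists_tau R (coords S hG1) (coroots S hG1 hN) hconn D (hA σ (D.matrix R))
  exact ⟨u, hu, σ, τ, hτ, hp⟩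

/-- every automorphism is the product of an inner and a frame automorphism -/
theorem exists_rep (α : MulAut Y) : ∃ (y : Y) (β : MulAut Y) (σ : Equiv.Perm I) (τ : K ≃+* K),
    α = MulAut.conj y * β ∧ Tau T X (chS e) A β σ τ := by
  obtain ⟨P, hP⟩ := RgdAutFacts.exists_sylow R (GG_eq_top (T := T) hG1)
  obtain ⟨g, hg⟩ := RgdAutFacts.sylow_eq_cj R (GG_eq_top (T := T) hG1) (α • P)
  have h1 : Fix (MulAut.conj g⁻¹ * α) (RGD.Sup X (RGD.Pos cs h)) := by
    have h2 : ∀ x, α x ∈ cj g (RGD.Sup X (RGD.Pos cs h)) ↔ x ∈ RGD.Sup X (RGD.Pos cs h) := by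
      intro x
      rw [← hg, ← hP]
      show α • x ∈ ((α • P : Sylow p Y) : Subgroup Y) ↔ _
      rw [Sylow.pointwise_smul_def, Subgroup.smul_mem_pointwise_smul_iff]
    intro x
    rw [← h2 x, mem_cj]
    show g⁻¹ * α x * g⁻¹⁻¹ ∈ _ ↔ _
    rw [inv_inv]
  obtain ⟨u, hu, σ, τ, B, -⟩ := exists_rep_U S hG1 hN hconn hA h1
  refine ⟨g * u⁻¹, _, σ, τ, ?_, B⟩
  rw [← mul_assoc, ← mul_assoc, ← map_mul, ← map_mul]
  have e1 : g * u⁻¹ * u * g⁻¹ = 1 := by group
  rw [e1, map_one, one_mul]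

/-- **The outer automorphism.** -/
theorem exists_out : ∃ l : MulAut Y →* Equiv.Perm I × (K ≃+* K),
    (∀ y, l (MulAut.conj y) = 1) ∧
    (∀ α, ∃ y β, α = MulAut.conj y * β ∧ Tau T X (chS e) A β (l α).1 (l α).2) ∧
    (∀ β σ τ, Tau T X (chS e) A β σ τ → l β = (σ, τ)) ∧
    (∀ (α : MulAut Y) (k : ℕ), α ^ p ^ k = 1 → l α = 1 → ∃ y, α = MulAut.conj y) := by
  classical
  have h1 : ∀ α : MulAut Y, ∃ q : Equiv.Perm I × (K ≃+* K), ∃ (y : Y) (β : MulAut Y),
      α = MulAut.conj y * β ∧ Tau T X (chS e) A β q.1 q.2 := by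
    intro α
    obtain ⟨y, β, σ, τ, h1, h2⟩ := exists_rep S hG1 hN hconn hA α
    exact ⟨(σ, τ), y, β, h1, h2⟩
  choose q hq using h1
  have huniq : ∀ (α : MulAut Y) (y : Y) (β : MulAut Y) (σ : Equiv.Perm I) (τ : K ≃+* K), α = MulAut.conj y * β →
      Tau T X (chS e) A β σ τ → q α = (σ, τ) := by
    intro α y β σ τ h1 h2
    obtain ⟨y', β', h3, h4⟩ := hq α
    have h5 : Tau T X (chS e) A (β' * β⁻¹) ((q α).1 * σ⁻¹) ((q α).2 * τ⁻¹) := h4.mul h2.inv
    have h6 : β' * β⁻¹ = MulAut.conj (y'⁻¹ * y) := by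
      rw [h1] at h3
      have h7 : β' = MulAut.conj y'⁻¹ * (MulAut.conj y * β) := by
        rw [h3, ← mul_assoc, ← map_mul, inv_mul_cancel, map_one, one_mul]
      rw [h7, map_mul]; group
    rw [h6] at h5
    obtain ⟨h7, h8⟩ := tau_inner S hG1 h5
    exact Prod.ext (mul_inv_eq_one.1 h7) (mul_inv_eq_one.1 h8)
  have hmul : ∀ α γ, q (α * γ) = q α * q γ := by
    intro α γ
    obtain ⟨y, β, h1, h2⟩ := hq α
    obtain ⟨y', β', h3, h4⟩ := hq γ
    refine huniq _ (y * β y') (β * β') _ _ ?_ (h2.mul h4)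
    rw [h1, h3]
    ext z
    simp only [MulAut.mul_apply, MulAut.conj_apply, map_mul, map_inv, mul_inv_rev, mul_assoc]
  refine ⟨MonoidHom.mk' q hmul, fun y => ?_, fun α => hq α, fun β σ τ hB => ?_, fun α k hk hα => ?_⟩
  · exact huniq _ y 1 1 1 (by rw [mul_one]) Tau.one
  · exact huniq _ 1 β σ τ (by rw [map_one, one_mul]) hB
  · have hα' : q α = 1 := hα
    -- `α` fixes a Sylow subgroup
    have h2 : IsPGroup p ↥(Subgroup.zpowers α) := by
      intro x
      obtain ⟨m, hm⟩ := Subgroup.mem_zpowers_iff.1 x.2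
      refine ⟨k, Subtype.ext ?_⟩
      show (x : MulAut Y) ^ p ^ k = 1
      rw [← hm, ← zpow_natCast, zpow_comm, zpow_natCast, hk, one_zpow]
    obtain ⟨P, hP⟩ := h2.nonempty_fixed_point_of_prime_not_dvd_card (α := Sylow p Y) (not_dvd_card_sylow p Y)
    have h3 : α • P = P := hP ⟨α, Subgroup.mem_zpowers α⟩
    obtain ⟨g, hg⟩ := RgdAutFacts.sylow_eq_cj R (GG_eq_top (T := T) hG1) P
    have h4 : ∀ x, α x ∈ (P : Subgroup Y) ↔ x ∈ (P : Subgroup Y) := by
      intro x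
      show α • x ∈ (P : Subgroup Y) ↔ _
      conv_lhs => rw [← h3]
      rw [Sylow.pointwise_smul_def, Subgroup.smul_mem_pointwise_smul_iff]
    obtain ⟨γ, hγ⟩ : ∃ γ, γ = MulAut.conj g⁻¹ * α * MulAut.conj g := ⟨_, rfl⟩
    have h5 : Fix γ (RGD.Sup X (RGD.Pos cs h)) := by
      intro x
      have h6 := h4 (g * x * g⁻¹)
      rw [hg, mem_cj, conj_mem_cj] at h6
      rw [← h6, hγ]
      show g⁻¹ * α (g * x * g⁻¹) * g⁻¹⁻¹ ∈ _ ↔ _
      rw [inv_inv]
    obtain ⟨u, hu, σ, τ, B, hp⟩ := exists_rep_U S hG1 hN hconn hA h5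
    have h6 : α = MulAut.conj (g * u⁻¹) * (MulAut.conj u * γ * MulAut.conj g⁻¹) := by
      rw [hγ, map_mul, map_inv, map_inv]
      group
    have h7 : q (MulAut.conj u * γ) = (σ, τ) := huniq _ 1 _ σ τ (by rw [map_one, one_mul]) B
    have h8 : q (MulAut.conj g⁻¹) = 1 := huniq _ g⁻¹ 1 1 1 (by rw [mul_one]) Tau.one
    have h9 : q (MulAut.conj (g * u⁻¹)) = 1 := huniq _ _ 1 1 1 (by rw [mul_one]) Tau.one
    rw [h6, hmul, hmul, h7, h8, h9, one_mul, mul_one] at hα'
    obtain ⟨rfl, rfl⟩ := Prod.mk.inj hα'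
    have h10 : γ ^ p ^ k = 1 := by
      have h11 : ∀ m : ℕ, γ ^ m = MulAut.conj g⁻¹ * α ^ m * MulAut.conj g := by
        intro m
        induction m with
        | zero => rw [pow_zero, pow_zero, mul_one, ← map_mul, inv_mul_cancel, map_one]
        | succ m ih =>
          rw [pow_succ, ih, hγ, pow_succ]
          have h12 : MulAut.conj g * MulAut.conj g⁻¹ = 1 := by rw [← map_mul, mul_inv_cancel, map_one]
          calc MulAut.conj g⁻¹ * α ^ m * MulAut.conj g * (MulAut.conj g⁻¹ * α * MulAut.conj g) =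
              MulAut.conj g⁻¹ * α ^ m * (MulAut.conj g * MulAut.conj g⁻¹) * α * MulAut.conj g := by
                simp only [mul_assoc]
            _ = _ := by rw [h12, mul_one]; simp only [mul_assoc]
      rw [h11, hk, mul_one, ← map_mul, inv_mul_cancel, map_one]
    have h11 := Tau.eq_one R hG1 (coords S hG1) B (hp _ h10)
    refine ⟨g * u⁻¹ * g⁻¹, ?_⟩
    rw [h6, h11, one_mul, ← map_mul]

end Out

/-! ### In an overgroup -/

/-- The outer action of `N_G(f Y)`. -/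
structure OutG {G : Type*} [Group G] {R : RGD cs h p T n X} (S : Sys R e) (f : Y →* G)
    (l : ↥(Subgroup.normalizer (f.range : Set G)) →* Equiv.Perm I × (K ≃+* K)) : Prop where
  /-- `C(K)` lies in the kernel -/
  cent : ∀ g : ↥(Subgroup.normalizer (f.range : Set G)), (∀ y, (g : G) * f y = f y * g) → l g = 1
  /-- `K` lies in the kernel -/
  inn : ∀ y, l ⟨f y, f_mem f y⟩ = 1
  /-- frame representatives -/
  rep : ∀ g : ↥(Subgroup.normalizer (f.range : Set G)), ∃ y β, (∀ z, f (β z) = f y * g * f z * (f y * (g : G))⁻¹) ∧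
    Tau T X (chS e) A β (l g).1 (l g).2
  /-- frame representatives of the elements normalising `f U` -/
  repU : ∀ g : ↥(Subgroup.normalizer (f.range : Set G)), (g : G) ∈ Subgroup.normalizer (((RGD.Sup X (RGD.Pos cs h)).map f : Subgroup G) : Set G) →
    ∃ u ∈ RGD.Sup X (RGD.Pos cs h), ∃ β, (∀ z, f (β z) = f u * g * f z * (f u * (g : G))⁻¹) ∧
      Tau T X (chS e) A β (l g).1 (l g).2 ∧ ∀ k : ℕ, (g : G) ^ k = 1 → β ^ k = 1
  /-- `p`-elements of the kernel lie in `C(K) K` -/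
  ker : ∀ (g : ↥(Subgroup.normalizer (f.range : Set G))) (k : ℕ), (g : G) ^ p ^ k = 1 → l g = 1 →
    ∃ c ∈ Subgroup.centralizer (f.range : Set G), ∃ y, (g : G) = c * f y

theorem exists_outG {G : Type*} [Group G] [Finite W] [Finite Y] [Finite K] [Nonempty I] [CharP K p] [Fact p.Prime]
    {R : RGD cs h p T n X} (S : Sys R e) (hG1 : RGD.Sup X {x | IsRoot cs h x} = ⊤) (hN : NoCent cs h T X)
    (hconn : ∀ J : Set I, J.Nonempty → J ≠ Set.univ → ∃ a ∈ J, ∃ b, b ∉ J ∧ M a b ≠ 2)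
    (hA : ∀ σ : Equiv.Perm I, (∀ i j, M (σ i) (σ j) = M i j) → ∀ i j, A (σ i) (σ j) = A i j)
    (f : Y →* G) (hf : Function.Injective f) :
    ∃ l : ↥(Subgroup.normalizer (f.range : Set G)) →* Equiv.Perm I × (K ≃+* K), OutG S f l := by
  obtain ⟨l, h1, h2, h3, h4⟩ := exists_out S hG1 hN hconn hA
  have hact : ∀ (u : Y) (g : ↥(Subgroup.normalizer (f.range : Set G))) (z : Y),
      f ((MulAut.conj u * act f hf g) z) = f u * g * f z * (f u * (g : G))⁻¹ := by
    intro u g z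
    rw [MulAut.mul_apply, MulAut.conj_apply, map_mul, map_mul, map_inv, f_act]
    group
  refine ⟨l.comp (act f hf), ⟨fun g hg => ?_, fun y => ?_, fun g => ?_, fun g hg => ?_, fun g k hk hg => ?_⟩⟩
  · rw [MonoidHom.comp_apply, (act_eq_one_iff f hf g).2 hg, map_one]
  · rw [MonoidHom.comp_apply, act_f, h1]
  · obtain ⟨y, β, e1, B⟩ := h2 (act f hf g)
    refine ⟨y⁻¹, β, fun z => ?_, B⟩
    rw [← hact, e1, ← mul_assoc, ← map_mul, inv_mul_cancel, map_one, one_mul]
  · obtain ⟨u, hu, σ, τ, B, hp⟩ := exists_rep_U S hG1 hN hconn hA (fix_act f hf hg)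
    have h5 : l (act f hf g) = (σ, τ) := by
      have h6 := h3 _ _ _ B
      rwa [map_mul, h1, one_mul] at h6
    refine ⟨u, hu, _, hact u g, ?_, fun k hk => hp k ?_⟩
    · rw [MonoidHom.comp_apply, h5]
      exact B
    · rw [← map_pow]
      have h6 : g ^ k = 1 := Subtype.ext hk
      rw [h6, map_one]
  · have h5 : (act f hf g) ^ p ^ k = 1 := by
      rw [← map_pow]
      have h6 : g ^ p ^ k = 1 := Subtype.ext hk
      rw [h6, map_one]
    obtain ⟨y, hy⟩ := h4 _ k h5 hg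
    refine ⟨g * (f y)⁻¹, ?_, y, by group⟩
    rw [Subgroup.mem_centralizer_iff]
    rintro _ ⟨z, rfl⟩
    have h6 := f_act f hf g (y⁻¹ * z * y)
    rw [hy, MulAut.conj_apply] at h6
    have h7 : y * (y⁻¹ * z * y) * y⁻¹ = z := by group
    rw [h7, map_mul, map_mul, map_inv] at h6
    calc f z * (g * (f y)⁻¹) = (g * ((f y)⁻¹ * f z * f y) * (g : G)⁻¹) * (g * (f y)⁻¹) := by rw [← h6]
      _ = _ := by group

end Cfsg.Agent.KFacts.SysOut
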