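import Mathlib
import Cfsg.Agent.KFacts.SysOut
import Cfsg.Agent.KFacts.SLRow.Diag
import Cfsg.Agent.OddHalf.D4.Free.Defs

/-!
# `BFacts` for `Sys` (ODD, D4, free pairs): (k0), (k1), (k2), (k4), (c1)

`Y` with `Sys R e`, the symmetries of the diagram preserve the Cartan matrix (`hA`) and fix the dominant roots (`hdom`).
-/

set_option autoImplicit false
set_option linter.unusedSectionVars false

namespace Cfsg.Agent.KFacts.SysFree

open CoxeterSystem Cfsg.Agent.ChevalleyStructure.CoxeterGeom Cfsg.Agent.Tits.Roots Cfsg.Agent.Tits.Core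
  Cfsg.Agent.Tits.Exchange Cfsg.Agent.Nodes.Reps Cfsg.Agent.Nodes.BNOf Cfsg.Agent.Nodes.StabComb
  Cfsg.Agent.Nodes.Bruhat Cfsg.Agent.Nodes.OppDec Cfsg.Agent.Nodes.LeviDec Cfsg.Agent.Nodes.NormalForm
  Cfsg.Agent.Nodes.Coroot Cfsg.Agent.Nodes.PosPair Cfsg.Agent.KFacts.RgdPar Cfsg.Agent.KFacts.RgdTI
  Cfsg.Agent.KFacts.RgdOpp Cfsg.Agent.KFacts.RgdAut Cfsg.Agent.KFacts.RgdDiag Cfsg.Agent.KFacts.RgdRigid
  Cfsg.Agent.KFacts.RgdCent Cfsg.Agent.KFacts.RgdKap Cfsg.Agent.KFacts.RgdField Cfsg.Agent.KFacts.RgdTau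
  Cfsg.Agent.KFacts.RgdSys Cfsg.Agent.KFacts.RgdOver Cfsg.Agent.KFacts.RgdPure Cfsg.Agent.KFacts.ChevTwo
  Cfsg.Agent.KFacts.SysOut Cfsg.Agent.KFacts.SysLine Cfsg.Agent.KFacts.SysFlt Cfsg.Agent.KFacts.SLRow.Diag
  Cfsg.Agent.OddHalf.D4.Free Cfsg.Agent.OddHalf.D4.Basic
open scoped commutatorElement

variable {I W Y K : Type*} [Fintype I] [DecidableEq I] [Group W] [Group Y] [Field K] {M : CoxeterMatrix I}
variable {cs : CoxeterSystem M W} {A : I → I → ℤ} {h : IsCartan M A} {e : (I → ℤ) → K → Y}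
  {p : ℕ} {T : Subgroup Y} {n : I → Y} {X : (I → ℤ) → Subgroup Y}

/-! ### Dominant roots -/

theorem star_pos [Finite W] {r : I → ℤ} (hr : r ∈ Star cs h (RGD.Pos cs h)) : r ∈ RGD.Pos cs h := by
  refine ⟨hr.1, ?_⟩
  rcases hr.1.pos_or_neg with h1 | h1
  · exact h1
  · have h2 := hr.2 (-r) ⟨hr.1.neg, neg_nonneg.2 h1⟩
    rw [cpr_neg_right cs h _ hr.1, cpr_self cs h hr.1] at h2
    omega

/-- a dominant root exists -/
theorem exists_star [Finite W] [Nonempty I] : ∃ r, r ∈ Star cs h (RGD.Pos cs h) := by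
  obtain ⟨i⟩ := ‹Nonempty I›
  have hfin : (RGD.Pos cs h).Finite := (RGD.finite_roots (cs := cs) (h := h)).subset fun x hx => hx.1
  obtain ⟨r, hr, hmax⟩ := Set.exists_max_image (RGD.Pos cs h) ht hfin ⟨sr i, isRoot_sr cs h i, sr_nonneg i⟩
  refine ⟨r, hr.1, fun a ha => ?_⟩
  by_contra hneg
  push Not at hneg
  have h1 := isRoot_refl cs h hr.1 ha.1
  have h2 : ht (r - cpr cs h r a • a) = ht r - cpr cs h r a * ht a := by
    rw [sub_eq_add_neg, ← neg_smul, ht_add, ht_smul]; ring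
  have h3 := ht_pos hr
  have h4 := ht_pos ha
  have h5 : 0 < -cpr cs h r a * ht a := mul_pos (by omega) h4
  have h6 : 0 < ht (r - cpr cs h r a • a) := by rw [h2]; linarith
  have h7 : r - cpr cs h r a • a ∈ RGD.Pos cs h := by
    refine ⟨h1, ?_⟩
    rcases h1.pos_or_neg with h8 | h8
    · exact h8
    · exfalso
      have h9 : ht (-(r - cpr cs h r a • a)) = -ht (r - cpr cs h r a • a) := by
        have := ht_smul (-1) (r - cpr cs h r a • a)
        rw [neg_smul, one_smul] at this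
        rw [this]; ring
      have h10 : 0 ≤ ht (-(r - cpr cs h r a • a)) := by
        have h11 := ht_pos (cs := cs) (h := h) (x := -(r - cpr cs h r a • a)) ⟨h1.neg, neg_nonneg.2 h8⟩
        omega
      omega
  have h8 := hmax _ h7
  rw [h2] at h8
  linarith

section Cent

variable [Finite W] {R : RGD cs h p T n X} (S : Sys R e)

include S

/-- the dominant root groups are central in `U` -/
theorem star_comm_U {r : I → ℤ} (hr : r ∈ Star cs h (RGD.Pos cs h)) {v u : Y} (hv : v ∈ X r)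
    (hu : u ∈ RGD.Sup X (RGD.Pos cs h)) : u * v = v * u := by
  have h1 : RGD.Sup X (RGD.Pos cs h) ≤ Subgroup.centralizer ({v} : Set Y) := by
    refine RGD.Sup_le fun a ha w hw => ?_
    rw [Subgroup.mem_centralizer_singleton_iff]
    exact ((S.lr ha.1).comm r hr.1 (hr.2 a ha) v hv w hw).symm
  exact Subgroup.mem_centralizer_singleton_iff.1 (h1 hu)

theorem center_le (hG1 : RGD.Sup X {x | IsRoot cs h x} = ⊤) (hN : NoCent cs h T X) [Nonempty I]
    (hconn : ∀ J : Set I, J.Nonempty → J ≠ Set.univ → ∃ a ∈ J, ∃ b, b ∉ J ∧ M a b ≠ 2) {c : Y}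
    (hc : ∀ u ∈ RGD.Sup X (RGD.Pos cs h), u * c = c * u) : c ∈ RGD.Sup X (Star cs h (RGD.Pos cs h)) :=
  RgdAutFacts.center_U R (fun _ ha => S.lr ha) hN hconn (by rw [GG_eq_top hG1]; trivial) fun _ ha _ hv =>
    (hc _ (RGD.le_Sup ha hv)).symm

/-- **(k0)** -/
theorem star_sq {c : Y} (hc : c ∈ RGD.Sup X (Star cs h (RGD.Pos cs h))) : c * c = 1 := by
  have hle : RGD.Sup X (Star cs h (RGD.Pos cs h)) ≤ RGD.Sup X (RGD.Pos cs h) := RGD.Sup_mono fun _ hx => star_pos hx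
  have hcomm : ∀ r ∈ Star cs h (RGD.Pos cs h), ∀ v ∈ X r, ∀ w ∈ RGD.Sup X (Star cs h (RGD.Pos cs h)),
      v * w = w * v := fun r hr v hv w hw => (star_comm_U S hr hv (hle hw)).symm
  let L : Subgroup Y :=
    { carrier := {y | y ∈ RGD.Sup X (Star cs h (RGD.Pos cs h)) ∧ y * y = 1 ∧
        ∀ w ∈ RGD.Sup X (Star cs h (RGD.Pos cs h)), y * w = w * y}
      one_mem' := ⟨one_mem _, mul_one 1, fun w _ => by rw [one_mul, mul_one]⟩
      mul_mem' := by
        rintro a b ⟨ha, ha2, hac⟩ ⟨hb, hb2, hbc⟩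
        refine ⟨mul_mem ha hb, ?_, fun w hw => by rw [mul_assoc, hbc w hw, ← mul_assoc, hac w hw, mul_assoc]⟩
        calc a * b * (a * b) = a * (b * a) * b := by group
          _ = (a * a) * (b * b) := by rw [hbc a ha]; group
          _ = 1 := by rw [ha2, hb2, one_mul]
      inv_mem' := by
        rintro a ⟨ha, ha2, hac⟩
        have : a⁻¹ = a := inv_eq_of_mul_eq_one_right ha2
        rw [this]
        exact ⟨ha, ha2, hac⟩ }
  have hL : RGD.Sup X (Star cs h (RGD.Pos cs h)) ≤ L := by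
    refine RGD.Sup_le fun r hr v hv => ⟨RGD.le_Sup hr hv, ?_, fun w hw => hcomm r hr v hv w hw⟩
    obtain ⟨a, rfl⟩ := (S.mem_X r hr.1 v).1 hv
    exact S.data.sq hr.1 a
  exact (hL hc).2.1

/-- elements normalising a root group act on it by a scalar -/
theorem scalar_of_norm (hG1 : RGD.Sup X {x | IsRoot cs h x} = ⊤) {r : I → ℤ} (hr : IsRoot cs h r) {y : Y}
    (hy : cj y (X r) = X r) : ∃ c : K, ∀ t, y * e r t * y⁻¹ = e r (c * t) := by
  have h1 : y ∈ PS T X (Ge cs h r) := by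
    rw [← (S.lr hr).normalizer, GG_eq_top hG1]
    exact Subgroup.mem_inf.2 ⟨mem_normalizer_iff_cj.2 hy, Subgroup.mem_top _⟩
  let L : Subgroup Y :=
    { carrier := {y | (∃ c : K, ∀ t, y * e r t * y⁻¹ = e r (c * t)) ∧ ∃ c : K, ∀ t, y⁻¹ * e r t * y = e r (c * t)}
      one_mem' := ⟨⟨1, fun t => by rw [one_mul, one_mul, inv_one, mul_one]⟩,
        ⟨1, fun t => by rw [one_mul, inv_one, one_mul, mul_one]⟩⟩
      mul_mem' := by
        rintro a b ⟨⟨c, hc⟩, d, hd⟩ ⟨⟨c', hc'⟩, d', hd'⟩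
        refine ⟨⟨c * c', fun t => ?_⟩, d' * d, fun t => ?_⟩
        · calc a * b * e r t * (a * b)⁻¹ = a * (b * e r t * b⁻¹) * a⁻¹ := by group
            _ = _ := by rw [hc', hc, mul_assoc]
        · calc (a * b)⁻¹ * e r t * (a * b) = b⁻¹ * (a⁻¹ * e r t * a) * b := by group
            _ = _ := by rw [hd, hd', mul_assoc]
      inv_mem' := by
        rintro a ⟨⟨c, hc⟩, d, hd⟩
        exact ⟨⟨d, fun t => by rw [inv_inv]; exact hd t⟩, c, fun t => by rw [inv_inv]; exact hc t⟩ }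
  have hL : PS T X (Ge cs h r) ≤ L := by
    refine sup_le ?_ ?_
    · intro t ht
      refine ⟨⟨_, chS_spec S hr ht⟩, chS e r t⁻¹, fun a => ?_⟩
      have := chS_spec S hr (inv_mem ht) a
      rwa [inv_inv] at this
    · intro u hu
      have h2 : ∀ t, u * e r t = e r t * u := fun t => (S.lr hr).comm' hu (S.mem hr t)
      refine ⟨⟨1, fun t => by rw [h2, one_mul, mul_inv_cancel_right]⟩, 1, fun t => ?_⟩
      rw [mul_assoc, ← h2, one_mul, inv_mul_cancel_left]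
  exact (hL h1).1

end Cent

/-! ### Action on an embedded group -/

/-- `x` acts on `f Y` as `φ`. -/
def Acts {G : Type*} [Group G] (f : Y →* G) (x : G) (φ : MulAut Y) : Prop := ∀ z, f (φ z) = x * f z * x⁻¹

section Acts

variable {G : Type*} [Group G] {f : Y →* G} {x x' : G} {φ φ' : MulAut Y}

theorem Acts.one : Acts f 1 (1 : MulAut Y) := fun z => by rw [MulAut.one_apply, one_mul, inv_one, mul_one]

theorem Acts.mul (hx : Acts f x φ) (hx' : Acts f x' φ') : Acts f (x * x') (φ * φ') := fun z => by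
  rw [MulAut.mul_apply, hx, hx']; group

theorem Acts.inv (hx : Acts f x φ) : Acts f x⁻¹ φ⁻¹ := fun z => by
  have h1 := hx (φ⁻¹ z)
  rw [MulAut.apply_inv_self] at h1
  rw [h1]; group

theorem Acts.pow (hx : Acts f x φ) (k : ℕ) : Acts f (x ^ k) (φ ^ k) := by
  induction k with
  | zero => rw [pow_zero, pow_zero]; exact Acts.one
  | succ k ih => rw [pow_succ, pow_succ]; exact ih.mul hx

theorem Acts.unique (hf : Function.Injective f) (hx : Acts f x φ) (hx' : Acts f x φ') : φ = φ' := by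
  ext z
  apply hf
  rw [hx, hx']

theorem Acts.conj (y : Y) : Acts f (f y) (MulAut.conj y) := fun z => by
  rw [MulAut.conj_apply, map_mul, map_mul, map_inv]

theorem Acts.exists_of_mem (hf : Function.Injective f) (hx : x ∈ Subgroup.normalizer (f.range : Set G)) :
    ∃ φ, Acts f x φ := ⟨act f hf ⟨x, hx⟩, fun z => f_act f hf ⟨x, hx⟩ z⟩

theorem Acts.comp (hx : Acts f x φ) (g : Y) :
    Acts (f.comp (MulAut.conj g).toMonoidHom) x (MulAut.conj g⁻¹ * φ * MulAut.conj g) := fun z => by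
  show f (g * (g⁻¹ * φ (g * z * g⁻¹) * g⁻¹⁻¹) * g⁻¹) = x * f (g * z * g⁻¹) * x⁻¹
  rw [← hx]
  congr 1
  group

theorem Acts.fix (hf : Function.Injective f) {H : Subgroup Y} (hx : Acts f x φ)
    (hxH : x ∈ Subgroup.normalizer ((H.map f : Subgroup G) : Set G)) : Fix φ H := by
  intro y
  have h1 := Subgroup.mem_normalizer_iff.1 hxH (f y)
  have h2 : ∀ z, f z ∈ H.map f ↔ z ∈ H := fun z => ⟨fun ⟨w, hw, e⟩ => hf e ▸ hw, fun hz => ⟨z, hz, rfl⟩⟩
  rw [h2, ← hx, h2] at h1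
  exact h1.symm

theorem Acts.inner {y : Y} (hx : Acts f x (MulAut.conj y)) : Inner f.range x := by
  refine ⟨x * (f y)⁻¹, ?_, f y, ⟨y, rfl⟩, by group⟩
  rw [Subgroup.mem_centralizer_iff]
  rintro _ ⟨z, rfl⟩
  have h6 := hx (y⁻¹ * z * y)
  rw [MulAut.conj_apply] at h6
  have h7 : y * (y⁻¹ * z * y) * y⁻¹ = z := by group
  rw [h7, map_mul, map_mul, map_inv] at h6
  calc f z * (x * (f y)⁻¹) = (x * ((f y)⁻¹ * f z * f y) * x⁻¹) * (x * (f y)⁻¹) := by rw [← h6]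
    _ = _ := by group

end Acts

/-! ### Good subgroups in standard position -/

theorem exists_std {G : Type*} [Group G] [Finite W] [Finite Y] {R : RGD cs h 2 T n X}
    (hG1 : RGD.Sup X {x | IsRoot cs h x} = ⊤) {f : Y →* G} (hf : Function.Injective f) {S : Subgroup G}
    (hS : Good f.range S) : ∃ g : Y, S ⊓ f.range = (RGD.Sup X (RGD.Pos cs h)).map (f.comp (MulAut.conj g).toMonoidHom) := by
  have : Fact (Nat.Prime 2) := ⟨Nat.prime_two⟩
  have hQ : IsPGroup 2 ↥((S ⊓ f.range).comap f) := hS.syl.two.comap_of_injective f hf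
  let P : Sylow 2 Y := ⟨(S ⊓ f.range).comap f, hQ, fun {Q} hQ2 hle => by
    have h1 : S ⊓ f.range ≤ Q.map f := by
      rintro x ⟨hx, y, rfl⟩
      exact ⟨y, hle ⟨hx, y, rfl⟩, rfl⟩
    have h2 := hS.syl.max (Q.map f) (hQ2.map f) h1 (by rintro _ ⟨y, -, rfl⟩; exact ⟨y, rfl⟩)
    exact le_antisymm (fun y hy => h2 ⟨y, hy, rfl⟩) hle⟩
  obtain ⟨g, hg⟩ := RgdAutFacts.sylow_eq_cj R (GG_eq_top (T := T) hG1) P
  refine ⟨g, ?_⟩
  have h1 : (S ⊓ f.range).comap f = cj g (RGD.Sup X (RGD.Pos cs h)) := hg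
  ext x
  constructor
  · rintro ⟨hx, y, rfl⟩
    have h2 : y ∈ cj g (RGD.Sup X (RGD.Pos cs h)) := by
      rw [← h1]
      exact ⟨hx, y, rfl⟩
    refine ⟨g⁻¹ * y * g, mem_cj.1 h2, ?_⟩
    show f (g * (g⁻¹ * y * g) * g⁻¹) = f y
    congr 1
    group
  · rintro ⟨u, hu, rfl⟩
    have h2 : g * u * g⁻¹ ∈ (S ⊓ f.range).comap f := by
      rw [h1]
      exact conj_mem_cj.2 hu
    exact h2

theorem range_comp_conj {G : Type*} [Group G] (f : Y →* G) (g : Y) :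
    (f.comp (MulAut.conj g).toMonoidHom).range = f.range := by
  ext x
  constructor
  · rintro ⟨y, rfl⟩
    exact ⟨g * y * g⁻¹, rfl⟩
  · rintro ⟨y, rfl⟩
    refine ⟨g⁻¹ * y * g, ?_⟩
    show f (g * (g⁻¹ * y * g) * g⁻¹) = f y
    congr 1
    group

/-- standard position of `S` -/
structure Std {G : Type*} [Group G] (cs : CoxeterSystem M W) (h : IsCartan M A) (X : (I → ℤ) → Subgroup Y)
    (K₀ S : Subgroup G) (f : Y →* G) : Prop where
  inj : Function.Injective f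
  range : f.range = K₀
  two : IsPGroup 2 ↥S
  le : S ≤ Subgroup.normalizer (K₀ : Set G)
  inf : S ⊓ K₀ = (RGD.Sup X (RGD.Pos cs h)).map f

section Std

variable {G : Type*} [Group G] {K₀ S : Subgroup G} {f : Y →* G}

theorem Std.exists_acts (D : Std cs h X K₀ S f) {x : G} (hx : x ∈ Subgroup.normalizer (K₀ : Set G)) :
    ∃ φ, Acts f x φ := Acts.exists_of_mem D.inj (by rw [D.range]; exact hx)

theorem Std.fix (D : Std cs h X K₀ S f) {x : G} (hx : x ∈ S) {φ : MulAut Y} (hφ : Acts f x φ) :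
    Fix φ (RGD.Sup X (RGD.Pos cs h)) := by
  refine hφ.fix D.inj ?_
  rw [← D.inf, Subgroup.mem_normalizer_iff]
  intro y
  rw [Subgroup.mem_inf, Subgroup.mem_inf, ← Subgroup.mem_normalizer_iff.1 (D.le hx) y]
  constructor
  · rintro ⟨h1, h2⟩
    exact ⟨mul_mem (mul_mem hx h1) (inv_mem hx), h2⟩
  · rintro ⟨h1, h2⟩
    refine ⟨?_, h2⟩
    have := mul_mem (mul_mem (inv_mem hx) h1) hx
    have h3 : x⁻¹ * (x * y * x⁻¹) * x = y := by group
    rwa [h3] at this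

theorem Std.mem_zc (D : Std cs h X K₀ S f) {z : G} :
    z ∈ zc K₀ S ↔ ∃ y ∈ RGD.Sup X (RGD.Pos cs h), (∀ u ∈ RGD.Sup X (RGD.Pos cs h), u * y = y * u) ∧ f y = z := by
  rw [Cfsg.Agent.OddHalf.D4.Free.mem_zc, ← Subgroup.mem_inf, D.inf]
  constructor
  · rintro ⟨⟨y, hy, rfl⟩, h2⟩
    exact ⟨y, hy, fun u hu => D.inj (by rw [map_mul, map_mul]; exact h2 _ ⟨u, hu, rfl⟩), rfl⟩
  · rintro ⟨y, hy, h2, rfl⟩
    refine ⟨⟨y, hy, rfl⟩, ?_⟩
    rintro _ ⟨u, hu, rfl⟩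
    rw [← map_mul, ← map_mul, h2 u hu]

/-- a 2-power -/
theorem Std.exists_pow (D : Std cs h X K₀ S f) {x : G} (hx : x ∈ S) {φ : MulAut Y} (hφ : Acts f x φ) :
    ∃ k : ℕ, φ ^ 2 ^ k = 1 := by
  obtain ⟨k, hk⟩ := D.two ⟨x, hx⟩
  have hk' : x ^ 2 ^ k = 1 := congrArg Subtype.val hk
  refine ⟨k, ?_⟩
  have h1 := hφ.pow (2 ^ k)
  rw [hk'] at h1
  exact h1.unique D.inj Acts.one

end Std

/-! ### The facts -/

/-- The outer automorphism homomorphism -/
structure IsOut {R : RGD cs h p T n X} (S : Sys R e) (l : MulAut Y →* Equiv.Perm I × (K ≃+* K)) : Prop where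
  inn : ∀ y, l (MulAut.conj y) = 1
  rep : ∀ α, ∃ y β, α = MulAut.conj y * β ∧ Tau T X (chS e) A β (l α).1 (l α).2
  tau : ∀ β σ τ, Tau T X (chS e) A β σ τ → l β = (σ, τ)
  ker : ∀ (α : MulAut Y) (k : ℕ), α ^ p ^ k = 1 → l α = 1 → ∃ y, α = MulAut.conj y

/-- The hypotheses on `Y`. -/
structure Hyp (cs : CoxeterSystem M W) {A : I → I → ℤ} (h : IsCartan M A) (T : Subgroup Y)
    (X : (I → ℤ) → Subgroup Y) : Prop where
  gen : RGD.Sup X {x | IsRoot cs h x} = ⊤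
  cent : NoCent cs h T X
  conn : ∀ J : Set I, J.Nonempty → J ≠ Set.univ → ∃ a ∈ J, ∃ b, b ∉ J ∧ M a b ≠ 2
  cart : ∀ σ : Equiv.Perm I, (∀ i j, M (σ i) (σ j) = M i j) → ∀ i j, A (σ i) (σ j) = A i j
  dom : ∀ σ : Equiv.Perm I, (∀ i j, M (σ i) (σ j) = M i j) → ∀ r ∈ Star cs h (RGD.Pos cs h), r ∘ σ.symm = r

section Facts

variable [Finite W] [Finite Y] [Finite K] [Nonempty I] [CharP K 2] {R : RGD cs h 2 T n X}
  {S : Sys R e} (H : Hyp cs h T X)
  {l : MulAut Y →* Equiv.Perm I × (K ≃+* K)} (L : IsOut S l)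

theorem exists_isOut (S : Sys R e) (H : Hyp cs h T X) : ∃ l, IsOut S l := by
  have : Fact (Nat.Prime 2) := ⟨Nat.prime_two⟩
  obtain ⟨l, h1, h2, h3, h4⟩ := exists_out S H.gen H.cent H.conn H.cart
  exact ⟨l, h1, h2, h3, h4⟩

include H L

theorem matrix_of (α : MulAut Y) : ∀ i j, M ((l α).1 i) ((l α).1 j) = M i j := by
  obtain ⟨y, β, -, B⟩ := L.rep α
  exact B.diag.matrix (R := R)

/-- frame representatives of automorphisms fixing `U` -/
theorem exists_frameU {φ : MulAut Y} (hφ : Fix φ (RGD.Sup X (RGD.Pos cs h))) :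
    ∃ u ∈ RGD.Sup X (RGD.Pos cs h), Tau T X (chS e) A (MulAut.conj u * φ) (l φ).1 (l φ).2 ∧
      ∀ k : ℕ, φ ^ k = 1 → (MulAut.conj u * φ) ^ k = 1 := by
  have : Fact (Nat.Prime 2) := ⟨Nat.prime_two⟩
  obtain ⟨u, hu, σ, τ, B, hp⟩ := exists_rep_U S H.gen H.cent H.conn H.cart hφ
  refine ⟨u, hu, ?_, hp⟩
  have h1 := L.tau _ _ _ B
  rw [map_mul, L.inn, one_mul] at h1
  rw [h1]
  exact B

/-- **An automorphism centralising a dominant root group has no field part.** -/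
theorem field_of_fix {φ : MulAut Y} {r : I → ℤ} (hr : r ∈ Star cs h (RGD.Pos cs h)) (hφ : ∀ v ∈ X r, φ v = v) :
    (l φ).2 = 1 := by
  have : Fact (Nat.Prime 2) := ⟨Nat.prime_two⟩
  obtain ⟨y, β, h1, B⟩ := L.rep φ
  obtain ⟨c, hc, hβ⟩ := Tau.root R (coords S H.gen) B hr.1
  rw [H.dom _ (matrix_of H L φ) r hr] at hβ
  have h2 : ∀ t, y * e r (c * (l φ).2 t) * y⁻¹ = e r t := by
    intro t
    have h3 := hφ _ (S.mem hr.1 t)
    have h4 : φ (e r t) = y * β (e r t) * y⁻¹ := by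
      conv_lhs => rw [h1]
      rfl
    rw [h4, hβ] at h3
    exact h3
  have h3 : cj y (X r) = X r := by
    ext z
    rw [mem_cj]
    constructor
    · intro hz
      obtain ⟨a, ha⟩ := (S.mem_X r hr.1 _).1 hz
      obtain ⟨t, ht⟩ : ∃ t, (l φ).2 t = c⁻¹ * a := ⟨(l φ).2.symm (c⁻¹ * a), RingEquiv.apply_symm_apply _ _⟩
      have h4 := h2 t
      rw [ht, mul_inv_cancel_left₀ hc, ha] at h4
      have h5 : y * (y⁻¹ * z * y) * y⁻¹ = z := by group
      rw [h5] at h4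
      rw [h4]
      exact S.mem hr.1 t
    · intro hz
      obtain ⟨t, rfl⟩ := (S.mem_X r hr.1 _).1 hz
      have h4 : y⁻¹ * e r t * y = e r (c * (l φ).2 t) := by rw [← h2 t]; group
      rw [h4]
      exact S.mem hr.1 _
  obtain ⟨d, hd⟩ := scalar_of_norm S H.gen hr.1 h3
  have h4 : ∀ t, d * (c * (l φ).2 t) = t := by
    intro t
    have h5 := h2 t
    rw [hd] at h5
    exact S.data.injective hr.1 h5
  have h5 : d * c = 1 := by
    have := h4 1
    rwa [map_one, mul_one] at this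
  ext t
  have h6 := h4 t
  rw [← mul_assoc, h5, one_mul] at h6
  exact h6

/-- **A `2`-automorphism fixing `U` acts on a dominant root group by its field part.** -/
theorem act_star {φ : MulAut Y} (hφ : Fix φ (RGD.Sup X (RGD.Pos cs h))) {k : ℕ} (hk : φ ^ 2 ^ k = 1) {r : I → ℤ}
    (hr : r ∈ Star cs h (RGD.Pos cs h)) : ∃ a₀, a₀ ≠ 0 ∧ ∀ a, φ (e r (a₀ * a)) = e r (a₀ * (l φ).2 a) := by
  have : Fact (Nat.Prime 2) := ⟨Nat.prime_two⟩
  obtain ⟨u, hu, B, hp⟩ := exists_frameU H L hφ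
  obtain ⟨a₀, ha₀, h1⟩ := Tau.pure R (coords S H.gen) B (hp _ hk) hr.1 (H.dom _ (matrix_of H L φ) r hr)
  refine ⟨a₀, ha₀, fun a => ?_⟩
  have h2 := h1 a
  rw [MulAut.mul_apply, MulAut.conj_apply] at h2
  have h3 : φ (e r (a₀ * a)) = u⁻¹ * e r (a₀ * (l φ).2 a) * u := by rw [← h2]; group
  rw [h3, mul_assoc, ← star_comm_U S hr (S.mem hr.1 _) hu, inv_mul_cancel_left]

end Facts

/-! ### (k0), (k1), (k2), (k4), (c1) -/

theorem cyclic_two {C : Type*} [Group C] [Finite C] [IsCyclic C] {a b : C} (ha : a * a = 1) (hb : b * b = 1) :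
    a = 1 ∨ b = 1 ∨ a = b := by
  classical
  by_contra hcon
  push Not at hcon
  obtain ⟨h1, h2, h3⟩ := hcon
  have := Fintype.ofFinite C
  have h4 := IsCyclic.card_pow_eq_one_le (α := C) (n := 2) (by norm_num)
  have h5 : ({1, a, b} : Finset C) ⊆ Finset.univ.filter fun x : C => x ^ 2 = 1 := by
    intro x hx
    simp only [Finset.mem_insert, Finset.mem_singleton] at hx
    rw [Finset.mem_filter]
    refine ⟨Finset.mem_univ _, ?_⟩
    rcases hx with rfl | rfl | rfl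
    · exact one_pow 2
    · rw [pow_two, ha]
    · rw [pow_two, hb]
  have h6 : ({1, a, b} : Finset C).card = 3 := by
    rw [Finset.card_insert_of_notMem, Finset.card_insert_of_notMem, Finset.card_singleton]
    · simpa using h3
    · simp only [Finset.mem_insert, Finset.mem_singleton, not_or]
      exact ⟨fun h => h1 h.symm, fun h => h2 h.symm⟩
  have h7 := Finset.card_le_card h5
  omega

section BF

variable {G : Type*} [Group G] [Finite G] {K₀ S : Subgroup G} [Finite W] [Finite K] [Nonempty I] [CharP K 2]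
  {R : RGD cs h 2 T n X} {S' : Sys R e} (H : Hyp cs h T X) {l : MulAut Y →* Equiv.Perm I × (K ≃+* K)}
  (L : IsOut S' l) {f : Y →* G}

include H

theorem exists_std' (S' : Sys R e) (hf : Function.Injective f) (hK : f.range = K₀) (hS : Good K₀ S) :
    ∃ f', Std cs h X K₀ S f' ∧ (∀ l : MulAut Y →* Equiv.Perm I × (K ≃+* K), IsOut S' l →
      ∀ x φ, Acts f x φ → ∃ φ', Acts f' x φ' ∧ l φ' = l φ) := by
  subst hK
  have hY : Finite Y := Finite.of_injective f hf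
  obtain ⟨g, hg⟩ := exists_std (R := R) H.gen hf hS
  refine ⟨f.comp (MulAut.conj g).toMonoidHom, ⟨hf.comp (MulAut.conj g).injective, range_comp_conj f g, hS.two, hS.le,
    hg⟩, fun l L x φ hφ => ⟨_, hφ.comp g, ?_⟩⟩
  rw [map_mul, map_mul, L.inn, L.inn, one_mul, mul_one]

include L

theorem Std.cz_of_field (D : Std cs h X K₀ S f) {x : G} (hx : x ∈ S) {φ : MulAut Y} (hφ : Acts f x φ)
    (hl : (l φ).2 = 1) : x ∈ cz K₀ S := by
  have hY : Finite Y := Finite.of_injective f D.inj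
  rw [mem_cz]
  intro z hz
  obtain ⟨y, hy, hyc, rfl⟩ := D.mem_zc.1 hz
  obtain ⟨k, hk⟩ := D.exists_pow hx hφ
  have h1 := center_le S' H.gen H.cent H.conn hyc
  have h2 : RGD.Sup X (Star cs h (RGD.Pos cs h)) ≤ (φ.toMonoidHom).eqLocus (MonoidHom.id Y) := by
    refine RGD.Sup_le fun r hr v hv => ?_
    obtain ⟨a, rfl⟩ := (S'.mem_X r hr.1 v).1 hv
    obtain ⟨a₀, ha₀, h3⟩ := act_star H L (D.fix hx hφ) hk hr
    have h4 := h3 (a₀⁻¹ * a)
    rw [mul_inv_cancel_left₀ ha₀, hl, RingAut.one_apply, mul_inv_cancel_left₀ ha₀] at h4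
    exact h4
  have h3 : φ y = y := h2 h1
  have h4 := hφ y
  rw [h3] at h4
  calc f y * x = (x * f y * x⁻¹) * x := by rw [← h4]
    _ = x * f y := by group

theorem Std.field_of_cz (D : Std cs h X K₀ S f) {x : G} (hx : x ∈ cz K₀ S) {φ : MulAut Y} (hφ : Acts f x φ) :
    (l φ).2 = 1 := by
  have hY : Finite Y := Finite.of_injective f D.inj
  obtain ⟨r, hr⟩ := exists_star (cs := cs) (h := h)
  refine field_of_fix H L hr fun v hv => ?_
  have hvU : v ∈ RGD.Sup X (RGD.Pos cs h) := RGD.le_Sup (star_pos hr) hv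
  have h1 : f v ∈ zc K₀ S := D.mem_zc.2 ⟨v, hvU, fun u hu => star_comm_U S' hr hv hu, rfl⟩
  have h2 := mem_cz.1 hx _ h1
  apply D.inj
  rw [hφ, ← h2, mul_inv_cancel_right]

/-- **`C_S(Z(S ∩ K))` = no field part.** -/
theorem Std.cz_iff (D : Std cs h X K₀ S f) {x : G} (hx : x ∈ S) {φ : MulAut Y} (hφ : Acts f x φ) :
    x ∈ cz K₀ S ↔ (l φ).2 = 1 := ⟨fun h1 => D.field_of_cz H L h1 hφ, fun h1 => D.cz_of_field H L hx hφ h1⟩

omit L

/-- **(k0)** -/
theorem k0 (S' : Sys R e) (hf : Function.Injective f) (hK : f.range = K₀) (hS : Good K₀ S) {z : G}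
    (hz : z ∈ zc K₀ S) : z * z = 1 := by
  obtain ⟨f', D, -⟩ := exists_std' H S' hf hK hS
  obtain ⟨y, hy, hyc, rfl⟩ := D.mem_zc.1 hz
  rw [← map_mul, star_sq S' (center_le S' H.gen H.cent H.conn hyc), map_one]

/-- **(k1)** -/
theorem k1 (S' : Sys R e) (hf : Function.Injective f) (hK : f.range = K₀) (hS : Good K₀ S) {a b : G}
    (ha : a ∈ S) (hb : b ∈ S) (haa : a * a ∈ cz K₀ S) (hbb : b * b ∈ cz K₀ S) :
    a ∈ cz K₀ S ∨ b ∈ cz K₀ S ∨ a⁻¹ * b ∈ cz K₀ S := by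
  have hY : Finite Y := Finite.of_injective f hf
  obtain ⟨f', D, -⟩ := exists_std' H S' hf hK hS
  obtain ⟨l, L⟩ := exists_isOut S' H
  obtain ⟨φ, hφ⟩ := D.exists_acts (D.le ha)
  obtain ⟨ψ, hψ⟩ := D.exists_acts (D.le hb)
  have h1 : (l φ).2 * (l φ).2 = 1 := by
    rw [← Prod.snd_mul, ← map_mul]
    exact D.field_of_cz H L haa (hφ.mul hφ)
  have h2 : (l ψ).2 * (l ψ).2 = 1 := by
    rw [← Prod.snd_mul, ← map_mul]
    exact D.field_of_cz H L hbb (hψ.mul hψ)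
  have hcyc : IsCyclic (K ≃+* K) := LieRecognition.FieldSemilinear.isCyclic_ringAut K
  have hfin : Finite (K ≃+* K) := Finite.of_injective (fun τ : K ≃+* K => (τ : K → K)) DFunLike.coe_injective
  rcases cyclic_two h1 h2 with h3 | h3 | h3
  · exact Or.inl (D.cz_of_field H L ha hφ h3)
  · exact Or.inr (Or.inl (D.cz_of_field H L hb hψ h3))
  · refine Or.inr (Or.inr (D.cz_of_field H L (mul_mem (inv_mem ha) hb) (hφ.inv.mul hψ) ?_))
    rw [map_mul, map_inv, Prod.snd_mul, Prod.snd_inv, h3, inv_mul_cancel]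

/-- **(k2)** -/
theorem k2 (S' : Sys R e) (hf : Function.Injective f) (hK : f.range = K₀) {S₁ : Subgroup G} (hS : Good K₀ S)
    (hS₁ : Good K₀ S₁) {x : G} (hx : x ∈ S₁) (hxz : x ∈ cz K₀ S) : x ∈ cz K₀ S₁ := by
  have hY : Finite Y := Finite.of_injective f hf
  obtain ⟨l, L⟩ := exists_isOut S' H
  obtain ⟨φ, hφ⟩ := Acts.exists_of_mem hf (by rw [hK]; exact hS₁.le hx : x ∈ Subgroup.normalizer (f.range : Set G))
  obtain ⟨f', D, h1⟩ := exists_std' H S' hf hK hS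
  obtain ⟨f'', D', h2⟩ := exists_std' H S' hf hK hS₁
  obtain ⟨φ', h3, h4⟩ := h1 l L x φ hφ
  obtain ⟨φ'', h5, h6⟩ := h2 l L x φ hφ
  refine D'.cz_of_field H L hx h5 ?_
  rw [h6, ← h4]
  exact D.field_of_cz H L hxz h3

/-- **(k4)** -/
theorem k4 (S' : Sys R e) (hM : DTwo M) (hf : Function.Injective f) (hK : f.range = K₀) (hS : Good K₀ S) {a b : G}
    (ha : a ∈ S) (hb : b ∈ S) (haz : a ∈ cz K₀ S) (hbz : b ∈ cz K₀ S) :
    Inner K₀ a ∨ Inner K₀ b ∨ Inner K₀ (a⁻¹ * b) := by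
  have hY : Finite Y := Finite.of_injective f hf
  obtain ⟨f', D, -⟩ := exists_std' H S' hf hK hS
  obtain ⟨l, L⟩ := exists_isOut S' H
  -- inner elements
  have hin : ∀ x ∈ S, ∀ φ, Acts f' x φ → l φ = 1 → Inner K₀ x := by
    intro x hx φ hφ hl
    obtain ⟨k, hk⟩ := D.exists_pow hx hφ
    obtain ⟨y, rfl⟩ := L.ker φ k hk hl
    have := hφ.inner
    rwa [D.range] at this
  -- the symmetries of `S`
  let P : Subgroup (Equiv.Perm I) :=
    { carrier := {σ | ∃ x ∈ S, ∃ φ, Acts f' x φ ∧ (l φ).1 = σ}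
      one_mem' := ⟨1, one_mem _, 1, Acts.one, by rw [map_one]; rfl⟩
      mul_mem' := by
        rintro _ _ ⟨x, hx, φ, hφ, rfl⟩ ⟨x', hx', φ', hφ', rfl⟩
        exact ⟨x * x', mul_mem hx hx', _, hφ.mul hφ', by rw [map_mul]; rfl⟩
      inv_mem' := by
        rintro _ ⟨x, hx, φ, hφ, rfl⟩
        exact ⟨x⁻¹, inv_mem hx, _, hφ.inv, by rw [map_inv]; rfl⟩ }
  have hP : IsPGroup 2 ↥P := by
    rintro ⟨_, x, hx, φ, hφ, rfl⟩
    obtain ⟨k, hk⟩ := D.exists_pow hx hφ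
    refine ⟨k, Subtype.ext ?_⟩
    show ((l φ).1) ^ 2 ^ k = 1
    rw [← Prod.pow_fst, ← map_pow, hk, map_one]
    rfl
  have hPM : ∀ σ ∈ P, ∀ i j, M (σ i) (σ j) = M i j := by
    rintro _ ⟨x, hx, φ, hφ, rfl⟩
    exact matrix_of H L φ
  obtain ⟨φ, hφ⟩ := D.exists_acts (D.le ha)
  obtain ⟨ψ, hψ⟩ := D.exists_acts (D.le hb)
  have h1 := D.field_of_cz H L haz hφ
  have h2 := D.field_of_cz H L hbz hψ
  by_cases h3 : (l φ).1 = 1
  · exact Or.inl (hin a ha φ hφ (Prod.ext h3 h1))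
  by_cases h4 : (l ψ).1 = 1
  · exact Or.inr (Or.inl (hin b hb ψ hψ (Prod.ext h4 h2)))
  have h5 := hM P hP hPM _ ⟨a, ha, φ, hφ, rfl⟩ _ ⟨b, hb, ψ, hψ, rfl⟩ h3 h4
  refine Or.inr (Or.inr (hin _ (mul_mem (inv_mem ha) hb) _ (hφ.inv.mul hψ) ?_))
  rw [map_mul, map_inv]
  exact Prod.ext (by rw [Prod.fst_mul, Prod.fst_inv, h5, inv_mul_cancel]; rfl)
    (by rw [Prod.snd_mul, Prod.snd_inv, h1, h2, inv_mul_cancel]; rfl)

/-- **(c1)** -/
theorem c1 (S' : Sys R e) (hq : 4 < Nat.card K) (hf : Function.Injective f) (hK : f.range = K₀) (hS : Good K₀ S)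
    {x : G} (hx : x ∈ S) (hxz : x ∉ cz K₀ S) :
    ∃ a ∈ zc K₀ S, ∃ b ∈ zc K₀ S, a * x ≠ x * a ∧ b * x ≠ x * b ∧ a * b * x ≠ x * (a * b) := by
  have hY : Finite Y := Finite.of_injective f hf
  obtain ⟨f', D, -⟩ := exists_std' H S' hf hK hS
  obtain ⟨l, L⟩ := exists_isOut S' H
  obtain ⟨φ, hφ⟩ := D.exists_acts (D.le hx)
  obtain ⟨k, hk⟩ := D.exists_pow hx hφ
  obtain ⟨r, hr⟩ := exists_star (cs := cs) (h := h)
  obtain ⟨a₀, ha₀, h1⟩ := act_star H L (D.fix hx hφ) hk hr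
  have h2 : (l φ).2 ≠ 1 := fun h3 => hxz (D.cz_of_field H L hx hφ h3)
  have h3 : ∃ a b, (l φ).2 a ≠ a ∧ (l φ).2 b ≠ b ∧ (l φ).2 (a + b) ≠ a + b := by
    by_contra hcon
    push Not at hcon
    apply h2
    refine eq_one_of_half hq fun a b => ?_
    by_cases h4 : (l φ).2 a = a
    · exact Or.inl h4
    · by_cases h5 : (l φ).2 b = b
      · exact Or.inr (Or.inl h5)
      · exact Or.inr (Or.inr (hcon a b h4 h5))
  have hmem : ∀ a, f' (e r a) ∈ zc K₀ S := fun a => D.mem_zc.2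
    ⟨_, RGD.le_Sup (star_pos hr) (S'.mem hr.1 a), fun u hu => star_comm_U S' hr (S'.mem hr.1 a) hu, rfl⟩
  have hne : ∀ a, (l φ).2 a ≠ a → f' (e r (a₀ * a)) * x ≠ x * f' (e r (a₀ * a)) := by
    intro a ha hc
    apply ha
    have h4 := hφ (e r (a₀ * a))
    rw [← hc, mul_inv_cancel_right, h1] at h4
    exact mul_left_cancel₀ ha₀ (S'.data.injective hr.1 (D.inj h4))
  obtain ⟨a, b, ha, hb, hab⟩ := h3
  refine ⟨_, hmem (a₀ * a), _, hmem (a₀ * b), hne a ha, hne b hb, ?_⟩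
  rw [← map_mul, ← S'.data.add r hr.1, ← mul_add]
  exact hne _ hab

end BF

/-! ### (star+) -/

section StarP

variable {G : Type*} [Group G] {K₀ S : Subgroup G} [Finite W] [Finite K] [Nonempty I] [CharP K 2]
  {R : RGD cs h 2 T n X} {S' : Sys R e} (H : Hyp cs h T X) {l : MulAut Y →* Equiv.Perm I × (K ≃+* K)}
  (L : IsOut S' l) {f : Y →* G}

/-- independence of two root groups of the same height -/
theorem mul_mem_UH (S' : Sys R e) {r r' : I → ℤ} (hr : r ∈ RGD.Pos cs h) (hr' : r' ∈ RGD.Pos cs h) (hne : r ≠ r')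
    {j : ℕ} (hj : ht r = j + 1) (hj' : ht r' = j + 1) {z z' : Y} (hz : z ∈ X r) (hz' : z' ∈ X r')
    (hzz : z * z' ∈ UH cs h X (j + 1)) : z = 1 := by
  have h1 : Nodes.Unique.Closed cs h ({r} : Set (I → ℤ)) := by
    rintro _ rfl _ rfl z hz
    exact Nodes.Unique.btwn_self hr.1 hz
  let Q : Set (I → ℤ) := {x | x = r' ∨ (x ∈ RGD.Pos cs h ∧ ((j + 1 : ℕ) : ℤ) < ht x)}
  have hQpos : ∀ x ∈ Q, x ∈ RGD.Pos cs h ∧ (j : ℤ) + 1 ≤ ht x := by
    rintro x (rfl | ⟨hx, hxj⟩)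
    · exact ⟨hr', hj'.ge⟩
    · refine ⟨hx, ?_⟩
      push_cast at hxj
      omega
  have h2 : Nodes.Unique.Closed cs h Q := by
    intro x hx y hy z hz
    obtain ⟨hxp, hxh⟩ := hQpos x hx
    obtain ⟨hyp, hyh⟩ := hQpos y hy
    by_cases hxy : x = r' ∧ y = r'
    · obtain ⟨rfl, rfl⟩ := hxy
      exact Or.inl (Nodes.Unique.btwn_self hr'.1 hz)
    have hz1 : z ∈ {r | r ∈ RGD.Pos cs h ∧ (j : ℤ) < ht r} := by
      refine closed_UH S' j x ⟨hxp, by omega⟩ y ⟨hyp, by omega⟩ z hz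
    refine Or.inr ⟨hz1.1, ?_⟩
    obtain ⟨m, a, b, hm, ha, hb, hle, he⟩ := btwn_le S' hxp.1 hyp.1 hz
    have h3 : m * ht z = a * ht x + b * ht y := by rw [← ht_smul, he, ht_add, ht_smul, ht_smul]
    have h4 : (j : ℤ) + 2 ≤ ht x ∨ (j : ℤ) + 2 ≤ ht y := by
      by_contra hcon
      push Not at hcon
      apply hxy
      constructor
      · rcases hx with rfl | ⟨-, hx⟩
        · rfl
        · push_cast at hx; omega
      · rcases hy with rfl | ⟨-, hy⟩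
        · rfl
        · push_cast at hy; omega
    have h5 : (a + b) * ((j : ℤ) + 1) < a * ht x + b * ht y := by
      rcases h4 with h4 | h4
      · have h6 := mul_le_mul_of_nonneg_left h4 ha.le
        have h7 := mul_le_mul_of_nonneg_left hyh hb.le
        nlinarith
      · have h6 := mul_le_mul_of_nonneg_left h4 hb.le
        have h7 := mul_le_mul_of_nonneg_left hxh ha.le
        nlinarith
    have h6 : m * ((j : ℤ) + 1) ≤ (a + b) * ((j : ℤ) + 1) := mul_le_mul_of_nonneg_right hle (by positivity)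
    have h7 : m * ((j : ℤ) + 1) < m * ht z := by rw [h3]; linarith
    have h8 := lt_of_mul_lt_mul_left h7 hm.le
    push_cast
    exact h8
  have h3 := Nodes.Unique.inf_eq R (S := {r}) (Set.singleton_subset_iff.2 hr) (fun x hx => (hQpos x hx).1) h1 h2
  have h8 : z ∈ RGD.Sup X Q := by
    have h6 : UH cs h X (j + 1) ≤ RGD.Sup X Q := RGD.Sup_mono fun x hx => Or.inr hx
    have h7 : z' ∈ RGD.Sup X Q := RGD.le_Sup (S := Q) (Or.inl rfl) hz'
    have h5 := mul_mem (h6 hzz) (inv_mem h7)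
    rwa [mul_inv_cancel_right] at h5
  have h4 : z ∈ RGD.Sup X {r} ⊓ RGD.Sup X Q := ⟨RGD.le_Sup (Set.mem_singleton r) hz, h8⟩
  have h5 : ({r} : Set (I → ℤ)) ∩ Q = ∅ := by
    ext x
    simp only [Set.mem_inter_iff, Set.mem_singleton_iff, Set.mem_empty_iff_false, iff_false]
    rintro ⟨rfl, h6 | ⟨-, h6⟩⟩
    · exact hne h6
    · push_cast at h6; omega
  rw [h3, h5, Sup_empty] at h4
  exact Subgroup.mem_bot.1 h4

theorem ht_comp (σ : Equiv.Perm I) (r : I → ℤ) : ht (r ∘ σ.symm) = ht r := by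
  unfold ht
  exact Equiv.sum_comp σ.symm r

omit [Finite K] [Nonempty I] [CharP K 2] in
theorem pos_comp {σ : Equiv.Perm I} (hσ : ∀ i j, M (σ i) (σ j) = M i j) (hA : ∀ i j, A (σ i) (σ j) = A i j)
    {r : I → ℤ} (hr : r ∈ RGD.Pos cs h) : r ∘ σ.symm ∈ RGD.Pos cs h :=
  ⟨isRoot_comp hσ hA hr.1, fun i => hr.2 _⟩

include H L

/-- **An element commuting with a root element** preserves the root, and the factor from `U` centralises it. -/
theorem comm_root [Finite Y] {φ : MulAut Y} (hφ : Fix φ (RGD.Sup X (RGD.Pos cs h))) {r : I → ℤ} (hr : r ∈ RGD.Pos cs h)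
    {a : K} (ha : a ≠ 0) (hc : φ (e r a) = e r a) : ∃ u ∈ RGD.Sup X (RGD.Pos cs h),
      Tau T X (chS e) A (MulAut.conj u * φ) (l φ).1 (l φ).2 ∧ (∀ k : ℕ, φ ^ k = 1 → (MulAut.conj u * φ) ^ k = 1) ∧
      r ∘ (l φ).1.symm = r ∧ (∀ v ∈ X r, u * v = v * u) ∧ ∀ t, φ (e r (a * t)) = e r (a * (l φ).2 t) := by
  have : Fact (Nat.Prime 2) := ⟨Nat.prime_two⟩
  obtain ⟨u, hu, B, hp⟩ := exists_frameU H L hφ
  obtain ⟨c, hc0, hβ⟩ := Tau.root R (coords S' H.gen) B hr.1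
  have hM := matrix_of H L φ
  have hr' : r ∘ (l φ).1.symm ∈ RGD.Pos cs h := pos_comp hM (H.cart _ hM) hr
  obtain ⟨j, hj⟩ : ∃ j : ℕ, ht r = j + 1 := ⟨(ht r - 1).toNat, by have := ht_pos hr; omega⟩
  have hj' : ht (r ∘ (l φ).1.symm) = j + 1 := by rw [ht_comp, hj]
  have h1 : u * e r a * u⁻¹ = e (r ∘ (l φ).1.symm) (c * (l φ).2 a) := by
    rw [← hβ, MulAut.mul_apply, hc, MulAut.conj_apply]
  have h2 : e (r ∘ (l φ).1.symm) (c * (l φ).2 a) * e r a ∈ UH cs h X (j + 1) := by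
    have h3 : e r a ∈ UH cs h X j :=
      RGD.le_Sup (S := {r | r ∈ RGD.Pos cs h ∧ (j : ℤ) < ht r}) ⟨hr, by omega⟩ (S'.mem hr.1 _)
    have h4 := UH_comm S' (by rw [UH_zero]; exact hu) h3
    rwa [commutatorElement_def, h1, S'.data.inv hr.1] at h4
  have hrr : r ∘ (l φ).1.symm = r := by
    by_contra hne
    have h3 := mul_mem_UH S' hr' hr hne hj' hj (S'.mem hr'.1 _) (S'.mem hr.1 _) h2
    have h4 := S'.data.inj _ hr'.1 _ h3
    rcases mul_eq_zero.1 h4 with h5 | h5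
    · exact hc0 h5
    · exact ha (by simpa using h5)
  rw [hrr] at h1 h2 hβ
  have h3 : c * (l φ).2 a = a := by
    rw [← S'.data.add r hr.1] at h2
    have h4 := X_inf_UH S' hr (by rw [hj]; push_cast; exact le_rfl) (S'.mem hr.1 _) h2
    have h5 := S'.data.inj r hr.1 _ h4
    have h6 := S'.data.two a
    exact add_right_cancel (h5.trans h6.symm)
  rw [h3] at h1
  have h4 : u * e r a = e r a * u := by
    calc u * e r a = u * e r a * u⁻¹ * u := by group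
      _ = _ := by rw [h1]
  have h5 : ∀ v ∈ X r, u * v = v * u := fun v hv =>
    comm_all S' H.gen hr.1 (S'.mem hr.1 a) (S'.data.ne_one hr.1 ha) h4 hv
  refine ⟨u, hu, B, hp, hrr, h5, fun t => ?_⟩
  have h6 := hβ (a * t)
  rw [MulAut.mul_apply, MulAut.conj_apply] at h6
  have h7 : φ (e r (a * t)) = u⁻¹ * e r (c * (l φ).2 (a * t)) * u := by rw [← h6]; group
  rw [h7, mul_assoc, ← h5 _ (S'.mem hr.1 _), inv_mul_cancel_left, map_mul, ← mul_assoc, h3]

/-- **(star+)**: an element without field part commuting with a root element centralises the root group. -/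
theorem star_plus [Finite Y] (D : Std cs h X K₀ S f) {y : G} (hy : y ∈ S) {φ : MulAut Y} (hφ : Acts f y φ)
    (hl : (l φ).2 = 1) {r : I → ℤ} (hr : r ∈ RGD.Pos cs h) {a : K} (ha : a ≠ 0) (hc : f (e r a) * y = y * f (e r a))
    {v : Y} (hv : v ∈ X r) : f v * y = y * f v := by
  have h1 : φ (e r a) = e r a := by
    apply D.inj
    rw [hφ, ← hc, mul_inv_cancel_right]
  obtain ⟨-, -, -, -, -, -, h2⟩ := comm_root H L (D.fix hy hφ) hr ha h1
  obtain ⟨b, rfl⟩ := (S'.mem_X r hr.1 v).1 hv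
  have h3 := h2 (a⁻¹ * b)
  rw [hl, RingAut.one_apply, mul_inv_cancel_left₀ ha] at h3
  have h4 := hφ (e r b)
  rw [h3] at h4
  calc f (e r b) * y = (y * f (e r b) * y⁻¹) * y := by rw [← h4]
    _ = y * f (e r b) := by group

end StarP

/-! ### Simply laced -/

section SL

theorem cpr_comp [Finite W] {σ : Equiv.Perm I} (hσ : ∀ i j, M (σ i) (σ j) = M i j)
    (hA : ∀ i j, A (σ i) (σ j) = A i j) (x : I → ℤ) {y : I → ℤ} (hy : IsRoot cs h y) :
    cpr cs h (x ∘ σ.symm) (y ∘ σ.symm) = cpr cs h x y := by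
  obtain ⟨w, i, rfl⟩ := hy
  rw [← rep_hat (cs := cs) (h := h) hσ hA, sr_comp, cpr_rep_sr, cpr_rep_sr, ← map_inv,
    rep_hat (cs := cs) (h := h) hσ hA, pairing_comp hA]

/-- **The hypotheses in the simply laced case.** -/
theorem hyp_of_SL [Finite W] {R : RGD cs h p T n X} (hG1 : RGD.Sup X {x | IsRoot cs h x} = ⊤) (hN : NoCent cs h T X)
    (hconn : ∀ J : Set I, J.Nonempty → J ≠ Set.univ → ∃ a ∈ J, ∃ b, b ∉ J ∧ M a b ≠ 2)
    (h4 : ∀ i j, M i j ≠ 4) (h6 : ∀ i j, M i j ≠ 6) : Hyp cs h T X := by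
  have hl : ∀ i j, i ≠ j → M i j = 2 ∨ M i j = 3 := by
    intro i j hij
    rcases h.rel i j hij with ⟨h1, -⟩ | ⟨h1, -⟩ | ⟨h1, -⟩ | ⟨h1, -⟩
    · exact Or.inl h1
    · exact Or.inr h1
    · exact absurd h1 (h4 i j)
    · exact absurd h1 (h6 i j)
  have hs : RgdSL.SL cs h := fun _ _ hx hy => Nodes.SimplyLaced.cpr_symm cs h h4 h6 hx hy
  have hO : ∀ r, IsRoot cs h r → RgdOdd.Orth cs h r := fun r hr => orth_of h4 h6 (by
    intro J hJ hJc
    obtain ⟨a, ha, b, hb, hab⟩ := hconn J hJ (fun h0 => by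
      rw [h0, Set.compl_univ] at hJc
      exact Set.not_nonempty_empty hJc)
    exact ⟨a, ha, b, hb, hab⟩) hr
  refine ⟨hG1, hN, hconn, fun σ hσ => cartan_of_laced h hl hσ, fun σ hσ r hr => ?_⟩
  have hA := cartan_of_laced h hl hσ
  have hinv : ∀ x : I → ℤ, (x ∘ σ) ∘ σ.symm = x := fun x => by
    ext i
    simp
  have hσ' : ∀ i j, M (σ⁻¹ i) (σ⁻¹ j) = M i j := by
    have h1 : ∀ k, σ (σ⁻¹ k) = k := fun k => σ.apply_symm_apply k
    intro i j
    rw [← hσ, h1, h1]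
  refine RgdAutFacts.dom_unique hs hO ⟨isRoot_comp hσ hA hr.1, fun a ha => ?_⟩ hr
  have h1 : a ∘ σ ∈ RGD.Pos cs h := by
    have := pos_comp (cs := cs) (h := h) hσ' (cartan_of_laced h hl hσ') ha
    exact this
  rw [← hinv a, cpr_comp hσ hA _ h1.1]
  exact hr.2 _ h1

end SL

end Cfsg.Agent.KFacts.SysFree
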