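import Mathlib
import Cfsg.Agent.KFacts.SysFree
import Cfsg.Agent.OddHalf.D4.Free.FiltLine

/-!
# (k3) for `Sys` without diagram symmetries (ODD, D4, free pairs)

* `gen_map`, `line_root` : the root lines `f(X r)`; `fix_root` : an element of `S` without field part whose diagram
  symmetry fixes `r` acts trivially on `f(X r)` modulo `f(UH (ht r))`;
* `fltS_of_rigid`, `line_of_rigid` : `FltS` and (k3) if the diagram has no symmetries;
* `bFacts_of_rigid` : `BFacts` for `|F_q| ≥ 8`; with (c1)-(c4) as input for `|F_q| ≥ 4`.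
-/

set_option autoImplicit false
set_option linter.unusedSectionVars false

namespace Cfsg.Agent.KFacts.SysFltS

open CoxeterSystem Cfsg.Agent.ChevalleyStructure.CoxeterGeom Cfsg.Agent.Tits.Roots Cfsg.Agent.Tits.Core
  Cfsg.Agent.Tits.Exchange Cfsg.Agent.Nodes.Reps Cfsg.Agent.Nodes.BNOf Cfsg.Agent.Nodes.StabComb
  Cfsg.Agent.Nodes.Bruhat Cfsg.Agent.Nodes.OppDec Cfsg.Agent.Nodes.LeviDec Cfsg.Agent.Nodes.NormalForm
  Cfsg.Agent.Nodes.Coroot Cfsg.Agent.Nodes.PosPair Cfsg.Agent.KFacts.RgdPar Cfsg.Agent.KFacts.RgdTI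
  Cfsg.Agent.KFacts.RgdOpp Cfsg.Agent.KFacts.RgdAut Cfsg.Agent.KFacts.RgdDiag Cfsg.Agent.KFacts.RgdRigid
  Cfsg.Agent.KFacts.RgdCent Cfsg.Agent.KFacts.RgdKap Cfsg.Agent.KFacts.RgdField Cfsg.Agent.KFacts.RgdTau
  Cfsg.Agent.KFacts.RgdSys Cfsg.Agent.KFacts.RgdOver Cfsg.Agent.KFacts.RgdPure Cfsg.Agent.KFacts.ChevTwo
  Cfsg.Agent.KFacts.SysOut Cfsg.Agent.KFacts.SysLine Cfsg.Agent.KFacts.SysFlt Cfsg.Agent.KFacts.SLRow.Diag
  Cfsg.Agent.KFacts.SysFree Cfsg.Agent.OddHalf.D4.Free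
open scoped commutatorElement

variable {I W Y K : Type*} [Fintype I] [DecidableEq I] [Group W] [Group Y] [Field K] {M : CoxeterMatrix I}
variable {cs : CoxeterSystem M W} {A : I → I → ℤ} {h : IsCartan M A} {e : (I → ℤ) → K → Y}
  {T : Subgroup Y} {n : I → Y} {X : (I → ℤ) → Subgroup Y}

/-- the root lines of height `j + 1` -/
def RL {G : Type*} [Group G] (cs : CoxeterSystem M W) (h : IsCartan M A) (X : (I → ℤ) → Subgroup Y) (f : Y →* G)
    (j : ℕ) : Set (Subgroup G) := {l | ∃ r, r ∈ RGD.Pos cs h ∧ ht r = j + 1 ∧ l = (X r).map f}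

section

variable {G : Type*} [Group G] [Finite W] {R : RGD cs h 2 T n X} (S' : Sys R e) (f : Y →* G)

include S'

theorem gen_map (j : ℕ) {u : G} (hu : u ∈ (UH cs h X j).map f) :
    u ∈ Subgroup.closure ({x | ∃ l ∈ RL cs h X f j, x ∈ l} ∪ (((UH cs h X (j + 1)).map f : Subgroup G) : Set G)) := by
  obtain ⟨u, hu, rfl⟩ := hu
  have h1 : Subgroup.closure ({x | ∃ r, r ∈ RGD.Pos cs h ∧ ht r = j + 1 ∧ x ∈ X r} ∪
      (UH cs h X (j + 1) : Set Y)) ≤ (Subgroup.closure ({x | ∃ l ∈ RL cs h X f j, x ∈ l} ∪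
        (((UH cs h X (j + 1)).map f : Subgroup G) : Set G))).comap f := by
    rw [Subgroup.closure_le]
    rintro x (⟨r, hr, hrj, hx⟩ | hx)
    · exact Subgroup.subset_closure (Or.inl ⟨_, ⟨r, hr, hrj, rfl⟩, x, hx, rfl⟩)
    · exact Subgroup.subset_closure (Or.inr ⟨x, hx, rfl⟩)
  exact h1 (UH_gen S' j hu)

end

section

variable {G : Type*} [Group G] [Finite G] {K₀ S : Subgroup G} [Finite W] [Finite K] [Nonempty I] [CharP K 2]
  {R : RGD cs h 2 T n X} {S' : Sys R e} (H : Hyp cs h T X) {l : MulAut Y →* Equiv.Perm I × (K ≃+* K)}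
  (L : IsOut S' l) {f : Y →* G}

include H L

theorem not_mem_of_ne [Finite Y] (D : Std cs h X K₀ S f) {r : I → ℤ} (hr : r ∈ RGD.Pos cs h) {j : ℕ}
    (hj : ht r = j + 1) {a : K} (ha : a ≠ 0) : f (e r a) ∉ (UH cs h X (j + 1)).map f := by
  rintro ⟨y, hy, he⟩
  have h2 := D.inj he
  subst h2
  exact S'.data.ne_one hr.1 ha (X_inf_UH S' hr (by rw [hj]; push_cast; exact le_rfl) (S'.mem hr.1 a) hy)

/-- **The root lines.** -/
theorem line_root [Finite Y] (hq : 3 ≤ Nat.card K) (D : Std cs h X K₀ S f) {r : I → ℤ} (hr : r ∈ RGD.Pos cs h) {j : ℕ}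
    (hj : ht r = j + 1) : IsLineF K₀ S ((UH cs h X (j + 1)).map f) ((X r).map f) where
  sq := by
    rintro _ ⟨x, hx, rfl⟩
    obtain ⟨a, rfl⟩ := (S'.mem_X r hr.1 x).1 hx
    rw [← map_mul, S'.data.sq hr.1, map_one]
    exact one_mem _
  pair := by
    obtain ⟨b, hb0, hb1⟩ : ∃ b : K, b ≠ 0 ∧ b ≠ 1 := by
      by_contra hcon
      push Not at hcon
      classical
      have := Fintype.ofFinite K
      have h4 : (Finset.univ : Finset K) ⊆ {0, 1} := by
        intro b _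
        by_cases hb : b = 0
        · simp [hb]
        · simp [hcon b hb]
      have h5 := Finset.card_le_card h4
      have h6 : ({0, 1} : Finset K).card ≤ 2 := Finset.card_le_two
      rw [Finset.card_univ, ← Nat.card_eq_fintype_card] at h5
      omega
    refine ⟨_, ⟨_, S'.mem hr.1 1, rfl⟩, _, ⟨_, S'.mem hr.1 b, rfl⟩, not_mem_of_ne H L D hr hj one_ne_zero,
      not_mem_of_ne H L D hr hj hb0, ?_⟩
    rw [← map_inv, ← map_mul, S'.data.inv hr.1, ← S'.data.add r hr.1]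
    refine not_mem_of_ne H L D hr hj fun h4 => hb1 ?_
    have h5 := S'.data.two b
    exact (add_right_cancel (h4.trans h5.symm)).symm
  star := by
    rintro y hy hyz - _ ⟨x, hx, rfl⟩ hxD hc _ ⟨v, hv, rfl⟩
    obtain ⟨φ, hφ⟩ := D.exists_acts (D.le hy)
    obtain ⟨a, rfl⟩ := (S'.mem_X r hr.1 x).1 hx
    refine star_plus H L D hy hφ (D.field_of_cz H L hyz hφ) hr (a := a) ?_ hc hv
    rintro rfl
    apply hxD
    rw [S'.data.zero hr.1, map_one]
    exact one_mem _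

/-- **The action on a root group fixed by the diagram symmetry.** -/
theorem fix_root [Finite Y] (D : Std cs h X K₀ S f) {r : I → ℤ} (hr : r ∈ RGD.Pos cs h) {j : ℕ} (hj : ht r = j + 1)
    {s : G} (hs : s ∈ S) (hsz : s ∈ cz K₀ S) {φ : MulAut Y} (hφ : Acts f s φ) (hrσ : r ∘ (l φ).1.symm = r) {x : G}
    (hx : x ∈ (X r).map f) : s * x * s⁻¹ * x⁻¹ ∈ (UH cs h X (j + 1)).map f := by
  have : Fact (Nat.Prime 2) := ⟨Nat.prime_two⟩
  obtain ⟨x, hx, rfl⟩ := hx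
  obtain ⟨u, hu, B, hp⟩ := exists_frameU H L (D.fix hs hφ)
  obtain ⟨k, hk⟩ := D.exists_pow hs hφ
  obtain ⟨a₀, ha₀, h1⟩ := Tau.pure R (coords S' H.gen) B (hp _ hk) hr.1 hrσ
  obtain ⟨a, rfl⟩ := (S'.mem_X r hr.1 x).1 hx
  have h2 := h1 (a₀⁻¹ * a)
  rw [D.field_of_cz H L hsz hφ, RingAut.one_apply, mul_inv_cancel_left₀ ha₀, MulAut.mul_apply, MulAut.conj_apply] at h2
  have h3 : φ (e r a) = u⁻¹ * e r a * u := by
    conv_rhs => rw [← h2]
    group
  rw [← hφ, h3, ← map_inv, ← map_mul]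
  refine ⟨_, ?_, rfl⟩
  have h4 : e r a ∈ UH cs h X j :=
    RGD.le_Sup (S := {r | r ∈ RGD.Pos cs h ∧ (j : ℤ) < ht r}) ⟨hr, by omega⟩ (S'.mem hr.1 _)
  have h5 := UH_comm S' (by rw [UH_zero]; exact inv_mem hu) h4
  rwa [commutatorElement_def, inv_inv] at h5

/-- **`FltS` without diagram symmetries.** -/
theorem fltS_of_rigid' [Finite Y] (hq : 3 ≤ Nat.card K) (D : Std cs h X K₀ S f)
    (hrig : ∀ σ : Equiv.Perm I, (∀ i j, M (σ i) (σ j) = M i j) → σ = 1) :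
    FltS K₀ S (fun j => (UH cs h X j).map f) (RL cs h X f) where
  zero := by
    show (UH cs h X 0).map f = _
    rw [UH_zero, D.inf]
  bot := by
    obtain ⟨n, hn⟩ := UH_bot (cs := cs) (h := h) (X := X)
    exact ⟨n, by rw [hn, Subgroup.map_bot]⟩
  le j := Subgroup.map_mono (UH_le (Nat.le_succ j))
  gen j _ hu := gen_map S' f j hu
  line_le := by
    rintro j _ ⟨r, hr, hrj, rfl⟩
    exact Subgroup.map_mono (RGD.le_Sup (S := {r | r ∈ RGD.Pos cs h ∧ (j : ℤ) < ht r}) ⟨hr, by omega⟩)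
  line := by
    rintro j _ ⟨r, hr, hrj, rfl⟩
    exact line_root H L hq D hr hrj
  fix := by
    rintro j _ ⟨r, hr, hrj, rfl⟩ x hx s hs hsz
    obtain ⟨φ, hφ⟩ := D.exists_acts (D.le hs)
    refine fix_root H L D hr hrj hs hsz hφ ?_ hx
    rw [hrig _ (matrix_of H L φ)]
    rfl

omit L

theorem fltS_of_rigid (S' : Sys R e) (hq : 3 ≤ Nat.card K)
    (hrig : ∀ σ : Equiv.Perm I, (∀ i j, M (σ i) (σ j) = M i j) → σ = 1) (hf : Function.Injective f)
    (hK : f.range = K₀) (hS : Good K₀ S) : ∃ U L, FltS K₀ S U L := by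
  have hY : Finite Y := Finite.of_injective f hf
  obtain ⟨f', D, -⟩ := exists_std' H S' hf hK hS
  obtain ⟨l, L⟩ := exists_isOut S' H
  exact ⟨_, _, fltS_of_rigid' H L hq D hrig⟩

/-- **`BFacts`** from (k3) and (k5). -/
theorem bFacts_of (S' : Sys R e) (hM : DTwo M) (hf : Function.Injective f) (hK : f.range = K₀)
    (h3 : ∀ S, Good K₀ S → ∃ U L, FltS K₀ S U L) (h5 : Out5 K₀) : BFacts K₀ where
  sq _ hS _ hz := k0 H S' hf hK hS hz
  cyc _ hS _ ha _ hb haa hbb := k1 H S' hf hK hS ha hb haa hbb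
  field _ _ hS hS₁ _ hx hxz := k2 H S' hf hK hS hS₁ hx hxz
  line := line_of_fltS h3
  graph _ hS _ ha _ hb haz hbz := k4 H S' hM hf hK hS ha hb haz hbz
  out := h5

/-- (k5) for `|F_q| ≥ 8` -/
theorem out5_of_card (S' : Sys R e) (hq : 4 < Nat.card K) (hf : Function.Injective f)
    (hK : f.range = K₀) : Out5 K₀ :=
  Or.inl fun _ hS _ hx hxz => c1 H S' hq hf hK hS hx hxz

/-- **`BFacts` without diagram symmetries**, up to (k5) -/
theorem bFacts_of_rigid (S' : Sys R e) (hq : 3 ≤ Nat.card K)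
    (hrig : ∀ σ : Equiv.Perm I, (∀ i j, M (σ i) (σ j) = M i j) → σ = 1) (hf : Function.Injective f)
    (hK : f.range = K₀) (h5 : Out5 K₀) : BFacts K₀ :=
  bFacts_of H S' (fun _ _ hP _ hσ _ _ h1 _ => absurd (hrig _ (hP _ hσ)) h1) hf hK
    (fun _ hS => fltS_of_rigid H S' hq hrig hf hK hS) h5

end

end Cfsg.Agent.KFacts.SysFltS
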