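import Mathlib
import Cfsg.Agent.KFacts.SysFree

/-!
# `BFacts` for `Sys` (ODD, D4, free pairs): (k5)

* `layer` : an automorphism with a field part acts nontrivially on every root group modulo the next layer;
* `c3` : simply laced, rank at least three, at most four elements: the third alternative of `Out5`;
* `c1_two` : two different dominant roots: the first alternative of `Out5`;
* `out5_of_SL`, `out5_of_two` : (k5) for all fields.
-/

set_option autoImplicit false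
set_option linter.unusedSectionVars false

namespace Cfsg.Agent.KFacts.SysFour

open CoxeterSystem Cfsg.Agent.ChevalleyStructure.CoxeterGeom Cfsg.Agent.Tits.Roots Cfsg.Agent.Tits.Core
  Cfsg.Agent.Tits.Exchange Cfsg.Agent.Nodes.Reps Cfsg.Agent.Nodes.BNOf Cfsg.Agent.Nodes.StabComb
  Cfsg.Agent.Nodes.Bruhat Cfsg.Agent.Nodes.OppDec Cfsg.Agent.Nodes.LeviDec Cfsg.Agent.Nodes.NormalForm
  Cfsg.Agent.Nodes.Coroot Cfsg.Agent.Nodes.PosPair Cfsg.Agent.KFacts.RgdPar Cfsg.Agent.KFacts.RgdTI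
  Cfsg.Agent.KFacts.RgdOpp Cfsg.Agent.KFacts.RgdAut Cfsg.Agent.KFacts.RgdDiag Cfsg.Agent.KFacts.RgdRigid
  Cfsg.Agent.KFacts.RgdCent Cfsg.Agent.KFacts.RgdKap Cfsg.Agent.KFacts.RgdField Cfsg.Agent.KFacts.RgdTau
  Cfsg.Agent.KFacts.RgdSys Cfsg.Agent.KFacts.RgdOver Cfsg.Agent.KFacts.RgdPure Cfsg.Agent.KFacts.ChevTwo
  Cfsg.Agent.KFacts.SysOut Cfsg.Agent.KFacts.SysLine Cfsg.Agent.KFacts.SysFlt Cfsg.Agent.KFacts.SysFree
  Cfsg.Agent.OddHalf.D4.Free Cfsg.Agent.OddHalf.D4.Basic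
open scoped commutatorElement

variable {I W Y K : Type*} [Fintype I] [DecidableEq I] [Group W] [Group Y] [Field K] {M : CoxeterMatrix I}
variable {cs : CoxeterSystem M W} {A : I → I → ℤ} {h : IsCartan M A} {e : (I → ℤ) → K → Y}
  {p : ℕ} {T : Subgroup Y} {n : I → Y} {X : (I → ℤ) → Subgroup Y}

/-! ### The top of the root system -/

/-- `ρ` is a positive root of maximal height `j + 1`. -/
structure Top (cs : CoxeterSystem M W) (h : IsCartan M A) (ρ : I → ℤ) (j : ℕ) : Prop where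
  pos : ρ ∈ RGD.Pos cs h
  eq : ht ρ = j + 1
  max : ∀ a ∈ RGD.Pos cs h, ht a ≤ j + 1

theorem exists_top' [Finite W] [Nonempty I] (cs : CoxeterSystem M W) (h : IsCartan M A) :
    ∃ ρ j, Top cs h ρ j := by
  obtain ⟨i⟩ := ‹Nonempty I›
  have hfin : (RGD.Pos cs h).Finite := (RGD.finite_roots (cs := cs) (h := h)).subset fun x hx => hx.1
  obtain ⟨r, hr, hmax⟩ := Set.exists_max_image (RGD.Pos cs h) ht hfin ⟨sr i, isRoot_sr cs h i, sr_nonneg i⟩
  have h1 := ht_pos hr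
  have h2 : ht r = ((ht r - 1).toNat : ℤ) + 1 := by omega
  exact ⟨r, (ht r - 1).toNat, hr, h2, fun a ha => by have := hmax a ha; omega⟩

theorem ht_neg (x : I → ℤ) : ht (-x) = -ht x := by
  have := ht_smul (-1) x
  rw [neg_smul, one_smul] at this
  rw [this]; ring

theorem ht_sub (x y : I → ℤ) : ht (x - y) = ht x - ht y := by
  rw [sub_eq_add_neg, ht_add, ht_neg]; ring

/-- a root of positive height is positive -/
theorem pos_of_ht {x : I → ℤ} (hx : IsRoot cs h x) (h0 : 0 < ht x) : x ∈ RGD.Pos cs h := by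
  refine ⟨hx, ?_⟩
  rcases hx.pos_or_neg with h1 | h1
  · exact h1
  · exfalso
    have h2 := ht_pos (cs := cs) (h := h) (x := -x) ⟨hx.neg, neg_nonneg.2 h1⟩
    rw [ht_neg] at h2
    omega

/-- the height of a root is not zero -/
theorem ht_ne_zero {x : I → ℤ} (hx : IsRoot cs h x) : ht x ≠ 0 := by
  intro h0
  rcases hx.pos_or_neg with h1 | h1
  · have := ht_pos (cs := cs) (h := h) (x := x) ⟨hx, h1⟩
    omega
  · have := ht_pos (cs := cs) (h := h) (x := -x) ⟨hx.neg, neg_nonneg.2 h1⟩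
    rw [ht_neg] at this
    omega

section Top

variable {ρ : I → ℤ} {j : ℕ} (hT : Top cs h ρ j)

include hT

theorem Top.abs {a : I → ℤ} (ha : IsRoot cs h a) : ht a ≤ j + 1 := by
  by_contra hcon
  push Not at hcon
  have := hT.max a (pos_of_ht ha (by omega))
  omega

theorem Top.star [Finite W] : ρ ∈ Star cs h (RGD.Pos cs h) := by
  refine ⟨hT.pos.1, fun a ha => ?_⟩
  by_contra hneg
  push Not at hneg
  have h1 := isRoot_refl cs h hT.pos.1 ha.1
  have h2 : ht (ρ - cpr cs h ρ a • a) = ht ρ - cpr cs h ρ a * ht a := by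
    rw [ht_sub, ht_smul]
  have h3 := ht_pos ha
  have h4 : 0 < -cpr cs h ρ a * ht a := mul_pos (by omega) h3
  have h5 := hT.abs h1
  rw [h2, hT.eq] at h5
  linarith

theorem Top.UH_bot : UH cs h X (j + 1) = ⊥ := by
  rw [eq_bot_iff]
  refine RGD.Sup_le fun x hx => ?_
  exfalso
  have h2 := hT.max x hx.1
  have h3 := hx.2
  push_cast at h3
  omega

/-- Height at least three in the simply laced case of rank at least three. -/
theorem Top.two_le [Finite W] (hs : RgdSL.SL cs h) (hnb : ∀ r, IsRoot cs h r → ∃ b, IsRoot cs h b ∧ cpr cs h r b = 1)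
    (hth : ∀ r s, IsRoot cs h r → IsRoot cs h s → cpr cs h r s = 1 →
      ∃ c, IsRoot cs h c ∧ cpr cs h c r = 1 ∧ cpr cs h c s = 1) : 2 ≤ j := by
  obtain ⟨b, hb, hb1⟩ := hnb ρ hT.pos.1
  -- a root pairing to one with `ρ` is positive and smaller
  have key : ∀ c, IsRoot cs h c → cpr cs h ρ c = 1 → 1 ≤ ht c ∧ ht c ≤ j := by
    intro c hc hc1
    have h1 := RgdSL.isRoot_sub hT.pos.1 hc hc1
    have h2 := hT.abs h1
    have h3 := hT.abs h1.neg
    have h4 := ht_ne_zero h1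
    have h5 := hT.abs hc
    have h6 := ht_ne_zero hc
    rw [ht_sub, hT.eq] at h2 h4
    rw [ht_neg, ht_sub, hT.eq] at h3
    omega
  obtain ⟨h1, h2⟩ := key b hb hb1
  by_contra hcon
  have h3 : ht b = 1 := by omega
  obtain ⟨c, hc, hc1, hc2⟩ := hth ρ b hT.pos.1 hb hb1
  rw [hs c ρ hc hT.pos.1] at hc1
  obtain ⟨h4, h5⟩ := key c hc hc1
  have h6 := ht_ne_zero (RgdSL.isRoot_sub hc hb hc2)
  rw [ht_sub] at h6
  omega

/-- A root of height `j`. -/
theorem Top.exists_next [Finite W] (hs : RgdSL.SL cs h) (hj : 1 ≤ j) : ∃ r ∈ RGD.Pos cs h, ht r = j := by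
  have := Fintype.ofFinite W
  obtain ⟨i, hi, hp⟩ := exists_pairing_pos (cs := cs) (h := h) hT.pos.2 hT.pos.1.ne_zero
  rw [← cpr_sr cs h] at hp
  have h1 : ht (sr i : I → ℤ) = 1 := by
    unfold ht
    rw [Finset.sum_eq_single i]
    · simp [sr]
    · intro b _ hb
      simp [sr, hb]
    · intro h0
      exact absurd (Finset.mem_univ i) h0
  have h2 : ρ ≠ sr i := by
    intro h0
    have := hT.eq
    rw [h0, h1] at this
    omega
  have h3 : ρ ≠ -sr i := by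
    intro h0
    have := hT.eq
    rw [h0, ht_neg, h1] at this
    omega
  have h4 := (hs.abs_le hT.pos.1 (isRoot_sr cs h i) h2 h3).2
  have h5 := RgdSL.isRoot_sub hT.pos.1 (isRoot_sr cs h i) (by omega)
  have h6 : ht (ρ - sr i) = j := by rw [ht_sub, hT.eq, h1]; ring
  exact ⟨ρ - sr i, pos_of_ht h5 (by omega), h6⟩

end Top

/-! ### The layers -/

section Layer

variable [Finite W] [Finite Y] [Finite K] [Nonempty I] [CharP K 2] {R : RGD cs h 2 T n X}
  {S : Sys R e} (H : Hyp cs h T X)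
  {l : MulAut Y →* Equiv.Perm I × (K ≃+* K)} (L : IsOut S l)

include H L

theorem map_UH {φ : MulAut Y} (hφ : Fix φ (RGD.Sup X (RGD.Pos cs h))) {j : ℕ} {v : Y} (hv : v ∈ UH cs h X j) :
    φ v ∈ UH cs h X j := by
  have : Fact (Nat.Prime 2) := ⟨Nat.prime_two⟩
  obtain ⟨u, hu, B, -⟩ := exists_frameU H L hφ
  have hM := matrix_of H L φ
  have h1 : UH cs h X j ≤ (UH cs h X j).comap (MulAut.conj u * φ : MulAut Y).toMonoidHom := by
    refine RGD.Sup_le fun r hr w hw => ?_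
    obtain ⟨t, rfl⟩ := (S.mem_X r hr.1.1 w).1 hw
    obtain ⟨c, -, hβ⟩ := Tau.root R (coords S H.gen) B hr.1.1
    show (MulAut.conj u * φ : MulAut Y) (e r t) ∈ UH cs h X j
    rw [hβ]
    have hr' : r ∘ (l φ).1.symm ∈ RGD.Pos cs h := pos_comp hM (H.cart _ hM) hr.1
    exact RGD.le_Sup (S := {r | r ∈ RGD.Pos cs h ∧ (j : ℤ) < ht r}) ⟨hr', by rw [ht_comp]; exact hr.2⟩
      (S.mem hr'.1 _)
  have h2 : u * φ v * u⁻¹ ∈ UH cs h X j := h1 hv
  have hu' : u ∈ UH cs h X 0 := by rw [UH_zero]; exact hu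
  have h3 := UH_conj S (inv_mem hu') h2
  have h4 : u⁻¹ * (u * φ v * u⁻¹) * u⁻¹⁻¹ = φ v := by group
  rwa [h4] at h3

/-- **The action on the layers.** -/
theorem layer {φ : MulAut Y} (hφ : Fix φ (RGD.Sup X (RGD.Pos cs h))) (hl : (l φ).2 ≠ 1) {r : I → ℤ}
    (hr : r ∈ RGD.Pos cs h) {j : ℕ} (hj : ht r = j + 1) : ∃ t, φ (e r t) * (e r t)⁻¹ ∉ UH cs h X (j + 1) := by
  have : Fact (Nat.Prime 2) := ⟨Nat.prime_two⟩
  by_contra hcon
  push Not at hcon
  obtain ⟨u, hu, B, -⟩ := exists_frameU H L hφ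
  obtain ⟨c, hc0, hβ⟩ := Tau.root R (coords S H.gen) B hr.1
  have hM := matrix_of H L φ
  have hr' : r ∘ (l φ).1.symm ∈ RGD.Pos cs h := pos_comp hM (H.cart _ hM) hr
  have hj' : ht (r ∘ (l φ).1.symm) = j + 1 := by rw [ht_comp, hj]
  have hu' : u ∈ UH cs h X 0 := by rw [UH_zero]; exact hu
  have h1 : ∀ t, e (r ∘ (l φ).1.symm) (c * (l φ).2 t) * e r t ∈ UH cs h X (j + 1) := by
    intro t
    have h2 : e (r ∘ (l φ).1.symm) (c * (l φ).2 t) ∈ UH cs h X j :=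
      RGD.le_Sup (S := {r | r ∈ RGD.Pos cs h ∧ (j : ℤ) < ht r}) ⟨hr', by omega⟩ (S.mem hr'.1 _)
    have h3 := UH_comm S (inv_mem hu') h2
    have h4 : u * φ (e r t) * u⁻¹ = e (r ∘ (l φ).1.symm) (c * (l φ).2 t) := hβ t
    have h5 : φ (e r t) = u⁻¹ * e (r ∘ (l φ).1.symm) (c * (l φ).2 t) * u := by rw [← h4]; group
    have h6 := mul_mem (inv_mem h3) (hcon t)
    rw [h5, S.data.inv hr.1] at h6
    have h7 : ⁅u⁻¹, e (r ∘ (l φ).1.symm) (c * (l φ).2 t)⁆⁻¹ *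
        (u⁻¹ * e (r ∘ (l φ).1.symm) (c * (l φ).2 t) * u * e r t) =
        e (r ∘ (l φ).1.symm) (c * (l φ).2 t) * e r t := by
      rw [commutatorElement_def]; group
    rwa [h7] at h6
  by_cases hne : r ∘ (l φ).1.symm = r
  · rw [hne] at h1
    have h2 : ∀ t, c * (l φ).2 t = t := by
      intro t
      have h3 := h1 t
      rw [← S.data.add r hr.1] at h3
      have h4 := X_inf_UH S hr (by rw [hj]; push_cast; exact le_rfl) (S.mem hr.1 _) h3
      have h5 := S.data.inj r hr.1 _ h4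
      exact add_right_cancel (h5.trans (S.data.two t).symm)
    have h3 : c = 1 := by
      have := h2 1
      rwa [map_one, mul_one] at this
    apply hl
    ext t
    have := h2 t
    rwa [h3, one_mul] at this
  · have h2 := mul_mem_UH S hr' hr hne hj' hj (S.mem hr'.1 _) (S.mem hr.1 _) (h1 1)
    have h3 := S.data.inj _ hr'.1 _ h2
    rw [map_one, mul_one] at h3
    exact hc0 h3

end Layer

/-! ### (c3) -/

section Sq

variable [Finite W] {R : RGD cs h p T n X} (S : Sys R e) {ρ : I → ℤ} {j : ℕ} (hT : Top cs h ρ j)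

include S hT

/-- The two upper layers are elementary abelian. -/
theorem sq_UH (hj : 2 ≤ j) {v : Y} (hv : v ∈ UH cs h X (j - 1)) : v * v = 1 := by
  have hcomm : ∀ r ∈ {r | r ∈ RGD.Pos cs h ∧ ((j - 1 : ℕ) : ℤ) < ht r}, ∀ v ∈ X r, ∀ w ∈ UH cs h X (j - 1),
      v * w = w * v := by
    intro r hr v hv w hw
    have h1 : UH cs h X (j - 1) ≤ Subgroup.centralizer ({v} : Set Y) := by
      refine RGD.Sup_le fun a ha w hw => ?_
      rw [Subgroup.mem_centralizer_singleton_iff]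
      have h2 := comm_gen S ha.1 hr.1 hw hv
      have h3 : RGD.Sup X {z | z ∈ RGD.Pos cs h ∧ ht a + ht r ≤ ht z} ≤ UH cs h X (j + 1) := by
        refine RGD.Sup_mono fun z hz => ⟨hz.1, ?_⟩
        have h4 := ha.2
        have h5 := hr.2
        have h6 := hz.2
        push_cast
        push_cast [Nat.cast_sub (by omega : 1 ≤ j)] at h4 h5
        omega
      have h4 := h3 h2
      rw [hT.UH_bot, Subgroup.mem_bot, commutatorElement_eq_one_iff_mul_comm] at h4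
      exact h4
    exact (Subgroup.mem_centralizer_singleton_iff.1 (h1 hw)).symm
  let L : Subgroup Y :=
    { carrier := {y | y ∈ UH cs h X (j - 1) ∧ y * y = 1 ∧ ∀ w ∈ UH cs h X (j - 1), y * w = w * y}
      one_mem' := ⟨one_mem _, mul_one 1, fun w _ => by rw [one_mul, mul_one]⟩
      mul_mem' := by
        rintro a b ⟨ha, ha2, hac⟩ ⟨hb, hb2, hbc⟩
        refine ⟨mul_mem ha hb, ?_, fun w hw => by rw [mul_assoc, hbc w hw, ← mul_assoc, hac w hw, mul_assoc]⟩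
        calc a * b * (a * b) = a * (b * a) * b := by group
          _ = (a * a) * (b * b) := by rw [hbc a ha]; group
          _ = 1 := by rw [ha2, hb2, one_mul]
      inv_mem' := by
        rintro a ⟨ha, ha2, hac⟩
        have : a⁻¹ = a := inv_eq_of_mul_eq_one_right ha2
        rw [this]
        exact ⟨ha, ha2, hac⟩ }
  have hL : UH cs h X (j - 1) ≤ L := by
    refine RGD.Sup_le fun r hr v hv => ⟨RGD.le_Sup hr hv, ?_, fun w hw => hcomm r hr v hv w hw⟩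
    obtain ⟨a, rfl⟩ := (S.mem_X r hr.1.1 v).1 hv
    exact S.data.sq hr.1.1 a
  exact (hL hv).2.1

end Sq

section BF

variable {G : Type*} [Group G] [Finite G] {K₀ : Subgroup G} [Finite W] [Finite K] [Nonempty I] [CharP K 2]
  {R : RGD cs h 2 T n X} (H : Hyp cs h T X) {f : Y →* G}

include H

/-- `|Z(S ∩ K)| ≤ |F|` if the dominant root is unique -/
theorem card_zc_le (S' : Sys R e) {ρ : I → ℤ} (hρ : ρ ∈ Star cs h (RGD.Pos cs h))
    (hone : ∀ r ∈ Star cs h (RGD.Pos cs h), r = ρ) (hf : Function.Injective f) (hK : f.range = K₀)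
    {S : Subgroup G} (hS : Good K₀ S) : Nat.card ↥(zc K₀ S) ≤ Nat.card K := by
  have hY : Finite Y := Finite.of_injective f hf
  obtain ⟨f', D, -⟩ := exists_std' H S' hf hK hS
  have h1 : ∀ z : ↥(zc K₀ S), ∃ t : K, f' (e ρ t) = z := by
    rintro ⟨z, hz⟩
    obtain ⟨y, hy, hyc, rfl⟩ := D.mem_zc.1 hz
    have h2 := center_le S' H.gen H.cent H.conn hyc
    have h3 : RGD.Sup X (Star cs h (RGD.Pos cs h)) ≤ X ρ := RGD.Sup_le fun r hr => by rw [hone r hr]
    obtain ⟨t, rfl⟩ := (S'.mem_X ρ hρ.1 y).1 (h3 h2)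
    exact ⟨t, rfl⟩
  choose g hg using h1
  refine Nat.card_le_card_of_injective g fun a b hab => Subtype.ext ?_
  rw [← hg a, ← hg b, hab]

/-- **(c3)** -/
theorem c3 (S' : Sys R e) {ρ : I → ℤ} {j : ℕ} (hT : Top cs h ρ j) (hj : 2 ≤ j) (hq : Nat.card K ≤ 4)
    (hone : ∀ r ∈ Star cs h (RGD.Pos cs h), r = ρ) {r₁ : I → ℤ} (hr₁ : r₁ ∈ RGD.Pos cs h) (hr₁j : ht r₁ = j)
    (hf : Function.Injective f) (hK : f.range = K₀) :
    (∀ S, Good K₀ S → Nat.card ↥(zc K₀ S) ≤ 4) ∧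
    ∀ S, Good K₀ S → ∃ W ≤ S ⊓ K₀, (∀ s ∈ S, ∀ w ∈ W, s * w * s⁻¹ ∈ W) ∧ (∀ w ∈ W, w * w = 1) ∧
      ∀ x ∈ S, x ∉ cz K₀ S → x * x = 1 →
        ∃ a ∈ W, ∃ b ∈ W, a * x ≠ x * a ∧ b * x ≠ x * b ∧ a * b * x ≠ x * (a * b) := by
  have hY : Finite Y := Finite.of_injective f hf
  refine ⟨fun S hS => (card_zc_le H S' hT.star hone hf hK hS).trans hq, fun S hS => ?_⟩
  obtain ⟨f', D, -⟩ := exists_std' H S' hf hK hS
  obtain ⟨l, L⟩ := exists_isOut S' H
  have hρj : X ρ ≤ UH cs h X j :=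
    RGD.le_Sup (S := {r | r ∈ RGD.Pos cs h ∧ (j : ℤ) < ht r}) ⟨hT.pos, by rw [hT.eq]; omega⟩
  refine ⟨(UH cs h X (j - 1)).map f', ?_, ?_, ?_, ?_⟩
  · rw [D.inf, ← UH_zero]
    exact Subgroup.map_mono (UH_le (Nat.zero_le _))
  · rintro s hs _ ⟨v, hv, rfl⟩
    obtain ⟨φ, hφ⟩ := D.exists_acts (D.le hs)
    exact ⟨φ v, map_UH H L (D.fix hs hφ) hv, hφ v⟩
  · rintro _ ⟨v, hv, rfl⟩
    rw [← map_mul, sq_UH S' hT hj hv, map_one]
  · intro x hx hxz _
    obtain ⟨φ, hφ⟩ := D.exists_acts (D.le hx)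
    have hl : (l φ).2 ≠ 1 := fun h0 => hxz (D.cz_of_field H L hx hφ h0)
    obtain ⟨k, hk⟩ := D.exists_pow hx hφ
    obtain ⟨a₀, ha₀, h1⟩ := act_star H L (D.fix hx hφ) hk hT.star
    obtain ⟨t, hlt⟩ : ∃ t, (l φ).2 t ≠ t := by
      by_contra h0
      push Not at h0
      exact hl (RingEquiv.ext h0)
    have hz : φ (e ρ (a₀ * t)) ≠ e ρ (a₀ * t) := by
      intro h2
      rw [h1] at h2
      exact hlt (mul_left_cancel₀ ha₀ (S'.data.injective hT.pos.1 h2))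
    obtain ⟨t', hlt'⟩ := layer H L (D.fix hx hφ) hl hr₁ (j := j - 1) (by rw [hr₁j]; omega)
    rw [Nat.sub_add_cancel (by omega : 1 ≤ j)] at hlt'
    have hne : ∀ y, φ y ≠ y → f' y * x ≠ x * f' y := by
      intro y hy hc
      apply hy
      apply D.inj
      rw [hφ, ← hc, mul_inv_cancel_right]
    have hzj : e ρ (a₀ * t) ∈ UH cs h X j := hρj (S'.mem hT.pos.1 _)
    refine ⟨f' (e ρ (a₀ * t)), ⟨_, UH_le (Nat.sub_le _ _) hzj, rfl⟩, f' (e r₁ t'),
      ⟨_, RGD.le_Sup (S := {r | r ∈ RGD.Pos cs h ∧ ((j - 1 : ℕ) : ℤ) < ht r}) ⟨hr₁, by rw [hr₁j]; omega⟩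
        (S'.mem hr₁.1 _), rfl⟩, hne _ hz, hne _ ?_, ?_⟩
    · intro h2
      apply hlt'
      rw [h2, mul_inv_cancel]
      exact one_mem _
    · rw [← map_mul]
      refine hne _ fun h2 => hlt' ?_
      rw [map_mul] at h2
      have h3 : φ (e r₁ t') * (e r₁ t')⁻¹ = (φ (e ρ (a₀ * t)))⁻¹ * e ρ (a₀ * t) := by
        calc φ (e r₁ t') * (e r₁ t')⁻¹ =
              (φ (e ρ (a₀ * t)))⁻¹ * (φ (e ρ (a₀ * t)) * φ (e r₁ t')) * (e r₁ t')⁻¹ := by group
          _ = (φ (e ρ (a₀ * t)))⁻¹ * e ρ (a₀ * t) := by rw [h2]; group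
      rw [h3, h1]
      exact mul_mem (inv_mem (hρj (S'.mem hT.pos.1 _))) hzj

/-- **(c1) for two dominant roots** -/
theorem c1_two (S' : Sys R e) {r r' : I → ℤ} (hr : r ∈ Star cs h (RGD.Pos cs h)) (hr' : r' ∈ Star cs h (RGD.Pos cs h))
    (hrr : r ≠ r') (hf : Function.Injective f) (hK : f.range = K₀) {S : Subgroup G} (hS : Good K₀ S)
    {x : G} (hx : x ∈ S) (hxz : x ∉ cz K₀ S) :
    ∃ a ∈ zc K₀ S, ∃ b ∈ zc K₀ S, a * x ≠ x * a ∧ b * x ≠ x * b ∧ a * b * x ≠ x * (a * b) := by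
  have hY : Finite Y := Finite.of_injective f hf
  obtain ⟨f', D, -⟩ := exists_std' H S' hf hK hS
  obtain ⟨l, L⟩ := exists_isOut S' H
  obtain ⟨φ, hφ⟩ := D.exists_acts (D.le hx)
  obtain ⟨k, hk⟩ := D.exists_pow hx hφ
  obtain ⟨a₀, ha₀, h1⟩ := act_star H L (D.fix hx hφ) hk hr
  obtain ⟨b₀, hb₀, h1'⟩ := act_star H L (D.fix hx hφ) hk hr'
  have h2 : (l φ).2 ≠ 1 := fun h3 => hxz (D.cz_of_field H L hx hφ h3)
  obtain ⟨t, hlt⟩ : ∃ t, (l φ).2 t ≠ t := by
    by_contra h0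
    push Not at h0
    exact h2 (RingEquiv.ext h0)
  have hmem : ∀ {r : I → ℤ}, r ∈ Star cs h (RGD.Pos cs h) → ∀ a, f' (e r a) ∈ zc K₀ S := fun hr a => D.mem_zc.2
    ⟨_, RGD.le_Sup (star_pos hr) (S'.mem hr.1 a), fun u hu => star_comm_U S' hr (S'.mem hr.1 a) hu, rfl⟩
  have hne : ∀ y, φ y ≠ y → f' y * x ≠ x * f' y := by
    intro y hy hc
    apply hy
    apply D.inj
    rw [hφ, ← hc, mul_inv_cancel_right]
  refine ⟨_, hmem hr (a₀ * t), _, hmem hr' (b₀ * t), hne _ ?_, hne _ ?_, ?_⟩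
  · rw [h1]
    exact fun h3 => hlt (mul_left_cancel₀ ha₀ (S'.data.injective hr.1 h3))
  · rw [h1']
    exact fun h3 => hlt (mul_left_cancel₀ hb₀ (S'.data.injective hr'.1 h3))
  · rw [← map_mul]
    refine hne _ fun h3 => hlt ?_
    rw [map_mul, h1, h1'] at h3
    -- an element of `X r ∩ X r'`
    have h4 : (e r (a₀ * t))⁻¹ * e r (a₀ * (l φ).2 t) = e r' (b₀ * t) * (e r' (b₀ * (l φ).2 t))⁻¹ := by
      calc (e r (a₀ * t))⁻¹ * e r (a₀ * (l φ).2 t) =
            (e r (a₀ * t))⁻¹ * (e r (a₀ * (l φ).2 t) * e r' (b₀ * (l φ).2 t)) * (e r' (b₀ * (l φ).2 t))⁻¹ := by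
              group
        _ = e r' (b₀ * t) * (e r' (b₀ * (l φ).2 t))⁻¹ := by rw [h3]; group
    have h5 : (e r (a₀ * t))⁻¹ * e r (a₀ * (l φ).2 t) = 1 := by
      have h6 : (e r (a₀ * t))⁻¹ * e r (a₀ * (l φ).2 t) ∈ X r :=
        mul_mem (inv_mem (S'.mem hr.1 _)) (S'.mem hr.1 _)
      have h7 : (e r (a₀ * t))⁻¹ * e r (a₀ * (l φ).2 t) ∈ X r' := by
        rw [h4]
        exact mul_mem (S'.mem hr'.1 _) (inv_mem (S'.mem hr'.1 _))
      have h8 : Nodes.Unique.Closed cs h ({r} : Set (I → ℤ)) := by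
        rintro _ rfl _ rfl z hz
        exact Nodes.Unique.btwn_self hr.1 hz
      have h9 : Nodes.Unique.Closed cs h ({r'} : Set (I → ℤ)) := by
        rintro _ rfl _ rfl z hz
        exact Nodes.Unique.btwn_self hr'.1 hz
      have h10 := Nodes.Unique.inf_eq R (S := {r}) (Set.singleton_subset_iff.2 (star_pos hr))
        (Set.singleton_subset_iff.2 (star_pos hr')) h8 h9
      have h11 : (e r (a₀ * t))⁻¹ * e r (a₀ * (l φ).2 t) ∈ RGD.Sup X {r} ⊓ RGD.Sup X {r'} :=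
        ⟨RGD.le_Sup (Set.mem_singleton r) h6, RGD.le_Sup (Set.mem_singleton r') h7⟩
      have h12 : ({r} : Set (I → ℤ)) ∩ {r'} = ∅ := by
        ext x
        simp only [Set.mem_inter_iff, Set.mem_singleton_iff, Set.mem_empty_iff_false, iff_false]
        rintro ⟨rfl, h13⟩
        exact hrr h13
      rw [h10, h12, Sup_empty] at h11
      exact Subgroup.mem_bot.1 h11
    have h6 : e r (a₀ * (l φ).2 t) = e r (a₀ * t) := (inv_mul_eq_one.1 h5).symm
    exact mul_left_cancel₀ ha₀ (S'.data.injective hr.1 h6)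

/-- **(k5) for two dominant roots.** -/
theorem out5_of_two (S' : Sys R e) {r r' : I → ℤ} (hr : r ∈ Star cs h (RGD.Pos cs h))
    (hr' : r' ∈ Star cs h (RGD.Pos cs h)) (hrr : r ≠ r') (hf : Function.Injective f) (hK : f.range = K₀) :
    Out5 K₀ := Or.inl fun _ hS _ hx hxz => c1_two H S' hr hr' hrr hf hK hS hx hxz

/-- **(k5), simply laced, rank at least three, all fields.** -/
theorem out5_of_SL (S' : Sys R e) (h4 : ∀ i j, M i j ≠ 4) (h6 : ∀ i j, M i j ≠ 6) (h3 : 3 ≤ Fintype.card I)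
    (hf : Function.Injective f) (hK : f.range = K₀) : Out5 K₀ := by
  by_cases hq : 4 < Nat.card K
  · exact Or.inl fun S hS x hx hxz => c1 H S' hq hf hK hS hx hxz
  have hirr : Cfsg.Agent.KFacts.SLRow.Def.Conn M := by
    intro J hJ hJc
    obtain ⟨a, ha, b, hb, hab⟩ := H.conn J hJ (fun h0 => by
      rw [h0, Set.compl_univ] at hJc
      exact Set.not_nonempty_empty hJc)
    exact ⟨a, ha, b, hb, hab⟩
  have hs : RgdSL.SL cs h := sl_of h4 h6
  obtain ⟨ρ, j, hT⟩ := exists_top' cs h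
  have hj : 2 ≤ j := hT.two_le hs (fun r hr => nb_of h4 h6 hirr h3 hr)
    fun r s hr hsr hrs => three_of h4 h6 hirr h3 hr hsr hrs
  obtain ⟨r₁, hr₁, hr₁j⟩ := hT.exists_next hs (by omega)
  have hone : ∀ r ∈ Star cs h (RGD.Pos cs h), r = ρ := fun r hr =>
    RgdAutFacts.dom_unique hs (fun _ hr => orth_of h4 h6 hirr hr) hr hT.star
  exact Or.inr (Or.inr (Or.inl (c3 H S' hT hj (not_lt.1 hq) hone hr₁ hr₁j hf hK)))

end BF

end Cfsg.Agent.KFacts.SysFour
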