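import Mathlib
import Cfsg.Agent.KFacts.SysFour
import Cfsg.Agent.KFacts.SysFltS
import Cfsg.Agent.KFacts.SLRow.Row
import Cfsg.Agent.OddHalf.D4.Cut

/-!
# `BFacts` for the simply laced groups over `F_q`, `q ≥ 4` even (ODD, D4, free pairs)

* `bFacts_of_isSLC` : `IsSLC q M K₀`, `q ≥ 3` and (k3) give `BFacts K₀`;
* `bFacts_of_isSLC_rigid` : the same without (k3) if the diagram has no symmetries;
* `bFacts_E7`, `bFacts_E8`.
-/

set_option autoImplicit false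
set_option linter.unusedSectionVars false

namespace Cfsg.Agent.KFacts.SysBF

open CoxeterSystem Cfsg.Agent.ChevalleyStructure.CoxeterGeom Cfsg.Agent.Tits.Roots Cfsg.Agent.Tits.Core
  Cfsg.Agent.Nodes.Reps Cfsg.Agent.Nodes.BNOf Cfsg.Agent.Nodes.RGDLib Cfsg.Agent.KFacts.SLRow.Def
  Cfsg.Agent.KFacts.ChevTwo Cfsg.Agent.KFacts.SLRow.Row Cfsg.Agent.KFacts.SLRow.Diag
  Cfsg.Agent.KFacts.SysFree Cfsg.Agent.KFacts.SysFltS Cfsg.Agent.KFacts.SysFour Cfsg.Agent.OddHalf.D4.Free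
open Cfsg.Lie

universe u

section

variable {G : Type*} [Group G] [Finite G] {K₀ : Subgroup G} {q l : ℕ} {M : CoxeterMatrix (Fin l)}

/-- **`BFacts` for a simply laced group**, from (k3). -/
theorem bFacts_of_isSLC (hK : IsSLC q M ↥K₀) (h3 : ∀ S, Good K₀ S → ∃ U L, FltS K₀ S U L) : BFacts K₀ := by
  obtain ⟨A, h, T, n, X, F, _, _, _, e, hW, rfl, hM, D, S⟩ := hK
  have hne : Nonempty (Fin l) := Fintype.card_pos_iff.1 (by have := D.three; omega)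
  have H : Hyp M.toCoxeterSystem h T X := hyp_of_SL (R := D.rgd) D.gen D.cent (fun J hJ hJc => by
    obtain ⟨a, ha, b, hb, hab⟩ := D.irr J hJ (by
      by_contra hcon
      rw [Set.not_nonempty_iff_eq_empty, Set.compl_empty_iff] at hcon
      exact hJc hcon)
    exact ⟨a, ha, b, hb, hab⟩) D.h4 D.h6
  exact bFacts_of H S hM K₀.subtype_injective K₀.range_subtype h3
    (out5_of_SL H S D.h4 D.h6 D.three K₀.subtype_injective K₀.range_subtype)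

/-- **`BFacts` for a simply laced group without diagram symmetries**. -/
theorem bFacts_of_isSLC_rigid (hK : IsSLC q M ↥K₀) (hq : 3 ≤ q)
    (hrig : ∀ σ : Equiv.Perm (Fin l), (∀ i j, M (σ i) (σ j) = M i j) → σ = 1) : BFacts K₀ := by
  refine bFacts_of_isSLC hK fun S hS => ?_
  obtain ⟨A, h, T, n, X, F, _, _, _, e, hW, rfl, hM, D, S'⟩ := hK
  have hne : Nonempty (Fin l) := Fintype.card_pos_iff.1 (by have := D.three; omega)
  have H : Hyp M.toCoxeterSystem h T X := hyp_of_SL (R := D.rgd) D.gen D.cent (fun J hJ hJc => by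
    obtain ⟨a, ha, b, hb, hab⟩ := D.irr J hJ (by
      by_contra hcon
      rw [Set.not_nonempty_iff_eq_empty, Set.compl_empty_iff] at hcon
      exact hJc hcon)
    exact ⟨a, ha, b, hb, hab⟩) D.h4 D.h6
  exact fltS_of_rigid H S' hq hrig K₀.subtype_injective K₀.range_subtype hS

end

/-! ### The diagrams `E₇`, `E₈` -/

theorem rigid_E7 (σ : Equiv.Perm (Fin 7)) (hσ : ∀ i j, CoxeterMatrix.E₇ (σ i) (σ j) = CoxeterMatrix.E₇ i j) : σ = 1 := by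
  have hm : ∀ i j, m7 i j = 3 → m7 (σ i) (σ j) = 3 := fun i j h => (hσ i j).trans h
  have hi : ∀ i j, i ≠ j → σ i ≠ σ j := fun i j h => σ.injective.ne h
  have h := e7 (σ 3) (σ 1) (hm 1 3 rfl) (σ 2) (hm 2 3 rfl) (hi _ _ (by decide)) (σ 4) (hm 4 3 rfl) (hi _ _ (by decide))
    (hi _ _ (by decide)) (σ 0) (hm 0 2 rfl) (hi _ _ (by decide)) (σ 5) (hm 5 4 rfl) (hi _ _ (by decide))
    (σ 6) (hm 6 5 rfl) (hi _ _ (by decide))
  refine Equiv.ext fun i => ?_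
  rw [Equiv.Perm.one_apply]
  fin_cases i
  · exact h.1
  · exact h.2.1
  · exact h.2.2.1
  · exact h.2.2.2.1
  · exact h.2.2.2.2.1
  · exact h.2.2.2.2.2.1
  · exact h.2.2.2.2.2.2

theorem rigid_E8 (σ : Equiv.Perm (Fin 8)) (hσ : ∀ i j, CoxeterMatrix.E₈ (σ i) (σ j) = CoxeterMatrix.E₈ i j) : σ = 1 := by
  have hm : ∀ i j, m8 i j = 3 → m8 (σ i) (σ j) = 3 := fun i j h => (hσ i j).trans h
  have hi : ∀ i j, i ≠ j → σ i ≠ σ j := fun i j h => σ.injective.ne h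
  have h := e8 (σ 3) (σ 1) (hm 1 3 rfl) (σ 2) (hm 2 3 rfl) (hi _ _ (by decide)) (σ 4) (hm 4 3 rfl) (hi _ _ (by decide))
    (hi _ _ (by decide)) (σ 0) (hm 0 2 rfl) (hi _ _ (by decide)) (σ 5) (hm 5 4 rfl) (hi _ _ (by decide))
    (σ 6) (hm 6 5 rfl) (hi _ _ (by decide)) (σ 7) (hm 7 6 rfl) (hi _ _ (by decide))
  refine Equiv.ext fun i => ?_
  rw [Equiv.Perm.one_apply]
  fin_cases i
  · exact h.1
  · exact h.2.1
  · exact h.2.2.1
  · exact h.2.2.2.1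
  · exact h.2.2.2.2.1
  · exact h.2.2.2.2.2.1
  · exact h.2.2.2.2.2.2.1
  · exact h.2.2.2.2.2.2.2

/-! ### The families -/

section

open Cfsg.Agent.OddHalf.D4.Basic


theorem pow_ge {a : ℕ} (ha : 2 ≤ a) : 3 ≤ 2 ^ a :=
  (by norm_num : 3 ≤ 2 ^ 2).trans (Nat.pow_le_pow_right (by norm_num) ha)

open Cfsg.Agent.LieRecognition.BNCox (cA) in
theorem isSLC_Lne {X : Type*} [Group X] (hX : Cfsg.Agent.OddHalf.D4.Cut.Lne X) :
    ∃ q n : ℕ, 3 ≤ q ∧ 3 ≤ n ∧ IsSLC q (cA n) X := by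
  obtain ⟨F, _, _, a, m, ha, hF, hm, ⟨e⟩⟩ := hX
  have := charTwo_of_card hF
  obtain ⟨n, rfl⟩ : ∃ n, m = n + 1 := ⟨m - 1, by omega⟩
  exact ⟨Nat.card F, n, by rw [Nat.card_eq_fintype_card, hF]; exact pow_ge ha, by omega,
    (isSLC_PSL (by omega) F).of_equiv e.symm⟩

theorem isSLC_Ope {X : Type*} [Group X] (hX : Cfsg.Agent.OddHalf.D4.Cut.Ope X) :
    ∃ q n : ℕ, 3 ≤ q ∧ 2 ≤ n ∧ IsSLC q (Cfsg.Agent.Nodes.TypeD.M n) X := by
  obtain ⟨F, _, _, a, m, ha, hF, hm, ⟨e⟩⟩ := hX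
  have := charTwo_of_card hF
  obtain ⟨n, rfl⟩ : ∃ n, m = n + 2 := ⟨m - 2, by omega⟩
  exact ⟨Nat.card F, n, by rw [Nat.card_eq_fintype_card, hF]; exact pow_ge ha, by omega,
    (isSLC_OPlus (by omega) F).of_equiv e.symm⟩

theorem isSLC_E6e {X : Type*} [Group X] (hX : Cfsg.Agent.OddHalf.D4.Cut.E6e X) :
    ∃ q : ℕ, 3 ≤ q ∧ IsSLC q CoxeterMatrix.E₆ X := by
  obtain ⟨F, _, _, a, ha, hF, ⟨e⟩⟩ := hX
  have := charTwo_of_card hF
  exact ⟨Nat.card F, by rw [Nat.card_eq_fintype_card, hF]; exact pow_ge ha, (isSLC_E6 F).of_equiv e.symm⟩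

theorem isSLC_E7e {X : Type*} [Group X] (hX : Cfsg.Agent.OddHalf.D4.Cut.E7e X) :
    ∃ q : ℕ, 3 ≤ q ∧ IsSLC q CoxeterMatrix.E₇ X := by
  obtain ⟨F, _, _, a, ha, hF, ⟨e⟩⟩ := hX
  have := charTwo_of_card hF
  exact ⟨Nat.card F, by rw [Nat.card_eq_fintype_card, hF]; exact pow_ge ha, (isSLC_E7 F).of_equiv e.symm⟩

theorem isSLC_E8e {X : Type*} [Group X] (hX : Cfsg.Agent.OddHalf.D4.Cut.E8e X) :
    ∃ q : ℕ, 3 ≤ q ∧ IsSLC q CoxeterMatrix.E₈ X := by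
  obtain ⟨F, _, _, a, ha, hF, ⟨e⟩⟩ := hX
  have := charTwo_of_card hF
  exact ⟨Nat.card F, by rw [Nat.card_eq_fintype_card, hF]; exact pow_ge ha, (isSLC_E8 F).of_equiv e.symm⟩

variable {G : Type*} [Group G] [Finite G] {K₀ : Subgroup G}

/-- the isomorphism with the conjugate -/
noncomputable def eqCj (K₀ : Subgroup G) (g : G) : ↥K₀ ≃* ↥(Cfsg.Agent.OddHalf.D4.CommConj.cj g K₀) :=
  K₀.equivMapOfInjective (MulAut.conj g).toMonoidHom (MulAut.conj g).injective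

/-- **`BFacts` for `E₇(q)`, `q ≥ 4` even.** -/
theorem bFacts_E7 (hK : Cfsg.Agent.OddHalf.D4.Cut.E7e ↥K₀) (g : G) : BFacts (Cfsg.Agent.OddHalf.D4.CommConj.cj g K₀) := by
  obtain ⟨q, hq, h1⟩ := isSLC_E7e hK
  exact bFacts_of_isSLC_rigid (h1.of_equiv (eqCj K₀ g)) hq rigid_E7

/-- **`BFacts` for `E₈(q)`, `q ≥ 4` even.** -/
theorem bFacts_E8 (hK : Cfsg.Agent.OddHalf.D4.Cut.E8e ↥K₀) (g : G) : BFacts (Cfsg.Agent.OddHalf.D4.CommConj.cj g K₀) := by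
  obtain ⟨q, hq, h1⟩ := isSLC_E8e hK
  exact bFacts_of_isSLC_rigid (h1.of_equiv (eqCj K₀ g)) hq rigid_E8

end

end Cfsg.Agent.KFacts.SysBF
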