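import Cfsg.Agent.KFacts.ChevTwoSys
import Cfsg.Agent.KFacts.SLRow.TypeA
import Cfsg.Agent.Nodes.WittInst
import Cfsg.Agent.KFacts.RgdCent

/-!
# `PSp_{2m}(q)`, `q` even: `ChevTwo.Sys` (helper368)

* `HypC` : a symplectic Witt frame in characteristic two; `ad c` : the admissible pair `(0, c)`;
* `PE a b t` : the root element of `wt a + wt b`; `eC x t` : the root element of the root `x`;
* `data_C` : `ChevTwo.Data` in the isometry group; `exists_chi`;
* `sys_PSp` : `Sys` of `PSp m F`, on the root group datum of type `C_m` of `WittAll.rgdC_model`.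
-/

set_option autoImplicit false
set_option linter.unusedSectionVars false
set_option linter.unusedSimpArgs false

namespace Cfsg.Agent.KFacts.SysSp

open Cfsg
open CoxeterSystem Cfsg.Agent.ChevalleyStructure.CoxeterGeom Cfsg.Agent.Tits.Roots Cfsg.Agent.Tits.Core
  Cfsg.Agent.Nodes.Reps Cfsg.Agent.Nodes.BNOf Cfsg.Agent.Nodes.RGDLib
  Cfsg.Agent.Nodes.Coroot Cfsg.Agent.KFacts.ChevTwo
open Cfsg.Agent.Nodes.TypeC
open Cfsg.Agent.Nodes.WittRoot (Amb PG PG_self PG_ne XG ZG rg rg_eq mem_XG mem_ZG Mono)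
open Cfsg.Agent.Nodes.WittRGD (Tor nn nn_mem eq_or_ng ee_neg_sr b_ne_zero)
open Cfsg.Agent.Nodes.WittAll (AmbT)
open Cfsg.Agent.Nodes Cfsg.Agent.KFacts
open Cfsg.Agent.TitsThree Cfsg.Agent.TitsThree.Siegel
  Cfsg.Agent.TitsThree.WittFrame Cfsg.Agent.TitsThree.WittWeyl
open scoped commutatorElement

variable {F V : Type*} [Field F] [AddCommGroup V] [Module F V] {H : HForm F V} {n : ℕ}

/-- A symplectic frame in characteristic two. -/
structure HypC (Fr : Frame H (Fin n)) : Prop where
  sig : ∀ t, H.σ t = t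
  eps : H.ε = 1
  two : ∀ t : F, t + t = 0
  w0 : ∀ p : Fr.Adm, p.w = 0
  ok0 : ∀ c, Fr.ok 0 c

section frame

variable {Fr : Frame H (Fin n)} (hH : HypC Fr)

include hH

theorem HypC.neg (t : F) : -t = t := neg_eq_of_add_eq_zero_left (hH.two t)

theorem HypC.η (x : Fin n × Bool) : Fr.η x = 1 := by
  unfold Frame.η
  rw [hH.eps, ite_self]

/-- the admissible pair `(0, c)` -/
def ad (c : F) : Fr.Adm := ⟨0, c, hH.ok0 c⟩

@[simp] theorem ad_c (c : F) : (ad hH c).c = c := rfl

@[simp] theorem ad_w (c : F) : (ad hH c).w = 0 := rfl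

theorem ad_add (c d : F) : ad hH (c + d) = ad hH c * ad hH d := by
  apply Frame.Adm.ext
  · rw [Frame.Adm.mul_w, ad_w, ad_w, ad_w, add_zero]
  · rw [Frame.Adm.mul_c, ad_c, ad_c, ad_c, ad_w, ad_w, H.zero_left, mul_zero, sub_zero]

theorem eq_ad (p : Fr.Adm) : p = ad hH p.c := Frame.Adm.ext (hH.w0 p) rfl

theorem smul_ad (a c : F) : Frame.Adm.smul a (ad hH c) = ad hH (a * a * c) := by
  apply Frame.Adm.ext
  · rw [Frame.Adm.smul_w, ad_w, ad_w, smul_zero]
  · rw [Frame.Adm.smul_c, ad_c, ad_c, hH.sig]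

theorem ad_zero : ad hH 0 = 1 := Frame.Adm.ext rfl rfl

theorem tr_eq (m : F) : (Frame.Adm.tr m : Fr.Adm) = 1 := by
  apply Frame.Adm.ext
  · rfl
  · rw [Frame.Adm.tr_c, hH.sig, hH.eps, inv_one, one_mul, sub_self]
    rfl

theorem X_swap' {a b : Fin n × Bool} (hab : a.1 ≠ b.1) (t : F) : Fr.X a b t = Fr.X b a t := by
  rw [Fr.X_swap hab, hH.eps, hH.η, hH.η, hH.sig, inv_one, one_mul, one_mul, one_mul, hH.neg]

/-! ### Root elements -/

/-- the root element of `wt a + wt b` -/
def PE (a b : Fin n × Bool) (t : F) : V ≃ₗ[F] V := if a = b then Fr.Z a (ad hH t) else Fr.X a b t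

theorem PE_self (a : Fin n × Bool) (t : F) : PE hH a a t = Fr.Z a (ad hH t) := if_pos rfl

theorem PE_ne {a b : Fin n × Bool} (h : a.1 ≠ b.1) (t : F) : PE hH a b t = Fr.X a b t :=
  if_neg fun h' => h (congrArg Prod.fst h')

theorem PE_swap {a b : Fin n × Bool} (h : Ok a b) (t : F) : PE hH a b t = PE hH b a t := by
  rcases h with h | rfl
  · rw [PE_ne hH h, PE_ne hH h.symm, X_swap' hH h]
  · rfl

theorem PE_add {a b : Fin n × Bool} (h : Ok a b) (t u : F) : PE hH a b (t + u) = PE hH a b t * PE hH a b u := by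
  rcases h with h | rfl
  · rw [PE_ne hH h, PE_ne hH h, PE_ne hH h, Fr.X_add]
  · rw [PE_self, PE_self, PE_self, ad_add, Fr.Z_mul]

open Classical in
/-- the root element of `x` -/
noncomputable def eC (x : Fin n → ℤ) (t : F) : V ≃ₗ[F] V :=
  if h : ∃ q : (Fin n × Bool) × (Fin n × Bool), Ok q.1 q.2 ∧ ee x = wt q.1 + wt q.2 then
    PE hH h.choose.1 h.choose.2 t else 1

theorem eC_eq {x : Fin n → ℤ} {a b : Fin n × Bool} (hab : Ok a b) (e : ee x = wt a + wt b) (t : F) :
    eC hH x t = PE hH a b t := by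
  have h : ∃ q : (Fin n × Bool) × (Fin n × Bool), Ok q.1 q.2 ∧ ee x = wt q.1 + wt q.2 := ⟨(a, b), hab, e⟩
  unfold eC
  rw [dif_pos h]
  obtain ⟨h1, h2⟩ := h.choose_spec
  rcases wt_add_eq h1 hab (h2.symm.trans e) with ⟨e1, e2⟩ | ⟨e1, e2⟩
  · rw [e1, e2]
  · rw [e1, e2]
    exact PE_swap hH hab.symm t

/-- conjugation by monomial isometries -/
theorem conj_PE {g : V ≃ₗ[F] V} (hI : H.IsIso g) {s : Fin n × Bool → Fin n × Bool} {l : Fin n × Bool → F}
    (hg : ∀ z, g (Fr.b z) = l z • Fr.b (s z)) (hs : ∀ y z, (s y).1 = (s z).1 ↔ y.1 = z.1) {a b : Fin n × Bool}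
    (hab : Ok a b) (t : F) : g * PE hH a b t * g⁻¹ = PE hH (s a) (s b) (l a * l b * t) := by
  rcases hab with h | rfl
  · have h' : (s a).1 ≠ (s b).1 := fun h1 => h ((hs a b).1 h1)
    rw [PE_ne hH h, PE_ne hH h', conj_X Fr hI h h' (hg a) (hg b), hH.sig, hH.η, hH.η, inv_one, mul_one, mul_one]
  · rw [PE_self, PE_self, conj_Z Fr hI (hg a) (ad hH t) (ad hH t) (by rw [ad_w, map_zero]) rfl, smul_ad, hH.sig]

theorem PE_apply {a b : Fin n × Bool} (hab : Ok a b) (t : F) :
    PE hH a b t (Fr.b (ng b)) = Fr.b (ng b) + t • Fr.b a := by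
  rcases hab with h | rfl
  · rw [PE_ne hH h]
    exact X_apply_neg Fr h t
  · rw [PE_self]
    have h1 := Z_apply_neg Fr a (ad hH t)
    rw [ad_w, smul_zero, add_zero, hH.η, ad_c, mul_one] at h1
    exact h1

theorem PE_inj {a b : Fin n × Bool} (hab : Ok a b) {t : F} (h : PE hH a b t = 1) : t = 0 := by
  have h1 := PE_apply hH hab t
  rw [h] at h1
  have h2 : Fr.b (ng b) = Fr.b (ng b) + t • Fr.b a := h1
  have h3 : t • Fr.b a = 0 := left_eq_add.1 h2
  exact (smul_eq_zero.1 h3).resolve_right (b_ne_zero a)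

/-! ### The Weyl elements -/

/-- `n_i(c)` -/
noncomputable def NW (i : Fin n) (c : F) : V ≃ₗ[F] V :=
  if (i : ℕ) + 1 < n then nX Fr (i, true) (nx i) c else nZ Fr (i, true) (ad hH c)

theorem isIso_NW (i : Fin n) (c : F) : H.IsIso (NW hH i c) := by
  unfold NW
  split_ifs
  · exact isIso_nX Fr _ _ _
  · exact isIso_nZ Fr _ _

theorem nc_eC (i : Fin n) (c : F) : nc (eC hH) (sr i) c = NW hH i c := by
  rw [nc_def, eC_eq hH (ok_nx i) (ee_sr i), eC_eq hH (ok_nx i).ng (ee_neg_sr i)]
  unfold NW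
  split_ifs with hi
  · have hne : ((i, true) : Fin n × Bool).1 ≠ (nx i).1 := by
      unfold nx; rw [dif_pos hi]; simp [Fin.ext_iff]
    have hne' : (ng (i, true) : Fin n × Bool).1 ≠ (ng (nx i)).1 := hne
    rw [PE_ne hH hne, PE_ne hH hne', X_swap' hH hne', nX, hH.neg]
    rfl
  · have hnx : nx i = (i, true) := by unfold nx; rw [dif_neg hi]
    have h1 : c⁻¹ * c⁻¹ * c = c⁻¹ := by
      by_cases hc : c = 0
      · rw [hc]; simp
      · field_simp
    have h2 : c * c⁻¹ * (c * c⁻¹) * c = c := by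
      by_cases hc : c = 0
      · rw [hc]; simp
      · field_simp
    rw [hnx, PE_self, PE_self, nZ, smul_ad, smul_ad, ad_c, hH.sig, hH.eps, hH.η, one_mul, one_mul, hH.neg, h1, h2]
    rfl

omit hH in
theorem nx_eq {i : Fin n} (hi : (i : ℕ) + 1 < n) : nx i = (⟨i + 1, hi⟩, false) := by unfold nx; rw [dif_pos hi]

omit hH in
theorem nx_eq' {i : Fin n} (hi : ¬ (i : ℕ) + 1 < n) : nx i = (i, true) := by unfold nx; rw [dif_neg hi]

omit hH in
/-- the values of the coroots on the weights, short simple roots -/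
theorem Cf_short {i : Fin n} (hi : (i : ℕ) + 1 < n) (z : Fin n × Bool) : Cf i (wt z) =
    if z = (i, true) then 1 else if z = ng (i, true) then -1 else if z = nx i then 1 else
      if z = ng (nx i) then -1 else 0 := by
  obtain ⟨j, s⟩ := z
  rw [nx_eq hi]
  have h1 : (⟨(i : ℕ) + 1, hi⟩ : Fin n) ≠ i := by simp [Fin.ext_iff]
  unfold Cf ng
  rw [dif_pos hi]
  simp only [wt_apply]
  cases s <;> by_cases h2 : j = i <;> by_cases h3 : j = ⟨(i : ℕ) + 1, hi⟩ <;>
    simp_all [Fin.ext_iff, eq_comm]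

omit hH in
/-- the values of the coroots on the weights, long simple root -/
theorem Cf_long {i : Fin n} (hi : ¬ (i : ℕ) + 1 < n) (z : Fin n × Bool) : Cf i (wt z) =
    if z = (i, true) then 1 else if z = ng (i, true) then -1 else 0 := by
  obtain ⟨j, s⟩ := z
  unfold Cf ng
  rw [dif_neg hi]
  simp only [wt_apply]
  cases s <;> by_cases h2 : j = i <;> simp_all [eq_comm]

theorem NW_b (i : Fin n) {c : F} (hc : c ≠ 0) (z : Fin n × Bool) :
    NW hH i c (Fr.b z) = c ^ (-Cf i (wt z)) • Fr.b (sg i z) := by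
  unfold NW
  by_cases hi : (i : ℕ) + 1 < n
  · rw [if_pos hi, Cf_short hi]
    have hne : ((i, true) : Fin n × Bool).1 ≠ (nx i).1 := by
      rw [nx_eq hi]; simp [Fin.ext_iff]
    by_cases h1 : z = (i, true)
    · rw [if_pos h1, h1, nX_apply_self Fr hne hc, sg_up hi, ← neg_smul, hH.neg, nx_eq hi]
      simp [neg]
    by_cases h2 : z = ng (i, true)
    · rw [if_neg h1, if_pos h2, h2]
      have e := nX_apply_neg' Fr hne hc
      rw [hH.eps, hH.η, hH.η, hH.sig, inv_one, one_mul, one_mul, one_mul, ← neg_smul, hH.neg] at e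
      have e1 : sg i (ng (i, true)) = nx i := by
        rw [nx_eq hi]; exact sg_up hi false
      rw [e1, _root_.neg_neg, zpow_one]
      exact e
    by_cases h3 : z = nx i
    · rw [if_neg h1, if_neg h2, if_pos h3, h3]
      have e := nX_apply_self' Fr hne hc
      rw [hH.eps, hH.η, hH.η, hH.sig, inv_one, one_mul, one_mul, one_mul] at e
      have e1 : sg i (nx i) = neg (i, true) := by
        rw [nx_eq hi]; exact sg_down hi false
      rw [e1]
      simpa using e
    by_cases h4 : z = ng (nx i)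
    · rw [if_neg h1, if_neg h2, if_neg h3, if_pos h4, h4]
      have e := nX_apply_neg Fr hne hc
      have e1 : sg i (ng (nx i)) = (i, true) := by
        rw [nx_eq hi]; exact sg_down hi true
      rw [e1, _root_.neg_neg, zpow_one]
      exact e
    · rw [if_neg h1, if_neg h2, if_neg h3, if_neg h4, neg_zero, zpow_zero, one_smul]
      have h5 : z.1 ≠ i := by
        intro h
        rcases eq_or_ng (b := ((i, true) : Fin n × Bool)) h with h | h
        exacts [h1 h, h2 h]
      have h6 : z.1 ≠ (nx i).1 := by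
        intro h
        rcases eq_or_ng h with h | h
        exacts [h3 h, h4 h]
      rw [nX_apply_of_ne Fr hne h5 h6, sg_of_ne h5 (by
        intro h
        apply h6
        rw [nx_eq hi]
        exact Fin.ext h)]
  · rw [if_neg hi, Cf_long hi]
    by_cases h1 : z = (i, true)
    · rw [if_pos h1, h1, nZ_apply_self Fr _ _ (by rw [ad_c]; exact hc), sg_last hi, hH.eps, hH.η, hH.sig, ad_c,
        inv_one, one_mul, one_mul]
      simp [neg]
    by_cases h2 : z = ng (i, true)
    · rw [if_neg h1, if_pos h2, h2]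
      have e := nZ_apply_neg Fr (i, true) (ad hH c) (by rw [ad_c]; exact hc)
      rw [hH.η, ad_c, one_mul] at e
      have e1 : sg i (ng (i, true)) = (i, true) := sg_last hi false
      rw [e1, _root_.neg_neg, zpow_one]
      exact e
    · rw [if_neg h1, if_neg h2, neg_zero, zpow_zero, one_smul]
      have h5 : z.1 ≠ i := by
        intro h
        rcases eq_or_ng (b := ((i, true) : Fin n × Bool)) h with h | h
        exacts [h1 h, h2 h]
      rw [nZ_apply_of_ne Fr (x := (i, true)) h5, sg_of_ne h5 (by have := z.1.2; omega)]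

omit hH in
theorem Cf_sg (i : Fin n) (z : Fin n × Bool) : Cf i (wt (sg i z)) = -Cf i (wt z) := by
  have h1 : Cf i (bt i) = 2 := by
    have := A_apply (n := n) i i
    rw [if_pos rfl] at this
    exact this
  rw [wt_sg, sub_eq_add_neg, ← neg_smul, Cf_add, Cf_smul, h1]
  ring

theorem HW_b (i : Fin n) {c : F} (hc : c ≠ 0) (z : Fin n × Bool) :
    (NW hH i c * NW hH i 1) (Fr.b z) = c ^ Cf i (wt z) • Fr.b z := by
  rw [mul_apply', NW_b hH i one_ne_zero, one_zpow, one_smul, NW_b hH i hc, Cf_sg, _root_.neg_neg, sg_sg]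

omit hH in
theorem pairing_eq (i : Fin n) {x : Fin n → ℤ} {a b : Fin n × Bool} (e : ee x = wt a + wt b) :
    pairing (A n) i x = Cf i (wt a) + Cf i (wt b) := by
  rw [← Cf_ee, e, Cf_add]

/-! ### The relations -/

variable {G : Type*} [Group G] (cs : CoxeterSystem (CoxeterMatrix.B n) G)

omit hH in
theorem nx_fst_ne {i : Fin n} (hi : (i : ℕ) + 1 < n) : ((i, true) : Fin n × Bool).1 ≠ (nx i).1 := by
  rw [nx_eq hi]; simp [Fin.ext_iff]

omit hH in
/-- short simple roots -/
theorem Cf_cases_short {i : Fin n} (hi : (i : ℕ) + 1 < n) (z : Fin n × Bool) :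
    Cf i (wt z) = 1 ∧ (z = (i, true) ∨ z = nx i) ∨ Cf i (wt z) = -1 ∧ (z = ng (i, true) ∨ z = ng (nx i)) ∨
      Cf i (wt z) = 0 ∧ z.1 ≠ i ∧ z.1 ≠ (nx i).1 := by
  rw [Cf_short hi]
  split_ifs with h1 h2 h3 h4
  · exact Or.inl ⟨rfl, Or.inl h1⟩
  · exact Or.inr (Or.inl ⟨rfl, Or.inl h2⟩)
  · exact Or.inl ⟨rfl, Or.inr h3⟩
  · exact Or.inr (Or.inl ⟨rfl, Or.inr h4⟩)
  · refine Or.inr (Or.inr ⟨rfl, ?_, ?_⟩)
    · intro h5
      rcases eq_or_ng (b := ((i, true) : Fin n × Bool)) h5 with h6 | h6
      exacts [h1 h6, h2 h6]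
    · intro h5
      rcases eq_or_ng h5 with h6 | h6
      exacts [h3 h6, h4 h6]

omit hH in
/-- long simple root -/
theorem Cf_cases_long {i : Fin n} (hi : ¬ (i : ℕ) + 1 < n) (z : Fin n × Bool) :
    Cf i (wt z) = 1 ∧ z = (i, true) ∨ Cf i (wt z) = -1 ∧ z = ng (i, true) ∨ Cf i (wt z) = 0 ∧ z.1 ≠ i := by
  rw [Cf_long hi]
  split_ifs with h1 h2
  · exact Or.inl ⟨rfl, h1⟩
  · exact Or.inr (Or.inl ⟨rfl, h2⟩)
  · refine Or.inr (Or.inr ⟨rfl, ?_⟩)
    intro h5
    rcases eq_or_ng (b := ((i, true) : Fin n × Bool)) h5 with h6 | h6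
    exacts [h1 h6, h2 h6]

omit hH in
theorem ng_ne_self (z : Fin n × Bool) : ng z ≠ z := by
  intro h
  have := congrArg Prod.snd h
  simp [ng] at this

theorem comm_same {p q : Fin n × Bool} (hpq : p.1 ≠ q.1) (t u : F) :
    Commute (Fr.X p (ng q) t) (Fr.X p q u) := by
  have e1 := Fr.X_mul_X_same hpq u t
  rw [tr_eq hH, Fr.Z_one, one_mul] at e1
  exact e1.symm

omit hH in
theorem bracket {x y z : Fin n × Bool} (hxy : x.1 ≠ y.1) (hyz : y.1 ≠ z.1) (hxz : x.1 ≠ z.1) (s t : F) :
    ⁅Fr.X x y s, Fr.X (ng y) z t⁆ = Fr.X x z (s * t) := by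
  have e1 := Fr.conj_X_X hxy hyz hxz s t
  rw [commutatorElement_def]
  have e3 : Fr.X x y s * Fr.X (ng y) z t * (Fr.X x y s)⁻¹ = _ := e1
  rw [e3]
  exact mul_inv_cancel_right _ _

/-- `[Z_y, X_{x, -y}]` -/
theorem bracket_ZX {x y : Fin n × Bool} (hxy : x.1 ≠ y.1) (t u : F) :
    ⁅Fr.Z y (ad hH t), Fr.X x (ng y) u⁆ = Fr.X x y (t * u) * Fr.Z x (ad hH (t * u ^ 2)) := by
  have e1 := Fr.conj_X_Z hxy u (ad hH t)
  rw [hH.sig, smul_ad, hH.eps, hH.η, inv_one, one_mul, one_mul, ad_c, hH.sig, hH.neg] at e1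
  have e2 : Fr.X x (ng y) u * Fr.Z y (ad hH t) * (Fr.X x (ng y) u)⁻¹ = _ := e1
  have hX : (Fr.X x y (t * u))⁻¹ = Fr.X x y (t * u) := by rw [← Fr.X_neg, hH.neg]
  have hZ : (Fr.Z x (ad hH (u * u * t)))⁻¹ = Fr.Z x (ad hH (u * u * t)) := by
    rw [← mul_eq_one_iff_inv_eq, ← Fr.Z_mul, ← ad_add, hH.two, ad_zero, Fr.Z_one]
  rw [commutatorElement_def]
  calc Fr.Z y (ad hH t) * Fr.X x (ng y) u * (Fr.Z y (ad hH t))⁻¹ * (Fr.X x (ng y) u)⁻¹ =
      Fr.Z y (ad hH t) * (Fr.X x (ng y) u * Fr.Z y (ad hH t) * (Fr.X x (ng y) u)⁻¹)⁻¹ := by group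
    _ = Fr.Z y (ad hH t) * (Fr.Z x (ad hH (u * u * t)) * Fr.X x y (t * u) * Fr.Z y (ad hH t))⁻¹ := by rw [e2]
    _ = (Fr.X x y (t * u))⁻¹ * (Fr.Z x (ad hH (u * u * t)))⁻¹ := by group
    _ = _ := by rw [hX, hZ]; congr 3; ring

omit hH in
/-- `⟨α_i, x^∨⟩ = -1` is impossible for `x = -p + b` and `α_i = 2 p` -/
theorem no_short_long [Finite G] {i : Fin n} (hi : ¬ (i : ℕ) + 1 < n) {x : Fin n → ℤ} {b : Fin n × Bool}
    (hx : IsRoot cs (isCartan n) x) (e : ee x = wt (ng (i, true)) + wt b) (hb : b.1 ≠ i)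
    (h : cpr cs (isCartan n) (sr i) x = -1) : False := by
  have e1 : ee (sr i + (2 : ℤ) • x) = wt b + wt b := by
    rw [ee_add, ee_smul, ee_sr, bt, nx_eq' hi, e, wt_ng]
    module
  have hy : IsRoot cs (isCartan n) (sr i + (2 : ℤ) • x) := isRoot_iff.2 ⟨b, b, Or.inr rfl, e1⟩
  have h1 : cpr cs (isCartan n) (sr i + (2 : ℤ) • x) x = 3 := by
    rw [cpr_add cs _ _ _ hx, cpr_smul cs _ _ _ hx, cpr_self cs _ hx, h]
    norm_num
  have h2 := isRoot_refl cs (isCartan n) hy hx
  rw [h1] at h2
  obtain ⟨c, d, hcd, e2⟩ := exists_of_isRoot cs h2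
  have e3 : ee (sr i + (2 : ℤ) • x - (3 : ℤ) • x) = (3 : ℤ) • wt ((i, true) : Fin n × Bool) - wt b := by
    rw [sub_eq_add_neg, ee_add, ee_neg, ee_smul, e1, e, wt_ng]
    module
  rw [e3] at e2
  have h3 := congrFun e2 i
  have hc : wt c i ≤ 1 := by
    rw [wt_apply]; split_ifs <;> norm_num
  have hd : wt d i ≤ 1 := by
    rw [wt_apply]; split_ifs <;> norm_num
  have hb' : wt b i = 0 := by rw [wt_apply, if_neg (fun h => hb h.symm)]
  have hp' : wt ((i, true) : Fin n × Bool) i = 1 := by rw [wt_apply, if_pos rfl, if_pos rfl]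
  simp only [Pi.sub_apply, Pi.smul_apply, Pi.add_apply, smul_eq_mul, hb', hp'] at h3
  omega

theorem data_C [Finite G] : Data cs (isCartan n) (eC hH) := by
  refine Data.mk' hH.two ?_ ?_ ?_ ?_ ?_ ?_ ?_ ?_
  · intro x hx t u
    obtain ⟨a, b, hab, e⟩ := exists_of_isRoot cs hx
    rw [eC_eq hH hab e, eC_eq hH hab e, eC_eq hH hab e, PE_add hH hab]
  · intro x hx t ht
    obtain ⟨a, b, hab, e⟩ := exists_of_isRoot cs hx
    rw [eC_eq hH hab e] at ht
    exact PE_inj hH hab ht
  · intro i x hx t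
    obtain ⟨a, b, hab, e⟩ := exists_of_isRoot cs hx
    rw [nel, nc_eC hH, eC_eq hH hab e, rep_simple, eC_eq hH (hab.sg i) (ee_refl_of e),
      conj_PE hH (isIso_NW hH _ _) (NW_b hH i one_ne_zero) (fun y z => sg_fst_eq i) hab, one_zpow, one_zpow, one_mul,
      one_mul]
  · intro i x hx c hc t
    obtain ⟨a, b, hab, e⟩ := exists_of_isRoot cs hx
    rw [hel, nel, nc_eC hH, nc_eC hH, eC_eq hH hab e, eC_eq hH hab e,
      conj_PE hH (HForm.IsIso.mul H (isIso_NW hH _ _) (isIso_NW hH _ _)) (s := id) (HW_b hH i hc)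
        (fun y z => Iff.rfl) hab, pairing_eq i e, zpow_add₀ hc]
    rfl
  · intro x i hx _ _
    obtain ⟨a, b, hab, e⟩ := exists_of_isRoot cs hx
    rw [pairing_eq i e]
    by_cases hi : (i : ℕ) + 1 < n
    · rcases Cf_cases_short hi a with h1 | h1 | h1 <;> rcases Cf_cases_short hi b with h2 | h2 | h2 <;>
        rw [h1.1, h2.1] <;> norm_num
    · rcases Cf_cases_long hi a with h1 | h1 | h1 <;> rcases Cf_cases_long hi b with h2 | h2 | h2 <;>
        rw [h1.1, h2.1] <;> norm_num
  · intro x i hx hne hne' hc t u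
    obtain ⟨a, b, hab, e⟩ := exists_of_isRoot cs hx
    rw [pairing_eq i e] at hc
    rw [commutatorElement_eq_one_iff_commute, eC_eq hH hab e, eC_eq hH (ok_nx i) (ee_sr i)]
    by_cases hi : (i : ℕ) + 1 < n
    · rw [PE_ne hH (nx_fst_ne hi)]
      rcases hab with hab | rfl
      · rw [PE_ne hH hab]
        -- a symmetric statement
        have key : ∀ a b : Fin n × Bool, a.1 ≠ b.1 → 0 ≤ Cf i (wt a) + Cf i (wt b) → Cf i (wt a) = -1 →
            Commute (Fr.X a b t) (Fr.X (i, true) (nx i) u) := by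
          intro a b hab hc h1
          rcases Cf_cases_short hi a with h3 | h3 | h3
          · rw [h3.1] at h1; norm_num at h1
          · rcases Cf_cases_short hi b with h2 | h2 | h2
            · rcases h3.2 with h4 | h4 <;> rcases h2.2 with h5 | h5
              · exfalso
                subst h4; subst h5
                exact hab rfl
              · subst h4; subst h5
                rw [X_swap' hH hab, X_swap' hH (nx_fst_ne hi)]
                exact comm_same hH (nx_fst_ne hi).symm t u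
              · subst h4; subst h5
                rw [X_swap' hH hab]
                exact comm_same hH (nx_fst_ne hi) t u
              · exfalso
                subst h4; subst h5
                exact hab rfl
            · rw [h3.1, h2.1] at hc; norm_num at hc
            · rw [h3.1, h2.1] at hc; norm_num at hc
          · rw [h3.1] at h1; norm_num at h1
        by_cases h1 : Cf i (wt a) = -1
        · exact key a b hab hc h1
        by_cases h2 : Cf i (wt b) = -1
        · rw [X_swap' hH hab]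
          exact key b a hab.symm (by rwa [add_comm]) h2
        have h3 : ∀ z : Fin n × Bool, Cf i (wt z) ≠ -1 → (i, true) ≠ neg z ∧ nx i ≠ neg z := by
          intro z hz
          have h4 := Cf_short hi z
          constructor
          · intro h5
            apply hz
            have h6 : z = ng (i, true) := by rw [h5]; exact (ng_ng z).symm
            rw [h4, if_neg (by rw [h6]; exact ng_ne_self _), if_pos h6]
          · intro h5
            apply hz
            have h6 : z = ng (nx i) := by rw [h5]; exact (ng_ng z).symm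
            have h7 : z.1 ≠ i := by rw [h6]; exact (nx_fst_ne hi).symm
            rw [h4, if_neg (fun h => h7 (by rw [h])), if_neg (fun h => h7 (by rw [h]; rfl)),
              if_neg (by rw [h6]; exact ng_ne_self _), if_pos h6]
        exact Fr.commute_XX (h3 a h1).1 (h3 b h2).1 (h3 a h1).2 (h3 b h2).2 t u
      · rw [PE_self]
        have h1 : Cf i (wt a) ≠ -1 := by
          intro h
          rw [h] at hc; norm_num at hc
        refine Fr.commute_ZX ?_ ?_ _ u
        · intro h5
          apply h1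
          have h6 : a = ng (i, true) := by rw [h5]; exact (ng_ng a).symm
          rw [Cf_short hi, if_neg (by rw [h6]; exact ng_ne_self _), if_pos h6]
        · intro h5
          apply h1
          have h6 : a = ng (nx i) := by rw [h5]; exact (ng_ng a).symm
          have h7 : a.1 ≠ i := by rw [h6]; exact (nx_fst_ne hi).symm
          rw [Cf_short hi, if_neg (fun h => h7 (by rw [h])), if_neg (fun h => h7 (by rw [h]; rfl)),
            if_neg (by rw [h6]; exact ng_ne_self _), if_pos h6]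
    · rw [nx_eq' hi, PE_self]
      have h3 : ∀ z : Fin n × Bool, Cf i (wt z) ≠ -1 → z ≠ neg (i, true) := by
        intro z hz h
        apply hz
        have h' : z = ng (i, true) := h
        rw [Cf_long hi, if_neg (by rw [h']; exact ng_ne_self _), if_pos h']
      rcases hab with hab | rfl
      · rw [PE_ne hH hab]
        have h1 : Cf i (wt a) ≠ -1 := by
          intro h
          rcases Cf_cases_long hi a with h4 | h4 | h4
          · rw [h4.1] at h; norm_num at h
          · rcases Cf_cases_long hi b with h5 | h5 | h5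
            · rw [h4.2, h5.2] at hab
              exact hab rfl
            · rw [h4.1, h5.1] at hc; norm_num at hc
            · rw [h4.1, h5.1] at hc; norm_num at hc
          · rw [h4.1] at h; norm_num at h
        have h2 : Cf i (wt b) ≠ -1 := by
          intro h
          rcases Cf_cases_long hi b with h4 | h4 | h4
          · rw [h4.1] at h; norm_num at h
          · rcases Cf_cases_long hi a with h5 | h5 | h5
            · rw [h4.2, h5.2] at hab
              exact hab rfl
            · rw [h4.1, h5.1] at hc; norm_num at hc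
            · rw [h4.1, h5.1] at hc; norm_num at hc
          · rw [h4.1] at h; norm_num at h
        exact (Fr.commute_ZX (h3 a h1) (h3 b h2) _ t).symm
      · rw [PE_self]
        have h1 : Cf i (wt a) ≠ -1 := by
          intro h
          rw [h] at hc; norm_num at hc
        by_cases h2 : a.1 = i
        · rcases eq_or_ng (b := ((i, true) : Fin n × Bool)) h2 with h4 | h4
          · rw [h4]
            show Fr.Z _ _ * Fr.Z _ _ = Fr.Z _ _ * Fr.Z _ _
            rw [← Fr.Z_mul, ← Fr.Z_mul, ← ad_add, ← ad_add, add_comm]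
          · exact absurd h4 (h3 a h1)
        · have h5 := Fr.Z_mul_Z (x := a) (y := (i, true)) h2 (ad hH t) (ad hH u)
          rw [ad_w, ad_w, H.zero_left, map_zero, mul_zero, _root_.neg_zero, Fr.X_zero, one_mul] at h5
          exact h5
  · intro x i hx hp hp' t u
    obtain ⟨a, b, hab, e⟩ := exists_of_isRoot cs hx
    rw [pairing_eq i e] at hp
    have hab' : a.1 ≠ b.1 := by
      rcases hab with hab | rfl
      · exact hab
      · omega
    by_cases hi : (i : ℕ) + 1 < n
    · have key : ∀ a b : Fin n × Bool, a.1 ≠ b.1 → ee x = wt a + wt b → Cf i (wt a) = -1 → Cf i (wt b) = 0 →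
          ⁅eC hH x t, eC hH (sr i) u⁆ = eC hH (x + sr i) (t * u) := by
        intro a b hab e h1 h2
        have hb : b.1 ≠ i ∧ b.1 ≠ (nx i).1 := by
          rcases Cf_cases_short hi b with h3 | h3 | h3
          · rw [h3.1] at h2; norm_num at h2
          · rw [h3.1] at h2; norm_num at h2
          · exact h3.2
        have ha : a = ng (i, true) ∨ a = ng (nx i) := by
          rcases Cf_cases_short hi a with h3 | h3 | h3
          · rw [h3.1] at h1; norm_num at h1
          · exact h3.2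
          · rw [h3.1] at h1; norm_num at h1
        rcases ha with rfl | rfl
        · have e1 : ee (x + sr i) = wt b + wt (nx i) := by
            rw [ee_add, e, ee_sr, bt, wt_ng]; abel
          rw [eC_eq hH (Or.inl hb.2) e1, eC_eq hH (Or.inl hab) e, eC_eq hH (ok_nx i) (ee_sr i), PE_ne hH hb.2,
            PE_ne hH hab, PE_ne hH (nx_fst_ne hi), X_swap' hH hab]
          have := bracket (Fr := Fr) (x := b) (y := ng (i, true)) (z := nx i) hb.1 (nx_fst_ne hi) hb.2 t u
          rwa [ng_ng] at this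
        · have e1 : ee (x + sr i) = wt b + wt (i, true) := by
            rw [ee_add, e, ee_sr, bt, wt_ng]; abel
          have hok : b.1 ≠ ((i, true) : Fin n × Bool).1 := hb.1
          rw [eC_eq hH (Or.inl hok) e1, eC_eq hH (Or.inl hab) e, eC_eq hH (ok_nx i) (ee_sr i), PE_ne hH hok,
            PE_ne hH hab, PE_ne hH (nx_fst_ne hi), X_swap' hH hab, X_swap' hH (nx_fst_ne hi)]
          have := bracket (Fr := Fr) (x := b) (y := ng (nx i)) (z := (i, true)) hb.2 (nx_fst_ne hi).symm hb.1 t u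
          rwa [ng_ng] at this
      rcases Cf_cases_short hi a with h1 | h1 | h1 <;> rcases Cf_cases_short hi b with h2 | h2 | h2
      · rw [h1.1, h2.1] at hp; norm_num at hp
      · rw [h1.1, h2.1] at hp; norm_num at hp
      · rw [h1.1, h2.1] at hp; norm_num at hp
      · rw [h1.1, h2.1] at hp; norm_num at hp
      · rw [h1.1, h2.1] at hp; norm_num at hp
      · exact key a b hab' e h1.1 h2.1
      · rw [h1.1, h2.1] at hp; norm_num at hp
      · exact key b a hab'.symm (e.trans (add_comm _ _)) h2.1 h1.1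
      · rw [h1.1, h2.1] at hp; norm_num at hp
    · exfalso
      rcases Cf_cases_long hi a with h1 | h1 | h1 <;> rcases Cf_cases_long hi b with h2 | h2 | h2
      · rw [h1.1, h2.1] at hp; norm_num at hp
      · rw [h1.1, h2.1] at hp; norm_num at hp
      · rw [h1.1, h2.1] at hp; norm_num at hp
      · rw [h1.1, h2.1] at hp; norm_num at hp
      · rw [h1.1, h2.1] at hp; norm_num at hp
      · exact no_short_long cs hi hx (by rw [e, h1.2]) h2.2 hp'
      · rw [h1.1, h2.1] at hp; norm_num at hp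
      · exact no_short_long cs hi hx (by rw [e, h2.2]; exact add_comm _ _) h1.2 hp'
      · rw [h1.1, h2.1] at hp; norm_num at hp
  · intro x i hx hp hp' t u
    obtain ⟨a, b, hab, e⟩ := exists_of_isRoot cs hx
    rw [pairing_eq i e] at hp
    -- `x = -α_i` is excluded
    have hneg : x ≠ -sr i := by
      rintro rfl
      rw [cpr_neg_right cs (isCartan n) _ (isRoot_sr cs _ i), cpr_self cs _ (isRoot_sr cs _ i)] at hp'
      norm_num at hp'
    by_cases hi : (i : ℕ) + 1 < n
    · have hab' : a = b := by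
        rcases hab with hab | hab
        · exfalso
          apply hneg
          apply ee_injective
          rw [e, ee_neg_sr]
          rcases Cf_cases_short hi a with h1 | h1 | h1 <;> rcases Cf_cases_short hi b with h2 | h2 | h2 <;>
            rw [h1.1, h2.1] at hp <;> norm_num at hp
          rcases h1.2 with h3 | h3 <;> rcases h2.2 with h4 | h4
          · subst h3; subst h4; exact absurd rfl hab
          · rw [h3, h4]
          · rw [h3, h4]; exact add_comm _ _
          · subst h3; subst h4; exact absurd rfl hab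
        · exact hab
      subst hab'
      have h1 : Cf i (wt a) = -1 := by omega
      have ha : a = ng (i, true) ∨ a = ng (nx i) := by
        rcases Cf_cases_short hi a with h3 | h3 | h3
        · rw [h3.1] at h1; norm_num at h1
        · exact h3.2
        · rw [h3.1] at h1; norm_num at h1
      rcases ha with rfl | rfl
      · have e1 : ee (x + sr i) = wt (nx i) + wt (ng (i, true)) := by
          rw [ee_add, e, ee_sr, bt, wt_ng]; abel
        have e2 : ee (x + (2 : ℤ) • sr i) = wt (nx i) + wt (nx i) := by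
          rw [ee_add, ee_smul, e, ee_sr, bt, wt_ng]; module
        have hne : (nx i).1 ≠ (ng (i, true) : Fin n × Bool).1 := (nx_fst_ne hi).symm
        rw [eC_eq hH (Or.inl hne) e1, eC_eq hH (Or.inr rfl) e2, eC_eq hH (Or.inr rfl) e,
          eC_eq hH (ok_nx i) (ee_sr i), PE_self, PE_self, PE_ne hH hne, PE_ne hH (nx_fst_ne hi),
          X_swap' hH (nx_fst_ne hi)]
        have := bracket_ZX hH (x := nx i) (y := ng (i, true)) hne t u
        rwa [ng_ng] at this
      · have e1 : ee (x + sr i) = wt (i, true) + wt (ng (nx i)) := by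
          rw [ee_add, e, ee_sr, bt, wt_ng]; abel
        have e2 : ee (x + (2 : ℤ) • sr i) = wt (i, true) + wt (i, true) := by
          rw [ee_add, ee_smul, e, ee_sr, bt, wt_ng]; module
        have hne : ((i, true) : Fin n × Bool).1 ≠ (ng (nx i)).1 := nx_fst_ne hi
        rw [eC_eq hH (Or.inl hne) e1, eC_eq hH (Or.inr rfl) e2, eC_eq hH (Or.inr rfl) e,
          eC_eq hH (ok_nx i) (ee_sr i), PE_self, PE_self, PE_ne hH hne, PE_ne hH (nx_fst_ne hi)]
        have := bracket_ZX hH (x := (i, true)) (y := ng (nx i)) hne t u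
        rwa [ng_ng] at this
    · exfalso
      apply hneg
      apply ee_injective
      rw [e, ee_neg_sr, nx_eq' hi]
      rcases Cf_cases_long hi a with h1 | h1 | h1 <;> rcases Cf_cases_long hi b with h2 | h2 | h2 <;>
        rw [h1.1, h2.1] at hp <;> norm_num at hp
      rw [h1.2, h2.2]

/-! ### The characters of the torus -/

theorem exists_chi {t : V ≃ₗ[F] V} (hI : H.IsIso t) (hm : Mono Fr t id) :
    ∃ χ : (Fin n → ℤ) →+ Additive Fˣ, ∀ x, IsRoot cs (isCartan n) x → ∀ u : F,
      t * eC hH x u * t⁻¹ = eC hH x (((χ x).toMul : Fˣ) * u) := by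
  choose l hl0 hl using hm
  -- the scalars of opposite vectors are inverse
  have hinv : ∀ z, l z * l (ng z) = 1 := by
    intro z
    have h1 := hI (Fr.b z) (Fr.b (neg z))
    have h2 : t (Fr.b z) = l z • Fr.b z := hl z
    have h3 : t (Fr.b (neg z)) = l (ng z) • Fr.b (neg z) := hl (ng z)
    rw [h2, h3, H.smul_left, H.smul_right, Fr.hb_self_neg, hH.η, mul_one, hH.sig] at h1
    exact h1
  let v : Fin n → Fˣ := fun k => Units.mk0 (l (k, true)) (hl0 _)
  let χ : (Fin n → ℤ) →+ Additive Fˣ :=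
    { toFun := fun x => ∑ k, ee x k • Additive.ofMul (v k)
      map_zero' := Finset.sum_eq_zero fun k _ => by
        have h1 : ee (0 : Fin n → ℤ) = 0 := by
          have := ee_smul (n := n) 0 0
          rwa [zero_smul, zero_smul] at this
        rw [h1, Pi.zero_apply, zero_smul]
      map_add' := fun x y => by
        rw [← Finset.sum_add_distrib]
        exact Finset.sum_congr rfl fun k _ => by rw [ee_add, Pi.add_apply]; exact add_zsmul _ _ _ }
  have hwt : ∀ a : Fin n × Bool, ((∑ k, wt a k • Additive.ofMul (v k)).toMul : Fˣ) = l a := by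
    intro a
    rw [Finset.sum_eq_single a.1]
    · obtain ⟨k, s⟩ := a
      rw [wt_apply, if_pos rfl]
      cases s
      · have h1 := hinv (k, true)
        rw [if_neg Bool.false_ne_true, neg_smul, one_smul, toMul_neg, toMul_ofMul, Units.val_inv_eq_inv_val]
        exact (eq_inv_of_mul_eq_one_right h1).symm
      · rw [if_pos rfl, one_smul, toMul_ofMul]
        rfl
    · intro k _ hk
      rw [wt_apply, if_neg hk, zero_smul]
    · intro hk; exact absurd (Finset.mem_univ _) hk
  refine ⟨χ, fun x hx u => ?_⟩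
  obtain ⟨a, b, hab, e⟩ := exists_of_isRoot cs hx
  have h1 : ((χ x).toMul : Fˣ) = l a * l b := by
    show (((∑ k, ee x k • Additive.ofMul (v k)).toMul : Fˣ) : F) = _
    rw [e]
    have h2 : ∑ k, (wt a + wt b) k • Additive.ofMul (v k) =
        ∑ k, wt a k • Additive.ofMul (v k) + ∑ k, wt b k • Additive.ofMul (v k) := by
      rw [← Finset.sum_add_distrib]
      exact Finset.sum_congr rfl fun k _ => add_zsmul _ _ _
    rw [h2, toMul_add, Units.val_mul, hwt, hwt]
  rw [eC_eq hH hab e, eC_eq hH hab e, conj_PE hH hI (s := id) hl (fun y z => Iff.rfl) hab, h1]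
  rfl

/-! ### Models -/

section model

open Cfsg.Agent.TitsThree.FrameCN

variable {K : Type*} [Group K] (M : Model Fr K)

theorem PE_mem (a b : Fin n × Bool) (t : F) : PE hH a b t ∈ M.I := by
  unfold PE
  split_ifs
  · exact M.hZ _ _
  · exact M.hX _ _ _

theorem eC_mem (x : Fin n → ℤ) (t : F) : eC hH x t ∈ M.I := by
  unfold eC
  split_ifs
  · exact PE_mem hH M _ _ _
  · exact one_mem _

/-- the root elements of the isometry group -/
noncomputable def eI (x : Fin n → ℤ) (t : F) : ↥M.I := ⟨eC hH x t, eC_mem hH M x t⟩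

/-- the root elements of the group -/
noncomputable def eM (x : Fin n → ℤ) (t : F) : K := M.φ (eI hH M x t)

theorem data_I [Finite G] : Data cs (isCartan n) (eI hH M) := by
  have D := data_C hH cs
  have hn : ∀ x c, nc (eC hH) x c = ((nc (eI hH M) x c : ↥M.I) : V ≃ₗ[F] V) := fun x c => rfl
  have hnel : ∀ x, nel (eC hH) x = ((nel (eI hH M) x : ↥M.I) : V ≃ₗ[F] V) := fun x => rfl
  have hh : ∀ x c, hel (eC hH) x c = ((hel (eI hH M) x c : ↥M.I) : V ≃ₗ[F] V) := fun x c => rfl
  refine ⟨D.two, ?_, ?_, ?_, ?_, D.lace, ?_, ?_, ?_⟩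
  · intro x hx t u
    exact Subtype.ext (D.add x hx t u)
  · intro x hx t ht
    exact D.inj x hx t (congrArg Subtype.val ht)
  · intro i x hx t
    exact Subtype.ext (D.refl i x hx t)
  · intro i x hx c hc t
    exact Subtype.ext (D.tor i x hx c hc t)
  · intro x y hx hy h1 h2 h3 t u
    exact Subtype.ext (D.comm0 x y hx hy h1 h2 h3 t u)
  · intro x y hx hy h1 h2 t u
    exact Subtype.ext (D.comm1 x y hx hy h1 h2 t u)
  · intro x y hx hy h1 h2 t u
    exact Subtype.ext (D.comm2 x y hx hy h1 h2 t u)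

theorem eM_inj {x : Fin n → ℤ} (hx : IsRoot cs (isCartan n) x) {t : F} (h : eM hH M x t = 1) : t = 0 := by
  obtain ⟨a, b, hab, e⟩ := exists_of_isRoot cs hx
  obtain ⟨l, hl⟩ := M.ker (Fr.b (ng b)) (eI hH M x t) h
  have h1 : PE hH a b t (Fr.b (ng b)) = l • Fr.b (ng b) := by
    rw [← eC_eq hH hab e]; exact hl
  rw [PE_apply hH hab] at h1
  by_contra ht
  have hab' : a ≠ ng b := by
    rcases hab with h2 | h2
    · intro h3; exact h2 (by rw [h3]; rfl)
    · rw [h2]; exact (ng_ne_self b).symm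
  have h2 : Fr.b a = (t⁻¹ * (l - 1)) • Fr.b (ng b) := by
    rw [mul_smul, sub_smul, one_smul, ← h1, add_sub_cancel_left, smul_smul, inv_mul_cancel₀ ht, one_smul]
  by_cases h3 : t⁻¹ * (l - 1) = 0
  · rw [h3, zero_smul] at h2
    exact b_ne_zero a h2
  · exact WittRGD.not_prop hab' h3 h2

theorem data_M [Finite G] : Data cs (isCartan n) (eM hH M) := by
  refine SLRow.TypeA.data_map (data_I hH cs M) M.φ fun x hx t ht => ?_
  have h3 := eM_inj hH cs M hx ht
  subst h3
  exact (data_I hH cs M).zero hx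

theorem nel_eM (i : Fin n) : nel (eM hH M) (sr i) = M.φ ⟨NW hH i 1, by
    rw [← nc_eC hH]; exact (nc (eI hH M) (sr i) 1).2⟩ := by
  have h1 : nel (eM hH M) (sr i) = M.φ (nel (eI hH M) (sr i)) := by
    rw [nel_def, nel_def, map_mul, map_mul]
    rfl
  rw [h1]
  exact congrArg M.φ (Subtype.ext (nc_eC hH i 1))

/-- **`ChevTwo.Sys` of a symplectic model of characteristic two.** -/
theorem sys_model [Finite F] [Finite V] [Finite G] [Fact (Nat.Prime 2)] [CharP F 2] (hA : AmbT Fr 2 M.I)
    {p0 : Fr.Adm} (hp0 : p0.c = 1) :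
    Sys (WittAll.rgdC_model M hA (p0 := p0) (by rw [hp0]; exact one_ne_zero) cs) (eM hH M) where
  data := data_M hH cs M
  mem_X x hx g := by
    obtain ⟨a, b, hab, e⟩ := exists_of_isRoot cs hx
    rw [WittModel.mem_X]
    constructor
    · rintro ⟨g, hg, hgx, rfl⟩
      rw [rg_eq Fr hab e] at hgx
      have h1 : ∃ t, g = PE hH a b t := by
        rcases hab with hab | rfl
        · rw [PG_ne Fr hab] at hgx
          obtain ⟨t, ht⟩ := hgx
          exact ⟨t, by rw [PE_ne hH hab]; exact ht⟩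
        · rw [PG_self] at hgx
          obtain ⟨q, hq⟩ := hgx
          exact ⟨q.c, by rw [PE_self, ← eq_ad hH q]; exact hq⟩
      obtain ⟨t, ht⟩ := h1
      refine ⟨t, congrArg M.φ (Subtype.ext ?_)⟩
      show eC hH x t = g
      rw [eC_eq hH hab e, ht]
    · rintro ⟨t, rfl⟩
      refine ⟨eC hH x t, eC_mem hH M x t, ?_, rfl⟩
      rw [rg_eq Fr hab e, eC_eq hH hab e]
      rcases hab with hab | rfl
      · rw [PG_ne Fr hab, PE_ne hH hab]
        exact ⟨t, rfl⟩
      · rw [PG_self, PE_self]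
        exact ⟨_, rfl⟩
  n_eq i := by
    rw [nel_eM]
    refine congrArg M.φ (Subtype.ext ?_)
    show nn Fr p0 i = NW hH i 1
    have h1 : p0 = ad hH 1 := by rw [eq_ad hH p0, hp0]
    rw [h1]
    rfl
  chi := by
    rintro _ ⟨⟨t, htI⟩, ht, rfl⟩
    have ht' : t ∈ Tor Fr M.I := Subgroup.mem_subgroupOf.1 ht
    obtain ⟨χ, hχ⟩ := exists_chi hH cs (hA.iso t htI) ht'.2
    refine ⟨χ, fun x hx u => ?_⟩
    show M.φ _ * M.φ _ * (M.φ _)⁻¹ = M.φ _
    rw [← map_mul, ← map_inv, ← map_mul]
    congr 1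
    exact Subtype.ext (hχ x hx u)

end model

end frame

/-! ### `PSp` -/

theorem hypC_Sp (m : ℕ) (F : Type*) [Field F] [CharP F 2] : HypC (SpIdent.frame m F) where
  sig _ := rfl
  eps := by rw [SpIdent.form_ε]; exact CharTwo.neg_eq 1
  two t := CharTwo.add_self_eq_zero t
  w0 p := p.ok
  ok0 _ := rfl

/-- the root elements of `PSp m F` -/
noncomputable def eSp (m : ℕ) (F : Type*) [Field F] [CharP F 2] (x : Fin m → ℤ) (t : F) : PSp m F :=
  eM (hypC_Sp m F) (KInstSp.model m F) x t

/-- **`ChevTwo.Sys` of `PSp_{2m}(q)`, `q` even.** -/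
theorem sys_PSp (m : ℕ) (F : Type*) [Field F] [Finite F] [Fact (Nat.Prime 2)] [CharP F 2] {G : Type*} [Group G]
    [Finite G] (cs : CoxeterSystem (CoxeterMatrix.B m) G) :
    Sys (WittAll.rgdC_model (KInstSp.model m F) (AmbT.of_amb WittU.amb_Sp 2) (p0 := SpIdent.adm 1) one_ne_zero cs)
      (eSp m F) :=
  sys_model (hypC_Sp m F) cs (KInstSp.model m F) (AmbT.of_amb WittU.amb_Sp 2) rfl

/-- The root groups generate. -/
theorem sup_eq_top_PSp {m : ℕ} (hm : 0 < m) (F : Type*) [Field F] {G : Type*} [Group G]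
    (cs : CoxeterSystem (CoxeterMatrix.B m) G) :
    RGD.Sup (WittModel.X (KInstSp.model m F)) {x | IsRoot cs (isCartan m) x} = ⊤ := by
  rw [eq_top_iff, ← WittModel.G1_eq_top (KInstSp.model m F) hm cs]
  exact iSup_le fun z => RGD.le_Sup z.2

/-- An element of the torus centralising the root groups is trivial. -/
theorem noCent_PSp (m : ℕ) (F : Type*) [Field F] [CharP F 2] {G : Type*} [Group G] [Finite G]
    (cs : CoxeterSystem (CoxeterMatrix.B m) G) :
    RgdCent.NoCent cs (isCartan m) (WittModel.T (KInstSp.model m F)) (WittModel.X (KInstSp.model m F)) := by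
  have hH := hypC_Sp m F
  rintro _ ⟨⟨t, htI⟩, ht, rfl⟩ hc
  have ht' : t ∈ Tor (SpIdent.frame m F) (KInstSp.model m F).I := Subgroup.mem_subgroupOf.1 ht
  have hiso := (WittU.amb_Sp (F := F) (m := m)).iso t htI
  obtain ⟨-, hm⟩ := ht'
  choose l hl0 hl using hm
  have h1 : ∀ z : Fin m × Bool, l z = 1 := by
    intro z
    obtain ⟨x, hx, e⟩ := rt_of_ok (cs := cs) (a := z) (b := z) (Or.inr rfl)
    have h2 := hc x hx (eM hH (KInstSp.model m F) x 1) (by
      rw [WittModel.mem_X]
      refine ⟨eC hH x 1, eC_mem hH (KInstSp.model m F) x 1, ?_, rfl⟩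
      rw [rg_eq _ (Or.inr rfl) e, eC_eq hH (Or.inr rfl) e, PG_self, PE_self]
      exact ⟨_, rfl⟩)
    have h3 : (KInstSp.model m F).φ ⟨t, htI⟩ * eM hH (KInstSp.model m F) x 1 *
        ((KInstSp.model m F).φ ⟨t, htI⟩)⁻¹ = eM hH (KInstSp.model m F) x (l z * l z * 1) := by
      unfold eM
      rw [← map_mul, ← map_inv, ← map_mul]
      congr 1
      apply Subtype.ext
      show t * eC hH x 1 * t⁻¹ = eC hH x (l z * l z * 1)
      rw [eC_eq hH (Or.inr rfl) e, eC_eq hH (Or.inr rfl) e]
      exact conj_PE hH hiso (s := id) hl (fun y z => Iff.rfl) (Or.inr rfl) 1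
    rw [h2, mul_inv_cancel_right, mul_one] at h3
    have D := data_M hH cs (KInstSp.model m F)
    have h4 : l z * l z = 1 := (D.injective hx h3).symm
    have h5 : (l z + 1) * (l z + 1) = 0 := by
      have h6 : (l z + 1) * (l z + 1) = l z * l z + (l z + l z) + 1 := by ring
      rw [h6, h4, hH.two, add_zero, hH.two]
    have h7 : l z + 1 = 0 := mul_self_eq_zero.1 h5
    calc l z = l z + (1 + 1) := by rw [hH.two, add_zero]
      _ = 1 := by rw [← add_assoc, h7, zero_add]
  have h2 : t = 1 := by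
    refine WittRGD.Amb.eq_one_of_fix (WittU.amb_Sp (F := F) (m := m)) (fun z => ?_) fun w hw => ?_
    · have := hl z
      rw [h1, one_smul] at this
      exact this
    · rw [(Submodule.mem_bot F).1 hw, map_zero]
  subst h2
  exact map_one _

/-- The diagram is connected. -/
theorem conn_B (m : ℕ) (J : Set (Fin m)) (hJ : J.Nonempty) (hJ' : J ≠ Set.univ) :
    ∃ a ∈ J, ∃ b, b ∉ J ∧ CoxeterMatrix.B m a b ≠ 2 := by
  by_contra hcon
  push Not at hcon
  have hM : ∀ i j : Fin m, (i : ℕ) + 1 = j → CoxeterMatrix.B m i j ≠ 2 ∧ CoxeterMatrix.B m j i ≠ 2 := by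
    intro i j hij
    have h1 : i ≠ j := by
      rintro rfl; omega
    have h2 : CoxeterMatrix.B m i j = if (i : ℕ) = m - 1 ∧ (j : ℕ) = m - 2 ∨ (j : ℕ) = m - 1 ∧ (i : ℕ) = m - 2
        then 4 else (if (j : ℕ) + 1 = i ∨ (i : ℕ) + 1 = j then 3 else 2) := by
      show (if i = j then 1 else _) = _
      rw [if_neg h1]
    have h3 := (CoxeterMatrix.B m).symmetric j i
    have h4 : CoxeterMatrix.B m i j ≠ 2 := by
      rw [h2, if_pos (show (j : ℕ) + 1 = i ∨ (i : ℕ) + 1 = j from Or.inr hij)]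
      split_ifs <;> norm_num
    exact ⟨h4, by rw [h3]; exact h4⟩
  have hup : ∀ i j : Fin m, (i : ℕ) + 1 = j → (i ∈ J ↔ j ∈ J) := by
    intro i j hij
    constructor
    · intro hi
      by_contra hj
      exact (hM i j hij).1 (hcon i hi j hj)
    · intro hj
      by_contra hi
      exact (hM i j hij).2 (hcon j hj i hi)
  have hall : ∀ k : ℕ, ∀ i j : Fin m, (i : ℕ) + k = j → (i ∈ J ↔ j ∈ J) := by
    intro k
    induction k with
    | zero =>
      intro i j hij
      rw [Fin.ext (by omega : (i : ℕ) = j)]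
    | succ k ih =>
      intro i j hij
      have hk : (i : ℕ) + k < m := by have := j.2; omega
      exact (ih i ⟨i + k, hk⟩ rfl).trans (hup ⟨i + k, hk⟩ j (by show (i : ℕ) + k + 1 = j; omega))
  obtain ⟨a, ha⟩ := hJ
  apply hJ'
  ext b
  simp only [Set.mem_univ, iff_true]
  rcases Nat.le_total a b with hab | hab
  · exact (hall (b - a) a b (by omega)).1 ha
  · exact (hall (a - b) b a (by omega)).2 ha

end Cfsg.Agent.KFacts.SysSp
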