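import Mathlib
import Cfsg.Agent.KFacts.SysFour
import Cfsg.Agent.KFacts.SysFltS
import Cfsg.Agent.KFacts.SysSp
import Cfsg.Agent.Nodes.KindBC

/-!
# `BFacts` for `PSp_{2n}(q)`, `n ≥ 3`, `q ≥ 4` even (ODD, D4, free pairs)

* `rigid_B` : the diagram `B_n`, `n ≥ 3`, has no symmetries; `hyp_PSp`; `star_long`, `star_short`: the dominant roots;
* `bFacts_PSp`, `bFacts_cj_PSp`.
-/

set_option autoImplicit false
set_option linter.unusedSectionVars false

namespace Cfsg.Agent.KFacts.SysBFSp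

open CoxeterSystem Cfsg.Agent.ChevalleyStructure.CoxeterGeom Cfsg.Agent.Tits.Roots Cfsg.Agent.Tits.Core
  Cfsg.Agent.Nodes.Reps Cfsg.Agent.Nodes.BNOf Cfsg.Agent.Nodes.RGDLib Cfsg.Agent.Nodes.Coroot
  Cfsg.Agent.Nodes.PosPair Cfsg.Agent.Nodes.KindBC Cfsg.Agent.Nodes.TypeC Cfsg.Agent.Nodes
  Cfsg.Agent.KFacts.ChevTwo Cfsg.Agent.KFacts.SLRow.Diag Cfsg.Agent.KFacts.RgdCent
  Cfsg.Agent.KFacts.SysSp
  Cfsg.Agent.KFacts.SysFree Cfsg.Agent.KFacts.SysFltS Cfsg.Agent.KFacts.SysFour Cfsg.Agent.OddHalf.D4.Free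
  Cfsg.Agent.TitsThree

/-! ### The diagram -/

theorem B_eq {n : ℕ} {i j : Fin n} (h : i ≠ j) : CoxeterMatrix.B n i j =
    if (i : ℕ) = n - 1 ∧ (j : ℕ) = n - 2 ∨ (j : ℕ) = n - 1 ∧ (i : ℕ) = n - 2 then 4
      else (if (j : ℕ) + 1 = i ∨ (i : ℕ) + 1 = j then 3 else 2) := by
  show (if i = j then 1 else _) = _
  rw [if_neg h]

theorem adj_of_ne {n : ℕ} {i j : Fin n} (h : i ≠ j) (h2 : CoxeterMatrix.B n i j ≠ 2) :
    (j : ℕ) + 1 = i ∨ (i : ℕ) + 1 = j := by
  rw [B_eq h] at h2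
  by_contra hcon
  rw [if_neg hcon] at h2
  split_ifs at h2 with h3
  · have h4 : (i : ℕ) ≠ j := fun h' => h (Fin.ext h')
    omega
  · exact h2 rfl

theorem ne_of_adj {n : ℕ} {i j : Fin n} (h : (i : ℕ) + 1 = j) : CoxeterMatrix.B n i j ≠ 2 := by
  have hne : i ≠ j := by
    rintro rfl
    omega
  rw [B_eq hne, if_pos (Or.inr h : (j : ℕ) + 1 = i ∨ (i : ℕ) + 1 = j)]
  split_ifs <;> norm_num

/-- **The diagram `B_n`, `n ≥ 3`, has no symmetries.** -/
theorem rigid_B {n : ℕ} (hn : 3 ≤ n) (σ : Equiv.Perm (Fin n))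
    (hσ : ∀ i j, CoxeterMatrix.B n (σ i) (σ j) = CoxeterMatrix.B n i j) : σ = 1 := by
  have hadj : ∀ i j : Fin n, (i : ℕ) + 1 = j → (σ j : ℕ) + 1 = σ i ∨ (σ i : ℕ) + 1 = σ j := by
    intro i j hij
    have hne : i ≠ j := by
      rintro rfl
      omega
    exact adj_of_ne (σ.injective.ne hne) (by rw [hσ]; exact ne_of_adj hij)
  -- the last two
  have h1 : n - 1 < n := by omega
  have h2 : n - 2 < n := by omega
  have h3 : n - 3 < n := by omega
  have h12 : (⟨n - 1, h1⟩ : Fin n) ≠ ⟨n - 2, h2⟩ := by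
    intro h
    have := congrArg Fin.val h
    simp only at this
    omega
  have h4 := hσ ⟨n - 1, h1⟩ ⟨n - 2, h2⟩
  have h4' : CoxeterMatrix.B n ⟨n - 1, h1⟩ ⟨n - 2, h2⟩ = 4 := by
    rw [B_eq h12]
    exact if_pos (Or.inl ⟨rfl, rfl⟩)
  rw [h4', B_eq (σ.injective.ne h12)] at h4
  have h5 : (σ ⟨n - 1, h1⟩ : ℕ) = n - 1 ∧ (σ ⟨n - 2, h2⟩ : ℕ) = n - 2 := by
    have h6 : (σ ⟨n - 1, h1⟩ : ℕ) = n - 1 ∧ (σ ⟨n - 2, h2⟩ : ℕ) = n - 2 ∨
        (σ ⟨n - 2, h2⟩ : ℕ) = n - 1 ∧ (σ ⟨n - 1, h1⟩ : ℕ) = n - 2 := by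
      by_contra hcon
      rw [if_neg hcon] at h4
      split_ifs at h4
      · norm_num at h4
      · norm_num at h4
    rcases h6 with h6 | ⟨h6, h7⟩
    · exact h6
    · exfalso
      have h8 := hadj ⟨n - 3, h3⟩ ⟨n - 2, h2⟩ (by show n - 3 + 1 = n - 2; omega)
      have h9 : σ ⟨n - 3, h3⟩ ≠ σ ⟨n - 1, h1⟩ := by
        apply σ.injective.ne
        intro h
        have := congrArg Fin.val h
        simp only at this
        omega
      have h10 : (σ ⟨n - 3, h3⟩ : ℕ) ≠ σ ⟨n - 1, h1⟩ := fun h => h9 (Fin.ext h)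
      have h11 := (σ ⟨n - 3, h3⟩).2
      omega
  have key : ∀ k : ℕ, ∀ i : Fin n, (i : ℕ) + 1 + k = n → σ i = i := by
    intro k
    induction k using Nat.strong_induction_on with
    | _ k ih =>
      intro i hi
      rcases k with _ | _ | k
      · have : i = ⟨n - 1, h1⟩ := Fin.ext (by show (i : ℕ) = n - 1; omega)
        rw [this]
        exact Fin.ext h5.1
      · have : i = ⟨n - 2, h2⟩ := Fin.ext (by show (i : ℕ) = n - 2; omega)
        rw [this]
        exact Fin.ext h5.2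
      · have hi1 : (i : ℕ) + 1 < n := by omega
        have hi2 : (i : ℕ) + 2 < n := by omega
        have e1 := ih (k + 1) (by omega) ⟨i + 1, hi1⟩ (by show (i : ℕ) + 1 + 1 + (k + 1) = n; omega)
        have e2 := ih k (by omega) ⟨i + 2, hi2⟩ (by show (i : ℕ) + 2 + 1 + k = n; omega)
        have h6 := hadj i ⟨i + 1, hi1⟩ rfl
        rw [e1] at h6
        have h7 : σ i ≠ σ ⟨i + 2, hi2⟩ := by
          apply σ.injective.ne
          intro h
          have := congrArg Fin.val h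
          simp only at this
          omega
        rw [e2] at h7
        have h8 : (σ i : ℕ) ≠ i + 2 := fun h => h7 (Fin.ext h)
        simp only at h6
        exact Fin.ext (by omega)
  refine Equiv.ext fun i => ?_
  rw [Equiv.Perm.one_apply]
  exact key (n - 1 - i) i (by have := i.2; omega)

/-! ### The hypotheses -/

section

variable {m : ℕ} (hm : 3 ≤ m) (F : Type*) [Field F] [CharP F 2] {W : Type*} [Group W] [Finite W]
  (cs : CoxeterSystem (CoxeterMatrix.B m) W)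

include hm

theorem hyp_PSp : Hyp cs (isCartan m) (WittModel.T (KInstSp.model m F)) (WittModel.X (KInstSp.model m F)) where
  gen := sup_eq_top_PSp (by omega) F cs
  cent := noCent_PSp m F cs
  conn := conn_B m
  cart σ hσ i j := by
    rw [rigid_B hm σ hσ]
    rfl
  dom σ hσ r _ := by
    rw [rigid_B hm σ hσ]
    rfl

/-! ### The dominant roots -/

theorem ee_zero_nonneg {x : Fin m → ℤ} (hx : 0 ≤ x) : 0 ≤ ee x ⟨0, by omega⟩ := by
  rw [ee_apply_zero x rfl]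
  exact mul_nonneg (by unfold TypeCForm.cc; split_ifs <;> norm_num) (hx _)

theorem ee_one_nonneg {x : Fin m → ℤ} (hx : 0 ≤ x) : 0 ≤ ee x ⟨0, by omega⟩ + ee x ⟨1, by omega⟩ := by
  rw [ee_apply_zero x rfl, ee_apply_succ x (k := ⟨1, by omega⟩) (j := ⟨0, by omega⟩) rfl]
  unfold TypeCForm.cc
  rw [if_pos (by show 0 + 1 < m; omega), if_pos (by show 1 + 1 < m; omega)]
  have := hx ⟨1, by omega⟩
  simp only [Pi.zero_apply] at this
  linarith

theorem wt_eq (a : Fin m × Bool) (k : Fin m) : wt a k = if k = a.1 then TypeCForm.sn a else 0 := wt_apply a k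

theorem ite_mul_sn (k : Fin m) (c : Fin m × Bool) :
    (if c.1 = k then (1 : ℤ) else 0) * TypeCForm.sn c = if k = c.1 then TypeCForm.sn c else 0 := by
  by_cases h : c.1 = k
  · rw [if_pos h, if_pos h.symm, one_mul]
  · rw [if_neg h, if_neg (Ne.symm h), zero_mul]

theorem star_long : rt (⟨0, by omega⟩, true) (⟨0, by omega⟩, true) ∈ Star cs (isCartan m) (RGD.Pos cs (isCartan m)) := by
  refine ⟨isRoot_rt cs (Or.inr rfl), ?_⟩
  rintro x ⟨hx, hx0⟩
  obtain ⟨a, b, hab, rfl⟩ := exists_rt hx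
  have h1 := ee_zero_nonneg hm hx0
  rw [ee_rt, Pi.add_apply, wt_eq hm, wt_eq hm, ← ite_mul_sn hm, ← ite_mul_sn hm] at h1
  have e1 : TypeCForm.sn ((⟨0, by omega⟩, true) : Fin m × Bool) = 1 := rfl
  rcases hab with hab | rfl
  · rw [cpr_rt cs _ hab, ee_rt, Pi.add_apply, Pi.add_apply, wt_eq hm, wt_eq hm, e1]
    linarith
  · rw [cpr_rt_self cs, ee_rt, Pi.add_apply, wt_eq hm, e1]
    linarith

theorem star_short : rt (⟨0, by omega⟩, true) (⟨1, by omega⟩, true) ∈ Star cs (isCartan m) (RGD.Pos cs (isCartan m)) := by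
  have h01 : (⟨0, by omega⟩ : Fin m) ≠ ⟨1, by omega⟩ := by
    intro h
    have := congrArg Fin.val h
    simp only at this
    omega
  refine ⟨isRoot_rt cs (Or.inl h01), ?_⟩
  rintro x ⟨hx, hx0⟩
  obtain ⟨a, b, hab, rfl⟩ := exists_rt hx
  have h1 := ee_one_nonneg hm hx0
  rw [ee_rt, Pi.add_apply, Pi.add_apply, wt_eq hm, wt_eq hm, wt_eq hm, wt_eq hm, ← ite_mul_sn hm, ← ite_mul_sn hm,
    ← ite_mul_sn hm, ← ite_mul_sn hm] at h1
  have e1 : TypeCForm.sn ((⟨0, by omega⟩, true) : Fin m × Bool) = 1 := rfl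
  have e2 : TypeCForm.sn ((⟨1, by omega⟩, true) : Fin m × Bool) = 1 := rfl
  rcases hab with hab | rfl
  · rw [cpr_rt cs _ hab, ee_rt, Pi.add_apply, Pi.add_apply, wt_eq hm, wt_eq hm, wt_eq hm, wt_eq hm, e1, e2]
    linarith
  · rw [cpr_rt_self cs, ee_rt, Pi.add_apply, wt_eq hm, wt_eq hm, e1, e2]
    linarith

theorem star_ne : rt ((⟨0, by omega⟩, true) : Fin m × Bool) (⟨0, by omega⟩, true) ≠ rt (⟨0, by omega⟩, true) (⟨1, by omega⟩, true) := by
  intro h
  have h1 := congrFun (congrArg ee h) ⟨1, by omega⟩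
  rw [ee_rt, ee_rt, Pi.add_apply, Pi.add_apply, wt_eq hm, wt_eq hm] at h1
  have h01 : ¬ (⟨1, by omega⟩ : Fin m) = ⟨0, by omega⟩ := by
    intro h
    have := congrArg Fin.val h
    simp only at this
    omega
  simp only [h01, if_false, if_true] at h1
  have e2 : TypeCForm.sn ((⟨1, by omega⟩, true) : Fin m × Bool) = 1 := rfl
  rw [e2] at h1
  norm_num at h1

end

/-! ### `BFacts` -/

section

variable {G : Type*} [Group G] [Finite G] {K₀ : Subgroup G}

/-- **`BFacts` for `PSp_{2m}(q)`, `m ≥ 3`, `q ≥ 4` even.** -/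
theorem bFacts_PSp {m : ℕ} (hm : 3 ≤ m) (F : Type*) [Field F] [Finite F] [CharP F 2] (hq : 3 ≤ Nat.card F)
    (f : PSp m F →* G) (hf : Function.Injective f) (hK : f.range = K₀) : BFacts K₀ := by
  have : Fact (Nat.Prime 2) := ⟨Nat.prime_two⟩
  have hfin : Finite (CoxeterMatrix.B m).Group := TypeC.finite_W (CoxeterMatrix.B m).toCoxeterSystem
  have hne : Nonempty (Fin m) := ⟨⟨0, by omega⟩⟩
  have H := hyp_PSp hm F (CoxeterMatrix.B m).toCoxeterSystem
  exact bFacts_of_rigid H (sys_PSp m F _) hq (rigid_B hm) hf hK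
    (out5_of_two H (sys_PSp m F _) (star_long hm _) (star_short hm _) (star_ne hm) hf hK)

/-- the conjugates of `K₀ ≅ PSp_{2m}(q)` -/
theorem bFacts_cj_PSp {m : ℕ} (hm : 3 ≤ m) (F : Type*) [Field F] [Finite F] [CharP F 2] (hq : 3 ≤ Nat.card F)
    (e : ↥K₀ ≃* PSp m F) (g : G) : BFacts (Cfsg.Agent.OddHalf.D4.CommConj.cj g K₀) := by
  let i : ↥K₀ ≃* ↥(Cfsg.Agent.OddHalf.D4.CommConj.cj g K₀) :=
    K₀.equivMapOfInjective (MulAut.conj g).toMonoidHom (MulAut.conj g).injective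
  refine bFacts_PSp hm F hq ((Subgroup.subtype _).comp (e.symm.trans i).toMonoidHom)
    ((Subgroup.subtype_injective _).comp (e.symm.trans i).injective) ?_
  ext x
  constructor
  · rintro ⟨y, rfl⟩
    exact ((e.symm.trans i) y).2
  · intro hx
    obtain ⟨y, hy⟩ := (e.symm.trans i).surjective ⟨x, hx⟩
    exact ⟨y, congrArg Subtype.val hy⟩

end

end Cfsg.Agent.KFacts.SysBFSp
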