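import Mathlib
import Cfsg.Agent.KFacts.SysFree
import Cfsg.Agent.OddHalf.D4.BFacts

/-!
# `BFacts` of case (b) for `Sys` (ODD, D4, (1B)): `OutTwo`, `sq`, `cyc`, `two`
-/

set_option autoImplicit false
set_option linter.unusedSectionVars false

namespace Cfsg.Agent.KFacts.SysCaseB

open CoxeterSystem Cfsg.Agent.ChevalleyStructure.CoxeterGeom Cfsg.Agent.Tits.Roots Cfsg.Agent.Tits.Core
  Cfsg.Agent.Nodes.Reps Cfsg.Agent.Nodes.BNOf
  Cfsg.Agent.KFacts.RgdAut Cfsg.Agent.KFacts.RgdDiag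
  Cfsg.Agent.KFacts.RgdCent Cfsg.Agent.KFacts.RgdTau
  Cfsg.Agent.KFacts.RgdSys Cfsg.Agent.KFacts.ChevTwo
  Cfsg.Agent.KFacts.SysOut Cfsg.Agent.KFacts.SysFree Cfsg.Agent.KFacts.SLRow.Diag
  Cfsg.Agent.OddHalf.D4.Free

/-! ### The sign -/

/-- A finite group whose 2-subgroups have order at most two has a character with kernel of odd order. -/
theorem exists_sign {D : Type*} [Group D] [Finite D]
    (hD : ∀ P : Subgroup D, IsPGroup 2 ↥P → ∀ σ ∈ P, ∀ τ ∈ P, σ ≠ 1 → τ ≠ 1 → σ = τ) :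
    ∃ s : D →* ℤˣ, ∀ σ, (∃ k : ℕ, σ ^ 2 ^ k = 1) → s σ = 1 → σ = 1 := by
  classical
  have := Fintype.ofFinite D
  have : Fact (Nat.Prime 2) := ⟨Nat.prime_two⟩
  refine ⟨(Equiv.Perm.sign : Equiv.Perm D →* ℤˣ).comp (MulAction.toPermHom D D), fun σ ⟨k, hk⟩ hs => ?_⟩
  by_contra hσ
  -- `σ² = 1`
  have h1 : IsPGroup 2 ↥(Subgroup.zpowers σ) := by
    intro x
    obtain ⟨m, hm⟩ := Subgroup.mem_zpowers_iff.1 x.2
    refine ⟨k, Subtype.ext ?_⟩
    show (x : D) ^ 2 ^ k = 1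
    rw [← hm, ← zpow_natCast, zpow_comm, zpow_natCast, hk, one_zpow]
  have h2 : σ ^ 2 = 1 := by
    by_contra h3
    have h4 := hD _ h1 σ (Subgroup.mem_zpowers σ) (σ ^ 2) (pow_mem (Subgroup.mem_zpowers σ) 2) hσ h3
    rw [pow_two] at h4
    exact hσ (left_eq_mul.1 h4)
  -- the order of `D`
  obtain ⟨P, hP⟩ := h1.exists_le_sylow
  have hσP : σ ∈ (P : Subgroup D) := hP (Subgroup.mem_zpowers σ)
  have h3 : Nat.card (P : Subgroup D) = 2 := by
    rw [Nat.card_eq_two_iff]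
    refine ⟨1, ⟨σ, hσP⟩, fun h4 => hσ (congrArg Subtype.val h4).symm, ?_⟩
    rw [Set.eq_univ_iff_forall]
    rintro ⟨τ, hτ⟩
    by_cases h4 : τ = 1
    · exact Or.inl (Subtype.ext h4)
    · exact Or.inr (Subtype.ext (hD _ P.isPGroup' τ hτ σ hσP h4 hσ))
  have h4 : Nat.card D = 2 * (P : Subgroup D).index := by
    have := (P : Subgroup D).card_mul_index
    rw [h3] at this
    exact this.symm
  have h5 : ¬ 2 ∣ (P : Subgroup D).index := P.not_dvd_index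
  -- the sign of the left multiplication
  have h6 : (MulAction.toPermHom D D σ) ^ 2 = 1 := by rw [← map_pow, h2, map_one]
  have h7 := Equiv.Perm.sign_of_pow_two_eq_one h6
  have h8 : Fintype.card (Function.fixedPoints (MulAction.toPermHom D D σ)) = 0 := by
    rw [Fintype.card_eq_zero_iff]
    refine ⟨fun ⟨x, hx⟩ => hσ ?_⟩
    have h9 : σ * x = x := hx
    exact mul_eq_right.1 h9
  rw [h8, Nat.sub_zero, ← Nat.card_eq_fintype_card, h4, Nat.mul_div_cancel_left _ (by norm_num)] at h7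
  have h9 : Odd (P : Subgroup D).index := Nat.not_even_iff_odd.1 fun h => h5 h.two_dvd
  rw [h9.neg_one_pow] at h7
  have h10 : Equiv.Perm.sign (MulAction.toPermHom D D σ) = 1 := hs
  rw [h7] at h10
  exact absurd h10 (by decide)

universe w

variable {I W Y : Type*} {K : Type w} [Fintype I] [DecidableEq I] [Group W] [Group Y] [Field K] {M : CoxeterMatrix I}
variable {cs : CoxeterSystem M W} {A : I → I → ℤ} {h : IsCartan M A} {e : (I → ℤ) → K → Y}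
  {T : Subgroup Y} {n : I → Y} {X : (I → ℤ) → Subgroup Y}

/-- the symmetries of the diagram -/
def Sym (M : CoxeterMatrix I) : Subgroup (Equiv.Perm I) where
  carrier := {σ | ∀ i j, M (σ i) (σ j) = M i j}
  one_mem' _ _ := rfl
  mul_mem' {σ τ} hσ hτ i j := by rw [Equiv.Perm.mul_apply, Equiv.Perm.mul_apply, hσ, hτ]
  inv_mem' {σ} hσ i j := by
    have h1 : ∀ k, σ (σ⁻¹ k) = k := fun k => σ.apply_symm_apply k
    rw [← hσ, h1, h1]

theorem exists_sym (hM : DTwo M) : ∃ s : ↥(Sym M) →* ℤˣ, ∀ σ, (∃ k : ℕ, σ ^ 2 ^ k = 1) → s σ = 1 → σ = 1 := by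
  apply exists_sign
  intro P hP σ hσ τ hτ h1 h2
  have h3 := hM (P.map (Sym M).subtype) (hP.map _) (by
    rintro _ ⟨ρ, -, rfl⟩
    exact ρ.2) σ ⟨σ, hσ, rfl⟩ τ ⟨τ, hτ, rfl⟩ (fun h0 => h1 (Subtype.ext h0)) (fun h0 => h2 (Subtype.ext h0))
  exact Subtype.ext h3

section

variable [Finite W] [Finite Y] [Finite K] [Nonempty I] [CharP K 2] {R : RGD cs h 2 T n X}
  (S : Sys R e) (H : Hyp cs h T X)

include S H

/-- **The abelian quotient of the outer automorphism group.** -/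
theorem exists_chi (hM : DTwo M) : ∃ (B : Type w) (_ : CommGroup B) (χ : MulAut Y →* B),
    ∀ α : MulAut Y, (∃ k : ℕ, α ^ 2 ^ k = 1) → χ α = 1 → ∃ y, α = MulAut.conj y := by
  obtain ⟨l, L⟩ := exists_isOut S H
  obtain ⟨s, hs⟩ := exists_sym hM
  have hcyc : IsCyclic (K ≃+* K) := LieRecognition.FieldSemilinear.isCyclic_ringAut K
  letI : CommGroup (K ≃+* K) := IsCyclic.commGroup
  let l1 : MulAut Y →* ↥(Sym M) := ((MonoidHom.fst _ _).comp l).codRestrict (Sym M) fun α => matrix_of H L α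
  refine ⟨ℤˣ × (K ≃+* K), inferInstance, (s.comp l1).prod ((MonoidHom.snd _ _).comp l), ?_⟩
  rintro α ⟨k, hk⟩ hχ
  have h1 : s (l1 α) = 1 := congrArg Prod.fst hχ
  have h2 : (l α).2 = 1 := congrArg Prod.snd hχ
  have h3 : l1 α = 1 := by
    apply hs _ ⟨k, ?_⟩ h1
    rw [← map_pow, hk, map_one]
  have h4 : (l α).1 = 1 := congrArg Subtype.val h3
  exact L.ker α k hk (Prod.ext h4 h2)

/-- **`OutTwo`** -/
theorem outTwo (hM : DTwo M) {G : Type*} [Group G] {K₀ : Subgroup G} (i : Y ≃* ↥K₀) :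
    OddHalf.D4.CaseB.OutTwo K₀ := by
  obtain ⟨B, _, χ, hχ⟩ := exists_chi S H hM
  exact OddHalf.D4.CaseB.OutTwo.of_aut i χ hχ

end

section BF

variable {G : Type*} [Group G] [Finite G] {K₀ S₀ : Subgroup G} [Finite W] [Finite K] [Nonempty I] [CharP K 2]
  {R : RGD cs h 2 T n X} (H : Hyp cs h T X) {f : Y →* G}

include H

/-- **`S / C_S(Z)` is cyclic.** -/
theorem cyc (S' : Sys R e) (hf : Function.Injective f) (hK : f.range = K₀) (hS : Good K₀ S₀) :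
    ∃ g ∈ S₀, ∀ s ∈ S₀, ∃ m : ℤ, g ^ m * s ∈ cz K₀ S₀ := by
  have hY : Finite Y := Finite.of_injective f hf
  obtain ⟨f', D, -⟩ := exists_std' H S' hf hK hS
  obtain ⟨l, L⟩ := exists_isOut S' H
  have hcyc : IsCyclic (K ≃+* K) := LieRecognition.FieldSemilinear.isCyclic_ringAut K
  let Q : Subgroup (K ≃+* K) :=
    { carrier := {τ | ∃ x ∈ S₀, ∃ φ, Acts f' x φ ∧ (l φ).2 = τ}
      one_mem' := ⟨1, one_mem _, 1, Acts.one, by rw [map_one]; rfl⟩
      mul_mem' := by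
        rintro _ _ ⟨x, hx, φ, hφ, rfl⟩ ⟨x', hx', φ', hφ', rfl⟩
        exact ⟨x * x', mul_mem hx hx', _, hφ.mul hφ', by rw [map_mul]; rfl⟩
      inv_mem' := by
        rintro _ ⟨x, hx, φ, hφ, rfl⟩
        exact ⟨x⁻¹, inv_mem hx, _, hφ.inv, by rw [map_inv]; rfl⟩ }
  have hQ : IsCyclic ↥Q := Subgroup.isCyclic _
  obtain ⟨⟨_, g, hg, φ, hφ, rfl⟩, hgen⟩ := hQ.exists_generator
  refine ⟨g, hg, fun s hs => ?_⟩
  obtain ⟨ψ, hψ⟩ := D.exists_acts (D.le hs)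
  obtain ⟨m, hm⟩ := hgen ⟨(l ψ).2, s, hs, ψ, hψ, rfl⟩
  have hm' : (l φ).2 ^ m = (l ψ).2 := congrArg Subtype.val hm
  have hz : ∀ m : ℤ, Acts f' (g ^ m) (φ ^ m) := by
    intro m
    obtain ⟨k, rfl | rfl⟩ := m.eq_nat_or_neg
    · rw [zpow_natCast, zpow_natCast]; exact hφ.pow k
    · rw [zpow_neg, zpow_neg, zpow_natCast, zpow_natCast]; exact (hφ.pow k).inv
  refine ⟨-m, D.cz_of_field H L (mul_mem (zpow_mem hg _) hs) ((hz (-m)).mul hψ) ?_⟩
  rw [map_mul, map_zpow, Prod.snd_mul, ← hm']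
  show (l φ).2 ^ (-m) * (l φ).2 ^ m = 1
  rw [← zpow_add, neg_add_cancel, zpow_zero]

/-- **`|C_S(Z) : S ∩ C(K) K| ≤ 2`** -/
theorem two (S' : Sys R e) (hM : DTwo M) (hf : Function.Injective f) (hK : f.range = K₀) (hS : Good K₀ S₀) {a b : G}
    (ha : a ∈ S₀) (hb : b ∈ S₀) (haz : a ∈ cz K₀ S₀) (hbz : b ∈ cz K₀ S₀) :
    Inner K₀ a ∨ Inner K₀ b ∨ Inner K₀ (a * b) := by
  rcases k4 H S' hM hf hK hS (inv_mem ha) hb (inv_mem haz) hbz with h1 | h1 | h1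
  · left
    have := h1.inv
    rwa [inv_inv] at this
  · exact Or.inr (Or.inl h1)
  · rw [inv_inv] at h1
    exact Or.inr (Or.inr h1)

end BF

end Cfsg.Agent.KFacts.SysCaseB
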