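import Mathlib
import Cfsg.Agent.KFacts.SysFree

/-!
# Diagonal lines of two orthogonal roots (ODD, D4, free pairs, (k3))

`S : Sys R e` simply laced, `r`, `r'` positive roots of the same height, `⟨r, r'^∨⟩ = 0`, `dg s = ⟨s, r^∨⟩ + ⟨s, r'^∨⟩`.

* `exists_mul` : `U = ⟨X_s : dg s < 0⟩ ⟨X_s : dg s ≥ 0⟩`;
* `mem_of_comm` : an element of `U` commuting with `x_r(a) x_r'(b)` (`a, b ≠ 0`) lies in `⟨X_s : dg s ≥ 0⟩`;
* **`diag`** : it commutes with all `x_r(ta) x_r'(tb)`.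
-/

set_option autoImplicit false
set_option linter.unusedSectionVars false

namespace Cfsg.Agent.KFacts.SysDg

open CoxeterSystem Cfsg.Agent.ChevalleyStructure.CoxeterGeom Cfsg.Agent.Tits.Roots Cfsg.Agent.Tits.Core
  Cfsg.Agent.Tits.Exchange Cfsg.Agent.Nodes.Reps Cfsg.Agent.Nodes.BNOf Cfsg.Agent.Nodes.StabComb
  Cfsg.Agent.Nodes.Bruhat Cfsg.Agent.Nodes.OppDec Cfsg.Agent.Nodes.LeviDec Cfsg.Agent.Nodes.NormalForm
  Cfsg.Agent.Nodes.Coroot Cfsg.Agent.Nodes.PosPair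
  Cfsg.Agent.KFacts.RgdOpp Cfsg.Agent.KFacts.RgdAut Cfsg.Agent.KFacts.RgdRigid
  Cfsg.Agent.KFacts.RgdSys Cfsg.Agent.KFacts.ChevTwo Cfsg.Agent.KFacts.SysLine Cfsg.Agent.KFacts.SysFlt
  Cfsg.Agent.KFacts.RgdSL
open scoped commutatorElement

variable {I W Y K : Type*} [Fintype I] [DecidableEq I] [Group W] [Group Y] [Field K] {M : CoxeterMatrix I}
variable {cs : CoxeterSystem M W} {A : I → I → ℤ} {h : IsCartan M A} {e : (I → ℤ) → K → Y}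
  {p : ℕ} {T : Subgroup Y} {n : I → Y} {X : (I → ℤ) → Subgroup Y}

/-! ### Commutators with generated subgroups -/

section gen

theorem comm_left {N U : Subgroup Y} (hN : U ≤ Subgroup.normalizer (N : Set Y)) {S : Set (I → ℤ)}
    (hS : RGD.Sup X S ≤ U) {v : Y} (hg : ∀ s ∈ S, ∀ g ∈ X s, ⁅g, v⁆ ∈ N) {g : Y} (hgS : g ∈ RGD.Sup X S) :
    ⁅g, v⁆ ∈ N := by
  have hc : ∀ u ∈ U, ∀ z ∈ N, u * z * u⁻¹ ∈ N := fun u hu z hz => (Subgroup.mem_normalizer_iff.1 (hN hu) z).1 hz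
  let L : Subgroup Y :=
    { carrier := {g | g ∈ U ∧ ⁅g, v⁆ ∈ N}
      one_mem' := ⟨one_mem _, by rw [commutatorElement_one_left]; exact one_mem _⟩
      mul_mem' := by
        rintro a b ⟨ha, ha'⟩ ⟨hb, hb'⟩
        refine ⟨mul_mem ha hb, ?_⟩
        have h2 : ⁅a * b, v⁆ = (a * ⁅b, v⁆ * a⁻¹) * ⁅a, v⁆ := by
          simp only [commutatorElement_def]; group
        rw [h2]
        exact mul_mem (hc _ ha _ hb') ha'
      inv_mem' := by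
        rintro a ⟨ha, ha'⟩
        refine ⟨inv_mem ha, ?_⟩
        have h2 : ⁅a⁻¹, v⁆ = a⁻¹ * (⁅a, v⁆)⁻¹ * a⁻¹⁻¹ := by
          simp only [commutatorElement_def]; group
        rw [h2]
        exact hc _ (inv_mem ha) _ (inv_mem ha') }
  have h1 : RGD.Sup X S ≤ L := RGD.Sup_le fun s hs g hgs => ⟨hS (RGD.le_Sup hs hgs), hg s hs g hgs⟩
  exact (h1 hgS).2

theorem comm_right {N U : Subgroup Y} (hN : U ≤ Subgroup.normalizer (N : Set Y)) {S : Set (I → ℤ)}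
    (hS : RGD.Sup X S ≤ U) {g : Y} (hv : ∀ s ∈ S, ∀ v ∈ X s, ⁅g, v⁆ ∈ N) {v : Y} (hvS : v ∈ RGD.Sup X S) :
    ⁅g, v⁆ ∈ N := by
  rw [← commutatorElement_inv]
  refine inv_mem (comm_left hN hS (fun s hs v hv' => ?_) hvS)
  rw [← commutatorElement_inv]
  exact inv_mem (hv s hs v hv')

theorem norm_of {S Q : Set (I → ℤ)} (hSQ : ∀ s ∈ S, ∀ t ∈ Q, ∀ g ∈ X s, ∀ v ∈ X t, ⁅g, v⁆ ∈ RGD.Sup X Q) :
    RGD.Sup X S ≤ Subgroup.normalizer (RGD.Sup X Q : Set Y) := by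
  have key : ∀ s ∈ S, ∀ g ∈ X s, ∀ v ∈ RGD.Sup X Q, g * v * g⁻¹ ∈ RGD.Sup X Q := by
    intro s hs g hg v hv
    have h1 : RGD.Sup X Q ≤ (RGD.Sup X Q).comap (MulAut.conj g).toMonoidHom := by
      refine RGD.Sup_le fun y hy v hv => ?_
      show g * v * g⁻¹ ∈ RGD.Sup X Q
      have h2 : g * v * g⁻¹ = ⁅g, v⁆ * v := by rw [commutatorElement_def]; group
      rw [h2]
      exact mul_mem (hSQ s hs y hy g hg v hv) (RGD.le_Sup hy hv)
    exact h1 hv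
  refine RGD.Sup_le fun s hs g hg => ?_
  rw [Subgroup.mem_normalizer_iff]
  intro v
  refine ⟨key s hs g hg v, fun hv => ?_⟩
  have h1 := key s hs g⁻¹ (inv_mem hg) _ hv
  have h2 : g⁻¹ * (g * v * g⁻¹) * g⁻¹⁻¹ = v := by group
  rwa [h2] at h1

end gen

section

variable [Finite W] {R : RGD cs h p T n X} (S : Sys R e) (hs : SL cs h)

include S

/-- the two filtrations -/
theorem UH_comm2 {m k : ℕ} {g v : Y} (hg : g ∈ UH cs h X m) (hv : v ∈ UH cs h X k) :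
    ⁅g, v⁆ ∈ UH cs h X (m + k + 1) := by
  have hN := UH_norm S (m + k + 1)
  refine comm_left (U := UH cs h X 0) hN (UH_le (Nat.zero_le m)) (fun s hs' g hg => ?_) hg
  refine comm_right (U := UH cs h X 0) hN (UH_le (Nat.zero_le k)) (fun t ht' v hv => ?_) hv
  refine RGD.Sup_mono ?_ (comm_gen S hs'.1 ht'.1 hg hv)
  intro z hz
  refine ⟨hz.1, ?_⟩
  have h1 := hs'.2
  have h2 := ht'.2
  have h3 := hz.2
  push_cast
  omega

omit S

/-- a set of positive roots closed under sums is closed -/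
theorem closed_of (hs : SL cs h) {Q : Set (I → ℤ)} (hQ : Q ⊆ RGD.Pos cs h)
    (h1 : ∀ x ∈ Q, ∀ y ∈ Q, cpr cs h x y = -1 → IsRoot cs h (x + y) → x + y ∈ Q) : Nodes.Unique.Closed cs h Q := by
  intro x hx y hy z hz
  by_cases hxy : x = y
  · subst hxy
    rw [Nodes.Unique.btwn_self (hQ hx).1 hz]
    exact hx
  · have hxy' : x ≠ -y := by
      rintro rfl
      have h2 := ht_pos (hQ hx)
      have h3 := ht_pos (hQ hy)
      have h4 := ht_smul (-1) y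
      rw [neg_one_smul] at h4
      omega
    obtain ⟨h2, rfl⟩ := hs.btwn (hQ hx).1 (hQ hy).1 hxy hxy' hz
    exact h1 x hx y hy h2 hz.1

theorem pos_add {x y : I → ℤ} (hx : x ∈ RGD.Pos cs h) (hy : y ∈ RGD.Pos cs h) (hr : IsRoot cs h (x + y)) :
    x + y ∈ RGD.Pos cs h := ⟨hr, add_nonneg hx.2 hy.2⟩

theorem ne_neg {x y : I → ℤ} (hx : x ∈ RGD.Pos cs h) (hy : y ∈ RGD.Pos cs h) : x ≠ -y := by
  rintro rfl
  have h2 := ht_pos hx
  have h3 := ht_pos hy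
  have h4 := ht_smul (-1) y
  rw [neg_one_smul] at h4
  omega

include S hs in
/-- the commutator of two positive root groups -/
theorem comm_cases {x y : I → ℤ} (hx : x ∈ RGD.Pos cs h) (hy : y ∈ RGD.Pos cs h) {g v : Y} (hg : g ∈ X x)
    (hv : v ∈ X y) : ⁅g, v⁆ = 1 ∨ (cpr cs h x y = -1 ∧ x + y ∈ RGD.Pos cs h ∧ ⁅g, v⁆ ∈ X (x + y)) := by
  obtain ⟨t, rfl⟩ := (S.mem_X x hx.1 g).1 hg
  obtain ⟨u, rfl⟩ := (S.mem_X y hy.1 v).1 hv
  by_cases hc : 0 ≤ cpr cs h x y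
  · exact Or.inl (commutatorElement_eq_one_iff_mul_comm.2 (S.data.comm_of_nonneg hx.1 hy.1 hc t u))
  · right
    have hne : x ≠ y := by
      rintro rfl
      rw [cpr_self cs h hx.1] at hc
      omega
    have h1 := hs.abs_le hx.1 hy.1 hne (ne_neg hx hy)
    have h2 : cpr cs h x y = -1 := by omega
    have h3 := isRoot_add hx.1 hy.1 h2
    refine ⟨h2, pos_add hx hy h3, ?_⟩
    rw [S.data.comm1 x y hx.1 hy.1 h2 (by rw [← hs x y hx.1 hy.1, h2])]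
    exact S.mem h3 _

end

/-! ### The degree -/

/-- `⟨s, r^∨⟩ + ⟨s, r'^∨⟩` -/
noncomputable def dg (cs : CoxeterSystem M W) (h : IsCartan M A) (r r' s : I → ℤ) : ℤ := cpr cs h s r + cpr cs h s r'

section

variable [Finite W] {R : RGD cs h p T n X} (S : Sys R e) (hs : SL cs h) {r r' : I → ℤ} (hr : r ∈ RGD.Pos cs h)
  (hr' : r' ∈ RGD.Pos cs h) (h0 : cpr cs h r r' = 0)

include hr hr' in
theorem dg_add (x y : I → ℤ) : dg cs h r r' (x + y) = dg cs h r r' x + dg cs h r r' y := by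
  unfold dg
  rw [cpr_add cs h _ _ hr.1, cpr_add cs h _ _ hr'.1]
  ring

include hs hr hr' h0

theorem h0' : cpr cs h r' r = 0 := by rw [← hs r r' hr.1 hr'.1, h0]

theorem dg_left : dg cs h r r' r = 2 := by
  unfold dg
  rw [cpr_self cs h hr.1, h0]; norm_num

theorem dg_right : dg cs h r r' r' = 2 := by
  unfold dg
  rw [cpr_self cs h hr'.1, h0' hs hr hr' h0]; norm_num

theorem dg_le {s : I → ℤ} (hsr : IsRoot cs h s) : dg cs h r r' s ≤ 2 := by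
  rcases hs.cases hsr hr.1 with ⟨rfl, h1⟩ | ⟨-, h1⟩ | ⟨-, -, -, h1⟩
  · exact (dg_left hs hr hr' h0).le
  · have h2 : cpr cs h s r' ≤ 2 := by
      rcases hs.cases hsr hr'.1 with ⟨-, h2⟩ | ⟨-, h2⟩ | ⟨-, -, -, h2⟩ <;> omega
    unfold dg
    omega
  · rcases hs.cases hsr hr'.1 with ⟨rfl, h2⟩ | ⟨-, h2⟩ | ⟨-, -, -, h2⟩
    · exact (dg_right hs hr hr' h0).le
    · unfold dg; omega
    · unfold dg; omega

/-- a positive root of negative degree -/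
theorem dg_neg {s : I → ℤ} (hsp : s ∈ RGD.Pos cs h) (hd : dg cs h r r' s < 0) :
    (cpr cs h s r = -1 ∨ cpr cs h s r = 0) ∧ (cpr cs h s r' = -1 ∨ cpr cs h s r' = 0) ∧
      (cpr cs h s r = -1 ∨ cpr cs h s r' = -1) := by
  unfold dg at hd
  have h1 : -1 ≤ cpr cs h s r := by
    rcases hs.cases hsp.1 hr.1 with ⟨-, h1⟩ | ⟨h1, -⟩ | ⟨-, -, h1, -⟩
    · omega
    · exact absurd h1 (ne_neg hsp hr)
    · exact h1
  have h2 : -1 ≤ cpr cs h s r' := by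
    rcases hs.cases hsp.1 hr'.1 with ⟨-, h1⟩ | ⟨h1, -⟩ | ⟨-, -, h1, -⟩
    · omega
    · exact absurd h1 (ne_neg hsp hr')
    · exact h1
  omega

theorem closed_neg : Nodes.Unique.Closed cs h {s | s ∈ RGD.Pos cs h ∧ dg cs h r r' s < 0} :=
  closed_of hs (fun _ hx => hx.1) fun x hx y hy _ hxy =>
    ⟨pos_add hx.1 hy.1 hxy, by rw [dg_add hr hr']; have := hx.2; have := hy.2; omega⟩

theorem closed_ge {k : ℤ} (hk : 0 ≤ k) : Nodes.Unique.Closed cs h {s | s ∈ RGD.Pos cs h ∧ k ≤ dg cs h r r' s} :=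
  closed_of hs (fun _ hx => hx.1) fun x hx y hy _ hxy =>
    ⟨pos_add hx.1 hy.1 hxy, by rw [dg_add hr hr']; have := hx.2; have := hy.2; omega⟩

include S

/-- `⟨X_s : dg s ≥ 0⟩` normalises `⟨X_s : dg s ≥ k⟩`. -/
theorem norm_ge (k : ℤ) : RGD.Sup X {s | s ∈ RGD.Pos cs h ∧ 0 ≤ dg cs h r r' s} ≤
    Subgroup.normalizer (RGD.Sup X {s | s ∈ RGD.Pos cs h ∧ k ≤ dg cs h r r' s} : Set Y) := by
  refine norm_of fun s hs' t ht' g hg v hv => ?_
  rcases comm_cases S hs hs'.1 ht'.1 hg hv with h1 | ⟨-, h1, h2⟩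
  · rw [h1]; exact one_mem _
  · refine RGD.le_Sup (S := {s | s ∈ RGD.Pos cs h ∧ k ≤ dg cs h r r' s}) ⟨h1, ?_⟩ h2
    rw [dg_add hr hr']
    have := hs'.2
    have := ht'.2
    omega

/-- `⟨X_s : dg s ≥ 1⟩` centralises `⟨X_s : dg s ≥ 2⟩`. -/
theorem comm_two {g v : Y} (hg : g ∈ RGD.Sup X {s | s ∈ RGD.Pos cs h ∧ 1 ≤ dg cs h r r' s})
    (hv : v ∈ RGD.Sup X {s | s ∈ RGD.Pos cs h ∧ 2 ≤ dg cs h r r' s}) : g * v = v * g := by
  rw [← commutatorElement_eq_one_iff_mul_comm, ← Subgroup.mem_bot]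
  have hN : (⊤ : Subgroup Y) ≤ Subgroup.normalizer ((⊥ : Subgroup Y) : Set Y) := by
    rw [Subgroup.normalizer_eq_top]
  refine comm_left hN le_top (fun s hs' g hg => ?_) hg
  refine comm_right hN le_top (fun t ht' v hv => ?_) hv
  rcases comm_cases S hs hs'.1 ht'.1 hg hv with h1 | ⟨-, h1, -⟩
  · rw [h1]; exact one_mem _
  · exfalso
    have h2 := dg_le hs hr hr' h0 h1.1
    rw [dg_add hr hr'] at h2
    have := hs'.2
    have := ht'.2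
    omega

/-! ### The factorisation -/

omit h0 in
theorem UH_le_mul (k : ℕ) {z : Y} (hz : z ∈ UH cs h X k) :
    ∃ v ∈ RGD.Sup X {s | s ∈ RGD.Pos cs h ∧ dg cs h r r' s < 0}, v ∈ UH cs h X k ∧
      ∃ w ∈ RGD.Sup X {s | s ∈ RGD.Pos cs h ∧ 0 ≤ dg cs h r r' s}, w ∈ UH cs h X k ∧
        ∃ z' ∈ UH cs h X (k + 1), z = v * (w * z') := by
  set P : Subgroup Y := RGD.Sup X {s | s ∈ RGD.Pos cs h ∧ dg cs h r r' s < 0} ⊓ UH cs h X k
  set Q : Subgroup Y := RGD.Sup X {s | s ∈ RGD.Pos cs h ∧ 0 ≤ dg cs h r r' s} ⊓ UH cs h X k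
  set N : Subgroup Y := UH cs h X (k + 1)
  have hU : UH cs h X k ≤ UH cs h X 0 := UH_le (Nat.zero_le k)
  have hN : UH cs h X 0 ≤ Subgroup.normalizer (N : Set Y) := UH_norm S (k + 1)
  have hQN : Q ≤ Subgroup.normalizer (N : Set Y) := (inf_le_right.trans hU).trans hN
  have hPQ : P ≤ Subgroup.normalizer ((Q ⊔ N : Subgroup Y) : Set Y) := by
    have key : ∀ g ∈ P, ∀ v ∈ Q ⊔ N, g * v * g⁻¹ ∈ Q ⊔ N := by
      intro g hg v hv
      have h1 : v ∈ UH cs h X k := (sup_le inf_le_right (UH_le (Nat.le_succ k)) : Q ⊔ N ≤ UH cs h X k) hv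
      have h2 : g * v * g⁻¹ = ⁅g, v⁆ * v := by rw [commutatorElement_def]; group
      rw [h2]
      exact mul_mem (Subgroup.mem_sup_right (UH_comm S (hU hg.2) h1)) hv
    intro g hg
    rw [Subgroup.mem_normalizer_iff]
    intro v
    refine ⟨key g hg v, fun hv => ?_⟩
    have h1 := key g⁻¹ (inv_mem hg) _ hv
    have h2 : g⁻¹ * (g * v * g⁻¹) * g⁻¹⁻¹ = v := by group
    rwa [h2] at h1
  have h1 : UH cs h X k ≤ P ⊔ (Q ⊔ N) := by
    refine RGD.Sup_le fun s hs' x hx => ?_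
    have hxk : x ∈ UH cs h X k := RGD.le_Sup (S := {r | r ∈ RGD.Pos cs h ∧ (k : ℤ) < ht r}) hs' hx
    rcases lt_or_ge (dg cs h r r' s) 0 with h2 | h2
    · exact Subgroup.mem_sup_left ⟨RGD.le_Sup (S := {s | s ∈ RGD.Pos cs h ∧ dg cs h r r' s < 0}) ⟨hs'.1, h2⟩ hx, hxk⟩
    · exact Subgroup.mem_sup_right (Subgroup.mem_sup_left
        ⟨RGD.le_Sup (S := {s | s ∈ RGD.Pos cs h ∧ 0 ≤ dg cs h r r' s}) ⟨hs'.1, h2⟩ hx, hxk⟩)
  have h2 : z ∈ ((P ⊔ (Q ⊔ N) : Subgroup Y) : Set Y) := h1 hz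
  rw [Subgroup.coe_mul_of_left_le_normalizer_right _ _ hPQ, Set.mem_mul] at h2
  obtain ⟨v, hv, b, hb, rfl⟩ := h2
  rw [Subgroup.coe_mul_of_left_le_normalizer_right _ _ hQN, Set.mem_mul] at hb
  obtain ⟨w, hw, z', hz', rfl⟩ := hb
  exact ⟨v, hv.1, hv.2, w, hw.1, hw.2, z', hz', rfl⟩

omit h0 in
theorem exists_mul' (k : ℕ) {u : Y} (hu : u ∈ UH cs h X 0) :
    ∃ v ∈ RGD.Sup X {s | s ∈ RGD.Pos cs h ∧ dg cs h r r' s < 0},
      ∃ w ∈ RGD.Sup X {s | s ∈ RGD.Pos cs h ∧ 0 ≤ dg cs h r r' s}, ∃ z ∈ UH cs h X k, u = v * w * z := by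
  induction k with
  | zero => exact ⟨1, one_mem _, 1, one_mem _, u, hu, by group⟩
  | succ k ih =>
    obtain ⟨v, hv, w, hw, z, hz, rfl⟩ := ih
    obtain ⟨v₁, hv₁, hv₁k, w₁, hw₁, hw₁k, z', hz', rfl⟩ := UH_le_mul S hs hr hr' k hz
    have hU : ∀ {Q : Set (I → ℤ)}, Q ⊆ RGD.Pos cs h → RGD.Sup X Q ≤ UH cs h X 0 := fun hQ => by
      rw [UH_zero]
      exact RGD.Sup_mono hQ
    have hw0 : w ∈ UH cs h X 0 := hU (fun _ hx => hx.1) hw
    have hw₁0 : w₁ ∈ UH cs h X 0 := hU (fun _ hx => hx.1) hw₁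
    refine ⟨v * v₁, mul_mem hv hv₁, w * w₁, mul_mem hw hw₁, w₁⁻¹ * ⁅w⁻¹, v₁⁻¹⁆ * w₁⁻¹⁻¹ * z', ?_, ?_⟩
    · exact mul_mem (UH_conj S (inv_mem hw₁0) (UH_comm S (inv_mem hw0) (inv_mem hv₁k))) hz'
    · simp only [commutatorElement_def]; group

omit h0 in
/-- **`U = ⟨X_s : dg s < 0⟩ ⟨X_s : dg s ≥ 0⟩`.** -/
theorem exists_mul {u : Y} (hu : u ∈ UH cs h X 0) :
    ∃ v ∈ RGD.Sup X {s | s ∈ RGD.Pos cs h ∧ dg cs h r r' s < 0},
      ∃ w ∈ RGD.Sup X {s | s ∈ RGD.Pos cs h ∧ 0 ≤ dg cs h r r' s}, u = v * w := by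
  obtain ⟨k, hk⟩ := UH_bot (cs := cs) (h := h) (X := X)
  obtain ⟨v, hv, w, hw, z, hz, rfl⟩ := exists_mul' S hs hr hr' k hu
  rw [hk, Subgroup.mem_bot] at hz
  exact ⟨v, hv, w, hw, by rw [hz, mul_one]⟩

/-! ### The negative part -/

/-- the leading coefficient -/
theorem low_zero {j k : ℕ} (hj : ht r = j + 1) {a b : K} (ha : a ≠ 0) {Q : Set (I → ℤ)}
    (hQ : Q ⊆ {s | s ∈ RGD.Pos cs h ∧ dg cs h r r' s < 0}) {s₀ : I → ℤ} (hs₀ : s₀ ∈ Q) (hk : ht s₀ = k + 1)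
    (hmin : ∀ s ∈ Q, ht s₀ ≤ ht s) (hc : cpr cs h s₀ r = -1) (hj' : ht r' = j + 1) {c : K} {v y y' : Y}
    (hv : v ∈ RGD.Sup X (Q \ {s₀})) (hy : y ∈ RGD.Sup X {s | s ∈ RGD.Pos cs h ∧ 2 ≤ dg cs h r r' s})
    (hy' : y' ∈ UH cs h X (j + 1)) (hyy : y = e r a * (e r' b * y'))
    (hE : e s₀ c * v * y * (e s₀ c * v)⁻¹ = e r a * e r' b) : c = 0 := by
  have hs₀p := (hQ hs₀).1
  have hγ : IsRoot cs h (s₀ + r) := isRoot_add hs₀p.1 hr.1 hc
  have hγp : s₀ + r ∈ RGD.Pos cs h := pos_add hs₀p hr hγ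
  have hγh : ht (s₀ + r) = k + j + 2 := by rw [ht_add, hk, hj]; ring
  set F : Set (I → ℤ) := {z | z ∈ RGD.Pos cs h ∧ ((k + j + 2 : ℕ) : ℤ) ≤ ht z ∧ z ≠ s₀ + r} with hF
  have hFc : Nodes.Unique.Closed cs h F := by
    refine closed_of hs (fun _ hx => hx.1) fun x hx y hy _ hxy => ?_
    have h1 := hx.2.1
    have h2 := hy.2.1
    have h3 : ((k + j + 2 : ℕ) : ℤ) < ht (x + y) := by rw [ht_add]; omega
    refine ⟨pos_add hx.1 hy.1 hxy, h3.le, fun h4 => ?_⟩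
    rw [h4, hγh] at h3
    push_cast at h3
    omega
  have hF1 : UH cs h X (k + j + 2) ≤ RGD.Sup X F := by
    refine RGD.Sup_mono fun z hz => ⟨hz.1, hz.2.le, ?_⟩
    rintro rfl
    have := hz.2
    rw [hγh] at this
    push_cast at this
    omega
  have hF2 : RGD.Sup X F ≤ UH cs h X (k + j + 1) := by
    refine RGD.Sup_mono fun z hz => ⟨hz.1, ?_⟩
    have := hz.2.1
    push_cast at this ⊢
    omega
  have hFn : UH cs h X 0 ≤ Subgroup.normalizer (RGD.Sup X F : Set Y) := by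
    have key : ∀ g ∈ UH cs h X 0, ∀ v ∈ RGD.Sup X F, g * v * g⁻¹ ∈ RGD.Sup X F := by
      intro g hg v hv
      have h2 : g * v * g⁻¹ = ⁅g, v⁆ * v := by rw [commutatorElement_def]; group
      rw [h2]
      exact mul_mem (hF1 (UH_comm S hg (hF2 hv))) hv
    intro g hg
    rw [Subgroup.mem_normalizer_iff]
    intro v
    refine ⟨key g hg v, fun hv => ?_⟩
    have h1 := key g⁻¹ (inv_mem hg) _ hv
    have h2 : g⁻¹ * (g * v * g⁻¹) * g⁻¹⁻¹ = v := by group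
    rwa [h2] at h1
  have hFj : ∀ g ∈ UH cs h X 0, ∀ v ∈ RGD.Sup X F, g * v * g⁻¹ ∈ RGD.Sup X F := fun g hg v hv =>
    (Subgroup.mem_normalizer_iff.1 (hFn hg) v).1 hv
  have hrU : e r a ∈ UH cs h X 0 := by
    rw [UH_zero]; exact RGD.le_Sup hr (S.mem hr.1 a)
  have hrU' : e r' b ∈ UH cs h X 0 := by
    rw [UH_zero]; exact RGD.le_Sup hr' (S.mem hr'.1 b)
  -- elements of `X s`, `s ∈ Q`
  have hq : ∀ s ∈ Q, ∀ g ∈ X s, ⁅g, e r' b * y'⁆ ∈ RGD.Sup X F := by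
    intro s hsQ g hg
    have hsp := (hQ hsQ).1
    have hsd := (hQ hsQ).2
    have h1 : ⁅g, e r' b * y'⁆ = ⁅g, e r' b⁆ * (e r' b * ⁅g, y'⁆ * (e r' b)⁻¹) := by
      simp only [commutatorElement_def]; group
    rw [h1]
    refine mul_mem ?_ (hFj _ hrU' _ ?_)
    · rcases comm_cases S hs hsp hr' hg (S.mem hr'.1 b) with h2 | ⟨h2, h3, h4⟩
      · rw [h2]; exact one_mem _
      · refine RGD.le_Sup (S := F) ⟨h3, ?_, fun h5 => ?_⟩ h4
        · rw [ht_add, hj']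
          have := hmin s hsQ
          push_cast
          omega
        · -- no collision
          have h6 : cpr cs h (s + r') r = cpr cs h (s₀ + r) r := by rw [h5]
          rw [cpr_add cs h _ _ hr.1, cpr_add cs h _ _ hr.1, cpr_self cs h hr.1, h0' hs hr hr' h0, hc] at h6
          have h7 := dg_neg hs hr hr' h0 hsp hsd
          omega
    · apply hF1
      have h2 : g ∈ UH cs h X k :=
        RGD.le_Sup (S := {r | r ∈ RGD.Pos cs h ∧ (k : ℤ) < ht r}) ⟨hsp, by have := hmin s hsQ; omega⟩ hg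
      have h3 := UH_comm2 S h2 hy'
      rwa [show k + (j + 1) + 1 = k + j + 2 by ring] at h3
  have hq' : ∀ s ∈ Q \ {s₀}, ∀ g ∈ X s, ⁅g, y⁆ ∈ RGD.Sup X F := by
    rintro s ⟨hsQ, hne⟩ g hg
    have hsp := (hQ hsQ).1
    have h1 : ⁅g, y⁆ = ⁅g, e r a⁆ * (e r a * ⁅g, e r' b * y'⁆ * (e r a)⁻¹) := by
      rw [hyy]
      simp only [commutatorElement_def]; group
    rw [h1]
    refine mul_mem ?_ (hFj _ hrU _ (hq s hsQ g hg))
    rcases comm_cases S hs hsp hr hg (S.mem hr.1 a) with h2 | ⟨h2, h3, h4⟩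
    · rw [h2]; exact one_mem _
    · refine RGD.le_Sup (S := F) ⟨h3, ?_, fun h5 => hne (add_right_cancel h5)⟩ h4
      rw [ht_add, hj]
      have := hmin s hsQ
      push_cast
      omega
  have hQ0 : ∀ {Q' : Set (I → ℤ)}, Q' ⊆ Q → RGD.Sup X Q' ≤ UH cs h X 0 := fun hQ' => by
    rw [UH_zero]
    exact RGD.Sup_mono fun _ hx => (hQ (hQ' hx)).1
  have hQk : ∀ {Q' : Set (I → ℤ)}, Q' ⊆ Q → RGD.Sup X Q' ≤ UH cs h X k := fun hQ' =>
    RGD.Sup_mono fun x hx => ⟨(hQ (hQ' hx)).1, by have := hmin x (hQ' hx); omega⟩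
  have hg0 : e s₀ c ∈ X s₀ := S.mem hs₀p.1 c
  have hg0Q : e s₀ c ∈ RGD.Sup X Q := RGD.le_Sup hs₀ hg0
  have hv2 : ⁅v, y⁆ ∈ RGD.Sup X F := comm_left hFn (hQ0 Set.sdiff_subset) hq' hv
  have hyU : y ∈ UH cs h X j := by
    rw [hyy]
    have h1 : ∀ {t : I → ℤ}, t ∈ RGD.Pos cs h → ht t = j + 1 → X t ≤ UH cs h X j := fun {t} ht' hjt =>
      RGD.le_Sup (S := {r | r ∈ RGD.Pos cs h ∧ (j : ℤ) < ht r}) ⟨ht', by omega⟩
    exact mul_mem (h1 hr hj (S.mem hr.1 a)) (mul_mem (h1 hr' hj' (S.mem hr'.1 b)) (UH_le (Nat.le_succ j) hy'))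
  -- the commutator
  have h1 : ⁅e s₀ c * v, y⁆ = (e s₀ c * ⁅v, y⁆ * (e s₀ c)⁻¹) * ⁅e s₀ c, y⁆ := by
    simp only [commutatorElement_def]; group
  have h2 : ⁅e s₀ c, y⁆ = e (s₀ + r) (c * a) * (e r a * ⁅e s₀ c, e r' b * y'⁆ * (e r a)⁻¹) := by
    rw [← S.data.comm1 s₀ r hs₀p.1 hr.1 hc (by rw [← hs s₀ r hs₀p.1 hr.1, hc]), hyy]
    simp only [commutatorElement_def]; group
  have h3 : ⁅e s₀ c * v, y⁆ ∈ RGD.Sup X F := by
    have h4 : ⁅e s₀ c * v, y⁆ = e r a * e r' b * y⁻¹ := by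
      rw [commutatorElement_def, hE]
    have h5 : ⁅e s₀ c * v, y⁆ ∈ RGD.Sup X {s | s ∈ RGD.Pos cs h ∧ 2 ≤ dg cs h r r' s} := by
      rw [h4]
      refine mul_mem (mul_mem (RGD.le_Sup (S := {s | s ∈ RGD.Pos cs h ∧ 2 ≤ dg cs h r r' s})
        ⟨hr, (dg_left hs hr hr' h0).ge⟩ (S.mem hr.1 a)) (RGD.le_Sup (S := {s | s ∈ RGD.Pos cs h ∧ 2 ≤ dg cs h r r' s})
        ⟨hr', (dg_right hs hr hr' h0).ge⟩ (S.mem hr'.1 b))) (inv_mem hy)
    have h6 : ⁅e s₀ c * v, y⁆ ∈ UH cs h X (k + j + 1) :=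
      UH_comm2 S (mul_mem (hQk subset_rfl hg0Q) (hQk Set.sdiff_subset hv)) hyU
    have h7 := Nodes.Unique.inf_eq R (S := {s | s ∈ RGD.Pos cs h ∧ 2 ≤ dg cs h r r' s}) (fun _ hx => hx.1)
      (fun _ hx => hx.1) (closed_ge hs hr hr' h0 (by norm_num)) (closed_UH S (k + j + 1))
    have h8 : ⁅e s₀ c * v, y⁆ ∈ RGD.Sup X {s | s ∈ RGD.Pos cs h ∧ 2 ≤ dg cs h r r' s} ⊓
        RGD.Sup X {r | r ∈ RGD.Pos cs h ∧ ((k + j + 1 : ℕ) : ℤ) < ht r} := ⟨h5, h6⟩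
    rw [h7] at h8
    refine RGD.Sup_mono ?_ h8
    rintro z ⟨⟨hz, hz2⟩, -, hz3⟩
    refine ⟨hz, by push_cast at hz3 ⊢; omega, ?_⟩
    rintro rfl
    rw [dg_add hr hr', dg_left hs hr hr' h0] at hz2
    have := (hQ hs₀).2
    omega
  have h4 : e (s₀ + r) (c * a) ∈ RGD.Sup X F := by
    have h5 : e (s₀ + r) (c * a) = (e s₀ c * ⁅v, y⁆ * (e s₀ c)⁻¹)⁻¹ * ⁅e s₀ c * v, y⁆ *
        (e r a * ⁅e s₀ c, e r' b * y'⁆ * (e r a)⁻¹)⁻¹ := by
      rw [h1, h2]; group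
    rw [h5]
    exact mul_mem (mul_mem (inv_mem (hFj _ (hQ0 subset_rfl hg0Q) _ hv2)) h3) (inv_mem (hFj _ hrU _ (hq s₀ hs₀ _ hg0)))
  have h5 : e (s₀ + r) (c * a) = 1 := by
    have h6 : Nodes.Unique.Closed cs h ({s₀ + r} : Set (I → ℤ)) := by
      rintro _ rfl _ rfl z hz
      exact Nodes.Unique.btwn_self hγ hz
    have h7 := Nodes.Unique.inf_eq R (S := {s₀ + r}) (Set.singleton_subset_iff.2 hγp) (fun _ hx => hx.1) h6 hFc
    have h8 : e (s₀ + r) (c * a) ∈ RGD.Sup X {s₀ + r} ⊓ RGD.Sup X F :=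
      ⟨RGD.le_Sup (Set.mem_singleton _) (S.mem hγ _), h4⟩
    have h9 : ({s₀ + r} : Set (I → ℤ)) ∩ F = ∅ := by
      ext x
      simp only [Set.mem_inter_iff, Set.mem_singleton_iff, Set.mem_empty_iff_false, iff_false]
      rintro ⟨rfl, -, -, h5⟩
      exact h5 rfl
    rw [h7, h9, Sup_empty] at h8
    exact Subgroup.mem_bot.1 h8
  exact (mul_eq_zero.1 (S.data.inj _ hγ _ h5)).resolve_right ha

/-- **The negative part is trivial.** -/
theorem low_eq_one {j : ℕ} (hj : ht r = j + 1) (hj' : ht r' = j + 1) {a b : K} (ha : a ≠ 0) (hb : b ≠ 0) (m : ℕ) :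
    ∀ (Q : Set (I → ℤ)), Q ⊆ {s | s ∈ RGD.Pos cs h ∧ dg cs h r r' s < 0} → Nodes.Unique.Closed cs h Q → Q.ncard = m →
      ∀ v y y' : Y, v ∈ RGD.Sup X Q → y ∈ RGD.Sup X {s | s ∈ RGD.Pos cs h ∧ 2 ≤ dg cs h r r' s} →
        y' ∈ UH cs h X (j + 1) → y = e r a * (e r' b * y') → v * y * v⁻¹ = e r a * e r' b → v = 1 := by
  have hfin : ∀ Q : Set (I → ℤ), Q ⊆ {s | s ∈ RGD.Pos cs h ∧ dg cs h r r' s < 0} → Q.Finite := fun Q hQ =>
    (RGD.finite_roots (cs := cs) (h := h)).subset fun x hx => (hQ hx).1.1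
  induction m with
  | zero =>
    intro Q hQ _ hcard v y y' hv _ _ _ _
    rw [Set.ncard_eq_zero (hfin Q hQ)] at hcard
    subst hcard
    rw [Sup_empty, Subgroup.mem_bot] at hv
    exact hv
  | succ m ih =>
    intro Q hQ hQc hcard v y y' hv hy hy' hyy hE
    have hne : Q.Nonempty := by
      by_contra hcon
      rw [Set.not_nonempty_iff_eq_empty] at hcon
      rw [hcon, Set.ncard_empty] at hcard
      omega
    obtain ⟨s₀, hs₀, hmin⟩ := Set.exists_min_image Q ht (hfin Q hQ) hne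
    obtain ⟨α, hα, v', hv', rfl⟩ := (Nodes.Unique.mem_peel R (fun x hx => (hQ hx).1) hQc hs₀).1 hv
    obtain ⟨c, rfl⟩ := (S.mem_X s₀ (hQ hs₀).1.1 α).1 hα
    obtain ⟨k, hk⟩ : ∃ k : ℕ, ht s₀ = k + 1 := ⟨(ht s₀ - 1).toNat, by have := ht_pos (hQ hs₀).1; omega⟩
    have hc : c = 0 := by
      rcases (dg_neg hs hr hr' h0 (hQ hs₀).1 (hQ hs₀).2).2.2 with h1 | h1
      · exact low_zero S hs hr hr' h0 hj ha hQ hs₀ hk hmin h1 hj' hv' hy hy' hyy hE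
      · have hdg : ∀ s, dg cs h r' r s = dg cs h r r' s := fun s => add_comm _ _
        have hcm : e r a * e r' b = e r' b * e r a := S.data.comm_of_nonneg hr.1 hr'.1 h0.ge a b
        refine low_zero (r := r') (r' := r) S hs hr' hr (h0' hs hr hr' h0) hj' (b := a) hb (Q := Q) ?_ hs₀ hk hmin h1 hj
          hv' (y := y) ?_ hy' ?_ ?_
        · intro x hx
          refine ⟨(hQ hx).1, ?_⟩
          rw [hdg]
          exact (hQ hx).2
        · have h2 : {s | s ∈ RGD.Pos cs h ∧ 2 ≤ dg cs h r' r s} = {s | s ∈ RGD.Pos cs h ∧ 2 ≤ dg cs h r r' s} := by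
            ext s
            simp only [Set.mem_ofPred_eq, hdg]
          rw [h2]
          exact hy
        · rw [hyy, ← mul_assoc, hcm, mul_assoc]
        · rw [hE, hcm]
    subst hc
    rw [S.data.zero (hQ hs₀).1.1, one_mul] at hE ⊢
    refine ih (Q \ {s₀}) (Set.sdiff_subset.trans hQ) ?_ ?_ v' y y' hv' hy hy' hyy hE
    · refine closed_of hs (fun x hx => (hQ hx.1).1) fun x hx y hy hxy hr => ⟨?_, ?_⟩
      · exact hQc x hx.1 y hy.1 (x + y) ⟨hr, 1, 1, 1, one_pos, one_pos, one_pos, by simp⟩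
      · rintro (h3 : x + y = s₀)
        have h4 := congrArg ht h3
        rw [ht_add] at h4
        have h5 := hmin x hx.1
        have h6 := ht_pos (hQ hy.1).1
        omega
    · rw [Set.ncard_sdiff_singleton_of_mem hs₀, hcard]
      rfl

/-- **An element of `U` commuting with `x_r(a) x_r'(b)` lies in `⟨X_s : dg s ≥ 0⟩`.** -/
theorem mem_of_comm {j : ℕ} (hj : ht r = j + 1) (hj' : ht r' = j + 1) {a b : K} (ha : a ≠ 0) (hb : b ≠ 0) {u : Y}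
    (hu : u ∈ RGD.Sup X (RGD.Pos cs h)) (hc : u * (e r a * e r' b) = (e r a * e r' b) * u) :
    u ∈ RGD.Sup X {s | s ∈ RGD.Pos cs h ∧ 0 ≤ dg cs h r r' s} := by
  rw [← UH_zero] at hu
  obtain ⟨v, hv, w, hw, rfl⟩ := exists_mul S hs hr hr' hu
  set x := e r a * e r' b with hx
  have hx2 : x ∈ RGD.Sup X {s | s ∈ RGD.Pos cs h ∧ 2 ≤ dg cs h r r' s} :=
    mul_mem (RGD.le_Sup (S := {s | s ∈ RGD.Pos cs h ∧ 2 ≤ dg cs h r r' s})
      ⟨hr, (dg_left hs hr hr' h0).ge⟩ (S.mem hr.1 a)) (RGD.le_Sup (S := {s | s ∈ RGD.Pos cs h ∧ 2 ≤ dg cs h r r' s})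
      ⟨hr', (dg_right hs hr hr' h0).ge⟩ (S.mem hr'.1 b))
  have hw0 : w ∈ UH cs h X 0 := by
    rw [UH_zero]
    exact (RGD.Sup_mono fun _ hx => hx.1) hw
  have hxj : x ∈ UH cs h X j := by
    have h1 : ∀ {t : I → ℤ}, t ∈ RGD.Pos cs h → ht t = j + 1 → X t ≤ UH cs h X j := fun {t} ht' hjt =>
      RGD.le_Sup (S := {r | r ∈ RGD.Pos cs h ∧ (j : ℤ) < ht r}) ⟨ht', by omega⟩
    exact mul_mem (h1 hr hj (S.mem hr.1 a)) (h1 hr' hj' (S.mem hr'.1 b))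
  have hy : w * x * w⁻¹ ∈ RGD.Sup X {s | s ∈ RGD.Pos cs h ∧ 2 ≤ dg cs h r r' s} :=
    (Subgroup.mem_normalizer_iff.1 (norm_ge S hs hr hr' h0 2 hw) x).1 hx2
  have hy' : x⁻¹ * (w * x * w⁻¹) ∈ UH cs h X (j + 1) := by
    have h1 : x⁻¹ * (w * x * w⁻¹) = ⁅x⁻¹, w⁆ := by rw [commutatorElement_def]; group
    rw [h1, ← commutatorElement_inv]
    exact inv_mem (UH_comm S hw0 (inv_mem hxj))
  have hv1 : v = 1 := low_eq_one S hs hr hr' h0 hj hj' ha hb _ _ subset_rfl (closed_neg hs hr hr' h0) rfl v _ _ hv hy hy'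
    (by rw [hx]; group) (by
      calc v * (w * x * w⁻¹) * v⁻¹ = (v * w * x) * (v * w)⁻¹ := by group
        _ = x := by rw [hc]; group)
  rw [hv1, one_mul]
  exact hw

/-- **The diagonal line of two orthogonal roots.** -/
theorem diag [Finite K] [CharP K 2] {j : ℕ} (hj : ht r = j + 1) (hj' : ht r' = j + 1) {a b : K} (ha : a ≠ 0) (hb : b ≠ 0)
    {u : Y} (hu : u ∈ RGD.Sup X (RGD.Pos cs h)) (hc : u * (e r a * e r' b) = (e r a * e r' b) * u) (t : K) :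
    u * (e r (t * a) * e r' (t * b)) = (e r (t * a) * e r' (t * b)) * u := by
  by_cases ht0 : t = 0
  · rw [ht0, zero_mul, zero_mul, S.data.zero hr.1, S.data.zero hr'.1]
    group
  have hw := mem_of_comm S hs hr hr' h0 hj hj' ha hb hu hc
  obtain ⟨c, rfl⟩ : ∃ c : K, c ^ 2 = t := by
    have h1 : Function.Surjective (fun c : K => c ^ 2) := by
      have := Fintype.ofFinite K
      exact Finite.surjective_of_injective (frobenius_inj K 2)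
    exact h1 t
  have hc0 : c ≠ 0 := by
    rintro rfl
    exact ht0 (by ring)
  set H : Y := hel e r c * hel e r' c with hH
  have hHs : ∀ s, IsRoot cs h s → ∀ z, H * e s z * H⁻¹ = e s (c ^ dg cs h r r' s * z) := by
    intro s hsr z
    have h1 : H * e s z * H⁻¹ = hel e r c * (hel e r' c * e s z * (hel e r' c)⁻¹) * (hel e r c)⁻¹ := by
      rw [hH]; group
    rw [h1, S.data.hel_conj hsr hr'.1 hc0, S.data.hel_conj hsr hr.1 hc0, ← mul_assoc, ← zpow_add₀ hc0]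
    rfl
  have hHx : H * (e r a * e r' b) * H⁻¹ = e r (c ^ 2 * a) * e r' (c ^ 2 * b) := by
    have h1 : H * (e r a * e r' b) * H⁻¹ = (H * e r a * H⁻¹) * (H * e r' b * H⁻¹) := by group
    rw [h1, hHs r hr.1, hHs r' hr'.1, dg_left hs hr hr' h0, dg_right hs hr hr' h0]
    norm_cast
  have hZ : ⁅H, u⁆ ∈ RGD.Sup X {s | s ∈ RGD.Pos cs h ∧ 1 ≤ dg cs h r r' s} := by
    refine comm_right (U := RGD.Sup X {s | s ∈ RGD.Pos cs h ∧ 0 ≤ dg cs h r r' s}) (norm_ge S hs hr hr' h0 1) le_rfl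
      (fun s hs' v hv => ?_) hw
    obtain ⟨z, rfl⟩ := (S.mem_X s hs'.1.1 v).1 hv
    rw [commutatorElement_def, hHs s hs'.1.1]
    rcases eq_or_lt_of_le hs'.2 with h1 | h1
    · rw [← h1, zpow_zero, one_mul, mul_inv_cancel]
      exact one_mem _
    · have h2 : X s ≤ RGD.Sup X {s | s ∈ RGD.Pos cs h ∧ 1 ≤ dg cs h r r' s} :=
        RGD.le_Sup (S := {s | s ∈ RGD.Pos cs h ∧ 1 ≤ dg cs h r r' s}) ⟨hs'.1, by omega⟩
      exact h2 (mul_mem (S.mem hs'.1.1 _) (inv_mem (S.mem hs'.1.1 _)))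
  set x' := e r (c ^ 2 * a) * e r' (c ^ 2 * b) with hx'
  have hx2 : x' ∈ RGD.Sup X {s | s ∈ RGD.Pos cs h ∧ 2 ≤ dg cs h r r' s} :=
    mul_mem (RGD.le_Sup (S := {s | s ∈ RGD.Pos cs h ∧ 2 ≤ dg cs h r r' s})
      ⟨hr, (dg_left hs hr hr' h0).ge⟩ (S.mem hr.1 _)) (RGD.le_Sup (S := {s | s ∈ RGD.Pos cs h ∧ 2 ≤ dg cs h r r' s})
      ⟨hr', (dg_right hs hr hr' h0).ge⟩ (S.mem hr'.1 _))
  have h1 := comm_two S hs hr hr' h0 hZ hx2
  have h2 : (⁅H, u⁆ * u) * x' = x' * (⁅H, u⁆ * u) := by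
    have h3 : ⁅H, u⁆ * u = H * u * H⁻¹ := by rw [commutatorElement_def]; group
    rw [h3, ← hHx]
    calc H * u * H⁻¹ * (H * (e r a * e r' b) * H⁻¹) = H * (u * (e r a * e r' b)) * H⁻¹ := by group
      _ = H * ((e r a * e r' b) * u) * H⁻¹ := by rw [hc]
      _ = _ := by group
  have h3 : ⁅H, u⁆ * (u * x') = ⁅H, u⁆ * (x' * u) := by
    calc ⁅H, u⁆ * (u * x') = (⁅H, u⁆ * u) * x' := by group
      _ = (x' * ⁅H, u⁆) * u := by rw [h2]; group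
      _ = _ := by rw [← h1]; group
  exact mul_left_cancel h3

/-- the same with proportional parameters -/
theorem diag' [Finite K] [CharP K 2] (hht : ht r = ht r') {t t' : K} (ht0 : t ≠ 0) (ht' : t' ≠ 0) {k : Y}
    (hk : k ∈ RGD.Sup X (RGD.Pos cs h)) (hc : k * (e r t * e r' t') = e r t * e r' t' * k) {u u' : K}
    (hu : u * t' = u' * t) : k * (e r u * e r' u') = e r u * e r' u' * k := by
  obtain ⟨j, hj⟩ : ∃ j : ℕ, ht r = j + 1 := ⟨(ht r - 1).toNat, by have := ht_pos hr; omega⟩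
  have h1 := diag S hs hr hr' h0 hj (hht ▸ hj) ht0 ht' hk hc (u / t)
  rw [div_mul_cancel₀ _ ht0, div_mul_eq_mul_div, hu, mul_div_cancel_right₀ _ ht0] at h1
  exact h1

end

end Cfsg.Agent.KFacts.SysDg
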