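import Mathlib
import Cfsg.Agent.KFacts.SysDg

/-!
# Diagonal lines of two roots whose sum is a root (ODD, D4, free pairs, (k3) for `A_2m`)

`S : Sys R e` simply laced, `r`, `s` positive roots of the same height, `⟨r, s^∨⟩ = -1`.

* **`diagMid`** : an element of `U` commuting with `x_r(t) x_s(t')` (`t, t' ≠ 0`) commutes with `x_r(u) x_s(u')` for all
  proportional `(u, u')`;
* `diagAll` : both cases.
-/

set_option autoImplicit false
set_option linter.unusedSectionVars false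

namespace Cfsg.Agent.KFacts.SysDgMid

open CoxeterSystem Cfsg.Agent.ChevalleyStructure.CoxeterGeom Cfsg.Agent.Tits.Roots Cfsg.Agent.Tits.Core
  Cfsg.Agent.Tits.Exchange Cfsg.Agent.Nodes.Reps Cfsg.Agent.Nodes.BNOf Cfsg.Agent.Nodes.StabComb
  Cfsg.Agent.Nodes.Bruhat Cfsg.Agent.Nodes.OppDec Cfsg.Agent.Nodes.LeviDec Cfsg.Agent.Nodes.NormalForm
  Cfsg.Agent.Nodes.Coroot Cfsg.Agent.Nodes.PosPair
  Cfsg.Agent.KFacts.RgdOpp Cfsg.Agent.KFacts.RgdAut Cfsg.Agent.KFacts.RgdRigid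
  Cfsg.Agent.KFacts.RgdSys Cfsg.Agent.KFacts.ChevTwo Cfsg.Agent.KFacts.SysLine Cfsg.Agent.KFacts.SysFlt
  Cfsg.Agent.KFacts.RgdSL Cfsg.Agent.KFacts.SysDg
open scoped commutatorElement

variable {I W Y K : Type*} [Fintype I] [DecidableEq I] [Group W] [Group Y] [Field K] {M : CoxeterMatrix I}
variable {cs : CoxeterSystem M W} {A : I → I → ℤ} {h : IsCartan M A} {e : (I → ℤ) → K → Y}
  {p : ℕ} {T : Subgroup Y} {n : I → Y} {X : (I → ℤ) → Subgroup Y}

/-! ### All roots of height at least `ht γ`, without `γ` -/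

/-- the positive roots of height `≥ ht γ`, `≠ γ` -/
def FF (cs : CoxeterSystem M W) (h : IsCartan M A) (γ : I → ℤ) : Set (I → ℤ) :=
  {z | z ∈ RGD.Pos cs h ∧ ht γ ≤ ht z ∧ z ≠ γ}

section

variable [Finite W] {R : RGD cs h p T n X} (S : Sys R e) (hs : SL cs h)

include S in
theorem FF_conj {γ : I → ℤ} (hγ : γ ∈ RGD.Pos cs h) {g v : Y} (hg : g ∈ UH cs h X 0)
    (hv : v ∈ RGD.Sup X (FF cs h γ)) : g * v * g⁻¹ ∈ RGD.Sup X (FF cs h γ) := by
  obtain ⟨m, hm⟩ : ∃ m : ℕ, ht γ = m + 1 := ⟨(ht γ - 1).toNat, by have := ht_pos hγ; omega⟩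
  have h1 : RGD.Sup X (FF cs h γ) ≤ UH cs h X m := RGD.Sup_mono fun z hz => ⟨hz.1, by have := hz.2.1; omega⟩
  have h2 : UH cs h X (m + 1) ≤ RGD.Sup X (FF cs h γ) := by
    refine RGD.Sup_mono fun z hz => ?_
    have h3 := hz.2
    push_cast at h3
    refine ⟨hz.1, by omega, ?_⟩
    rintro rfl
    omega
  have h3 : g * v * g⁻¹ = ⁅g, v⁆ * v := by rw [commutatorElement_def]; group
  rw [h3]
  exact mul_mem (h2 (UH_comm S hg (h1 hv))) hv

include S in
theorem FF_norm {γ : I → ℤ} (hγ : γ ∈ RGD.Pos cs h) :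
    UH cs h X 0 ≤ Subgroup.normalizer (RGD.Sup X (FF cs h γ) : Set Y) := by
  intro g hg
  rw [Subgroup.mem_normalizer_iff]
  intro v
  refine ⟨fun hv => FF_conj S hγ hg hv, fun hv => ?_⟩
  have h1 := FF_conj S hγ (inv_mem hg) hv
  have h2 : g⁻¹ * (g * v * g⁻¹) * g⁻¹⁻¹ = v := by group
  rwa [h2] at h1

include S hs in
theorem FF_zero {γ : I → ℤ} (hγ : γ ∈ RGD.Pos cs h) {c : K} (hc : e γ c ∈ RGD.Sup X (FF cs h γ)) : c = 0 := by
  have hFc : Nodes.Unique.Closed cs h (FF cs h γ) := by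
    refine closed_of hs (fun _ hx => hx.1) fun x hx y hy _ hxy => ?_
    have h1 := hx.2.1
    have h2 := hy.2.1
    have h3 := ht_pos hγ
    have h4 : ht γ < ht (x + y) := by rw [ht_add]; omega
    refine ⟨pos_add hx.1 hy.1 hxy, h4.le, fun h5 => ?_⟩
    rw [h5] at h4
    exact lt_irrefl _ h4
  have h6 : Nodes.Unique.Closed cs h ({γ} : Set (I → ℤ)) := by
    rintro _ rfl _ rfl z hz
    exact Nodes.Unique.btwn_self hγ.1 hz
  have h7 := Nodes.Unique.inf_eq R (S := {γ}) (Set.singleton_subset_iff.2 hγ) (fun _ hx => hx.1) h6 hFc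
  have h8 : e γ c ∈ RGD.Sup X {γ} ⊓ RGD.Sup X (FF cs h γ) := ⟨RGD.le_Sup (Set.mem_singleton _) (S.mem hγ.1 _), hc⟩
  have h9 : ({γ} : Set (I → ℤ)) ∩ FF cs h γ = ∅ := by
    ext x
    simp only [Set.mem_inter_iff, Set.mem_singleton_iff, Set.mem_empty_iff_false, iff_false]
    rintro ⟨rfl, -, -, h5⟩
    exact h5 rfl
  rw [h7, h9, Sup_empty] at h8
  exact S.data.inj _ hγ.1 _ (Subgroup.mem_bot.1 h8)

include S hs in
/-- the commutator of two root groups lies in `F_γ` if their sum is not `γ` and not too low -/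
theorem comm_FF {γ x y : I → ℤ} (hx : x ∈ RGD.Pos cs h) (hy : y ∈ RGD.Pos cs h) (hh : ht γ ≤ ht x + ht y)
    (hne : x + y ≠ γ) {g v : Y} (hg : g ∈ X x) (hv : v ∈ X y) : ⁅g, v⁆ ∈ RGD.Sup X (FF cs h γ) := by
  rcases comm_cases S hs hx hy hg hv with h1 | ⟨-, h3, h4⟩
  · rw [h1]; exact one_mem _
  · exact RGD.le_Sup (S := FF cs h γ) ⟨h3, by rw [ht_add]; exact hh, hne⟩ h4

end

section

variable [Finite W] {R : RGD cs h p T n X} (S : Sys R e) (hs : SL cs h) {r s : I → ℤ} (hr : r ∈ RGD.Pos cs h)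
  (hsp : s ∈ RGD.Pos cs h) (hrs : cpr cs h r s = -1)

include S hs hr hsp

/-- the leading coefficient of an element commuting with `x_r(t) x_s(t')` -/
theorem lead {t t' : K} {Q : Set (I → ℤ)} (hQ : Q ⊆ RGD.Pos cs h) {z₀ γ : I → ℤ} (hz₀ : z₀ ∈ RGD.Pos cs h)
    (hγ : γ ∈ RGD.Pos cs h) (hγr : ∀ z ∈ Q, ht γ ≤ ht z + ht r) (hγs : ∀ z ∈ Q, ht γ ≤ ht z + ht s)
    (h1 : ∀ z ∈ Q, z + r ≠ γ) (h2 : ∀ z ∈ Q, z + s ≠ γ) {c : K} {v : Y} (hv : v ∈ RGD.Sup X Q)
    (hc : (e z₀ c * v) * (e r t * e s t') = (e r t * e s t') * (e z₀ c * v)) :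
    ⁅e z₀ c, e r t⁆ * (e r t * ⁅e z₀ c, e s t'⁆ * (e r t)⁻¹) ∈ RGD.Sup X (FF cs h γ) := by
  have hrU : e r t ∈ UH cs h X 0 := by
    rw [UH_zero]; exact RGD.le_Sup hr (S.mem hr.1 t)
  have hzU : e z₀ c ∈ UH cs h X 0 := by
    rw [UH_zero]; exact RGD.le_Sup hz₀ (S.mem hz₀.1 c)
  have hQU : RGD.Sup X Q ≤ UH cs h X 0 := by
    rw [UH_zero]; exact RGD.Sup_mono hQ
  have h3 : ⁅v, e r t * e s t'⁆ ∈ RGD.Sup X (FF cs h γ) := by
    refine comm_left (FF_norm S hγ) hQU (fun z hz g hg => ?_) hv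
    have h4 : ⁅g, e r t * e s t'⁆ = ⁅g, e r t⁆ * (e r t * ⁅g, e s t'⁆ * (e r t)⁻¹) := by
      simp only [commutatorElement_def]; group
    rw [h4]
    exact mul_mem (comm_FF S hs (hQ hz) hr (hγr z hz) (h1 z hz) hg (S.mem hr.1 t))
      (FF_conj S hγ hrU (comm_FF S hs (hQ hz) hsp (hγs z hz) (h2 z hz) hg (S.mem hsp.1 t')))
  have h5 : ⁅e z₀ c, e r t⁆ * (e r t * ⁅e z₀ c, e s t'⁆ * (e r t)⁻¹) = ⁅e z₀ c, e r t * e s t'⁆ := by
    simp only [commutatorElement_def]; group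
  have h6 : ⁅e z₀ c * v, e r t * e s t'⁆ = 1 := commutatorElement_eq_one_iff_mul_comm.2 hc
  have h7 : ⁅e z₀ c * v, e r t * e s t'⁆ = (e z₀ c * ⁅v, e r t * e s t'⁆ * (e z₀ c)⁻¹) * ⁅e z₀ c, e r t * e s t'⁆ := by
    simp only [commutatorElement_def]; group
  rw [h5]
  have h8 : ⁅e z₀ c, e r t * e s t'⁆ = (e z₀ c * ⁅v, e r t * e s t'⁆ * (e z₀ c)⁻¹)⁻¹ := by
    rw [eq_inv_iff_mul_eq_one, ← h6, h7]
    have h9 := h7.symm.trans h6
    rw [h9]
    exact (mul_eq_one_iff_eq_inv.2 (eq_inv_of_mul_eq_one_right h9))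
  rw [h8]
  exact inv_mem (FF_conj S hγ hzU h3)

include hrs

theorem hsr : cpr cs h s r = -1 := by rw [← hs r s hr.1 hsp.1, hrs]

/-- a bad root which is not `s` -/
theorem bad_r {t t' : K} (ht0 : t ≠ 0) (hht : ht r = ht s) {Q : Set (I → ℤ)} (hQ : Q ⊆ RGD.Pos cs h) {z₀ : I → ℤ}
    (hz₀ : z₀ ∈ Q) (hmin : ∀ z ∈ Q, ht z₀ ≤ ht z) (hc : cpr cs h z₀ r = -1) (hzs : z₀ ≠ s) {c : K} {v : Y}
    (hv : v ∈ RGD.Sup X (Q \ {z₀})) (hE : (e z₀ c * v) * (e r t * e s t') = (e r t * e s t') * (e z₀ c * v)) :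
    c = 0 := by
  have hγ : IsRoot cs h (z₀ + r) := isRoot_add (hQ hz₀).1 hr.1 hc
  have hγp := pos_add (hQ hz₀) hr hγ
  have hrU : e r t ∈ UH cs h X 0 := by
    rw [UH_zero]; exact RGD.le_Sup hr (S.mem hr.1 t)
  -- no collisions
  have hcol : ∀ z ∈ Q, z + s ≠ z₀ + r := by
    intro z hz h1
    have h2 : cpr cs h (z + s) r = cpr cs h (z₀ + r) r := by rw [h1]
    rw [cpr_add cs h _ _ hr.1, cpr_add cs h _ _ hr.1, cpr_self cs h hr.1, hsr S hs hr hsp hrs, hc] at h2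
    have h3 := hs.eq_of_cpr (hQ hz).1 hr.1 (by omega)
    rw [h3, add_comm r s] at h1
    exact hzs (add_right_cancel h1).symm
  have h1 := lead S hs hr hsp (Q := Q \ {z₀}) (fun z hz => hQ hz.1) (hQ hz₀) hγp
    (fun z hz => by rw [ht_add]; have := hmin z hz.1; omega)
    (fun z hz => by rw [ht_add, hht]; have := hmin z hz.1; omega)
    (fun z hz h2 => hz.2 (add_right_cancel h2)) (fun z hz => hcol z hz.1) hv hE
  have h2 : ⁅e z₀ c, e s t'⁆ ∈ RGD.Sup X (FF cs h (z₀ + r)) :=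
    comm_FF S hs (hQ hz₀) hsp (by rw [ht_add, hht]) (hcol z₀ hz₀) (S.mem (hQ hz₀).1 c) (S.mem hsp.1 t')
  have h3 : ⁅e z₀ c, e r t⁆ ∈ RGD.Sup X (FF cs h (z₀ + r)) :=
    (Subgroup.mul_mem_cancel_right _ (FF_conj S hγp hrU h2)).1 h1
  rw [S.data.comm1 z₀ r (hQ hz₀).1 hr.1 hc (by rw [← hs z₀ r (hQ hz₀).1 hr.1, hc])] at h3
  exact (mul_eq_zero.1 (FF_zero S hs hγp h3)).resolve_right ht0

/-- a bad root which is not `r` -/
theorem bad_s {t t' : K} (ht0 : t' ≠ 0) (hht : ht r = ht s) {Q : Set (I → ℤ)} (hQ : Q ⊆ RGD.Pos cs h) {z₀ : I → ℤ}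
    (hz₀ : z₀ ∈ Q) (hmin : ∀ z ∈ Q, ht z₀ ≤ ht z) (hc : cpr cs h z₀ s = -1) (hzr : z₀ ≠ r) {c : K} {v : Y}
    (hv : v ∈ RGD.Sup X (Q \ {z₀})) (hE : (e z₀ c * v) * (e r t * e s t') = (e r t * e s t') * (e z₀ c * v)) :
    c = 0 := by
  have hγ : IsRoot cs h (z₀ + s) := isRoot_add (hQ hz₀).1 hsp.1 hc
  have hγp := pos_add (hQ hz₀) hsp hγ
  have hrU : e r t ∈ UH cs h X 0 := by
    rw [UH_zero]; exact RGD.le_Sup hr (S.mem hr.1 t)
  have hcol : ∀ z ∈ Q, z + r ≠ z₀ + s := by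
    intro z hz h1
    have h2 : cpr cs h (z + r) s = cpr cs h (z₀ + s) s := by rw [h1]
    rw [cpr_add cs h _ _ hsp.1, cpr_add cs h _ _ hsp.1, cpr_self cs h hsp.1, hrs, hc] at h2
    have h3 := hs.eq_of_cpr (hQ hz).1 hsp.1 (by omega)
    rw [h3, add_comm s r] at h1
    exact hzr (add_right_cancel h1).symm
  have h1 := lead S hs hr hsp (Q := Q \ {z₀}) (fun z hz => hQ hz.1) (hQ hz₀) hγp
    (fun z hz => by rw [ht_add, hht]; have := hmin z hz.1; omega)
    (fun z hz => by rw [ht_add]; have := hmin z hz.1; omega)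
    (fun z hz => hcol z hz.1) (fun z hz h2 => hz.2 (add_right_cancel h2)) hv hE
  have h2 : ⁅e z₀ c, e r t⁆ ∈ RGD.Sup X (FF cs h (z₀ + s)) :=
    comm_FF S hs (hQ hz₀) hr (by rw [ht_add, hht]) (hcol z₀ hz₀) (S.mem (hQ hz₀).1 c) (S.mem hr.1 t)
  have h3 : e r t * ⁅e z₀ c, e s t'⁆ * (e r t)⁻¹ ∈ RGD.Sup X (FF cs h (z₀ + s)) :=
    (Subgroup.mul_mem_cancel_left _ h2).1 h1
  have h4 := FF_conj S hγp (inv_mem hrU) h3
  have h5 : (e r t)⁻¹ * (e r t * ⁅e z₀ c, e s t'⁆ * (e r t)⁻¹) * (e r t)⁻¹⁻¹ = ⁅e z₀ c, e s t'⁆ := by group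
  rw [h5, S.data.comm1 z₀ s (hQ hz₀).1 hsp.1 hc (by rw [← hs z₀ s (hQ hz₀).1 hsp.1, hc])] at h4
  exact (mul_eq_zero.1 (FF_zero S hs hγp h4)).resolve_right ht0

/-- commutation in the group of order `q³` -/
theorem comm_rs {b b' u u' : K} (hb : b * u' = b' * u) :
    (e r b * e s b') * (e r u * e s u') = (e r u * e s u') * (e r b * e s b') := by
  have hδ : IsRoot cs h (s + r) := isRoot_add hsp.1 hr.1 (hsr S hs hr hsp hrs)
  have h1 : ∀ x y : K, e s x * e r y = e (s + r) (x * y) * (e r y * e s x) := by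
    intro x y
    rw [← S.data.comm1 s r hsp.1 hr.1 (hsr S hs hr hsp hrs) hrs, commutatorElement_def]
    group
  have hr0 : 0 ≤ cpr cs h r (s + r) := by
    rw [hs r _ hr.1 hδ, cpr_add cs h _ _ hr.1, cpr_self cs h hr.1, hsr S hs hr hsp hrs]; norm_num
  have hcr : ∀ x y : K, e r x * e (s + r) y = e (s + r) y * e r x := fun x y => S.data.comm_of_nonneg hr.1 hδ hr0 x y
  calc (e r b * e s b') * (e r u * e s u') = e r b * (e s b' * e r u) * e s u' := by group
    _ = (e r b * e (s + r) (b' * u)) * (e r u * e s b') * e s u' := by rw [h1]; group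
    _ = e (s + r) (b' * u) * ((e r b * e r u) * (e s b' * e s u')) := by rw [hcr]; group
    _ = e (s + r) (b * u') * ((e r u * e r b) * (e s u' * e s b')) := by
        rw [S.data.comm_same hr.1, S.data.comm_same hsp.1, hb]
    _ = (e (s + r) (u' * b) * e r u) * (e r b * e s u') * e s b' := by rw [mul_comm b u']; group
    _ = e r u * (e (s + r) (u' * b) * (e r b * e s u')) * e s b' := by rw [← hcr]; group
    _ = e r u * (e s u' * e r b) * e s b' := by rw [← h1]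
    _ = _ := by group

/-- **The diagonal line of two roots whose sum is a root.** -/
theorem mid (hht : ht r = ht s) {t t' : K} (ht0 : t ≠ 0) (ht' : t' ≠ 0) {u u' : K} (hu : u * t' = u' * t) (m : ℕ) :
    ∀ Q : Set (I → ℤ), Q ⊆ RGD.Pos cs h → Nodes.Unique.Closed cs h Q → (r ∈ Q ↔ s ∈ Q) → Q.ncard = m →
      ∀ v ∈ RGD.Sup X Q, v * (e r t * e s t') = (e r t * e s t') * v →
        v * (e r u * e s u') = (e r u * e s u') * v := by
  have hfin : ∀ Q : Set (I → ℤ), Q ⊆ RGD.Pos cs h → Q.Finite := fun Q hQ =>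
    (RGD.finite_roots (cs := cs) (h := h)).subset fun x hx => (hQ hx).1
  have hrs_ne : r ≠ s := by
    rintro rfl
    rw [cpr_self cs h hr.1] at hrs
    omega
  induction m using Nat.strong_induction_on with
  | _ m ih =>
  intro Q hQ hQc hQrs hcard v hv hE
  by_cases hne : Q.Nonempty
  swap
  · rw [Set.not_nonempty_iff_eq_empty] at hne
    subst hne
    rw [Sup_empty, Subgroup.mem_bot] at hv
    rw [hv]; group
  obtain ⟨z₀, hz₀, hmin⟩ := Set.exists_min_image Q ht (hfin Q hQ) hne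
  -- a set without elements of minimal height is closed
  have hcl : ∀ Z : Set (I → ℤ), (∀ z ∈ Z, ht z = ht z₀) → Nodes.Unique.Closed cs h (Q \ Z) := by
    intro Z hZ
    refine closed_of hs (fun x hx => hQ hx.1) fun x hx y hy _ hxy => ⟨?_, fun h3 => ?_⟩
    · exact hQc x hx.1 y hy.1 (x + y) ⟨hxy, 1, 1, 1, one_pos, one_pos, one_pos, by simp⟩
    · have h4 := hZ _ h3
      rw [ht_add] at h4
      have h5 := hmin x hx.1
      have h6 := ht_pos (hQ hy.1)
      omega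
  have hlt : ∀ Z : Set (I → ℤ), z₀ ∈ Z → (Q \ Z).ncard < m := by
    intro Z hZ
    rw [← hcard]
    exact Set.ncard_lt_ncard ⟨Set.sdiff_subset, fun h1 => (h1 hz₀).2 hZ⟩ (hfin Q hQ)
  by_cases hz : z₀ = r ∨ z₀ = s
  · -- both `r` and `s` are in `Q`
    have hrQ : r ∈ Q := by
      rcases hz with rfl | rfl
      · exact hz₀
      · exact hQrs.2 hz₀
    have hsQ : s ∈ Q := hQrs.1 hrQ
    have hhr : ht z₀ = ht r := by
      rcases hz with rfl | rfl
      · rfl
      · exact hht.symm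
    obtain ⟨α, hα, v₁, hv₁, rfl⟩ := (Nodes.Unique.mem_peel R hQ hQc hrQ).1 hv
    obtain ⟨b, rfl⟩ := (S.mem_X r hr.1 α).1 hα
    have hsQ' : s ∈ Q \ {r} := ⟨hsQ, fun h0 => hrs_ne (Set.mem_singleton_iff.1 h0).symm⟩
    obtain ⟨β, hβ, v₂, hv₂, rfl⟩ := (Nodes.Unique.mem_peel R (S := Q \ {r}) (fun x hx => hQ hx.1)
      (hcl {r} (by rintro z rfl; exact hhr.symm)) hsQ').1 hv₁
    obtain ⟨b', rfl⟩ := (S.mem_X s hsp.1 β).1 hβ
    have hQ2 : (Q \ {r}) \ {s} = Q \ {r, s} := by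
      rw [Set.sdiff_sdiff]
      rfl
    rw [hQ2] at hv₂
    have hδ : IsRoot cs h (r + s) := isRoot_add hr.1 hsp.1 hrs
    have hδp := pos_add hr hsp hδ
    -- the coefficient of `r + s`
    have hbb : b * t' = b' * t := by
      have hrU : ∀ x, e r x ∈ UH cs h X 0 := fun x => by
        rw [UH_zero]; exact RGD.le_Sup hr (S.mem hr.1 x)
      have hsU : ∀ x, e s x ∈ UH cs h X 0 := fun x => by
        rw [UH_zero]; exact RGD.le_Sup hsp (S.mem hsp.1 x)
      have hQU : RGD.Sup X (Q \ {r, s}) ≤ UH cs h X 0 := by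
        rw [UH_zero]; exact RGD.Sup_mono fun x hx => hQ hx.1
      have h3 : ⁅v₂, e r t * e s t'⁆ ∈ RGD.Sup X (FF cs h (r + s)) := by
        refine comm_left (FF_norm S hδp) hQU (fun z hz g hg => ?_) hv₂
        have h4 : ⁅g, e r t * e s t'⁆ = ⁅g, e r t⁆ * (e r t * ⁅g, e s t'⁆ * (e r t)⁻¹) := by
          simp only [commutatorElement_def]; group
        rw [h4]
        have h5 := hmin z hz.1
        refine mul_mem (comm_FF S hs (hQ hz.1) hr (by rw [ht_add]; omega) ?_ hg (S.mem hr.1 t))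
          (FF_conj S hδp (hrU t) (comm_FF S hs (hQ hz.1) hsp (by rw [ht_add]; omega) ?_ hg (S.mem hsp.1 t')))
        · intro h6
          rw [add_comm r s] at h6
          exact hz.2 (Or.inr (add_right_cancel h6))
        · intro h6
          exact hz.2 (Or.inl (add_right_cancel h6))
      have hcr : ∀ x y : K, e r x * e (r + s) y = e (r + s) y * e r x := fun x y =>
        S.data.comm_of_nonneg hr.1 hδ (by
          rw [hs r _ hr.1 hδ, cpr_add cs h _ _ hr.1, cpr_self cs h hr.1, hsr S hs hr hsp hrs]; norm_num) x y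
      -- the two commutators
      have h5 : ⁅e r b, e r t * e s t'⁆ = e (r + s) (b * t') := by
        have h6 : ⁅e r b, e r t * e s t'⁆ = ⁅e r b, e r t⁆ * (e r t * ⁅e r b, e s t'⁆ * (e r t)⁻¹) := by
          simp only [commutatorElement_def]; group
        rw [h6, commutatorElement_eq_one_iff_mul_comm.2 (S.data.comm_same hr.1 b t), one_mul,
          S.data.comm1 r s hr.1 hsp.1 hrs (hsr S hs hr hsp hrs), hcr]
        group
      have h6 : ⁅e s b', e r t * e s t'⁆ = e (r + s) (b' * t) := by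
        have h7 : ⁅e s b', e r t * e s t'⁆ = ⁅e s b', e r t⁆ * (e r t * ⁅e s b', e s t'⁆ * (e r t)⁻¹) := by
          simp only [commutatorElement_def]; group
        rw [h7, commutatorElement_eq_one_iff_mul_comm.2 (S.data.comm_same hsp.1 b' t'),
          S.data.comm1 s r hsp.1 hr.1 (hsr S hs hr hsp hrs) hrs, add_comm s r]
        group
      have h7 : ⁅e r b * (e s b' * v₂), e r t * e s t'⁆ = 1 := commutatorElement_eq_one_iff_mul_comm.2 hE
      have h8 : ⁅e r b * (e s b' * v₂), e r t * e s t'⁆ =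
          (e r b * (e s b' * ⁅v₂, e r t * e s t'⁆ * (e s b')⁻¹) * (e r b)⁻¹) *
            (e r b * ⁅e s b', e r t * e s t'⁆ * (e r b)⁻¹) * ⁅e r b, e r t * e s t'⁆ := by
        simp only [commutatorElement_def]; group
      rw [h5, h6, hcr, mul_inv_cancel_right, mul_assoc, ← S.data.add _ hδ, h7] at h8
      have h9 : e (r + s) (b' * t + b * t') =
          (e r b * (e s b' * ⁅v₂, e r t * e s t'⁆ * (e s b')⁻¹) * (e r b)⁻¹)⁻¹ := eq_inv_of_mul_eq_one_right h8.symm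
      have h10 : e (r + s) (b' * t + b * t') ∈ RGD.Sup X (FF cs h (r + s)) := by
        rw [h9]
        exact inv_mem (FF_conj S hδp (hrU b) (FF_conj S hδp (hsU b') h3))
      have h11 := FF_zero S hs hδp h10
      have h12 := S.data.two (b' * t)
      exact (add_left_cancel (h11.trans h12.symm))
    -- the part `x_r(b) x_s(b')`
    have hx : ∀ {w w' : K}, w * t' = w' * t → (e r b * e s b') * (e r w * e s w') = (e r w * e s w') * (e r b * e s b') := by
      intro w w' hw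
      refine comm_rs S hs hr hsp hrs ?_
      have h1 : (b * w') * t = (b' * w) * t := by
        calc (b * w') * t = b * (w' * t) := by ring
          _ = b * (w * t') := by rw [hw]
          _ = (b * t') * w := by ring
          _ = (b' * t) * w := by rw [hbb]
          _ = _ := by ring
      exact mul_right_cancel₀ ht0 h1
    have h1 : v₂ * (e r t * e s t') = (e r t * e s t') * v₂ := by
      have h2 : (e r b * e s b') * (v₂ * (e r t * e s t')) = (e r b * e s b') * ((e r t * e s t') * v₂) := by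
        calc (e r b * e s b') * (v₂ * (e r t * e s t')) = (e r b * (e s b' * v₂)) * (e r t * e s t') := by group
          _ = (e r t * e s t') * (e r b * (e s b' * v₂)) := hE
          _ = ((e r t * e s t') * (e r b * e s b')) * v₂ := by group
          _ = ((e r b * e s b') * (e r t * e s t')) * v₂ := by rw [hx (w := t) (w' := t') (mul_comm t t')]
          _ = _ := by group
      exact mul_left_cancel h2
    have h2 := ih _ (hlt {r, s} (by rcases hz with rfl | rfl <;> simp)) (Q \ {r, s}) (fun x hx => hQ hx.1)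
      (hcl {r, s} (by
        rintro z (rfl | rfl)
        · exact hhr.symm
        · rw [hhr, hht])) ⟨fun h0 => absurd (Or.inl rfl) h0.2, fun h0 => absurd (Or.inr rfl) h0.2⟩ rfl v₂ hv₂ h1
    calc (e r b * (e s b' * v₂)) * (e r u * e s u') = (e r b * e s b') * (v₂ * (e r u * e s u')) := by group
      _ = ((e r b * e s b') * (e r u * e s u')) * v₂ := by rw [h2]; group
      _ = _ := by rw [hx hu]; group
  · push Not at hz
    obtain ⟨α, hα, v', hv', rfl⟩ := (Nodes.Unique.mem_peel R hQ hQc hz₀).1 hv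
    obtain ⟨c, rfl⟩ := (S.mem_X z₀ (hQ hz₀).1 α).1 hα
    have hQrs' : r ∈ Q \ {z₀} ↔ s ∈ Q \ {z₀} := by
      constructor
      · rintro ⟨h1, -⟩
        exact ⟨hQrs.1 h1, fun h2 => hz.2 (Set.mem_singleton_iff.1 h2).symm⟩
      · rintro ⟨h1, -⟩
        exact ⟨hQrs.2 h1, fun h2 => hz.1 (Set.mem_singleton_iff.1 h2).symm⟩
    have hIH := ih _ (hlt {z₀} (Set.mem_singleton _)) (Q \ {z₀}) (fun x hx => hQ hx.1)
      (hcl {z₀} (by rintro z rfl; rfl)) hQrs' rfl v' hv'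
    by_cases hbr : cpr cs h z₀ r = -1
    · have hc := bad_r S hs hr hsp hrs ht0 hht hQ hz₀ hmin hbr hz.2 hv' hE
      subst hc
      rw [S.data.zero (hQ hz₀).1, one_mul] at hE ⊢
      exact hIH hE
    by_cases hbs : cpr cs h z₀ s = -1
    · have hc := bad_s S hs hr hsp hrs ht' hht hQ hz₀ hmin hbs hz.1 hv' hE
      subst hc
      rw [S.data.zero (hQ hz₀).1, one_mul] at hE ⊢
      exact hIH hE
    -- a good root
    have hg : ∀ {y : I → ℤ}, y ∈ RGD.Pos cs h → cpr cs h z₀ y ≠ -1 → 0 ≤ cpr cs h z₀ y := by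
      intro y hy h1
      rcases hs.cases (hQ hz₀).1 hy.1 with ⟨-, h2⟩ | ⟨h2, -⟩ | ⟨-, -, h2, -⟩
      · omega
      · exact absurd h2 (ne_neg (hQ hz₀) hy)
      · omega
    have h1 : ∀ w w' : K, e z₀ c * (e r w * e s w') = (e r w * e s w') * e z₀ c := by
      intro w w'
      rw [← mul_assoc, S.data.comm_of_nonneg (hQ hz₀).1 hr.1 (hg hr hbr), mul_assoc,
        S.data.comm_of_nonneg (hQ hz₀).1 hsp.1 (hg hsp hbs), mul_assoc]
    have h2 : v' * (e r t * e s t') = (e r t * e s t') * v' := by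
      have h3 : e z₀ c * (v' * (e r t * e s t')) = e z₀ c * ((e r t * e s t') * v') := by
        rw [← mul_assoc, hE, ← mul_assoc, ← h1, mul_assoc]
      exact mul_left_cancel h3
    rw [mul_assoc, hIH h2, ← mul_assoc, h1, mul_assoc]

/-- **The diagonal line of two roots whose sum is a root.** -/
theorem diagMid (hht : ht r = ht s) {t t' : K} (ht0 : t ≠ 0) (ht' : t' ≠ 0) {k : Y}
    (hk : k ∈ RGD.Sup X (RGD.Pos cs h)) (hc : k * (e r t * e s t') = e r t * e s t' * k) {u u' : K}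
    (hu : u * t' = u' * t) : k * (e r u * e s u') = e r u * e s u' * k :=
  mid S hs hr hsp hrs hht ht0 ht' hu _ (RGD.Pos cs h) subset_rfl Nodes.Unique.closed_pos
    ⟨fun _ => hsp, fun _ => hr⟩ rfl k hk hc

omit S hrs in
/-- roots of the same height have nonpositive scalar product -/
theorem cpr_le_zero (hne : r ≠ s) (hht : ht r = ht s) : cpr cs h r s ≤ 0 := by
  have h1 := hs.abs_le hr.1 hsp.1 hne (ne_neg hr hsp)
  by_contra hcon
  have h2 : cpr cs h r s = 1 := by omega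
  have h3 := isRoot_sub hr.1 hsp.1 h2
  have h4 : ht (r - s) = 0 := by
    have h5 := ht_add (r - s) s
    rw [sub_add_cancel] at h5
    omega
  rcases h3.pos_or_neg with h5 | h5
  · have := ht_pos (cs := cs) (h := h) (x := r - s) ⟨h3, h5⟩
    omega
  · have h6 := ht_pos (cs := cs) (h := h) (x := -(r - s)) ⟨h3.neg, neg_nonneg.2 h5⟩
    have h7 := ht_smul (-1) (r - s)
    rw [neg_one_smul] at h7
    omega

omit hrs in
/-- **The diagonal line of two different roots of the same height.** -/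
theorem diagAll [Finite K] [CharP K 2] (hne : r ≠ s) (hht : ht r = ht s) {t t' : K}
    (ht0 : t ≠ 0) (ht' : t' ≠ 0) {k : Y} (hk : k ∈ RGD.Sup X (RGD.Pos cs h))
    (hc : k * (e r t * e s t') = e r t * e s t' * k) {u u' : K} (hu : u * t' = u' * t) :
    k * (e r u * e s u') = e r u * e s u' * k := by
  have h1 := hs.abs_le hr.1 hsp.1 hne (ne_neg hr hsp)
  have hrs := cpr_le_zero hs hr hsp hne hht
  have h2 : cpr cs h r s = 0 ∨ cpr cs h r s = -1 := by omega
  rcases h2 with h2 | h2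
  · exact diag' S hs hr hsp h2 hht ht0 ht' hk hc hu
  · exact diagMid S hs hr hsp h2 hht ht0 ht' hk hc hu

end

end Cfsg.Agent.KFacts.SysDgMid
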