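import Mathlib
import Cfsg.Agent.KFacts.SysLine
import Cfsg.Agent.KFacts.RgdSL
import Cfsg.Agent.Nodes.Unique
import Cfsg.Agent.OddHalf.D4.LineR

/-!
# Diagonal lines (ODD, D4, (1B), K-fact (K1))

`S : Sys R e` simply laced, `r ≠ s` positive roots of the same height, `x = e r t * e s t'` with `t, t' ≠ 0`.

* `star` : an element of `U` commuting with `x` commutes with all `e r u * e s u'`, `u t' = u' t`
  (if `⟨r, s^∨⟩ = 0`; in the case `⟨r, s^∨⟩ = -1` too: `star_all` with the factor `e (r + s) w`);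
* `diag r s a` : the diagonal line `{e r u * e s (a u)}`, `diag_line : IsLineR (UH 0) (UH (j + 1)) (diag r s a)`;
* `diagS r s a` : the relative line `{e r u * e s (a u) * e (r + s) w}` if `⟨r, s^∨⟩ = -1`.
-/

set_option autoImplicit false
set_option linter.unusedSectionVars false

namespace Cfsg.Agent.KFacts.SysDiag

open CoxeterSystem Cfsg.Agent.ChevalleyStructure.CoxeterGeom Cfsg.Agent.Tits.Roots Cfsg.Agent.Tits.Core Cfsg.Agent.Nodes
  Cfsg.Agent.Tits.Exchange Cfsg.Agent.Nodes.Reps Cfsg.Agent.Nodes.BNOf Cfsg.Agent.Nodes.StabComb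
  Cfsg.Agent.Nodes.Bruhat Cfsg.Agent.Nodes.OppDec Cfsg.Agent.Nodes.LeviDec Cfsg.Agent.Nodes.NormalForm
  Cfsg.Agent.Nodes.Coroot Cfsg.Agent.Nodes.PosPair
  Cfsg.Agent.KFacts.RgdOpp Cfsg.Agent.KFacts.RgdAut Cfsg.Agent.KFacts.RgdRigid
  Cfsg.Agent.KFacts.RgdSys Cfsg.Agent.KFacts.ChevTwo Cfsg.Agent.KFacts.SysLine
  Cfsg.Agent.KFacts.RgdSL Cfsg.Agent.OddHalf.D4.LineR
open scoped commutatorElement

variable {I W Y K : Type*} [Fintype I] [DecidableEq I] [Group W] [Group Y] [Field K] {M : CoxeterMatrix I}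
variable {cs : CoxeterSystem M W} {A : I → I → ℤ} {h : IsCartan M A} {e : (I → ℤ) → K → Y}
  {p : ℕ} {T : Subgroup Y} {n : I → Y} {X : (I → ℤ) → Subgroup Y}

/-! ### Upper sets -/

/-- A set of positive roots of height `≥ m` containing all positive roots of height `> m`. -/
structure Up (cs : CoxeterSystem M W) (h : IsCartan M A) (m : ℤ) (Ψ : Set (I → ℤ)) : Prop where
  pos : Ψ ⊆ RGD.Pos cs h
  le : ∀ x ∈ Ψ, m ≤ ht x
  mem : ∀ x ∈ RGD.Pos cs h, m < ht x → x ∈ Ψ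

theorem pos_add {x y : I → ℤ} (hx : x ∈ RGD.Pos cs h) (hy : y ∈ RGD.Pos cs h) (hr : IsRoot cs h (x + y)) :
    x + y ∈ RGD.Pos cs h := by
  refine ⟨hr, fun i => ?_⟩
  have h1 := hx.2 i
  have h2 := hy.2 i
  simp only [Pi.add_apply, Pi.zero_apply] at h1 h2 ⊢
  omega

theorem ne_neg_of_pos {x y : I → ℤ} (hx : x ∈ RGD.Pos cs h) (hy : y ∈ RGD.Pos cs h) : x ≠ -y := by
  rintro rfl
  have h1 := ht_pos hx
  have h2 := ht_pos hy
  have h3 := ht_smul (-1) y
  rw [neg_one_smul] at h3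
  omega

theorem Up.closed [Finite W] (hs : SL cs h) {m : ℤ} (hm : 0 < m) {Ψ : Set (I → ℤ)} (hΨ : Up cs h m Ψ) :
    Unique.Closed cs h Ψ := by
  intro x hx y hy z hz
  by_cases hxy : x = y
  · subst hxy
    obtain ⟨hzr, m', a, b, hm', ha, hb, he⟩ := hz
    have h1 : m' • z = (a + b) • x := by rw [he, add_smul]
    have h2 := Unique.eq_of_ray hzr (hΨ.pos hx).1 hm' (by omega) h1
    rwa [h2]
  · have h1 := (hs.btwn (hΨ.pos hx).1 (hΨ.pos hy).1 hxy (ne_neg_of_pos (hΨ.pos hx) (hΨ.pos hy)) hz).2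
    subst h1
    refine hΨ.mem _ (pos_add (hΨ.pos hx) (hΨ.pos hy) hz.1) ?_
    rw [ht_add]
    have h2 := hΨ.le x hx
    have h3 := hΨ.le y hy
    omega

theorem Up.diff {m : ℤ} {Ψ : Set (I → ℤ)} (hΨ : Up cs h m Ψ) {δ : I → ℤ} (hδ : ht δ = m) :
    Up cs h m (Ψ \ {δ}) where
  pos x hx := hΨ.pos hx.1
  le x hx := hΨ.le x hx.1
  mem x hx hlt := ⟨hΨ.mem x hx hlt, by rintro rfl; omega⟩

/-- the positive roots of height `≥ ht ε` other than `ε` -/
def Ne (cs : CoxeterSystem M W) (h : IsCartan M A) (ε : I → ℤ) : Set (I → ℤ) :=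
  {z | z ∈ RGD.Pos cs h ∧ ht ε ≤ ht z ∧ z ≠ ε}

theorem up_Ne (ε : I → ℤ) : Up cs h (ht ε) (Ne cs h ε) where
  pos x hx := hx.1
  le x hx := hx.2.1
  mem x hx hlt := ⟨hx, hlt.le, by rintro rfl; exact lt_irrefl _ hlt⟩

section

variable [Finite W] {R : RGD cs h p T n X} (S : Sys R e)

include S

theorem Up.comm {m : ℤ} {Ψ : Set (I → ℤ)} (hΨ : Up cs h m Ψ) {g v : Y} (hg : g ∈ RGD.Sup X (RGD.Pos cs h))
    (hv : v ∈ RGD.Sup X Ψ) : g * v * g⁻¹ ∈ RGD.Sup X Ψ := by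
  have key : ∀ x ∈ RGD.Pos cs h, ∀ g ∈ X x, ∀ v ∈ RGD.Sup X Ψ, g * v * g⁻¹ ∈ RGD.Sup X Ψ := by
    intro x hx g hg v hv
    have h1 : RGD.Sup X Ψ ≤ (RGD.Sup X Ψ).comap (MulAut.conj g).toMonoidHom := by
      refine RGD.Sup_le fun y hy v hv => ?_
      show g * v * g⁻¹ ∈ RGD.Sup X Ψ
      have h2 : g * v * g⁻¹ = ⁅g, v⁆ * v := by rw [commutatorElement_def]; group
      rw [h2]
      refine mul_mem (RGD.Sup_mono ?_ (comm_gen S hx (hΨ.pos hy) hg hv)) (RGD.le_Sup (X := X) hy hv)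
      intro z hz
      have h3 := ht_pos hx
      have h4 := hΨ.le y hy
      exact hΨ.mem z hz.1 (by have := hz.2; omega)
    exact h1 hv
  have h2 : RGD.Sup X (RGD.Pos cs h) ≤ Subgroup.normalizer (RGD.Sup X Ψ : Set Y) := by
    refine RGD.Sup_le fun x hx g hg => ?_
    rw [Subgroup.mem_normalizer_iff]
    intro v
    refine ⟨key x hx g hg v, fun hv => ?_⟩
    have h1 := key x hx g⁻¹ (inv_mem hg) _ hv
    have h2 : g⁻¹ * (g * v * g⁻¹) * g⁻¹⁻¹ = v := by group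
    rwa [h2] at h1
  exact (Subgroup.mem_normalizer_iff.1 (h2 hg) v).1 hv

/-- `[U, X_ε] ≤ N_ε` -/
theorem comm_eps {ε : I → ℤ} (hε : ε ∈ RGD.Pos cs h) {g v : Y} (hg : g ∈ RGD.Sup X (RGD.Pos cs h)) (hv : v ∈ X ε) :
    ⁅g, v⁆ ∈ RGD.Sup X (Ne cs h ε) := by
  have h1 : ∀ x ∈ RGD.Pos cs h, ∀ g ∈ X x, ⁅g, v⁆ ∈ RGD.Sup X (Ne cs h ε) := by
    intro x hx g hg
    refine RGD.Sup_mono ?_ (comm_gen S hx hε hg hv)
    intro z hz
    have h2 := ht_pos hx
    exact (up_Ne ε).mem z hz.1 (by have := hz.2; omega)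
  let L : Subgroup Y :=
    { carrier := {g | g ∈ RGD.Sup X (RGD.Pos cs h) ∧ ⁅g, v⁆ ∈ RGD.Sup X (Ne cs h ε)}
      one_mem' := ⟨one_mem _, by rw [commutatorElement_one_left]; exact one_mem _⟩
      mul_mem' := by
        rintro a b ⟨ha, ha'⟩ ⟨hb, hb'⟩
        refine ⟨mul_mem ha hb, ?_⟩
        have h2 : ⁅a * b, v⁆ = (a * ⁅b, v⁆ * a⁻¹) * ⁅a, v⁆ := by
          simp only [commutatorElement_def]; group
        rw [h2]
        exact mul_mem ((up_Ne ε).comm S ha hb') ha'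
      inv_mem' := by
        rintro a ⟨ha, ha'⟩
        refine ⟨inv_mem ha, ?_⟩
        have h2 : ⁅a⁻¹, v⁆ = a⁻¹ * (⁅a, v⁆)⁻¹ * a⁻¹⁻¹ := by
          simp only [commutatorElement_def]; group
        rw [h2]
        exact (up_Ne ε).comm S (inv_mem ha) (inv_mem ha') }
  have h2 : RGD.Sup X (RGD.Pos cs h) ≤ L :=
    RGD.Sup_le fun x hx g hg => ⟨RGD.le_Sup (X := X) hx hg, h1 x hx g hg⟩
  exact (h2 hg).2

/-- `X_ε ∩ N_ε = 1` -/
theorem eps_inf (hs : SL cs h) {ε : I → ℤ} (hε : ε ∈ RGD.Pos cs h) {c : K} (hc : e ε c ∈ RGD.Sup X (Ne cs h ε)) :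
    c = 0 := by
  have h1 : Unique.Closed cs h ({ε} : Set (I → ℤ)) := by
    intro x hx y hy z hz
    rw [Set.mem_singleton_iff] at hx hy
    rw [hx, hy] at hz
    exact Set.mem_singleton_iff.2 (Unique.btwn_self hε.1 hz)
  have h2 := Unique.inf_eq R (S := {ε}) (S' := Ne cs h ε) (Set.singleton_subset_iff.2 hε) (up_Ne ε).pos h1
    ((up_Ne ε).closed hs (ht_pos hε))
  have h3 : e ε c ∈ RGD.Sup X ({ε} : Set (I → ℤ)) ⊓ RGD.Sup X (Ne cs h ε) :=
    ⟨RGD.le_Sup (X := X) (Set.mem_singleton ε) (S.mem hε.1 c), hc⟩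
  rw [h2] at h3
  have h4 : ({ε} ∩ Ne cs h ε : Set (I → ℤ)) = ∅ := by
    ext z
    simp only [Set.mem_inter_iff, Set.mem_singleton_iff, Set.mem_empty_iff_false, iff_false]
    rintro ⟨rfl, hz⟩
    exact hz.2.2 rfl
  rw [h4] at h3
  have h5 : RGD.Sup X (∅ : Set (I → ℤ)) ≤ ⊥ := RGD.Sup_le (fun z hz => absurd hz (by simp))
  exact S.data.inj ε hε.1 c (Subgroup.mem_bot.1 (h5 h3))


/-! ### The commutator modulo `N_ε` -/

omit S in
/-- `[g, a] ∈ e ε c N_ε` -/
def Rel (cs : CoxeterSystem M W) (h : IsCartan M A) (X : (I → ℤ) → Subgroup Y) (e : (I → ℤ) → K → Y) (ε : I → ℤ)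
    (g a : Y) (c : K) : Prop := (e ε c)⁻¹ * ⁅g, a⁆ ∈ RGD.Sup X (Ne cs h ε)

theorem Rel.mul_left {ε : I → ℤ} (hε : ε ∈ RGD.Pos cs h) {g g' a : Y} {c c' : K}
    (hg : g ∈ RGD.Sup X (RGD.Pos cs h)) (H : Rel cs h X e ε g a c) (H' : Rel cs h X e ε g' a c') :
    Rel cs h X e ε (g * g') a (c + c') := by
  have hU : ∀ c : K, e ε c ∈ RGD.Sup X (RGD.Pos cs h) := fun c => RGD.le_Sup (X := X) hε (S.mem hε.1 c)
  have hμ : ⁅g, e ε c'⁆ ∈ RGD.Sup X (Ne cs h ε) := comm_eps S hε hg (S.mem hε.1 c')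
  have h1 : (e ε c')⁻¹ * e ε c * e ε c' * (e ε c)⁻¹ = 1 := by
    have := S.data.comm_same hε.1 c c'
    rw [mul_assoc (e ε c')⁻¹, this]; group
  have h2 : (e ε (c + c'))⁻¹ * ⁅g * g', a⁆ =
      ((e ε c * e ε c')⁻¹ * ⁅g, e ε c'⁆ * (e ε c * e ε c')⁻¹⁻¹) *
      ((e ε c)⁻¹ * (g * ((e ε c')⁻¹ * ⁅g', a⁆) * g⁻¹) * (e ε c)⁻¹⁻¹) * ((e ε c)⁻¹ * ⁅g, a⁆) := by
    rw [S.data.add ε hε.1]
    symm
    calc ((e ε c * e ε c')⁻¹ * ⁅g, e ε c'⁆ * (e ε c * e ε c')⁻¹⁻¹) *
        ((e ε c)⁻¹ * (g * ((e ε c')⁻¹ * ⁅g', a⁆) * g⁻¹) * (e ε c)⁻¹⁻¹) * ((e ε c)⁻¹ * ⁅g, a⁆)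
        = (e ε c')⁻¹ * (e ε c)⁻¹ * g * e ε c' * g⁻¹ * ((e ε c')⁻¹ * e ε c * e ε c' * (e ε c)⁻¹) * g * (e ε c')⁻¹ *
          ⁅g', a⁆ * g⁻¹ * ⁅g, a⁆ := by simp only [commutatorElement_def]; group
      _ = (e ε c * e ε c')⁻¹ * ⁅g * g', a⁆ := by rw [h1]; simp only [commutatorElement_def]; group
  unfold Rel
  rw [h2]
  refine mul_mem (mul_mem ?_ ?_) H
  · exact (up_Ne ε).comm S (inv_mem (mul_mem (hU c) (hU c'))) hμ
  · exact (up_Ne ε).comm S (inv_mem (hU c)) ((up_Ne ε).comm S hg H')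

theorem Rel.mul_right {ε : I → ℤ} (hε : ε ∈ RGD.Pos cs h) {g a b : Y} {c c' : K}
    (ha : a ∈ RGD.Sup X (RGD.Pos cs h)) (H : Rel cs h X e ε g a c) (H' : Rel cs h X e ε g b c') :
    Rel cs h X e ε g (a * b) (c + c') := by
  have hU : ∀ c : K, e ε c ∈ RGD.Sup X (RGD.Pos cs h) := fun c => RGD.le_Sup (X := X) hε (S.mem hε.1 c)
  have hμ : ⁅a, (e ε c')⁻¹⁆ ∈ RGD.Sup X (Ne cs h ε) := comm_eps S hε ha (inv_mem (S.mem hε.1 c'))
  have h2 : (e ε (c + c'))⁻¹ * ⁅g, a * b⁆ =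
      ((e ε c')⁻¹ * ((e ε c)⁻¹ * ⁅g, a⁆) * (e ε c')⁻¹⁻¹) * ⁅a, (e ε c')⁻¹⁆⁻¹ * (a * ((e ε c')⁻¹ * ⁅g, b⁆) * a⁻¹) := by
    rw [S.data.add ε hε.1]
    simp only [commutatorElement_def]; group
  unfold Rel
  rw [h2]
  refine mul_mem (mul_mem ?_ (inv_mem hμ)) ?_
  · exact (up_Ne ε).comm S (inv_mem (hU c')) H
  · exact (up_Ne ε).comm S ha H'

theorem rel_one_left {ε : I → ℤ} (hε : ε ∈ RGD.Pos cs h) (a : Y) : Rel cs h X e ε 1 a 0 := by
  unfold Rel
  rw [commutatorElement_one_left, S.data.zero hε.1, inv_one, one_mul]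
  exact one_mem _

theorem rel_zero {ε : I → ℤ} (hε : ε ∈ RGD.Pos cs h) {g a : Y} :
    Rel cs h X e ε g a 0 ↔ ⁅g, a⁆ ∈ RGD.Sup X (Ne cs h ε) := by
  unfold Rel
  rw [S.data.zero hε.1, inv_one, one_mul]

/-- `⟨x, y^∨⟩ = -1` if `x + y` is a root -/
theorem cpr_of_add (hs : SL cs h) {x y : I → ℤ} (hx : x ∈ RGD.Pos cs h) (hy : y ∈ RGD.Pos cs h)
    (hr : IsRoot cs h (x + y)) : cpr cs h x y = -1 := by
  have h1 : cpr cs h (x + y) y = cpr cs h x y + 2 := by
    rw [cpr_add cs h _ _ hy.1, cpr_self cs h hy.1]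
  have hp := ht_pos hx
  rcases hs.cases hr hy.1 with ⟨h2, h3⟩ | ⟨h2, h3⟩ | ⟨h2, -, -, h3⟩
  · exfalso
    have h4 := congrArg ht h2
    rw [ht_add] at h4
    omega
  · exact absurd h2 (ne_neg_of_pos (pos_add hx hy hr) hy)
  · rcases hs.cases hx.1 hy.1 with ⟨-, h5⟩ | ⟨h5, -⟩ | ⟨-, -, h5, h6⟩
    · omega
    · exact absurd h5 (ne_neg_of_pos hx hy)
    · omega

theorem rel_single_eq (hs : SL cs h) {ε η v : I → ℤ} (hη : η ∈ RGD.Pos cs h) (hv : v ∈ RGD.Pos cs h)
    (hr : IsRoot cs h ε) (he : η + v = ε) (b w : K) : Rel cs h X e ε (e η b) (e v w) (b * w) := by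
  subst he
  have h1 := cpr_of_add S hs hη hv hr
  unfold Rel
  rw [S.data.comm1 η v hη.1 hv.1 h1 (by rw [← hs η v hη.1 hv.1]; exact h1), inv_mul_cancel]
  exact one_mem _

theorem rel_single_ne (hs : SL cs h) {ε η v : I → ℤ} (hη : η ∈ RGD.Pos cs h) (hv : v ∈ RGD.Pos cs h)
    (hε : ε ∈ RGD.Pos cs h) (hht : ht ε ≤ ht η + ht v) (he : η + v ≠ ε) (b w : K) :
    Rel cs h X e ε (e η b) (e v w) 0 := by
  rw [rel_zero S hε]
  rcases hs.cases hη.1 hv.1 with ⟨-, h5⟩ | ⟨h5, -⟩ | ⟨-, -, h5, h6⟩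
  · rw [commutatorElement_eq_one_iff_mul_comm.2 (S.data.comm_of_nonneg hη.1 hv.1 (by omega) b w)]
    exact one_mem _
  · exact absurd h5 (ne_neg_of_pos hη hv)
  · by_cases h7 : 0 ≤ cpr cs h η v
    · rw [commutatorElement_eq_one_iff_mul_comm.2 (S.data.comm_of_nonneg hη.1 hv.1 h7 b w)]
      exact one_mem _
    · have h8 : cpr cs h η v = -1 := by omega
      have h9 := isRoot_add hη.1 hv.1 h8
      rw [S.data.comm1 η v hη.1 hv.1 h8 (by rw [← hs η v hη.1 hv.1]; exact h8)]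
      exact RGD.le_Sup (X := X) (S := Ne cs h ε) ⟨pos_add hη hv h9, by rw [ht_add]; exact hht, he⟩ (S.mem h9 _)

/-- `⟨r, s^∨⟩ ∈ {0, -1}` for different positive roots of the same height -/
theorem cpr_cases (hs : SL cs h) {r s : I → ℤ} (hr : r ∈ RGD.Pos cs h) (hs' : s ∈ RGD.Pos cs h) (hrs : r ≠ s)
    (hht : ht r = ht s) : cpr cs h r s = 0 ∨ cpr cs h r s = -1 := by
  rcases hs.cases hr.1 hs'.1 with ⟨h5, -⟩ | ⟨h5, -⟩ | ⟨-, -, h5, h6⟩
  · exact absurd h5 hrs
  · exact absurd h5 (ne_neg_of_pos hr hs')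
  · have h7 : cpr cs h r s ≠ 1 := by
      intro h8
      have h9 := isRoot_sub hr.1 hs'.1 h8
      have e1 : ht (r - s) = 0 := by
        have h10 := ht_add (r - s) s
        rw [sub_add_cancel] at h10
        omega
      rcases h9.pos_or_neg with h11 | h11
      · have := ht_pos (cs := cs) (h := h) (x := r - s) ⟨h9, h11⟩
        omega
      · have h12 := ht_pos (cs := cs) (h := h) (x := -(r - s)) ⟨h9.neg, by
          intro i
          have := h11 i
          simp only [Pi.neg_apply, Pi.zero_apply] at this ⊢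
          omega⟩
        have h13 := ht_smul (-1) (r - s)
        rw [neg_one_smul] at h13
        omega
    omega

/-- The elements `e δ₁ c₁ * e δ₂ c₂`, `δ₁ + r = ε = δ₂ + s`, `c₁ t + c₂ t' = 0`, commute with `e r t * e s t'`. -/
theorem kap (hs : SL cs h) {r s : I → ℤ} (hr : r ∈ RGD.Pos cs h) (hs' : s ∈ RGD.Pos cs h) (hrs : r ≠ s)
    (hht : ht r = ht s) {ε δ₁ δ₂ : I → ℤ} (hε : IsRoot cs h ε) (h1 : δ₁ ∈ RGD.Pos cs h) (h2 : δ₂ ∈ RGD.Pos cs h)
    (e1 : δ₁ + r = ε) (e2 : δ₂ + s = ε) {c₁ c₂ t t' : K} (hc : c₁ * t + c₂ * t' = 0) :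
    e δ₁ c₁ * e δ₂ c₂ * (e r t * e s t') = e r t * e s t' * (e δ₁ c₁ * e δ₂ c₂) := by
  have a1 : cpr cs h δ₁ r = -1 := cpr_of_add S hs h1 hr (by rw [e1]; exact hε)
  have a2 : cpr cs h δ₂ s = -1 := cpr_of_add S hs h2 hs' (by rw [e2]; exact hε)
  have b1 : cpr cs h ε r = 1 := by
    rw [← e1, cpr_add cs h _ _ hr.1, cpr_self cs h hr.1, a1]; norm_num
  have b2 : cpr cs h ε s = 1 := by
    rw [← e2, cpr_add cs h _ _ hs'.1, cpr_self cs h hs'.1, a2]; norm_num
  have b3 : cpr cs h ε δ₁ = 1 := by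
    rw [← e1, cpr_add cs h _ _ h1.1, cpr_self cs h h1.1, ← hs δ₁ r h1.1 hr.1, a1]; norm_num
  have c1 : 0 ≤ cpr cs h δ₁ s := by
    have := cpr_add cs h δ₁ r hs'.1
    rw [e1, b2] at this
    rcases cpr_cases S hs hr hs' hrs hht with h3 | h3 <;> omega
  have c2 : 0 ≤ cpr cs h δ₂ r := by
    have := cpr_add cs h δ₂ s hr.1
    rw [e2, b1, ← hs r s hr.1 hs'.1] at this
    rcases cpr_cases S hs hr hs' hrs hht with h3 | h3 <;> omega
  have d1 : e δ₁ c₁ * e r t = e ε (c₁ * t) * (e r t * e δ₁ c₁) := by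
    have h3 := S.data.comm1 δ₁ r h1.1 hr.1 a1 (by rw [← hs δ₁ r h1.1 hr.1]; exact a1) c₁ t
    rw [e1] at h3
    rw [← h3, commutatorElement_def]; group
  have d2 : e δ₂ c₂ * e s t' = e ε (c₂ * t') * (e s t' * e δ₂ c₂) := by
    have h3 := S.data.comm1 δ₂ s h2.1 hs'.1 a2 (by rw [← hs δ₂ s h2.1 hs'.1]; exact a2) c₂ t'
    rw [e2] at h3
    rw [← h3, commutatorElement_def]; group
  have d3 : e δ₂ c₂ * e r t = e r t * e δ₂ c₂ := S.data.comm_of_nonneg h2.1 hr.1 c2 _ _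
  have d4 : e δ₁ c₁ * e s t' = e s t' * e δ₁ c₁ := S.data.comm_of_nonneg h1.1 hs'.1 c1 _ _
  have d5 : e r t * e ε (c₂ * t') = e ε (c₂ * t') * e r t :=
    (S.data.comm_of_nonneg hε hr.1 (by omega) _ _).symm
  have d6 : e δ₁ c₁ * e ε (c₂ * t') = e ε (c₂ * t') * e δ₁ c₁ :=
    (S.data.comm_of_nonneg hε h1.1 (by omega) _ _).symm
  have d7 : e ε (c₁ * t) * e ε (c₂ * t') = 1 := by rw [← S.data.add ε hε, hc, S.data.zero hε]
  calc e δ₁ c₁ * e δ₂ c₂ * (e r t * e s t') = e δ₁ c₁ * (e δ₂ c₂ * e r t) * e s t' := by group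
    _ = e δ₁ c₁ * e r t * (e δ₂ c₂ * e s t') := by rw [d3]; group
    _ = e ε (c₁ * t) * e r t * (e δ₁ c₁ * e ε (c₂ * t')) * (e s t' * e δ₂ c₂) := by rw [d1, d2]; group
    _ = e ε (c₁ * t) * (e r t * e ε (c₂ * t')) * (e δ₁ c₁ * e s t') * e δ₂ c₂ := by rw [d6]; group
    _ = e ε (c₁ * t) * e ε (c₂ * t') * (e r t * e s t' * (e δ₁ c₁ * e δ₂ c₂)) := by rw [d5, d4]; group
    _ = e r t * e s t' * (e δ₁ c₁ * e δ₂ c₂) := by rw [d7, one_mul]

/-- Peeling off one root of lowest height. -/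
theorem peel (hs : SL cs h) {m : ℤ} (hm : 0 < m) {Ψ : Set (I → ℤ)} (hΨ : Up cs h m Ψ) (δ : I → ℤ) {k : Y}
    (hk : k ∈ RGD.Sup X Ψ) : ∃ (a : Y) (c : K) (b : Y), b ∈ RGD.Sup X (Ψ \ {δ}) ∧ k = a * b ∧
      ((δ ∈ Ψ ∧ a = e δ c) ∨ (δ ∉ Ψ ∧ c = 0 ∧ a = 1)) := by
  by_cases hδ : δ ∈ Ψ
  · obtain ⟨a, ha, b, hb, e1⟩ := (Unique.mem_peel R hΨ.pos (hΨ.closed hs hm) hδ).1 hk
    obtain ⟨c, rfl⟩ := (S.mem_X δ (hΨ.pos hδ).1 a).1 ha
    exact ⟨_, c, b, hb, e1, Or.inl ⟨hδ, rfl⟩⟩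
  · refine ⟨1, 0, k, ?_, by rw [one_mul], Or.inr ⟨hδ, rfl, rfl⟩⟩
    rwa [Set.sdiff_singleton_eq_self hδ]

/-- **Centralisers of diagonal elements**, induction. -/
theorem star_aux (hs : SL cs h) {r s : I → ℤ} (hr : r ∈ RGD.Pos cs h) (hs' : s ∈ RGD.Pos cs h) (hrs : r ≠ s)
    (hht : ht r = ht s) {t t' : K} (ht0 : t ≠ 0) (ht'0 : t' ≠ 0) {u u' : K} (hu : u * t' = u' * t) :
    ∀ N : ℕ, ∀ (m : ℤ) (Ψ : Set (I → ℤ)), 0 < m → Up cs h m Ψ → Ψ.ncard = N → ∀ k ∈ RGD.Sup X Ψ,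
      k * (e r t * e s t') = e r t * e s t' * k → k * (e r u * e s u') = e r u * e s u' * k := by
  intro N
  induction N using Nat.strong_induction_on with
  | _ N ih =>
  intro m₀ Ψ hm₀ hΨ₀ hN k hk hkx
  have hfin : Ψ.Finite := (RGD.finite_roots (cs := cs) (h := h)).subset fun x hx => (hΨ₀.pos hx).1
  rcases Ψ.eq_empty_or_nonempty with hE | hne
  · subst hE
    have h5 : RGD.Sup X (∅ : Set (I → ℤ)) ≤ ⊥ := RGD.Sup_le (fun z hz => absurd hz (by simp))
    have h6 := Subgroup.mem_bot.1 (h5 hk)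
    rw [h6, one_mul, mul_one]
  obtain ⟨δ, hδ, hmin⟩ := Set.exists_min_image Ψ ht hfin hne
  have hΨ : Up cs h (ht δ) Ψ :=
    ⟨hΨ₀.pos, hmin, fun x hx hlt => hΨ₀.mem x hx (lt_of_le_of_lt (hΨ₀.le δ hδ) hlt)⟩
  have hδp := hΨ.pos hδ
  have hm : 0 < ht δ := ht_pos hδp
  have hxU : ∀ a b : K, e r a * e s b ∈ RGD.Sup X (RGD.Pos cs h) := fun a b =>
    mul_mem (RGD.le_Sup (X := X) hr (S.mem hr.1 a)) (RGD.le_Sup (X := X) hs' (S.mem hs'.1 b))
  have hcard : ∀ Ψ' : Set (I → ℤ), Ψ' ⊆ Ψ → δ ∉ Ψ' → Ψ'.ncard < N := by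
    intro Ψ' hsub hn
    rw [← hN]
    exact Set.ncard_lt_ncard ⟨hsub, fun h1 => hn (h1 hδ)⟩ hfin
  by_cases hB : 0 ≤ cpr cs h δ r ∧ 0 ≤ cpr cs h δ s
  · -- `X_δ` centralises everything
    obtain ⟨a, c, b, hb, rfl, h1⟩ := peel S hs hm hΨ δ hk
    have ha : a = e δ c := by
      rcases h1 with ⟨-, h1⟩ | ⟨h1, -⟩
      · exact h1
      · exact absurd hδ h1
    have hcom : ∀ v w : K, a * (e r v * e s w) = e r v * e s w * a := by
      intro v w
      have h2 := S.data.comm_of_nonneg hδp.1 hr.1 hB.1 c v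
      have h3 := S.data.comm_of_nonneg hδp.1 hs'.1 hB.2 c w
      rw [ha, ← mul_assoc, h2, mul_assoc, h3, mul_assoc]
    have hbx : b * (e r t * e s t') = e r t * e s t' * b := by
      have h2 := hcom t t'
      have h3 : a * (b * (e r t * e s t')) = a * (e r t * e s t' * b) := by
        calc a * (b * (e r t * e s t')) = a * b * (e r t * e s t') := by group
          _ = e r t * e s t' * a * b := by rw [hkx]; group
          _ = a * (e r t * e s t' * b) := by rw [← h2]; group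
      exact mul_left_cancel h3
    have hby := ih _ (hcard (Ψ \ {δ}) Set.sdiff_subset fun h2 => h2.2 rfl) (ht δ) (Ψ \ {δ}) hm (hΨ.diff rfl) rfl b hb hbx
    have h2 := hcom u u'
    calc a * b * (e r u * e s u') = a * (b * (e r u * e s u')) := by group
      _ = a * (e r u * e s u') * b := by rw [hby]; group
      _ = e r u * e s u' * (a * b) := by rw [h2]; group
  · -- the root `ε`
    obtain ⟨ε, hε, hεδ⟩ : ∃ ε, IsRoot cs h ε ∧ (δ + r = ε ∨ δ + s = ε) := by
      by_cases h1 : 0 ≤ cpr cs h δ r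
      · have h2 : ¬ 0 ≤ cpr cs h δ s := fun h3 => hB ⟨h1, h3⟩
        rcases hs.cases hδp.1 hs'.1 with ⟨-, h5⟩ | ⟨h5, -⟩ | ⟨-, -, h5, h6⟩
        · omega
        · exact absurd h5 (ne_neg_of_pos hδp hs')
        · exact ⟨δ + s, isRoot_add hδp.1 hs'.1 (by omega), Or.inr rfl⟩
      · rcases hs.cases hδp.1 hr.1 with ⟨-, h5⟩ | ⟨h5, -⟩ | ⟨-, -, h5, h6⟩
        · omega
        · exact absurd h5 (ne_neg_of_pos hδp hr)
        · exact ⟨δ + r, isRoot_add hδp.1 hr.1 (by omega), Or.inl rfl⟩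
    have hεp : ε ∈ RGD.Pos cs h := by
      rcases hεδ with h1 | h1
      · rw [← h1] at hε ⊢; exact pos_add hδp hr hε
      · rw [← h1] at hε ⊢; exact pos_add hδp hs' hε
    have hεht : ht ε = ht δ + ht r := by
      rcases hεδ with h1 | h1
      · rw [← h1, ht_add]
      · rw [← h1, ht_add, hht]
    set δ₁ := ε - r with hδ₁
    set δ₂ := ε - s with hδ₂
    have e1 : δ₁ + r = ε := by rw [hδ₁]; abel
    have e2 : δ₂ + s = ε := by rw [hδ₂]; abel
    have hh1 : ht δ₁ = ht δ := by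
      have := ht_add δ₁ r
      rw [e1] at this; omega
    have hh2 : ht δ₂ = ht δ := by
      have := ht_add δ₂ s
      rw [e2] at this; omega
    have hδmem : δ = δ₁ ∨ δ = δ₂ := by
      rcases hεδ with h1 | h1
      · left; rw [hδ₁, ← h1]; abel
      · right; rw [hδ₂, ← h1]; abel
    obtain ⟨a₁, c₁, b₁, hb₁, hkab, H₁⟩ := peel S hs hm hΨ δ₁ hk
    obtain ⟨a₂, c₂, k', hk', hb₁ab, H₂⟩ := peel S hs hm (hΨ.diff hh1) δ₂ hb₁
    have hΨ' : Up cs h (ht δ) ((Ψ \ {δ₁}) \ {δ₂}) := (hΨ.diff hh1).diff hh2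
    have hsubP : ∀ z ∈ (Ψ \ {δ₁}) \ {δ₂}, z ∈ RGD.Pos cs h := fun z hz => hΨ.pos hz.1.1
    -- relations
    have R₁ : Rel cs h X e ε a₁ (e r t * e s t') (c₁ * t) := by
      rcases H₁ with ⟨h1, rfl⟩ | ⟨-, rfl, rfl⟩
      · have := Rel.mul_right S hεp (RGD.le_Sup (X := X) hr (S.mem hr.1 t))
          (rel_single_eq S hs (hΨ.pos h1) hr hε e1 c₁ t)
          (rel_single_ne S hs (hΨ.pos h1) hs' hεp (by omega) (fun h2 => hrs (add_left_cancel (e1.trans h2.symm))) c₁ t')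
        rwa [add_zero] at this
      · rw [zero_mul]; exact rel_one_left S hεp _
    have R₂ : Rel cs h X e ε a₂ (e r t * e s t') (c₂ * t') := by
      rcases H₂ with ⟨h1, rfl⟩ | ⟨-, rfl, rfl⟩
      · have := Rel.mul_right S hεp (RGD.le_Sup (X := X) hr (S.mem hr.1 t))
          (rel_single_ne S hs (hΨ.pos h1.1) hr hεp (by omega)
            (fun h2 => hrs (add_left_cancel (h2.trans e2.symm))) c₂ t)
          (rel_single_eq S hs (hΨ.pos h1.1) hs' hε e2 c₂ t')
        rwa [zero_add] at this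
      · rw [zero_mul]; exact rel_one_left S hεp _
    have R₃ : Rel cs h X e ε k' (e r t * e s t') 0 := by
      let L : Subgroup Y :=
        { carrier := {g | g ∈ RGD.Sup X (RGD.Pos cs h) ∧ ⁅g, e r t * e s t'⁆ ∈ RGD.Sup X (Ne cs h ε)}
          one_mem' := ⟨one_mem _, by rw [commutatorElement_one_left]; exact one_mem _⟩
          mul_mem' := by
            rintro a b ⟨ha, ha'⟩ ⟨hb, hb'⟩
            refine ⟨mul_mem ha hb, ?_⟩
            have h2 : ⁅a * b, e r t * e s t'⁆ = (a * ⁅b, e r t * e s t'⁆ * a⁻¹) * ⁅a, e r t * e s t'⁆ := by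
              simp only [commutatorElement_def]; group
            rw [h2]
            exact mul_mem ((up_Ne ε).comm S ha hb') ha'
          inv_mem' := by
            rintro a ⟨ha, ha'⟩
            refine ⟨inv_mem ha, ?_⟩
            have h2 : ⁅a⁻¹, e r t * e s t'⁆ = a⁻¹ * (⁅a, e r t * e s t'⁆)⁻¹ * a⁻¹⁻¹ := by
              simp only [commutatorElement_def]; group
            rw [h2]
            exact (up_Ne ε).comm S (inv_mem ha) (inv_mem ha') }
      have h2 : RGD.Sup X ((Ψ \ {δ₁}) \ {δ₂}) ≤ L := by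
        refine RGD.Sup_le fun η hη g hg => ?_
        obtain ⟨b, rfl⟩ := (S.mem_X η (hsubP η hη).1 g).1 hg
        refine ⟨RGD.le_Sup (X := X) (hsubP η hη) hg, ?_⟩
        have hle := hΨ'.le η hη
        have := Rel.mul_right S hεp (RGD.le_Sup (X := X) hr (S.mem hr.1 t))
          (rel_single_ne S hs (hsubP η hη) hr hεp (by omega)
            (fun h3 => hη.1.2 (by rw [Set.mem_singleton_iff, hδ₁, ← h3]; abel)) b t)
          (rel_single_ne S hs (hsubP η hη) hs' hεp (by omega)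
            (fun h3 => hη.2 (by rw [Set.mem_singleton_iff, hδ₂, ← h3]; abel)) b t')
        rw [add_zero] at this
        exact (rel_zero S hεp).1 this
      rw [rel_zero S hεp]
      exact (h2 hk').2
    have ha₁U : a₁ ∈ RGD.Sup X (RGD.Pos cs h) := by
      rcases H₁ with ⟨h1, rfl⟩ | ⟨-, rfl, rfl⟩
      · exact RGD.le_Sup (X := X) (hΨ.pos h1) (S.mem (hΨ.pos h1).1 _)
      · exact one_mem _
    have ha₂U : a₂ ∈ RGD.Sup X (RGD.Pos cs h) := by
      rcases H₂ with ⟨h1, rfl⟩ | ⟨-, rfl, rfl⟩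
      · exact RGD.le_Sup (X := X) (hΨ.pos h1.1) (S.mem (hΨ.pos h1.1).1 _)
      · exact one_mem _
    have R₄ := Rel.mul_left S hεp ha₁U R₁ (Rel.mul_left S hεp ha₂U R₂ R₃)
    have hk1 : a₁ * (a₂ * k') = k := by rw [hkab, hb₁ab]
    rw [hk1, add_zero] at R₄
    have hsum : c₁ * t + c₂ * t' = 0 := by
      unfold Rel at R₄
      rw [commutatorElement_eq_one_iff_mul_comm.2 hkx, mul_one] at R₄
      exact eps_inf S hs hεp ((Subgroup.inv_mem_iff _).1 R₄)
    -- the elements `a₁ * a₂` commute with everything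
    have hκ : ∀ v w : K, c₁ * v + c₂ * w = 0 → a₁ * a₂ * (e r v * e s w) = e r v * e s w * (a₁ * a₂) := by
      intro v w hvw
      rcases H₁ with ⟨h1, rfl⟩ | ⟨-, rfl, rfl⟩
      · rcases H₂ with ⟨h2, rfl⟩ | ⟨-, rfl, rfl⟩
        · exact kap S hs hr hs' hrs hht hε (hΨ.pos h1) (hΨ.pos h2.1) e1 e2 hvw
        · rw [zero_mul, add_zero] at hsum
          have h3 : c₁ = 0 := (mul_eq_zero.1 hsum).resolve_right ht0
          rw [h3, S.data.zero (hΨ.pos h1).1]; group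
      · rw [zero_mul, zero_add] at hsum
        have h3 : c₂ = 0 := (mul_eq_zero.1 hsum).resolve_right ht'0
        rcases H₂ with ⟨h2, rfl⟩ | ⟨-, -, rfl⟩
        · rw [h3, S.data.zero (hΨ.pos h2.1).1]; group
        · group
    have hsum' : c₁ * u + c₂ * u' = 0 := by
      have h3 : (c₁ * u + c₂ * u') * t' = 0 := by
        calc (c₁ * u + c₂ * u') * t' = c₁ * (u * t') + c₂ * t' * u' := by ring
          _ = u' * (c₁ * t + c₂ * t') := by rw [hu]; ring
          _ = 0 := by rw [hsum, mul_zero]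
      exact (mul_eq_zero.1 h3).resolve_right ht'0
    have hx := hκ t t' hsum
    have hy := hκ u u' hsum'
    have hk2 : k = a₁ * a₂ * k' := by rw [← hk1]; group
    have hk'x : k' * (e r t * e s t') = e r t * e s t' * k' := by
      have h3 : a₁ * a₂ * (k' * (e r t * e s t')) = a₁ * a₂ * (e r t * e s t' * k') := by
        calc a₁ * a₂ * (k' * (e r t * e s t')) = k * (e r t * e s t') := by rw [hk2]; group
          _ = e r t * e s t' * (a₁ * a₂) * k' := by rw [hkx, hk2]; group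
          _ = a₁ * a₂ * (e r t * e s t' * k') := by rw [← hx]; group
      exact mul_left_cancel h3
    have hk'y := ih _ (hcard ((Ψ \ {δ₁}) \ {δ₂}) (fun z hz => hz.1.1) (by
      rintro ⟨⟨-, h3⟩, h4⟩
      rcases hδmem with h5 | h5
      · exact h3 h5
      · exact h4 h5)) (ht δ) _ hm hΨ' rfl k' hk' hk'x
    calc k * (e r u * e s u') = a₁ * a₂ * (k' * (e r u * e s u')) := by rw [hk2]; group
      _ = a₁ * a₂ * (e r u * e s u') * k' := by rw [hk'y]; group
      _ = e r u * e s u' * k := by rw [hy, hk2]; group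

/-- **Centralisers of diagonal elements.** -/
theorem star (hs : SL cs h) {r s : I → ℤ} (hr : r ∈ RGD.Pos cs h) (hs' : s ∈ RGD.Pos cs h) (hrs : r ≠ s)
    (hht : ht r = ht s) {t t' : K} (ht0 : t ≠ 0) (ht'0 : t' ≠ 0) {k : Y} (hk : k ∈ RGD.Sup X (RGD.Pos cs h))
    (hc : k * (e r t * e s t') = e r t * e s t' * k) {u u' : K} (hu : u * t' = u' * t) :
    k * (e r u * e s u') = e r u * e s u' * k := by
  refine star_aux S hs hr hs' hrs hht ht0 ht'0 hu _ 1 (RGD.Pos cs h) one_pos ?_ rfl k hk hc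
  exact ⟨subset_rfl, fun x hx => ht_pos hx, fun x hx _ => hx⟩

end

/-! ### The diagonal lines -/

section

variable [Finite W] {R : RGD cs h p T n X} (S : Sys R e)

/-- The diagonal line `{e r u * e s (a u)}`, `⟨r, s^∨⟩ = 0`. -/
def diag {r s : I → ℤ} (hr : IsRoot cs h r) (hs' : IsRoot cs h s) (h0 : cpr cs h r s = 0) (a : K) : Subgroup Y where
  carrier := {g | ∃ u : K, g = e r u * e s (a * u)}
  one_mem' := ⟨0, by rw [mul_zero, S.data.zero hr, S.data.zero hs', one_mul]⟩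
  mul_mem' := by
    rintro _ _ ⟨u, rfl⟩ ⟨v, rfl⟩
    refine ⟨u + v, ?_⟩
    have h1 : e r v * e s (a * u) = e s (a * u) * e r v := S.data.comm_of_nonneg hr hs' h0.ge _ _
    rw [mul_add, S.data.add r hr, S.data.add s hs']
    calc e r u * e s (a * u) * (e r v * e s (a * v)) = e r u * (e s (a * u) * e r v) * e s (a * v) := by group
      _ = e r u * e r v * (e s (a * u) * e s (a * v)) := by rw [← h1]; group
  inv_mem' := by
    rintro _ ⟨u, rfl⟩
    refine ⟨u, ?_⟩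
    rw [mul_inv_rev, S.data.inv hr, S.data.inv hs']
    exact (S.data.comm_of_nonneg hr hs' h0.ge _ _).symm

theorem mem_diag {r s : I → ℤ} (hr : IsRoot cs h r) (hs' : IsRoot cs h s) (h0 : cpr cs h r s = 0) (a : K) {g : Y} :
    g ∈ diag S hr hs' h0 a ↔ ∃ u : K, g = e r u * e s (a * u) := Iff.rfl

include S in
/-- `e r u * e s u'` lies in the next term of the filtration only if it is trivial. -/
theorem eq_zero_of_mem (hs : SL cs h) {r s : I → ℤ} (hr : r ∈ RGD.Pos cs h) (hs' : s ∈ RGD.Pos cs h) (hrs : r ≠ s)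
    (hht : ht r = ht s) {j : ℕ} (hj : ht r = (j : ℤ) + 1) {u u' : K} {w : Y}
    (hw : w ∈ UH cs h X (j + 1)) (hm : e r u * e s u' * w ∈ UH cs h X (j + 1)) : u = 0 := by
  have h1 : UH cs h X (j + 1) ≤ RGD.Sup X (Ne cs h r) := RGD.Sup_mono fun z hz =>
    (up_Ne r).mem z hz.1 (by have := hz.2; push_cast at this; omega)
  have h2 : e s u' ∈ RGD.Sup X (Ne cs h r) := RGD.le_Sup (X := X) (S := Ne cs h r) ⟨hs', hht.le, hrs.symm⟩ (S.mem hs'.1 _)
  apply eps_inf S hs hr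
  have e1 : e r u = e r u * e s u' * w * w⁻¹ * (e s u')⁻¹ := by group
  rw [e1]
  exact mul_mem (mul_mem (h1 hm) (inv_mem (h1 hw))) (inv_mem h2)

include S in
theorem exists_two [Finite K] (hK : 3 ≤ Nat.card K) : ∃ a b : K, a ≠ 0 ∧ b ≠ 0 ∧ a ≠ b := by
  classical
  have := Fintype.ofFinite K
  rw [Nat.card_eq_fintype_card] at hK
  obtain ⟨b, hb0, hb1⟩ : ∃ b : K, b ≠ 0 ∧ b ≠ 1 := by
    by_contra hcon
    push Not at hcon
    have h1 : (Finset.univ : Finset K) ⊆ {0, 1} := by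
      intro x _
      rw [Finset.mem_insert, Finset.mem_singleton]
      by_cases hx : x = 0
      · exact Or.inl hx
      · exact Or.inr (hcon x hx)
    have h2 := Finset.card_le_card h1
    rw [Finset.card_univ] at h2
    have h3 : ({0, 1} : Finset K).card ≤ 2 := Finset.card_le_two
    omega
  exact ⟨1, b, one_ne_zero, hb0, hb1.symm⟩

/-- **(K1), orthogonal roots.** -/
theorem diag_line [Finite K] (hs : SL cs h) (hK : 3 ≤ Nat.card K) {r s : I → ℤ} (hr : r ∈ RGD.Pos cs h)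
    (hs' : s ∈ RGD.Pos cs h) (hrs : r ≠ s) (hht : ht r = ht s) (h0 : cpr cs h r s = 0) {a : K} (ha : a ≠ 0) {j : ℕ}
    (hj : ht r = (j : ℤ) + 1) :
    IsLineR (RGD.Sup X (RGD.Pos cs h)) (UH cs h X (j + 1)) (diag S hr.1 hs'.1 h0 a) where
  sq x hx := by
    obtain ⟨u, rfl⟩ := hx
    have h1 : e r u * e s (a * u) = e s (a * u) * e r u := S.data.comm_of_nonneg hr.1 hs'.1 h0.ge _ _
    have h2 : e r u * e s (a * u) * (e r u * e s (a * u)) = 1 := by
      calc e r u * e s (a * u) * (e r u * e s (a * u)) = e r u * (e s (a * u) * e r u) * e s (a * u) := by group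
        _ = e r u * e r u * (e s (a * u) * e s (a * u)) := by rw [← h1]; group
        _ = 1 := by rw [S.data.sq hr.1, S.data.sq hs'.1, one_mul]
    rw [h2]
    exact one_mem _
  pair := by
    obtain ⟨u, v, hu, hv, huv⟩ := exists_two S hK
    have key : ∀ w : K, w ≠ 0 → e r w * e s (a * w) ∉ UH cs h X (j + 1) := by
      intro w hw hm
      refine hw (eq_zero_of_mem S hs hr hs' hrs hht hj (w := 1) (one_mem _) (by rwa [mul_one]))
    refine ⟨_, ⟨u, rfl⟩, _, ⟨v, rfl⟩, key u hu, key v hv, ?_⟩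
    have h1 : (e r u * e s (a * u))⁻¹ * (e r v * e s (a * v)) = e r (u + v) * e s (a * (u + v)) := by
      have h2 : e r v * e s (a * u) = e s (a * u) * e r v := S.data.comm_of_nonneg hr.1 hs'.1 h0.ge _ _
      have h3 : e r u * e s (a * u) = e s (a * u) * e r u := S.data.comm_of_nonneg hr.1 hs'.1 h0.ge _ _
      rw [mul_add, S.data.add r hr.1, S.data.add s hs'.1, h3, mul_inv_rev, S.data.inv hr.1, S.data.inv hs'.1]
      calc e r u * e s (a * u) * (e r v * e s (a * v)) = e r u * (e s (a * u) * e r v) * e s (a * v) := by group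
        _ = e r u * e r v * (e s (a * u) * e s (a * v)) := by rw [← h2]; group
    rw [h1]
    refine key _ fun h2 => huv ?_
    have h3 := S.data.two v
    exact add_right_cancel (h2.trans h3.symm)
  star y hy x hx hxD hxy x' hx' := by
    obtain ⟨u, rfl⟩ := hx
    obtain ⟨v, rfl⟩ := hx'
    have hu : u ≠ 0 := by
      rintro rfl
      apply hxD
      rw [mul_zero, S.data.zero hr.1, S.data.zero hs'.1, one_mul]
      exact one_mem _
    exact (star S hs hr hs' hrs hht hu (mul_ne_zero ha hu) hy hxy.symm (u := v) (u' := a * v) (by ring)).symm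

/-- The relative diagonal line `{e r u * e s (a u) * e (r + s) w}`, `⟨r, s^∨⟩ = -1`. -/
def diagS (hs : SL cs h) {r s : I → ℤ} (hr : IsRoot cs h r) (hs' : IsRoot cs h s) (h1 : cpr cs h r s = -1) (a : K) :
    Subgroup Y where
  carrier := {g | ∃ u w : K, g = e r u * e s (a * u) * e (r + s) w}
  one_mem' := ⟨0, 0, by
    rw [mul_zero, S.data.zero hr, S.data.zero hs', S.data.zero (isRoot_add hr hs' h1), one_mul, one_mul]⟩
  mul_mem' := by
    rintro _ _ ⟨u, w, rfl⟩ ⟨v, z, rfl⟩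
    have hrs := isRoot_add hr hs' h1
    have h2 : cpr cs h s r = -1 := by rw [← hs r s hr hs']; exact h1
    have c1 : 0 ≤ cpr cs h (r + s) r := by rw [cpr_add cs h _ _ hr, cpr_self cs h hr, h2]; norm_num
    have c2 : 0 ≤ cpr cs h (r + s) s := by rw [cpr_add cs h _ _ hs', cpr_self cs h hs', h1]; norm_num
    have h3 : e s (a * u) * e r v = e (s + r) (a * u * v) * (e r v * e s (a * u)) := by
      rw [← S.data.comm1 s r hs' hr h2 h1, commutatorElement_def]; group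
    have d1 : ∀ w x, e (r + s) w * e r x = e r x * e (r + s) w := fun w x => S.data.comm_of_nonneg hrs hr c1 _ _
    have d2 : ∀ w x, e (r + s) w * e s x = e s x * e (r + s) w := fun w x => S.data.comm_of_nonneg hrs hs' c2 _ _
    rw [add_comm s r] at h3
    refine ⟨u + v, a * u * v + w + z, ?_⟩
    rw [mul_add, S.data.add r hr, S.data.add s hs', S.data.add _ hrs, S.data.add _ hrs]
    calc e r u * e s (a * u) * e (r + s) w * (e r v * e s (a * v) * e (r + s) z)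
        = e r u * e s (a * u) * (e (r + s) w * e r v) * e s (a * v) * e (r + s) z := by group
      _ = e r u * (e s (a * u) * e r v) * (e (r + s) w * e s (a * v)) * e (r + s) z := by rw [d1]; group
      _ = e r u * (e (r + s) (a * u * v) * e r v) * e s (a * u) * e s (a * v) * e (r + s) w * e (r + s) z := by
          rw [h3, d2]; group
      _ = e r u * e r v * (e (r + s) (a * u * v) * e s (a * u)) * e s (a * v) * e (r + s) w * e (r + s) z := by
          rw [d1]; group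
      _ = e r u * e r v * e s (a * u) * (e (r + s) (a * u * v) * e s (a * v)) * e (r + s) w * e (r + s) z := by
          rw [d2]; group
      _ = e r u * e r v * (e s (a * u) * e s (a * v)) * (e (r + s) (a * u * v) * e (r + s) w * e (r + s) z) := by
          rw [d2]; group
  inv_mem' := by
    rintro _ ⟨u, w, rfl⟩
    have hrs := isRoot_add hr hs' h1
    have h2 : cpr cs h s r = -1 := by rw [← hs r s hr hs']; exact h1
    have c1 : 0 ≤ cpr cs h (r + s) r := by rw [cpr_add cs h _ _ hr, cpr_self cs h hr, h2]; norm_num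
    have c2 : 0 ≤ cpr cs h (r + s) s := by rw [cpr_add cs h _ _ hs', cpr_self cs h hs', h1]; norm_num
    have h3 : e s (a * u) * e r u = e (s + r) (a * u * u) * (e r u * e s (a * u)) := by
      rw [← S.data.comm1 s r hs' hr h2 h1, commutatorElement_def]; group
    have d1 : ∀ w x, e (r + s) w * e r x = e r x * e (r + s) w := fun w x => S.data.comm_of_nonneg hrs hr c1 _ _
    have d2 : ∀ w x, e (r + s) w * e s x = e s x * e (r + s) w := fun w x => S.data.comm_of_nonneg hrs hs' c2 _ _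
    rw [add_comm s r] at h3
    refine ⟨u, w + a * u * u, ?_⟩
    rw [mul_inv_rev, mul_inv_rev, S.data.inv hr, S.data.inv hs', S.data.inv hrs, h3, S.data.add _ hrs]
    calc e (r + s) w * (e (r + s) (a * u * u) * (e r u * e s (a * u)))
        = e (r + s) w * (e (r + s) (a * u * u) * e r u) * e s (a * u) := by group
      _ = (e (r + s) w * e r u) * (e (r + s) (a * u * u) * e s (a * u)) := by rw [d1]; group
      _ = e r u * (e (r + s) w * e s (a * u)) * e (r + s) (a * u * u) := by rw [d1, d2]; group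
      _ = e r u * e s (a * u) * (e (r + s) w * e (r + s) (a * u * u)) := by rw [d2]; group

theorem mem_diagS (hs : SL cs h) {r s : I → ℤ} (hr : IsRoot cs h r) (hs' : IsRoot cs h s)
    (h1 : cpr cs h r s = -1) (a : K) {g : Y} :
    g ∈ diagS S hs hr hs' h1 a ↔ ∃ u w : K, g = e r u * e s (a * u) * e (r + s) w := Iff.rfl

/-- **(K1), the middle roots of `A_{2m}`.** -/
theorem diagS_line [Finite K] (hs : SL cs h) (hG1 : RGD.Sup X {x | IsRoot cs h x} = ⊤) (hK : 3 ≤ Nat.card K)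
    {r s : I → ℤ} (hr : r ∈ RGD.Pos cs h) (hs' : s ∈ RGD.Pos cs h) (hht : ht r = ht s) (h1 : cpr cs h r s = -1)
    {a : K} (ha : a ≠ 0) {j : ℕ} (hj : ht r = (j : ℤ) + 1) :
    IsLineR (RGD.Sup X (RGD.Pos cs h)) (UH cs h X (j + 1)) (diagS S hs hr.1 hs'.1 h1 a) := by
  have hrs := isRoot_add hr.1 hs'.1 h1
  have hne : r ≠ s := by
    rintro rfl
    rw [cpr_self cs h hr.1] at h1
    omega
  have h2 : cpr cs h s r = -1 := by rw [← hs r s hr.1 hs'.1]; exact h1
  have c1 : 0 ≤ cpr cs h (r + s) r := by rw [cpr_add cs h _ _ hr.1, cpr_self cs h hr.1, h2]; norm_num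
  have c2 : 0 ≤ cpr cs h (r + s) s := by rw [cpr_add cs h _ _ hs'.1, cpr_self cs h hs'.1, h1]; norm_num
  have d1 : ∀ w x, e (r + s) w * e r x = e r x * e (r + s) w := fun w x =>
    S.data.comm_of_nonneg hrs hr.1 c1 _ _
  have d2 : ∀ w x, e (r + s) w * e s x = e s x * e (r + s) w := fun w x =>
    S.data.comm_of_nonneg hrs hs'.1 c2 _ _
  have hmem : ∀ w, e (r + s) w ∈ UH cs h X (j + 1) := fun w =>
    RGD.le_Sup (X := X) (S := {z | z ∈ RGD.Pos cs h ∧ ((j + 1 : ℕ) : ℤ) < ht z})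
      ⟨pos_add hr hs' hrs, by
        rw [ht_add]
        have := ht_pos hs'
        push_cast
        omega⟩ (S.mem hrs w)
  -- squares
  have hsq : ∀ u w : K, e r u * e s (a * u) * e (r + s) w * (e r u * e s (a * u) * e (r + s) w) =
      e (r + s) (a * u * u) := by
    intro u w
    have h3 : e s (a * u) * e r u = e (s + r) (a * u * u) * (e r u * e s (a * u)) := by
      rw [← S.data.comm1 s r hs'.1 hr.1 h2 h1, commutatorElement_def]; group
    rw [add_comm s r] at h3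
    calc e r u * e s (a * u) * e (r + s) w * (e r u * e s (a * u) * e (r + s) w)
        = e r u * e s (a * u) * (e (r + s) w * e r u) * e s (a * u) * e (r + s) w := by group
      _ = e r u * (e s (a * u) * e r u) * (e (r + s) w * e s (a * u)) * e (r + s) w := by rw [d1]; group
      _ = e r u * (e (r + s) (a * u * u) * e r u) * (e s (a * u) * e s (a * u)) * (e (r + s) w * e (r + s) w) := by
          rw [h3, d2]; group
      _ = e r u * e r u * e (r + s) (a * u * u) := by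
          rw [d1, S.data.sq hs'.1, S.data.sq hrs]; group
      _ = e (r + s) (a * u * u) := by rw [S.data.sq hr.1, one_mul]
  refine ⟨?_, ?_, ?_⟩
  · rintro _ ⟨u, w, rfl⟩
    rw [hsq]
    exact hmem _
  · obtain ⟨u, v, hu, hv, huv⟩ := exists_two S hK
    have key : ∀ z : K, z ≠ 0 → ∀ w, e r z * e s (a * z) * e (r + s) w ∉ UH cs h X (j + 1) := by
      intro z hz w hm
      exact hz (eq_zero_of_mem S hs hr hs' hne hht hj (hmem w) hm)
    refine ⟨_, ⟨u, 0, rfl⟩, _, ⟨v, 0, rfl⟩, key u hu 0, key v hv 0, ?_⟩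
    intro hm
    have h3 : (e r u * e s (a * u) * e (r + s) 0)⁻¹ * (e r v * e s (a * v) * e (r + s) 0) ∈
        diagS S hs hr.1 hs'.1 h1 a := mul_mem (inv_mem ⟨u, 0, rfl⟩) ⟨v, 0, rfl⟩
    obtain ⟨z, w, h4⟩ := h3
    by_cases hz : z = 0
    · subst hz
      rw [mul_zero, S.data.zero hr.1, S.data.zero hs'.1, one_mul, one_mul, S.data.zero hrs, mul_one, mul_one] at h4
      -- `e r v * e s (a v) = e r u * e s (a u) * e (r+s) w`
      have h5 : e r v * e s (a * v) = e r u * e s (a * u) * e (r + s) w := by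
        rw [← h4]; group
      have h6 : e r (u + v) * (e s (a * v) * e (r + s) w * e s (a * u)) = 1 := by
        rw [S.data.add r hr.1]
        have h7 : e r v * (e s (a * v) * (e (r + s) w * e s (a * u))) =
            e r u := by
          calc e r v * (e s (a * v) * (e (r + s) w * e s (a * u)))
              = (e r v * e s (a * v)) * (e (r + s) w * e s (a * u)) := by group
            _ = e r u * e s (a * u) * (e (r + s) w * e (r + s) w) * e s (a * u) := by rw [h5]; group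
            _ = e r u := by rw [S.data.sq hrs, mul_one, mul_assoc, S.data.sq hs'.1, mul_one]
        calc e r u * e r v * (e s (a * v) * e (r + s) w * e s (a * u))
            = e r u * (e r v * (e s (a * v) * (e (r + s) w * e s (a * u)))) := by group
          _ = 1 := by rw [h7, S.data.sq hr.1]
      have h7 : e r (u + v) ∈ RGD.Sup X (Ne cs h r) := by
        have h8 : UH cs h X (j + 1) ≤ RGD.Sup X (Ne cs h r) := RGD.Sup_mono fun z hz =>
          (up_Ne r).mem z hz.1 (by have := hz.2; push_cast at this; omega)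
        have h9 : ∀ c, e s c ∈ RGD.Sup X (Ne cs h r) := fun c =>
          RGD.le_Sup (X := X) (S := Ne cs h r) ⟨hs', hht.le, hne.symm⟩ (S.mem hs'.1 _)
        have h10 : e r (u + v) = (e s (a * v) * e (r + s) w * e s (a * u))⁻¹ := eq_inv_of_mul_eq_one_left h6
        rw [h10]
        exact inv_mem (mul_mem (mul_mem (h9 _) (h8 (hmem w))) (h9 _))
      have h8 := eps_inf S hs hr h7
      have h9 := S.data.two v
      exact huv (add_right_cancel (h8.trans h9.symm))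
    · rw [h4] at hm
      exact key z hz w hm
  · rintro y hy _ ⟨u, w, rfl⟩ hxD hxy _ ⟨v, z, rfl⟩
    have hu : u ≠ 0 := by
      rintro rfl
      apply hxD
      rw [mul_zero, S.data.zero hr.1, S.data.zero hs'.1, one_mul, one_mul]
      exact hmem w
    -- `y` commutes with the square
    have h3 : y * e (r + s) (a * u * u) = e (r + s) (a * u * u) * y := by
      rw [← hsq u w, ← mul_assoc, ← hxy, mul_assoc, ← hxy, ← mul_assoc]
    have h4 : ∀ c, y * e (r + s) c = e (r + s) c * y := fun c =>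
      comm_all S hG1 hrs (S.mem hrs _) (S.data.ne_one hrs (mul_ne_zero (mul_ne_zero ha hu) hu)) h3 (S.mem hrs c)
    have h5 : y * (e r u * e s (a * u)) = e r u * e s (a * u) * y := by
      have h6 : y * (e r u * e s (a * u)) * e (r + s) w = e r u * e s (a * u) * y * e (r + s) w := by
        calc y * (e r u * e s (a * u)) * e (r + s) w = y * (e r u * e s (a * u) * e (r + s) w) := by group
          _ = e r u * e s (a * u) * (e (r + s) w * y) := by rw [← hxy]; group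
          _ = e r u * e s (a * u) * y * e (r + s) w := by rw [← h4]; group
      exact mul_right_cancel h6
    have h6 := star S hs hr hs' hne hht hu (mul_ne_zero ha hu) hy h5 (u := v) (u' := a * v) (by ring)
    calc e r v * e s (a * v) * e (r + s) z * y = e r v * e s (a * v) * (e (r + s) z * y) := by group
      _ = e r v * e s (a * v) * y * e (r + s) z := by rw [← h4]; group
      _ = y * (e r v * e s (a * v) * e (r + s) z) := by rw [← h6]; group

end

end Cfsg.Agent.KFacts.SysDiag
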