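import Mathlib
import Cfsg.Agent.KFacts.SysOut
import Cfsg.Agent.KFacts.RgdSL

/-!
# Ideals of positive roots (ODD, D4, (1B))

`Y` with `Sys R e`.

* `comm_ge` : `⁅X x, X y⁆ ≤ ⟨X z : z ≥ x + y⟩` (coordinatewise), `x, y` positive;
* `IsIdeal Ω` : `Ω` is closed under adding positive roots; `IsIdeal.conj` : `U` normalises `⟨X z : z ∈ Ω⟩`;
  `comm_ideal`, `IsIdeal.closed` (simply laced);
* `UH_comm_UH : ⁅UH i, UH j⁆ ≤ UH (i + j + 1)`.
-/

set_option autoImplicit false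
set_option linter.unusedSectionVars false

namespace Cfsg.Agent.KFacts.SysFltA

open CoxeterSystem Cfsg.Agent.ChevalleyStructure.CoxeterGeom Cfsg.Agent.Tits.Roots Cfsg.Agent.Tits.Core
  Cfsg.Agent.Tits.Exchange Cfsg.Agent.Nodes.Reps Cfsg.Agent.Nodes.BNOf Cfsg.Agent.Nodes.StabComb
  Cfsg.Agent.Nodes.Bruhat Cfsg.Agent.Nodes.OppDec Cfsg.Agent.Nodes.LeviDec Cfsg.Agent.Nodes.NormalForm
  Cfsg.Agent.Nodes.Coroot Cfsg.Agent.Nodes.PosPair
  Cfsg.Agent.KFacts.RgdOpp Cfsg.Agent.KFacts.RgdAut Cfsg.Agent.KFacts.RgdRigid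
  Cfsg.Agent.KFacts.RgdSys Cfsg.Agent.KFacts.ChevTwo Cfsg.Agent.KFacts.SysLine Cfsg.Agent.KFacts.SysFlt
  Cfsg.Agent.KFacts.RgdSL
open scoped commutatorElement

variable {I W Y K : Type*} [Fintype I] [DecidableEq I] [Group W] [Group Y] [Field K] {M : CoxeterMatrix I}
variable {cs : CoxeterSystem M W} {A : I → I → ℤ} {h : IsCartan M A} {e : (I → ℤ) → K → Y}
  {p : ℕ} {T : Subgroup Y} {n : I → Y} {X : (I → ℤ) → Subgroup Y}

/-- A set of positive roots closed under adding positive roots. -/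
structure IsIdeal (cs : CoxeterSystem M W) (h : IsCartan M A) (Ω : Set (I → ℤ)) : Prop where
  pos : Ω ⊆ RGD.Pos cs h
  add : ∀ x ∈ Ω, ∀ y ∈ RGD.Pos cs h, ∀ z ∈ RGD.Pos cs h, x + y ≤ z → z ∈ Ω

theorem IsIdeal.union {Ω Ω' : Set (I → ℤ)} (H : IsIdeal cs h Ω) (H' : IsIdeal cs h Ω') : IsIdeal cs h (Ω ∪ Ω') where
  pos := Set.union_subset H.pos H'.pos
  add := by
    rintro x (hx | hx) y hy z hz hle
    · exact Or.inl (H.add x hx y hy z hz hle)
    · exact Or.inr (H'.add x hx y hy z hz hle)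

theorem ht_mono {x y : I → ℤ} (hxy : x ≤ y) : ht x ≤ ht y := Finset.sum_le_sum fun i _ => hxy i

theorem eq_of_le_of_ht {x y : I → ℤ} (hxy : x ≤ y) (hht : ht y ≤ ht x) : x = y := by
  have h1 : ∑ i, (y i - x i) = 0 := by
    have h2 := ht_mono hxy
    rw [Finset.sum_sub_distrib]
    show ht y - ht x = 0
    omega
  funext i
  have h2 := (Finset.sum_eq_zero_iff_of_nonneg (fun i _ => sub_nonneg.2 (hxy i))).1 h1 i (Finset.mem_univ i)
  omega

theorem isIdeal_UH (j : ℕ) : IsIdeal cs h {r | r ∈ RGD.Pos cs h ∧ (j : ℤ) < ht r} where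
  pos _ hx := hx.1
  add x hx y hy z hz hle := by
    refine ⟨hz, ?_⟩
    have h1 := ht_mono hle
    rw [ht_add] at h1
    have h2 := ht_pos hy
    have h3 := hx.2
    omega

/-- The roots above `r`. -/
def Above (cs : CoxeterSystem M W) (h : IsCartan M A) (r : I → ℤ) : Set (I → ℤ) :=
  {s | s ∈ RGD.Pos cs h ∧ r ≤ s ∧ s ≠ r}

theorem isIdeal_above (r : I → ℤ) : IsIdeal cs h (Above cs h r) where
  pos _ hx := hx.1
  add x hx y hy z hz hle := by
    have h1 : r ≤ z := fun i => by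
      have h2 : x i + y i ≤ z i := hle i
      have h3 : r i ≤ x i := hx.2.1 i
      have h4 : 0 ≤ y i := hy.2 i
      show r i ≤ z i
      omega
    refine ⟨hz, h1, ?_⟩
    rintro rfl
    have h2 := ht_mono hle
    rw [ht_add] at h2
    have h3 := ht_mono hx.2.1
    have h4 := ht_pos hy
    omega

section

variable [Finite W] {R : RGD cs h p T n X} (S : Sys R e)

/-- Closed sets (simply laced). -/
theorem closed_of_add (hs : SL cs h) {Ω : Set (I → ℤ)} (hΩ : Ω ⊆ RGD.Pos cs h)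
    (H : ∀ x ∈ Ω, ∀ y ∈ Ω, x + y ∈ RGD.Pos cs h → x + y ∈ Ω) : Nodes.Unique.Closed cs h Ω := by
  intro x hx y hy z hz
  have hxr := hΩ hx
  have hyr := hΩ hy
  by_cases hxy : x = y
  · subst hxy
    rw [Nodes.Unique.btwn_self hxr.1 hz]
    exact hx
  have hxy' : x ≠ -y := by
    rintro rfl
    have h1 := ht_pos hxr
    have h2 := ht_pos hyr
    have h3 := ht_smul (-1) y
    rw [neg_one_smul] at h3
    omega
  obtain ⟨-, h2⟩ := hs.btwn hxr.1 hyr.1 hxy hxy' hz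
  rw [h2]
  refine H x hx y hy ⟨?_, ?_⟩
  · rw [← h2]
    exact hz.1
  · intro i
    have h3 := hxr.2 i
    have h4 := hyr.2 i
    simp only [Pi.zero_apply, Pi.add_apply] at h3 h4 ⊢
    omega

theorem IsIdeal.closed (hs : SL cs h) {Ω : Set (I → ℤ)} (H : IsIdeal cs h Ω) : Nodes.Unique.Closed cs h Ω :=
  closed_of_add hs H.pos fun x hx y hy hz => H.add x hx y (H.pos hy) _ hz le_rfl

include S

/-- The commutators of root elements of positive roots, coordinatewise. -/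
theorem comm_ge {x y : I → ℤ} (hx : x ∈ RGD.Pos cs h) (hy : y ∈ RGD.Pos cs h) {g v : Y} (hg : g ∈ X x)
    (hv : v ∈ X y) : ⁅g, v⁆ ∈ RGD.Sup X {z | z ∈ RGD.Pos cs h ∧ x + y ≤ z} := by
  obtain ⟨t, rfl⟩ := (S.mem_X x hx.1 g).1 hg
  obtain ⟨u, rfl⟩ := (S.mem_X y hy.1 v).1 hv
  have hxy : x ≠ -y := by
    rintro rfl
    have h1 := ht_pos hx
    have h2 := ht_pos hy
    have h3 := ht_smul (-1) y
    rw [neg_one_smul] at h3
    omega
  -- root groups of the sums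
  have key : ∀ (a b : ℤ), 1 ≤ a → 1 ≤ b → IsRoot cs h (a • x + b • y) → ∀ s : K,
      e (a • x + b • y) s ∈ RGD.Sup X {z | z ∈ RGD.Pos cs h ∧ x + y ≤ z} := by
    intro a b ha hb hr s
    have h0 : x + y ≤ a • x + b • y := by
      intro i
      have h1 := hx.2 i
      have h2 := hy.2 i
      simp only [Pi.add_apply, Pi.smul_apply, smul_eq_mul, Pi.zero_apply] at h1 h2 ⊢
      nlinarith
    refine RGD.le_Sup (S := {z | z ∈ RGD.Pos cs h ∧ x + y ≤ z}) ⟨⟨hr, ?_⟩, h0⟩ (S.mem hr s)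
    intro i
    have h1 := hx.2 i
    have h2 := hy.2 i
    have h3 := h0 i
    simp only [Pi.add_apply, Pi.zero_apply] at h1 h2 h3 ⊢
    omega
  have key1 : IsRoot cs h (x + y) → ∀ s : K,
      e (x + y) s ∈ RGD.Sup X {z | z ∈ RGD.Pos cs h ∧ x + y ≤ z} := by
    intro hr s
    have := key 1 1 le_rfl le_rfl (by rwa [one_smul, one_smul]) s
    rwa [one_smul, one_smul] at this
  by_cases hc : 0 ≤ cpr cs h x y
  · have h1 := S.data.comm_of_nonneg hx.1 hy.1 hc t u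
    rw [commutatorElement_eq_one_iff_mul_comm.2 h1]
    exact one_mem _
  · push Not at hc
    rcases neg_cases S hx.1 hy.1 hxy hc with ⟨h1, h2⟩ | ⟨h1, h2⟩ | ⟨h1, h2⟩
    · rw [S.data.comm1 x y hx.1 hy.1 h1 h2]
      refine key1 ?_ _
      have := isRoot_refl cs h hx.1 hy.1
      rwa [h1, neg_smul, one_smul, sub_neg_eq_add] at this
    · rw [S.data.comm2 x y hx.1 hy.1 h1 h2]
      have h3 := isRoot_refl cs h hy.1 hx.1
      rw [h2, neg_smul, one_smul, sub_neg_eq_add, add_comm] at h3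
      have h4 := isRoot_refl cs h hx.1 hy.1
      rw [h1, neg_smul, sub_neg_eq_add] at h4
      refine mul_mem (key1 h3 _) ?_
      have := key 1 2 le_rfl (by norm_num) (by rwa [one_smul]) (t * u ^ 2)
      rwa [one_smul] at this
    · have h5 := S.data.comm2 y x hy.1 hx.1 h2 h1 u t
      have h3 := isRoot_refl cs h hx.1 hy.1
      rw [h1, neg_smul, one_smul, sub_neg_eq_add] at h3
      have h4 := isRoot_refl cs h hy.1 hx.1
      rw [h2, neg_smul, sub_neg_eq_add] at h4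
      rw [← commutatorElement_inv, h5]
      refine inv_mem (mul_mem ?_ ?_)
      · rw [add_comm y x]
        exact key1 h3 _
      · have := key 2 1 (by norm_num) le_rfl (by rwa [one_smul, add_comm ((2 : ℤ) • x) y]) (u * t ^ 2)
        rwa [one_smul, add_comm ((2 : ℤ) • x) y] at this

/-- `U` normalises the subgroup of an ideal. -/
theorem IsIdeal.norm {Ω : Set (I → ℤ)} (H : IsIdeal cs h Ω) :
    RGD.Sup X (RGD.Pos cs h) ≤ Subgroup.normalizer (RGD.Sup X Ω : Set Y) := by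
  have key : ∀ x ∈ RGD.Pos cs h, ∀ g ∈ X x, ∀ v ∈ RGD.Sup X Ω, g * v * g⁻¹ ∈ RGD.Sup X Ω := by
    intro x hx g hg v hv
    have h1 : RGD.Sup X Ω ≤ (RGD.Sup X Ω).comap (MulAut.conj g).toMonoidHom := by
      refine RGD.Sup_le fun y hy v hv => ?_
      show g * v * g⁻¹ ∈ RGD.Sup X Ω
      have h2 : g * v * g⁻¹ = ⁅g, v⁆ * v := by rw [commutatorElement_def]; group
      rw [h2]
      refine mul_mem ?_ (RGD.le_Sup (X := X) hy hv)
      refine RGD.Sup_mono ?_ (comm_ge S hx (H.pos hy) hg hv)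
      rintro z ⟨hz, hle⟩
      exact H.add y hy x hx z hz (by rwa [add_comm])
    exact h1 hv
  refine RGD.Sup_le fun x hx g hg => ?_
  rw [Subgroup.mem_normalizer_iff]
  intro v
  refine ⟨key x hx g hg v, fun hv => ?_⟩
  have h1 := key x hx g⁻¹ (inv_mem hg) _ hv
  have h2 : g⁻¹ * (g * v * g⁻¹) * g⁻¹⁻¹ = v := by group
  rwa [h2] at h1

theorem IsIdeal.conj {Ω : Set (I → ℤ)} (H : IsIdeal cs h Ω) {g v : Y} (hg : g ∈ RGD.Sup X (RGD.Pos cs h))
    (hv : v ∈ RGD.Sup X Ω) : g * v * g⁻¹ ∈ RGD.Sup X Ω := (Subgroup.mem_normalizer_iff.1 (H.norm S hg) v).1 hv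

/-- **Commutators with a root group.** -/
theorem comm_ideal {Ω : Set (I → ℤ)} (H : IsIdeal cs h Ω) {r : I → ℤ} (hr : r ∈ RGD.Pos cs h)
    (hΩ : ∀ y ∈ RGD.Pos cs h, ∀ z ∈ RGD.Pos cs h, r + y ≤ z → z ∈ Ω) {u v : Y}
    (hu : u ∈ RGD.Sup X (RGD.Pos cs h)) (hv : v ∈ X r) : ⁅u, v⁆ ∈ RGD.Sup X Ω := by
  let L : Subgroup Y :=
    { carrier := {g | g ∈ RGD.Sup X (RGD.Pos cs h) ∧ ⁅g, v⁆ ∈ RGD.Sup X Ω}
      one_mem' := ⟨one_mem _, by rw [commutatorElement_one_left]; exact one_mem _⟩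
      mul_mem' := by
        rintro a b ⟨ha, ha'⟩ ⟨hb, hb'⟩
        refine ⟨mul_mem ha hb, ?_⟩
        have h2 : ⁅a * b, v⁆ = (a * ⁅b, v⁆ * a⁻¹) * ⁅a, v⁆ := by
          simp only [commutatorElement_def]; group
        show ⁅a * b, v⁆ ∈ RGD.Sup X Ω
        rw [h2]
        exact mul_mem (H.conj S ha hb') ha'
      inv_mem' := by
        rintro a ⟨ha, ha'⟩
        refine ⟨inv_mem ha, ?_⟩
        have h2 : ⁅a⁻¹, v⁆ = a⁻¹ * (⁅a, v⁆)⁻¹ * a⁻¹⁻¹ := by
          simp only [commutatorElement_def]; group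
        show ⁅a⁻¹, v⁆ ∈ RGD.Sup X Ω
        rw [h2]
        exact H.conj S (inv_mem ha) (inv_mem ha') }
  have h2 : RGD.Sup X (RGD.Pos cs h) ≤ L := by
    refine RGD.Sup_le fun x hx g hg => ⟨RGD.le_Sup (X := X) hx hg, ?_⟩
    refine RGD.Sup_mono ?_ (comm_ge S hx hr hg hv)
    rintro z ⟨hz, hle⟩
    exact hΩ x hx z hz (by rwa [add_comm])
  exact (h2 hu).2

theorem comm_above {r : I → ℤ} (hr : r ∈ RGD.Pos cs h) {u v : Y} (hu : u ∈ RGD.Sup X (RGD.Pos cs h))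
    (hv : v ∈ X r) : ⁅u, v⁆ ∈ RGD.Sup X (Above cs h r) := by
  refine comm_ideal S (isIdeal_above r) hr (fun y hy z hz hle => ?_) hu hv
  refine ⟨hz, fun i => ?_, ?_⟩
  · have h2 : r i + y i ≤ z i := hle i
    have h4 : 0 ≤ y i := hy.2 i
    show r i ≤ z i
    omega
  · rintro rfl
    have h2 := ht_mono hle
    rw [ht_add] at h2
    have h4 := ht_pos hy
    omega

/-- **`⁅UH i, UH j⁆ ≤ UH (i + j + 1)`.** -/
theorem UH_comm_UH {i j : ℕ} {u v : Y} (hu : u ∈ UH cs h X i) (hv : v ∈ UH cs h X j) :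
    ⁅u, v⁆ ∈ UH cs h X (i + j + 1) := by
  have h0 : ∀ {i : ℕ} {u : Y}, u ∈ UH cs h X i → u ∈ UH cs h X 0 := fun hu => UH_le (Nat.zero_le _) hu
  -- `u`, `v` in root groups
  have h1 : ∀ x ∈ RGD.Pos cs h, (i : ℤ) < ht x → ∀ g ∈ X x, ∀ y ∈ RGD.Pos cs h, (j : ℤ) < ht y → ∀ v ∈ X y,
      ⁅g, v⁆ ∈ UH cs h X (i + j + 1) := by
    intro x hx hxi g hg y hy hyj v hv
    refine RGD.Sup_mono ?_ (comm_gen S hx hy hg hv)
    rintro z ⟨hz, hz'⟩
    refine ⟨hz, ?_⟩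
    push_cast
    omega
  -- `u` in a root group
  have h2 : ∀ x ∈ RGD.Pos cs h, (i : ℤ) < ht x → ∀ g ∈ X x, ∀ v ∈ UH cs h X j, ⁅g, v⁆ ∈ UH cs h X (i + j + 1) := by
    intro x hx hxi g hg v hv
    let L : Subgroup Y :=
      { carrier := {v | v ∈ UH cs h X 0 ∧ ⁅g, v⁆ ∈ UH cs h X (i + j + 1)}
        one_mem' := ⟨one_mem _, by rw [commutatorElement_one_right]; exact one_mem _⟩
        mul_mem' := by
          rintro a b ⟨ha, ha'⟩ ⟨hb, hb'⟩
          refine ⟨mul_mem ha hb, ?_⟩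
          have h2 : ⁅g, a * b⁆ = ⁅g, a⁆ * (a * ⁅g, b⁆ * a⁻¹) := by
            simp only [commutatorElement_def]; group
          show ⁅g, a * b⁆ ∈ UH cs h X (i + j + 1)
          rw [h2]
          exact mul_mem ha' (UH_conj S ha hb')
        inv_mem' := by
          rintro a ⟨ha, ha'⟩
          refine ⟨inv_mem ha, ?_⟩
          have h2 : ⁅g, a⁻¹⁆ = a⁻¹ * (⁅g, a⁆)⁻¹ * a⁻¹⁻¹ := by
            simp only [commutatorElement_def]; group
          show ⁅g, a⁻¹⁆ ∈ UH cs h X (i + j + 1)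
          rw [h2]
          exact UH_conj S (inv_mem ha) (inv_mem ha') }
    have h2 : UH cs h X j ≤ L := by
      refine RGD.Sup_le fun y hy v hv => ⟨?_, h1 x hx hxi g hg y hy.1 hy.2 v hv⟩
      exact h0 (RGD.le_Sup (X := X) (S := {r | r ∈ RGD.Pos cs h ∧ (j : ℤ) < ht r}) hy hv)
    exact (h2 hv).2
  let L : Subgroup Y :=
    { carrier := {g | g ∈ UH cs h X 0 ∧ ⁅g, v⁆ ∈ UH cs h X (i + j + 1)}
      one_mem' := ⟨one_mem _, by rw [commutatorElement_one_left]; exact one_mem _⟩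
      mul_mem' := by
        rintro a b ⟨ha, ha'⟩ ⟨hb, hb'⟩
        refine ⟨mul_mem ha hb, ?_⟩
        have h2 : ⁅a * b, v⁆ = (a * ⁅b, v⁆ * a⁻¹) * ⁅a, v⁆ := by
          simp only [commutatorElement_def]; group
        show ⁅a * b, v⁆ ∈ UH cs h X (i + j + 1)
        rw [h2]
        exact mul_mem (UH_conj S ha hb') ha'
      inv_mem' := by
        rintro a ⟨ha, ha'⟩
        refine ⟨inv_mem ha, ?_⟩
        have h2 : ⁅a⁻¹, v⁆ = a⁻¹ * (⁅a, v⁆)⁻¹ * a⁻¹⁻¹ := by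
          simp only [commutatorElement_def]; group
        show ⁅a⁻¹, v⁆ ∈ UH cs h X (i + j + 1)
        rw [h2]
        exact UH_conj S (inv_mem ha) (inv_mem ha') }
  have h3 : UH cs h X i ≤ L := by
    refine RGD.Sup_le fun x hx g hg => ⟨?_, h2 x hx.1 hx.2 g hg v hv⟩
    exact h0 (RGD.le_Sup (X := X) (S := {r | r ∈ RGD.Pos cs h ∧ (i : ℤ) < ht r}) hx hg)
  exact (h3 hu).2

end

end Cfsg.Agent.KFacts.SysFltA
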