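import Mathlib
import Cfsg.Agent.KFacts.SysFltRoot
import Cfsg.Agent.KFacts.RootDisj
import Cfsg.Agent.KFacts.SLRow.Diag
import Cfsg.Agent.OddHalf.D4.Free.AutFacts

/-!
# (k3) for the simply laced groups, graph automorphisms included (ODD, D4, (1B))

`Y` with `Sys R e`, simply laced, `U = ⟨X r : r > 0⟩ = T` the Sylow 2-subgroup, `A` a 2-group of automorphisms of `Y`
fixing `U` and containing `Inn U`.

* `cases` : the elements of `A` centralising `Z(U)` are `conj u`, or `conj u` and `conj u * γ`, `u ∈ U`, `γ² = 1`;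
* `Gr` : the data of the graph automorphism `γ`;
* `Gr.no_mid` : `conj u * γ`, an involution, moves the elements of order four of a middle diagonal line;
* `exists_fltA` : `FltA T A U L`.
-/

set_option autoImplicit false
set_option linter.unusedSectionVars false

namespace Cfsg.Agent.KFacts.SysFltA

open CoxeterSystem Cfsg.Agent.ChevalleyStructure.CoxeterGeom Cfsg.Agent.Tits.Roots Cfsg.Agent.Tits.Core
  Cfsg.Agent.Tits.Exchange Cfsg.Agent.Nodes.Reps Cfsg.Agent.Nodes.BNOf Cfsg.Agent.Nodes.StabComb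
  Cfsg.Agent.Nodes.Bruhat Cfsg.Agent.Nodes.OppDec Cfsg.Agent.Nodes.LeviDec Cfsg.Agent.Nodes.NormalForm
  Cfsg.Agent.Nodes.Coroot Cfsg.Agent.Nodes.PosPair
  Cfsg.Agent.KFacts.RgdOpp Cfsg.Agent.KFacts.RgdAut Cfsg.Agent.KFacts.RgdDiag Cfsg.Agent.KFacts.RgdRigid
  Cfsg.Agent.KFacts.RgdCent Cfsg.Agent.KFacts.RgdKap Cfsg.Agent.KFacts.RgdField Cfsg.Agent.KFacts.RgdTau
  Cfsg.Agent.KFacts.RgdSys Cfsg.Agent.KFacts.RgdOver Cfsg.Agent.KFacts.ChevTwo Cfsg.Agent.KFacts.SysLine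
  Cfsg.Agent.KFacts.SysFlt Cfsg.Agent.KFacts.RgdSL Cfsg.Agent.KFacts.SLRow.Diag
open Cfsg.Agent.OddHalf.D4.Free (InZ FixZ GoodA FltA)
open scoped commutatorElement

variable {I W Y K : Type*} [Fintype I] [DecidableEq I] [Group W] [Group Y] [Field K] {M : CoxeterMatrix I}
variable {cs : CoxeterSystem M W} {A : I → I → ℤ} {h : IsCartan M A} {e : (I → ℤ) → K → Y}
  {p : ℕ} {T : Subgroup Y} {n : I → Y} {X : (I → ℤ) → Subgroup Y}

/-- The Sylow 2-subgroup `U`. -/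
abbrev UU (cs : CoxeterSystem M W) (h : IsCartan M A) (X : (I → ℤ) → Subgroup Y) : Subgroup Y :=
  RGD.Sup X (RGD.Pos cs h)

theorem pos_comp {γ : MulAut Y} {σ : Equiv.Perm I} {τ : K ≃+* K} (R : RGD cs h p T n X) [Finite W]
    (B : Tau T X (chS e) A γ σ τ) {r : I → ℤ} (hr : r ∈ RGD.Pos cs h) : r ∘ σ.symm ∈ RGD.Pos cs h :=
  ⟨isRoot_comp (B.diag.matrix (R := R)) B.cartan hr.1, fun _ => hr.2 _⟩

theorem ht_comp (σ : Equiv.Perm I) (r : I → ℤ) : ht (r ∘ σ.symm) = ht r := Equiv.sum_comp σ.symm r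

theorem map_UH {γ : MulAut Y} {σ : Equiv.Perm I} {τ : K ≃+* K} (R : RGD cs h p T n X) [Finite W]
    (B : Tau T X (chS e) A γ σ τ) {j : ℕ} {x : Y} (hx : x ∈ UH cs h X j) : γ x ∈ UH cs h X j := by
  have h1 : UH cs h X j ≤ (UH cs h X j).comap γ.toMonoidHom := by
    refine RGD.Sup_le fun r hr z hz => ?_
    have h2 := (B.diag.root_comp R B.cartan hr.1.1 z).2 hz
    exact RGD.le_Sup (S := {r | r ∈ RGD.Pos cs h ∧ (j : ℤ) < ht r})
      ⟨pos_comp R B hr.1, by rw [ht_comp]; exact hr.2⟩ h2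
  exact h1 hx

/-! ### The graph automorphism -/

/-- The graph involution `γ`. -/
structure Gr (T : Subgroup Y) (X : (I → ℤ) → Subgroup Y) (e : (I → ℤ) → K → Y) (A : I → I → ℤ)
    (γ : MulAut Y) (σ : Equiv.Perm I) : Prop where
  tau : Tau T X (chS e) A γ σ (1 : K ≃+* K)
  sq : ∀ x, γ (γ x) = x
  sqσ : ∀ i, σ (σ i) = i

section Gr

variable [Finite W] [Finite K] {R : RGD cs h 2 T n X} (S : Sys R e)
  (hG1 : RGD.Sup X {x | IsRoot cs h x} = ⊤) {γ : MulAut Y} {σ : Equiv.Perm I} (Γ : Gr T X e A γ σ)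

theorem Gr.comp_comp (Γ : Gr T X e A γ σ) (r : I → ℤ) : (r ∘ σ.symm) ∘ σ.symm = r := by
  funext i
  show r (σ.symm (σ.symm i)) = r i
  congr 1
  rw [Equiv.symm_apply_eq, Equiv.symm_apply_eq, Γ.sqσ]

include S hG1

theorem Gr.scal (Γ : Gr T X e A γ σ) {r : I → ℤ} (hr : IsRoot cs h r) :
    ∃ c : K, c ≠ 0 ∧ ∀ a, γ (e r a) = e (r ∘ σ.symm) (c * a) := by
  obtain ⟨c, hc, h1⟩ := Tau.root R (coords S hG1) Γ.tau hr
  exact ⟨c, hc, h1⟩

/-- `γ` is trivial on the root groups fixed by it -/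
theorem Gr.fix_root (Γ : Gr T X e A γ σ) {r : I → ℤ} (hr : IsRoot cs h r) (hrσ : r ∘ σ.symm = r) {x : Y}
    (hx : x ∈ X r) : γ x = x := by
  obtain ⟨c, hc, h1⟩ := Γ.scal S hG1 hr
  rw [hrσ] at h1
  have h2 : c * (c * 1) = 1 := by
    have h3 := Γ.sq (e r 1)
    rw [h1, h1] at h3
    exact S.data.injective hr h3
  have h3 : c = 1 := by
    have h4 : (c + 1) * (c + 1) = 0 := by
      have h5 := S.data.two c
      have h6 := S.data.two 1
      calc (c + 1) * (c + 1) = c * (c * 1) + (c + c) + 1 := by ring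
        _ = 1 + 0 + 1 := by rw [h2, h5]
        _ = 0 := by rw [add_zero, h6]
    have h5 : c + 1 = 0 := mul_self_eq_zero.1 h4
    have h6 : c + 1 = 1 + 1 := by rw [h5, S.data.two]
    exact add_right_cancel h6
  obtain ⟨t, rfl⟩ := (S.mem_X r hr x).1 hx
  rw [h1, h3, one_mul]

theorem Gr.mem (Γ : Gr T X e A γ σ) {r : I → ℤ} (hr : IsRoot cs h r) {x : Y} (hx : x ∈ X r) :
    γ x ∈ X (r ∘ σ.symm) := (Γ.tau.diag.root_comp R Γ.tau.cartan hr x).2 hx

end Gr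

/-! ### Separation of root groups of the same height -/

section Sep

variable [Finite W] {R : RGD cs h p T n X} (S : Sys R e)

/-- The root group of `s` together with the root groups of height `> j`. -/
def SH (cs : CoxeterSystem M W) (h : IsCartan M A) (X : (I → ℤ) → Subgroup Y) (s : I → ℤ) (j : ℕ) : Subgroup Y :=
  RGD.Sup X ({s} ∪ {r | r ∈ RGD.Pos cs h ∧ (j : ℤ) < ht r})

theorem X_le_SH {s : I → ℤ} {j : ℕ} {x : Y} (hx : x ∈ X s) : x ∈ SH cs h X s j :=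
  RGD.le_Sup (S := {s} ∪ {r | r ∈ RGD.Pos cs h ∧ (j : ℤ) < ht r}) (Or.inl rfl) hx

theorem UH_le_SH {s : I → ℤ} {j : ℕ} {x : Y} (hx : x ∈ UH cs h X j) : x ∈ SH cs h X s j :=
  RGD.Sup_mono (S := {r | r ∈ RGD.Pos cs h ∧ (j : ℤ) < ht r}) Set.subset_union_right hx

include S

theorem sep (hs : SL cs h) {r s : I → ℤ} (hr : r ∈ RGD.Pos cs h) (hs' : s ∈ RGD.Pos cs h) (hrs : r ≠ s) {j : ℕ}
    (hrj : ht r ≤ j) (hsj : (j : ℤ) ≤ ht s) {x : Y} (hx : x ∈ X r) (hx' : x ∈ SH cs h X s j) : x = 1 := by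
  have h1 : Nodes.Unique.Closed cs h ({r} : Set (I → ℤ)) := by
    rintro _ rfl _ rfl z hz
    exact Nodes.Unique.btwn_self hr.1 hz
  have hΩ : ({s} ∪ {r | r ∈ RGD.Pos cs h ∧ (j : ℤ) < ht r}) ⊆ RGD.Pos cs h := by
    rintro z (rfl | hz)
    · exact hs'
    · exact hz.1
  have hle : ∀ z ∈ ({s} ∪ {r | r ∈ RGD.Pos cs h ∧ (j : ℤ) < ht r} : Set (I → ℤ)), (j : ℤ) ≤ ht z := by
    rintro z (rfl | hz)
    · exact hsj
    · exact hz.2.le
  have h2 : Nodes.Unique.Closed cs h ({s} ∪ {r | r ∈ RGD.Pos cs h ∧ (j : ℤ) < ht r}) := by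
    refine closed_of_add hs hΩ fun x hx y hy hz => Or.inr ⟨hz, ?_⟩
    rw [ht_add]
    have h3 := hle x hx
    have h4 := ht_pos (hΩ hy)
    omega
  have h3 := Nodes.Unique.inf_eq R (S := {r}) (Set.singleton_subset_iff.2 hr) hΩ h1 h2
  have h4 : x ∈ RGD.Sup X {r} ⊓ RGD.Sup X ({s} ∪ {r | r ∈ RGD.Pos cs h ∧ (j : ℤ) < ht r}) :=
    ⟨RGD.le_Sup (Set.mem_singleton r) hx, hx'⟩
  have h5 : ({r} : Set (I → ℤ)) ∩ ({s} ∪ {r | r ∈ RGD.Pos cs h ∧ (j : ℤ) < ht r}) = ∅ := by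
    ext z
    simp only [Set.mem_inter_iff, Set.mem_singleton_iff, Set.mem_union, Set.mem_empty_iff_false, iff_false]
    rintro ⟨rfl, h6 | ⟨-, h6⟩⟩
    · exact hrs h6
    · omega
  rw [h3, h5, Sup_empty] at h4
  exact Subgroup.mem_bot.1 h4

end Sep

/-! ### Polarities on the middle lines -/

section Mid

variable [Finite W] [Finite K] {R : RGD cs h 2 T n X} (S : Sys R e)
  (hG1 : RGD.Sup X {x | IsRoot cs h x} = ⊤) {γ : MulAut Y} {σ : Equiv.Perm I} (Γ : Gr T X e A γ σ)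

theorem mid_alg {Q : Type*} [Group Q] {V Φ W₁ W₂ Wb : Q} (h1 : Φ * W₁ * (V * W₂) * Wb = V * Φ * Wb)
    (c : W₁ * V = V * W₁) (h3 : W₂⁻¹ = W₁) : Φ * V = V * Φ := by
  have h4 : Φ * W₁ * (V * W₂) = V * Φ := mul_right_cancel h1
  rw [← h4, ← h3]
  calc Φ * V = Φ * (V * W₂⁻¹) * W₂ := by group
    _ = Φ * (W₂⁻¹ * V) * W₂ := by rw [h3, c]
    _ = Φ * W₂⁻¹ * (V * W₂) := by group

theorem mid_alg2 {Q : Type*} [Group Q] {V Φ W₁ W₂ : Q} (h1 : Φ * W₁ * (V * W₂) = V * Φ)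
    (c : W₁ * V = V * W₁) : V⁻¹ * Φ⁻¹ * V * Φ * W₂⁻¹ * W₁⁻¹ = 1 := by
  calc V⁻¹ * Φ⁻¹ * V * Φ * W₂⁻¹ * W₁⁻¹ = V⁻¹ * Φ⁻¹ * (V * Φ) * W₂⁻¹ * W₁⁻¹ := by group
    _ = V⁻¹ * (W₁ * V) * W₁⁻¹ := by rw [← h1]; group
    _ = 1 := by rw [c]; group

include S hG1 Γ

/-- **A graph-type involution moves the elements of order four of the middle lines.** -/
theorem Gr.no_mid (hs : SL cs h) {r : I → ℤ} (hr : r ∈ RGD.Pos cs h)
    (hdis : ∀ i, r i = 0 ∨ (r ∘ σ.symm) i = 0) (hc : cpr cs h r (r ∘ σ.symm) = -1) {u : Y} (hu : u ∈ UU cs h X)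
    (hy2 : ∀ x, u * γ (u * γ x * u⁻¹) * u⁻¹ = x) {a : K} (ha : a ≠ 0) {w : Y} (hw : w ∈ X (r + r ∘ σ.symm))
    (hx : u * γ (e r a * γ (e r a) * w) * u⁻¹ = e r a * γ (e r a) * w) : False := by
  obtain ⟨s, hsdef⟩ : ∃ s, s = r ∘ σ.symm := ⟨_, rfl⟩
  rw [← hsdef] at hdis hc hw
  have hsP : s ∈ RGD.Pos cs h := by rw [hsdef]; exact pos_comp R Γ.tau hr
  have hss : s ∘ σ.symm = r := by rw [hsdef]; exact Γ.comp_comp r
  have hhts : ht s = ht r := by rw [hsdef]; exact ht_comp σ r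
  have hrs : r ≠ s := by
    intro h0
    rw [← h0, cpr_self cs h hr.1] at hc
    omega
  have hc' : cpr cs h s r = -1 := by rw [← hs r s hr.1 hsP.1]; exact hc
  obtain ⟨j, hj⟩ : ∃ j : ℕ, ht r = j + 1 := ⟨(ht r - 1).toNat, by have := ht_pos hr; omega⟩
  -- the middle root
  have hβr : IsRoot cs h (r + s) := isRoot_add hr.1 hsP.1 hc
  have hβP : r + s ∈ RGD.Pos cs h := ⟨hβr, fun i => by
    have h1 := hr.2 i
    have h2 := hsP.2 i
    simp only [Pi.zero_apply, Pi.add_apply] at h1 h2 ⊢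
    omega⟩
  have hβσ : (r + s) ∘ σ.symm = r + s := by
    funext i
    have h1 := congrFun hsdef i
    have h2 := congrFun hss i
    simp only [Function.comp_apply, Pi.add_apply] at h1 h2 ⊢
    omega
  have hβht : ht (r + s) = (2 * j + 1 : ℕ) + 1 := by
    rw [ht_add, hhts, hj]
    push_cast
    ring
  obtain ⟨c, hc0, hcγ⟩ := Γ.scal S hG1 hr.1
  rw [← hsdef] at hcγ
  obtain ⟨v, hv⟩ : ∃ v, v = e r a := ⟨_, rfl⟩
  obtain ⟨φ, hφ⟩ : ∃ φ, φ = γ v := ⟨_, rfl⟩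
  have hvX : v ∈ X r := by rw [hv]; exact S.mem hr.1 a
  have hφX : φ ∈ X s := by
    rw [hφ, hsdef]
    exact Γ.mem S hG1 hr.1 hvX
  have hγφ : γ φ = v := by rw [hφ]; exact Γ.sq v
  rw [← hv, ← hφ] at hx
  have hγw : γ w = w := Γ.fix_root S hG1 hβr hβσ hw
  -- levels
  have hu0 : u ∈ UH cs h X 0 := by rw [UH_zero]; exact hu
  have hvj : v ∈ UH cs h X j :=
    RGD.le_Sup (S := {r | r ∈ RGD.Pos cs h ∧ (j : ℤ) < ht r}) ⟨hr, by omega⟩ hvX
  have hφj : φ ∈ UH cs h X j :=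
    RGD.le_Sup (S := {r | r ∈ RGD.Pos cs h ∧ (j : ℤ) < ht r}) ⟨hsP, by omega⟩ hφX
  have hwj : w ∈ UH cs h X (2 * j + 1) :=
    RGD.le_Sup (S := {r | r ∈ RGD.Pos cs h ∧ ((2 * j + 1 : ℕ) : ℤ) < ht r}) ⟨hβP, by omega⟩ hw
  obtain ⟨w₁, hw₁⟩ : ∃ w₁, w₁ = φ⁻¹ * (u * φ * u⁻¹) := ⟨_, rfl⟩
  obtain ⟨w₂, hw₂⟩ : ∃ w₂, w₂ = v⁻¹ * (u * v * u⁻¹) := ⟨_, rfl⟩
  have e1 : u * φ * u⁻¹ = φ * w₁ := by rw [hw₁]; group
  have e2 : u * v * u⁻¹ = v * w₂ := by rw [hw₂]; group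
  have hw₁A : w₁ ∈ RGD.Sup X (Above cs h s) := by
    have h1 : w₁ = (⁅u, φ⁻¹⁆)⁻¹ := by rw [hw₁, commutatorElement_def]; group
    rw [h1]
    exact inv_mem (comm_above S hsP hu (inv_mem hφX))
  have hw₂A : w₂ ∈ RGD.Sup X (Above cs h r) := by
    have h1 : w₂ = (⁅u, v⁻¹⁆)⁻¹ := by rw [hw₂, commutatorElement_def]; group
    rw [h1]
    exact inv_mem (comm_above S hr hu (inv_mem hvX))
  have hw₁j : w₁ ∈ UH cs h X (j + 1) := by
    have h1 : w₁ = (⁅u, φ⁻¹⁆)⁻¹ := by rw [hw₁, commutatorElement_def]; group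
    rw [h1]
    exact inv_mem (UH_comm S hu0 (inv_mem hφj))
  -- `y (w₁) = w₂⁻¹`
  have hyw₁ : u * γ w₁ * u⁻¹ = w₂⁻¹ := by
    have h1 := hy2 v
    rw [← hφ, e1, map_mul, hγφ] at h1
    have h2 : u * (v * γ w₁) * u⁻¹ = (u * v * u⁻¹) * (u * γ w₁ * u⁻¹) := by group
    rw [h2, e2] at h1
    have h3 : v * w₂ * (u * γ w₁ * u⁻¹) = v * 1 := by rw [h1, mul_one]
    rw [mul_assoc] at h3
    have h4 := mul_left_cancel h3
    exact eq_inv_of_mul_eq_one_right h4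
  -- the quotient by `UH (2 j + 2)`
  let D : Subgroup ↥(UH cs h X 0) := (UH cs h X (2 * j + 2)).subgroupOf (UH cs h X 0)
  have hDn : D.Normal := by
    refine ⟨fun x hx g => ?_⟩
    rw [Subgroup.mem_subgroupOf] at hx ⊢
    exact UH_conj S g.2 hx
  have hmem : ∀ {k : ℕ} {x : Y}, x ∈ UH cs h X k → x ∈ UH cs h X 0 := fun hx => UH_le (Nat.zero_le _) hx
  let q := QuotientGroup.mk' D
  have hq : ∀ (x : Y) (hx : x ∈ UH cs h X 0), q ⟨x, hx⟩ = 1 ↔ x ∈ UH cs h X (2 * j + 2) := by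
    intro x hx
    rw [QuotientGroup.mk'_apply, QuotientGroup.eq_one_iff, Subgroup.mem_subgroupOf]
  have hv0 := hmem hvj
  have hφ0 := hmem hφj
  have hw0 := hmem hwj
  have hw₁0 := hmem hw₁j
  have hw₂0 : w₂ ∈ UH cs h X 0 := by
    rw [UH_zero]
    exact RGD.Sup_mono (isIdeal_above r).pos hw₂A
  have hcomm : ∀ {x y : Y} (hx : x ∈ UH cs h X 0) (hy : y ∈ UH cs h X 0), ⁅x, y⁆ ∈ UH cs h X (2 * j + 2) →
      q ⟨x, hx⟩ * q ⟨y, hy⟩ = q ⟨y, hy⟩ * q ⟨x, hx⟩ := by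
    intro x y hx hy hxy
    rw [← commutatorElement_eq_one_iff_mul_comm, ← map_commutatorElement]
    have h1 : ⁅(⟨x, hx⟩ : ↥(UH cs h X 0)), (⟨y, hy⟩ : ↥(UH cs h X 0))⁆ = ⟨⁅x, y⁆, hmem hxy⟩ := rfl
    rw [h1, hq]
    exact hxy
  -- the equation
  have hyw : u * w * u⁻¹ = ⁅u, w⁆ * w := by rw [commutatorElement_def]; group
  have hywD : ⁅u, w⁆ ∈ UH cs h X (2 * j + 2) := UH_comm S hu0 hwj
  have hx' : φ * w₁ * (v * w₂) * (⁅u, w⁆ * w) = v * φ * w := by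
    rw [← hx, map_mul, map_mul, hγφ, hγw, ← hφ, ← hyw, ← e1, ← e2]
    group
  have hQ : q ⟨φ, hφ0⟩ * q ⟨w₁, hw₁0⟩ * (q ⟨v, hv0⟩ * q ⟨w₂, hw₂0⟩) * q ⟨w, hw0⟩ =
      q ⟨v, hv0⟩ * q ⟨φ, hφ0⟩ * q ⟨w, hw0⟩ := by
    have h1 : q ⟨⁅u, w⁆ * w, mul_mem (hmem hywD) hw0⟩ = q ⟨w, hw0⟩ := by
      have h2 : (⟨⁅u, w⁆ * w, mul_mem (hmem hywD) hw0⟩ : ↥(UH cs h X 0)) = ⟨⁅u, w⁆, hmem hywD⟩ * ⟨w, hw0⟩ := rfl
      rw [h2, map_mul, (hq _ _).2 hywD, one_mul]
    rw [← h1, ← map_mul, ← map_mul, ← map_mul, ← map_mul, ← map_mul, h1, ← map_mul]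
    congr 1
    exact Subtype.ext hx'
  have c1 : q ⟨w₁, hw₁0⟩ * q ⟨v, hv0⟩ = q ⟨v, hv0⟩ * q ⟨w₁, hw₁0⟩ := by
    refine hcomm _ _ (UH_le ?_ (UH_comm_UH S hw₁j hvj))
    omega
  -- `w₁` lies above `r` or above height `2 j + 2`
  have hA₁ : w₁ ∈ RGD.Sup X (Above cs h r ∪ {t | t ∈ RGD.Pos cs h ∧ ((2 * j + 2 : ℕ) : ℤ) < ht t}) := by
    have h1 : q (⟨v, hv0⟩⁻¹ * ⟨φ, hφ0⟩⁻¹ * ⟨v, hv0⟩ * ⟨φ, hφ0⟩ * ⟨w₂, hw₂0⟩⁻¹ * ⟨w₁, hw₁0⟩⁻¹) = 1 := by
      simp only [map_mul, map_inv]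
      exact mid_alg2 (mul_right_cancel hQ) c1
    have hd : v⁻¹ * φ⁻¹ * v * φ * w₂⁻¹ * w₁⁻¹ ∈ UH cs h X (2 * j + 2) :=
      (hq _ (mul_mem (mul_mem (mul_mem (mul_mem (mul_mem (inv_mem hv0) (inv_mem hφ0)) hv0) hφ0) (inv_mem hw₂0))
        (inv_mem hw₁0))).1 h1
    have h2 : w₁ = (v⁻¹ * φ⁻¹ * v * φ * w₂⁻¹ * w₁⁻¹)⁻¹ * (⁅φ⁻¹, v⁻¹⁆)⁻¹ * w₂⁻¹ := by
      rw [commutatorElement_def]; group
    rw [h2]
    have h3 := comm_above S hr (u := φ⁻¹) (v := v⁻¹) (by rw [← UH_zero]; exact inv_mem hφ0) (inv_mem hvX)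
    exact mul_mem (mul_mem (inv_mem (RGD.Sup_mono Set.subset_union_right hd))
      (inv_mem (RGD.Sup_mono Set.subset_union_left h3))) (inv_mem (RGD.Sup_mono Set.subset_union_left hw₂A))
  have hideal : IsIdeal cs h (Above cs h r ∪ {t | t ∈ RGD.Pos cs h ∧ ((2 * j + 2 : ℕ) : ℤ) < ht t}) :=
    (isIdeal_above r).union (isIdeal_UH (2 * j + 2))
  have hint := Nodes.Unique.inf_eq R (isIdeal_above (cs := cs) (h := h) s).pos hideal.pos
    ((isIdeal_above s).closed hs) (hideal.closed hs)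
  have hA₂ : w₁ ∈ SH cs h X (r + s) (2 * j + 2) := by
    have h1 : w₁ ∈ RGD.Sup X (Above cs h s) ⊓
        RGD.Sup X (Above cs h r ∪ {t | t ∈ RGD.Pos cs h ∧ ((2 * j + 2 : ℕ) : ℤ) < ht t}) := ⟨hw₁A, hA₁⟩
    rw [hint] at h1
    refine RGD.Sup_mono ?_ h1
    rintro t ⟨⟨htP, hst, -⟩, ⟨-, hrt, -⟩ | ht2⟩
    · have h2 : r + s ≤ t := by
        intro i
        have h3 : s i ≤ t i := hst i
        have h4 : r i ≤ t i := hrt i
        show r i + s i ≤ t i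
        rcases hdis i with h5 | h5 <;> omega
      have h3 := ht_mono h2
      rcases h3.lt_or_eq with h4 | h4
      · exact Or.inr ⟨htP, by rw [hβht] at h4; push_cast at h4 ⊢; omega⟩
      · exact Or.inl (eq_of_le_of_ht h2 h4.ge).symm
    · exact Or.inr ht2
  -- `y` is trivial on `X_(r+s)` modulo `UH (2 j + 2)`
  have hyD : ∀ g ∈ SH cs h X (r + s) (2 * j + 2), g ∈ UH cs h X (2 * j + 1) ∧
      u * γ g * u⁻¹ * g⁻¹ ∈ UH cs h X (2 * j + 2) := by
    let L : Subgroup Y :=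
      { carrier := {g | g ∈ UH cs h X (2 * j + 1) ∧ u * γ g * u⁻¹ * g⁻¹ ∈ UH cs h X (2 * j + 2)}
        one_mem' := ⟨one_mem _, by rw [map_one]; simp⟩
        mul_mem' := by
          rintro a b ⟨ha, ha'⟩ ⟨hb, hb'⟩
          refine ⟨mul_mem ha hb, ?_⟩
          have h2 : u * γ (a * b) * u⁻¹ * (a * b)⁻¹ =
              (u * γ a * u⁻¹ * a⁻¹) * (a * (u * γ b * u⁻¹ * b⁻¹) * a⁻¹) := by
            rw [map_mul]; group
          show u * γ (a * b) * u⁻¹ * (a * b)⁻¹ ∈ UH cs h X (2 * j + 2)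
          rw [h2]
          exact mul_mem ha' (UH_conj S (hmem ha) hb')
        inv_mem' := by
          rintro a ⟨ha, ha'⟩
          refine ⟨inv_mem ha, ?_⟩
          have h2 : u * γ a⁻¹ * u⁻¹ * a⁻¹⁻¹ = a⁻¹ * (u * γ a * u⁻¹ * a⁻¹)⁻¹ * a⁻¹⁻¹ := by
            rw [map_inv]; group
          show u * γ a⁻¹ * u⁻¹ * a⁻¹⁻¹ ∈ UH cs h X (2 * j + 2)
          rw [h2]
          exact UH_conj S (inv_mem (hmem ha)) (inv_mem ha') }
    have hL : SH cs h X (r + s) (2 * j + 2) ≤ L := by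
      refine RGD.Sup_le fun t htt g hg => ?_
      rcases htt with rfl | htt
      · refine ⟨RGD.le_Sup (S := {r | r ∈ RGD.Pos cs h ∧ ((2 * j + 1 : ℕ) : ℤ) < ht r}) ⟨hβP, by omega⟩ hg, ?_⟩
        rw [Γ.fix_root S hG1 hβr hβσ hg, ← commutatorElement_def]
        exact UH_comm S hu0 (RGD.le_Sup (S := {r | r ∈ RGD.Pos cs h ∧ ((2 * j + 1 : ℕ) : ℤ) < ht r})
          ⟨hβP, by omega⟩ hg)
      · have h1 : g ∈ UH cs h X (2 * j + 2) :=
          RGD.le_Sup (S := {r | r ∈ RGD.Pos cs h ∧ ((2 * j + 2 : ℕ) : ℤ) < ht r}) htt hg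
        exact ⟨UH_le (by omega) h1, mul_mem (UH_conj S hu0 (map_UH R Γ.tau h1)) (inv_mem h1)⟩
    exact fun g hg => hL hg
  -- the contradiction
  have hW : (q ⟨w₂, hw₂0⟩)⁻¹ = q ⟨w₁, hw₁0⟩ := by
    have h1 := (hyD w₁ hA₂).2
    rw [hyw₁] at h1
    have h2 : q (⟨w₂, hw₂0⟩⁻¹ * ⟨w₁, hw₁0⟩⁻¹) = 1 := (hq _ (mul_mem (inv_mem hw₂0) (inv_mem hw₁0))).2 h1
    rw [map_mul, map_inv, map_inv] at h2
    exact mul_inv_eq_one.1 h2
  have hfin := mid_alg hQ c1 hW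
  rw [← commutatorElement_eq_one_iff_mul_comm, ← map_commutatorElement] at hfin
  have h1 : ⁅(⟨φ, hφ0⟩ : ↥(UH cs h X 0)), (⟨v, hv0⟩ : ↥(UH cs h X 0))⁆ = ⟨⁅φ, v⁆, hmem (UH_comm S hφ0 hvj)⟩ := rfl
  rw [h1, hq, hφ, hv, hcγ, S.data.comm1 s r hsP.1 hr.1 hc' hc, add_comm s r] at hfin
  have h2 := X_inf_UH S hβP (by rw [hβht]; push_cast; omega) (S.mem hβr _) hfin
  have h3 := S.data.inj _ hβr _ h2
  exact mul_ne_zero (mul_ne_zero hc0 ha) ha h3

end Mid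


/-! ### The elements of `A` centralising `Z(U)` -/

section Cases

variable [Finite W] [Finite Y] [Finite K] [Nonempty I] [CharP K 2] {R : RGD cs h 2 T n X} (S : Sys R e)
  (hG1 : RGD.Sup X {x | IsRoot cs h x} = ⊤) (hN : NoCent cs h T X)
  (hconn : ∀ J : Set I, J.Nonempty → J ≠ Set.univ → ∃ a ∈ J, ∃ b, b ∉ J ∧ M a b ≠ 2)
  (hA : ∀ σ : Equiv.Perm I, (∀ i j, M (σ i) (σ j) = M i j) → ∀ i j, A (σ i) (σ j) = A i j)
  {P : Sylow 2 Y} (hP : (P : Subgroup Y) = UU cs h X)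

omit [Finite W] [Finite Y] [Finite K] [Nonempty I] [Fintype I] [DecidableEq I] [Group W] [Field K] [CharP K 2] in
/-- the elements of `Q` centralising `Z(P)` -/
def fz (P : Sylow 2 Y) (Q : Subgroup (MulAut Y)) : Subgroup (MulAut Y) where
  carrier := {α | α ∈ Q ∧ FixZ P α}
  one_mem' := ⟨one_mem _, fun _ _ => rfl⟩
  mul_mem' := by
    rintro a b ⟨ha, ha'⟩ ⟨hb, hb'⟩
    exact ⟨mul_mem ha hb, fun z hz => by rw [MulAut.mul_apply, hb' z hz, ha' z hz]⟩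
  inv_mem' := by
    rintro a ⟨ha, ha'⟩
    refine ⟨inv_mem ha, fun z hz => ?_⟩
    rw [MulAut.inv_apply, MulEquiv.symm_apply_eq, ha' z hz]

include S hG1 hP

theorem inZ_top {r : I → ℤ} (hr : r ∈ RGD.Pos cs h) {j : ℕ} (hrj : ht r = j + 1) (hbot : UH cs h X (j + 1) = ⊥)
    {x : Y} (hx : x ∈ X r) : InZ P x := by
  have hmem : ∀ y, y ∈ P ↔ y ∈ UU cs h X := fun y => by rw [← hP]; exact Iff.rfl
  refine ⟨(hmem x).2 (RGD.le_Sup hr hx), fun t htt => ?_⟩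
  have h1 := UH_comm S (by rw [UH_zero]; exact (hmem t).1 htt)
    (RGD.le_Sup (S := {r | r ∈ RGD.Pos cs h ∧ (j : ℤ) < ht r}) ⟨hr, by omega⟩ hx : x ∈ UH cs h X j)
  rw [hbot, Subgroup.mem_bot, commutatorElement_eq_one_iff_mul_comm] at h1
  exact h1

/-- an element centralising `Z(U)` induces no field automorphism -/
theorem field_of_fixZ {α : MulAut Y} (hα : FixZ P α) {u : Y} (hu : u ∈ UU cs h X) {σ : Equiv.Perm I}
    {τ : K ≃+* K} (B : Tau T X (chS e) A (MulAut.conj u * α) σ τ) : τ = 1 := by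
  obtain ⟨r, hr, j, hrj, hbot⟩ := exists_top S
  have hfix : ∀ x ∈ X r, (MulAut.conj u * α) x = x := by
    intro x hx
    have h1 := inZ_top S hG1 hP hr hrj hbot hx
    have h2 := h1.2 u (by
      show u ∈ (P : Subgroup Y)
      rw [hP]; exact hu)
    rw [MulAut.mul_apply, hα x h1, MulAut.conj_apply, h2, mul_inv_cancel_right]
  obtain ⟨c, hc, h1⟩ := Tau.root R (coords S hG1) B hr.1
  have hrσ : r ∘ σ.symm = r := by
    by_contra hne
    have h2 := X_inf_X R hr.1 (pos_comp R B hr).1 (Ne.symm hne)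
    rw [Subgroup.eq_bot_iff_forall] at h2
    refine S.data.ne_one hr.1 one_ne_zero (h2 (e r 1) ⟨S.mem hr.1 1, ?_⟩)
    have h3 := hfix _ (S.mem hr.1 1)
    rw [← h3, h1]
    exact S.mem (pos_comp R B hr).1 _
  have h2 : ∀ a, c * τ a = a := by
    intro a
    have h3 := h1 a
    rw [hfix _ (S.mem hr.1 a), hrσ] at h3
    exact (S.data.injective hr.1 h3).symm
  have h3 := h2 1
  rw [map_one, mul_one] at h3
  ext a
  have h4 := h2 a
  rw [h3, one_mul] at h4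
  exact h4

include hN hconn hA

/-- **Inner, or one graph automorphism.** -/
theorem cases {Q : Subgroup (MulAut Y)} (hQ : GoodA P Q) (hD : DTwo M) :
    (∀ α ∈ Q, FixZ P α → ∃ u ∈ UU cs h X, α = MulAut.conj u) ∨
    ∃ (γ : MulAut Y) (σ : Equiv.Perm I), Gr T X e A γ σ ∧
      ∀ α ∈ Q, FixZ P α → ∃ u ∈ UU cs h X, α = MulAut.conj u ∨ α = MulAut.conj u * γ := by
  have : Fact (Nat.Prime 2) := ⟨Nat.prime_two⟩
  have hfix : ∀ α ∈ Q, Fix α (UU cs h X) := by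
    intro α hα x
    have h1 : ∀ β ∈ Q, ∀ x ∈ UU cs h X, β x ∈ UU cs h X := by
      intro β hβ x hx
      rw [← hP] at hx ⊢
      exact hQ.norm β hβ x hx
    refine ⟨fun hx => ?_, h1 α hα x⟩
    have h2 := h1 α⁻¹ (inv_mem hα) _ hx
    rwa [MulAut.inv_apply_self] at h2
  have hB : IsPGroup 2 ↥(fz P Q) := hQ.two.to_le fun α hα => hα.1
  obtain ⟨f, hf⟩ := exists_outer R hG1 (coords S hG1) (coroots S hG1 hN) hconn hA hB
    fun α hα => hfix α hα.1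
  have hf2 : ∀ α, (f α).2 = 1 := by
    intro α
    obtain ⟨⟨u, hu, B⟩, -⟩ := hf α
    exact field_of_fixZ S hG1 hP α.2.2 hu B
  have hinn : ∀ α, (f α).1 = 1 → ∃ u ∈ UU cs h X, α.1 = MulAut.conj u := fun α hα =>
    (hf α).2.1 (Prod.ext hα (hf2 α))
  by_cases hall : ∀ α, (f α).1 = 1
  · exact Or.inl fun α hα hα' => hinn ⟨α, hα, hα'⟩ (hall _)
  right
  push Not at hall
  obtain ⟨α₀, hα₀⟩ := hall
  -- the group of symmetries
  let φ : ↥(fz P Q) →* Equiv.Perm I := (MonoidHom.fst _ _).comp f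
  have hP' : IsPGroup 2 ↥φ.range := IsPGroup.of_surjective hB φ.rangeRestrict φ.rangeRestrict_surjective
  have hsym : ∀ σ ∈ φ.range, ∀ i j, M (σ i) (σ j) = M i j := by
    rintro _ ⟨α, rfl⟩
    obtain ⟨⟨u, hu, B⟩, -⟩ := hf α
    exact B.diag.matrix R
  have huniq : ∀ α, (f α).1 ≠ 1 → (f α).1 = (f α₀).1 := fun α hα =>
    hD _ hP' hsym _ ⟨α, rfl⟩ _ ⟨α₀, rfl⟩ hα hα₀
  have hsq : (f α₀).1 * (f α₀).1 = 1 := by
    by_contra hne
    have h1 := huniq (α₀ * α₀) (by rw [map_mul]; exact hne)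
    rw [map_mul] at h1
    exact hα₀ (mul_eq_left.1 h1)
  obtain ⟨⟨u₀, hu₀, B₀⟩, -⟩ := hf α₀
  rw [hf2 α₀] at B₀
  refine ⟨MulAut.conj u₀ * α₀, (f α₀).1, ⟨B₀, ?_, ?_⟩, ?_⟩
  · have h1 := B₀.mul B₀
    rw [hsq, mul_one] at h1
    obtain ⟨k, hk⟩ := hB α₀
    have hk' : α₀.1 ^ 2 ^ k = 1 := by
      have := congrArg Subtype.val hk
      simpa using this
    have h2 := pow_eq_one_of_frame R (GG_eq_top hG1) (hfix α₀ α₀.2.1) hu₀ (fix_UN_of_tau R B₀) hk'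
    have h3 := Tau.eq_one R hG1 (coords S hG1) h1 (k := k) (by
      rw [← pow_two, ← pow_mul, mul_comm, pow_mul, h2, one_pow])
    intro x
    have h4 := congrArg (fun β : MulAut Y => β x) h3
    exact h4
  · intro i
    exact congrArg (fun σ : Equiv.Perm I => σ i) hsq
  · intro α hα hα'
    by_cases h1 : (f ⟨α, hα, hα'⟩).1 = 1
    · obtain ⟨u, hu, h2⟩ := hinn _ h1
      exact ⟨u, hu, Or.inl h2⟩
    · have h2 := huniq _ h1
      obtain ⟨v, hv, h3⟩ := hinn (⟨α, hα, hα'⟩ * α₀⁻¹) (by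
        rw [map_mul, map_inv, Prod.fst_mul, Prod.fst_inv, h2, mul_inv_cancel])
      refine ⟨v * u₀⁻¹, mul_mem hv (inv_mem hu₀), Or.inr ?_⟩
      have h4 : α = MulAut.conj v * α₀.1 := by
        rw [← h3]
        show α = α * (α₀.1)⁻¹ * α₀.1
        group
      rw [h4, map_mul, map_inv]
      group

end Cases


/-! ### Lines -/

/-- A good line relative to `D`. -/
structure Ln (P : Sylow 2 Y) (Q : Subgroup (MulAut Y)) (D l : Subgroup Y) : Prop where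
  sq : ∀ x ∈ l, x * x ∈ D
  pair : ∃ a ∈ l, ∃ b ∈ l, a ∉ D ∧ b ∉ D ∧ a⁻¹ * b ∉ D
  star : ∀ y ∈ Q, FixZ P y → y * y = 1 → ∀ x ∈ l, x ∉ D → y x = x → ∀ x' ∈ l, y x' = x'
  fix : ∀ x ∈ l, ∀ y ∈ Q, FixZ P y → y x * x⁻¹ ∈ D

/-- two field elements -/
theorem exists_ne_zero_one {K : Type*} [Field K] [Finite K] (hK : 3 ≤ Nat.card K) : ∃ b : K, b ≠ 0 ∧ b ≠ 1 := by
  by_contra hcon
  push Not at hcon
  classical
  have := Fintype.ofFinite K
  have h4 : (Finset.univ : Finset K) ⊆ {0, 1} := by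
    intro b _
    by_cases hb : b = 0
    · simp [hb]
    · simp [hcon b hb]
  have h5 := Finset.card_le_card h4
  have h6 : ({0, 1} : Finset K).card ≤ 2 := Finset.card_le_two
  rw [Finset.card_univ, ← Nat.card_eq_fintype_card] at h5
  omega

theorem add_ne_zero_of {K : Type*} [Field K] (h2 : ∀ t : K, t + t = 0) {b : K} (hb : b ≠ 1) : 1 + b ≠ 0 := by
  intro h4
  apply hb
  have h5 : 1 + b = 1 + 1 := by rw [h4, h2]
  exact add_left_cancel h5

section Line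

variable [Finite W] [Finite Y] [Finite K] {R : RGD cs h 2 T n X} (S : Sys R e)
  (hG1 : RGD.Sup X {x | IsRoot cs h x} = ⊤) {P : Sylow 2 Y} {Q : Subgroup (MulAut Y)}

theorem conj_fix_iff {u x : Y} : MulAut.conj u x = x ↔ u * x = x * u := by
  rw [MulAut.conj_apply, mul_inv_eq_iff_eq_mul]

include S hG1

/-- A root group on which `A` acts as inner automorphisms. -/
theorem line_root (hK : 3 ≤ Nat.card K) {r : I → ℤ} (hr : r ∈ RGD.Pos cs h) {D : Subgroup Y}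
    (hD : ∀ x ∈ X r, x ∈ D → x = 1)
    (hact : ∀ y ∈ Q, FixZ P y → y * y = 1 → ∀ x ∈ X r, x ≠ 1 → y x = x → ∃ u : Y, ∀ x' ∈ X r, y x' = u * x' * u⁻¹)
    (hfix : ∀ y ∈ Q, FixZ P y → ∀ x ∈ X r, y x * x⁻¹ ∈ D) : Ln P Q D (X r) where
  sq x hx := by
    obtain ⟨t, rfl⟩ := (S.mem_X r hr.1 x).1 hx
    rw [S.data.sq hr.1 t]
    exact one_mem _
  pair := by
    obtain ⟨b, hb0, hb1⟩ := exists_ne_zero_one hK
    refine ⟨e r 1, S.mem hr.1 _, e r b, S.mem hr.1 _, fun h1 => ?_, fun h1 => ?_, fun h1 => ?_⟩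
    · exact S.data.ne_one hr.1 one_ne_zero (hD _ (S.mem hr.1 _) h1)
    · exact S.data.ne_one hr.1 hb0 (hD _ (S.mem hr.1 _) h1)
    · rw [S.data.inv hr.1, ← S.data.add r hr.1] at h1
      exact S.data.ne_one hr.1 (add_ne_zero_of S.data.two hb1) (hD _ (S.mem hr.1 _) h1)
  star y hy hyz hy2 x hx hxD hyx x' hx' := by
    have hx1 : x ≠ 1 := fun h0 => hxD (by rw [h0]; exact one_mem _)
    obtain ⟨u, hu⟩ := hact y hy hyz hy2 x hx hx1 hyx
    have h1 : u * x = x * u := by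
      rw [hu x hx, mul_inv_eq_iff_eq_mul] at hyx
      exact hyx
    have h2 := comm_all S hG1 hr.1 hx hx1 h1 hx'
    rw [hu x' hx', h2, mul_inv_cancel_right]
  fix x hx y hy hyz := hfix y hy hyz x hx

/-- **No graph automorphism**: the filtration by height. -/
theorem fltA_inner (hK : 3 ≤ Nat.card K) (hP : (P : Subgroup Y) = UU cs h X)
    (hinn : ∀ α ∈ Q, FixZ P α → ∃ u ∈ UU cs h X, α = MulAut.conj u) :
    FltA P Q (UH cs h X) (fun j => {l | ∃ r, r ∈ RGD.Pos cs h ∧ ht r = j + 1 ∧ l = X r}) := by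
  have hln : ∀ (j : ℕ) r, r ∈ RGD.Pos cs h → ht r = j + 1 → Ln P Q (UH cs h X (j + 1)) (X r) := by
    intro j r hr hrj
    refine line_root S hG1 hK hr (fun x hx hx' => X_inf_UH S hr (by rw [hrj]; push_cast; exact le_rfl) hx hx')
      (fun y hy hyz _ _ _ _ _ => ?_) (fun y hy hyz x hx => ?_)
    · obtain ⟨u, hu, rfl⟩ := hinn y hy hyz
      exact ⟨u, fun x' _ => MulAut.conj_apply _ _⟩
    · obtain ⟨u, hu, rfl⟩ := hinn y hy hyz
      rw [MulAut.conj_apply, ← commutatorElement_def]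
      exact UH_comm S (by rw [UH_zero]; exact hu)
        (RGD.le_Sup (S := {r | r ∈ RGD.Pos cs h ∧ (j : ℤ) < ht r}) ⟨hr, by omega⟩ hx)
  refine ⟨?_, UH_bot, fun j => UH_le (Nat.le_succ j), ?_, ?_, ?_, ?_, ?_, ?_⟩
  · rw [UH_zero, hP]
  · intro j u hu
    refine Subgroup.closure_mono ?_ (UH_gen S j hu)
    rintro x (⟨r, hr, hrj, hx⟩ | hx)
    · exact Or.inl ⟨X r, ⟨r, hr, hrj, rfl⟩, hx⟩
    · exact Or.inr hx
  · rintro j _ ⟨r, hr, hrj, rfl⟩
    exact RGD.le_Sup (S := {r | r ∈ RGD.Pos cs h ∧ (j : ℤ) < ht r}) ⟨hr, by omega⟩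
  · rintro j _ ⟨r, hr, hrj, rfl⟩
    exact (hln j r hr hrj).sq
  · rintro j _ ⟨r, hr, hrj, rfl⟩
    exact (hln j r hr hrj).pair
  · rintro j _ ⟨r, hr, hrj, rfl⟩
    exact (hln j r hr hrj).star
  · rintro j _ ⟨r, hr, hrj, rfl⟩
    exact (hln j r hr hrj).fix

end Line

/-! ### The refined filtration -/

section Refined

variable [Finite W] [Finite Y] [Finite K] {R : RGD cs h 2 T n X} (S : Sys R e)
  (hG1 : RGD.Sup X {x | IsRoot cs h x} = ⊤) {γ : MulAut Y} {σ : Equiv.Perm I} (Γ : Gr T X e A γ σ)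

/-- generators of the odd terms -/
def Vg (cs : CoxeterSystem M W) (h : IsCartan M A) (X : (I → ℤ) → Subgroup Y) (γ : MulAut Y) (σ : Equiv.Perm I)
    (j : ℕ) : Set Y :=
  {x | (∃ r ∈ RGD.Pos cs h, ht r = j + 1 ∧ r ∘ σ.symm = r ∧ x ∈ X r) ∨
    ∃ r ∈ RGD.Pos cs h, ht r = j + 1 ∧ r ∘ σ.symm ≠ r ∧ ∃ z ∈ X r, x = z * γ z}

/-- the odd terms: `γ` is trivial modulo `UH (j + 1)` -/
def VV (cs : CoxeterSystem M W) (h : IsCartan M A) (X : (I → ℤ) → Subgroup Y) (γ : MulAut Y) (σ : Equiv.Perm I)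
    (j : ℕ) : Subgroup Y := Subgroup.closure (Vg cs h X γ σ j ∪ (UH cs h X (j + 1) : Set Y))

theorem UH_le_VV {j : ℕ} {x : Y} (hx : x ∈ UH cs h X (j + 1)) : x ∈ VV cs h X γ σ j :=
  Subgroup.subset_closure (Or.inr hx)

theorem Vg_le_VV {j : ℕ} {x : Y} (hx : x ∈ Vg cs h X γ σ j) : x ∈ VV cs h X γ σ j :=
  Subgroup.subset_closure (Or.inl hx)

/-- the terms -/
def UR (cs : CoxeterSystem M W) (h : IsCartan M A) (X : (I → ℤ) → Subgroup Y) (γ : MulAut Y) (σ : Equiv.Perm I)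
    (k : ℕ) : Subgroup Y := if k % 2 = 0 then UH cs h X (k / 2) else VV cs h X γ σ (k / 2)

theorem UR_even (j : ℕ) : UR cs h X γ σ (2 * j) = UH cs h X j := by
  unfold UR
  rw [if_pos (by omega)]
  congr 1
  omega

theorem UR_odd (j : ℕ) : UR cs h X γ σ (2 * j + 1) = VV cs h X γ σ j := by
  unfold UR
  rw [if_neg (by omega)]
  congr 1
  omega

theorem UR_next (j : ℕ) : UR cs h X γ σ (2 * j + 1 + 1) = UH cs h X (j + 1) := by
  have : 2 * j + 1 + 1 = 2 * (j + 1) := by ring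
  rw [this, UR_even]

omit [Finite K] [Finite Y] in
theorem mem_UH_of {r : I → ℤ} (hr : r ∈ RGD.Pos cs h) {j : ℕ} (hrj : ht r = j + 1) {x : Y} (hx : x ∈ X r) :
    x ∈ UH cs h X j :=
  RGD.le_Sup (S := {r | r ∈ RGD.Pos cs h ∧ (j : ℤ) < ht r}) ⟨hr, by omega⟩ hx

include S hG1 Γ

theorem VV_spec {j : ℕ} {x : Y} (hx : x ∈ VV cs h X γ σ j) :
    x ∈ UH cs h X j ∧ γ x * x⁻¹ ∈ UH cs h X (j + 1) := by
  have hmem : ∀ {k : ℕ} {x : Y}, x ∈ UH cs h X k → x ∈ UH cs h X 0 := fun hx => UH_le (Nat.zero_le _) hx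
  let L : Subgroup Y :=
    { carrier := {g | g ∈ UH cs h X j ∧ γ g * g⁻¹ ∈ UH cs h X (j + 1)}
      one_mem' := ⟨one_mem _, by rw [map_one]; simp⟩
      mul_mem' := by
        rintro a b ⟨ha, ha'⟩ ⟨hb, hb'⟩
        refine ⟨mul_mem ha hb, ?_⟩
        have h2 : γ (a * b) * (a * b)⁻¹ = γ a * (γ b * b⁻¹) * (γ a)⁻¹ * (γ a * a⁻¹) := by
          rw [map_mul]; group
        show γ (a * b) * (a * b)⁻¹ ∈ UH cs h X (j + 1)
        rw [h2]
        exact mul_mem (UH_conj S (hmem (map_UH R Γ.tau ha)) hb') ha'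
      inv_mem' := by
        rintro a ⟨ha, ha'⟩
        refine ⟨inv_mem ha, ?_⟩
        have h2 : γ a⁻¹ * a⁻¹⁻¹ = a⁻¹ * (γ a * a⁻¹)⁻¹ * a⁻¹⁻¹ := by
          rw [map_inv]; group
        show γ a⁻¹ * a⁻¹⁻¹ ∈ UH cs h X (j + 1)
        rw [h2]
        exact UH_conj S (inv_mem (hmem ha)) (inv_mem ha') }
  have hL : VV cs h X γ σ j ≤ L := by
    unfold VV
    rw [Subgroup.closure_le]
    rintro x ((⟨r, hr, hrj, hrσ, hx⟩ | ⟨r, hr, hrj, hrσ, z, hz, rfl⟩) | hx)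
    · refine ⟨mem_UH_of hr hrj hx, ?_⟩
      rw [Γ.fix_root S hG1 hr.1 hrσ hx, mul_inv_cancel]
      exact one_mem _
    · have hzj : z ∈ UH cs h X j := mem_UH_of hr hrj hz
      have hγz := map_UH R Γ.tau hzj
      refine ⟨mul_mem hzj hγz, ?_⟩
      have h1 : γ (z * γ z) * (z * γ z)⁻¹ = ⁅γ z, z⁆ := by
        rw [map_mul, Γ.sq, commutatorElement_def]; group
      rw [h1]
      exact UH_comm S (hmem hγz) hzj
    · exact ⟨UH_le (Nat.le_succ j) hx, mul_mem (map_UH R Γ.tau hx) (inv_mem hx)⟩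
  exact hL hx

/-- a root group moved by `γ` meets the odd term trivially -/
theorem X_inf_VV (hs : SL cs h) {r : I → ℤ} (hr : r ∈ RGD.Pos cs h) {j : ℕ} (hrj : ht r = j + 1)
    (hrσ : r ∘ σ.symm ≠ r) {x : Y} (hx : x ∈ X r) {g : Y} (hg : g ∈ UH cs h X (j + 1))
    (hxg : x = g * γ x) : x = 1 := by
  have hsP := pos_comp R Γ.tau hr
  refine sep S hs hr hsP (Ne.symm hrσ) (j := j + 1) (by rw [hrj]; push_cast; exact le_rfl)
    (by rw [ht_comp, hrj]; push_cast; exact le_rfl) hx ?_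
  rw [hxg]
  exact mul_mem (UH_le_SH hg) (X_le_SH (Γ.mem S hG1 hr.1 hx))

end Refined


/-! ### Diagonal lines -/

/-- **Star for the elements of `U` on the diagonal lines** (helper386's `SysDiag.star`). -/
def StarD (cs : CoxeterSystem M W) (h : IsCartan M A) (X : (I → ℤ) → Subgroup Y) (e : (I → ℤ) → K → Y) : Prop :=
  ∀ r s : I → ℤ, r ∈ RGD.Pos cs h → s ∈ RGD.Pos cs h → r ≠ s → ht r = ht s → ∀ t t' : K, t ≠ 0 → t' ≠ 0 →
    ∀ k ∈ UU cs h X, (cpr cs h r s = -1 → ∀ z ∈ X (r + s), k * z = z * k) →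
      k * (e r t * e s t') = e r t * e s t' * k → ∀ u u' : K, u * t' = u' * t →
        k * (e r u * e s u') = e r u * e s u' * k

section DL

variable [Finite W] [Finite Y] [Finite K] {R : RGD cs h 2 T n X} (S : Sys R e)
  (hG1 : RGD.Sup X {x | IsRoot cs h x} = ⊤) {γ : MulAut Y} {σ : Equiv.Perm I} (Γ : Gr T X e A γ σ)

/-- the centre of the line -/
structure Zc (e : (I → ℤ) → K → Y) (γ : MulAut Y) (r : I → ℤ) (Z : Subgroup Y) : Prop where
  c1 : ∀ w ∈ Z, ∀ a, w * e r a = e r a * w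
  c2 : ∀ w ∈ Z, ∀ a, w * γ (e r a) = γ (e r a) * w
  c3 : ∀ a b, ⁅γ (e r a), e r b⁆ ∈ Z

theorem Zc.mulf (S : Sys R e) {r : I → ℤ} (hr : IsRoot cs h r) {Z : Subgroup Y} (H : Zc e γ r Z) (a b : K) {w w' : Y}
    (hw : w ∈ Z) :
    (e r a * γ (e r a) * w) * (e r b * γ (e r b) * w') =
      e r (a + b) * γ (e r (a + b)) * (⁅γ (e r a), e r b⁆ * w * w') := by
  have h1 := H.c1 w hw b
  have h2 := H.c2 w hw b
  obtain ⟨ζ, hζ⟩ : ∃ ζ, ζ = ⁅γ (e r a), e r b⁆ := ⟨_, rfl⟩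
  have hζZ : ζ ∈ Z := hζ ▸ H.c3 a b
  have h3 : γ (e r a) * e r b = ζ * (e r b * γ (e r a)) := by
    rw [hζ, commutatorElement_def]; group
  rw [← hζ, S.data.add r hr, map_mul]
  calc e r a * γ (e r a) * w * (e r b * γ (e r b) * w') =
      e r a * γ (e r a) * (w * e r b) * γ (e r b) * w' := by group
    _ = e r a * (γ (e r a) * e r b) * (w * γ (e r b)) * w' := by rw [h1]; group
    _ = e r a * ζ * e r b * γ (e r a) * γ (e r b) * w * w' := by rw [h3, h2]; group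
    _ = e r a * (ζ * e r b) * γ (e r a) * γ (e r b) * w * w' := by group
    _ = e r a * e r b * (ζ * γ (e r a)) * γ (e r b) * w * w' := by rw [H.c1 ζ hζZ]; group
    _ = e r a * e r b * γ (e r a) * (ζ * γ (e r b)) * w * w' := by rw [H.c2 ζ hζZ]; group
    _ = _ := by rw [H.c2 ζ hζZ]; group

theorem Zc.invf (S : Sys R e) {r : I → ℤ} (hr : IsRoot cs h r) {Z : Subgroup Y} (H : Zc e γ r Z) (a : K) {w : Y}
    (hw : w ∈ Z) : (e r a * γ (e r a) * w)⁻¹ = e r a * γ (e r a) * (⁅γ (e r a), e r a⁆⁻¹ * w⁻¹) := by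
  have h1 := H.mulf S hr a a (w' := ⁅γ (e r a), e r a⁆⁻¹ * w⁻¹) hw
  have h2 : ⁅γ (e r a), e r a⁆ * w * (⁅γ (e r a), e r a⁆⁻¹ * w⁻¹) = 1 := by
    have h3 : ⁅γ (e r a), e r a⁆ * w = w * ⁅γ (e r a), e r a⁆ := by
      rw [commutatorElement_def, S.data.inv hr, ← map_inv, S.data.inv hr]
      have h4 := H.c1 w hw a
      have h5 := H.c2 w hw a
      calc γ (e r a) * e r a * γ (e r a) * e r a * w =
          γ (e r a) * e r a * γ (e r a) * (w * e r a) := by rw [h4]; group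
        _ = γ (e r a) * e r a * (w * γ (e r a)) * e r a := by rw [h5]; group
        _ = γ (e r a) * (w * e r a) * γ (e r a) * e r a := by rw [h4]; group
        _ = (w * γ (e r a)) * e r a * γ (e r a) * e r a := by rw [h5]; group
        _ = _ := by group
    rw [h3]
    group
  rw [h2, S.data.two, S.data.zero hr, map_one, mul_one, mul_one] at h1
  exact inv_eq_of_mul_eq_one_right h1

/-- the diagonal line -/
def dl (S : Sys R e) {r : I → ℤ} (hr : IsRoot cs h r) {Z : Subgroup Y} (H : Zc e γ r Z) : Subgroup Y where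
  carrier := {g | ∃ a, ∃ w ∈ Z, g = e r a * γ (e r a) * w}
  one_mem' := ⟨0, 1, one_mem _, by rw [S.data.zero hr, map_one, mul_one, mul_one]⟩
  mul_mem' := by
    rintro _ _ ⟨a, w, hw, rfl⟩ ⟨b, w', hw', rfl⟩
    exact ⟨a + b, _, mul_mem (mul_mem (H.c3 a b) hw) hw', H.mulf S hr a b hw⟩
  inv_mem' := by
    rintro _ ⟨a, w, hw, rfl⟩
    exact ⟨a, _, mul_mem (inv_mem (H.c3 a a)) (inv_mem hw), H.invf S hr a hw⟩

include hG1 Γ

theorem not_mem (S : Sys R e) (hs : SL cs h) {r : I → ℤ} (hr : r ∈ RGD.Pos cs h) {j : ℕ} (hrj : ht r = j + 1)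
    (hrσ : r ∘ σ.symm ≠ r) {a : K} (ha : a ≠ 0) {w : Y} (hw : w ∈ UH cs h X (j + 1)) :
    e r a * γ (e r a) * w ∉ UH cs h X (j + 1) := by
  intro h1
  have hinv : (γ (e r a))⁻¹ = γ (e r a) := by rw [← map_inv, S.data.inv hr.1]
  have hmem : ∀ {k : ℕ} {x : Y}, x ∈ UH cs h X k → x ∈ UH cs h X 0 := fun hx => UH_le (Nat.zero_le _) hx
  have h2 : e r a = (e r a * γ (e r a) * w) * w⁻¹ * γ (e r a) := by
    calc e r a = (e r a * γ (e r a) * w) * w⁻¹ * (γ (e r a))⁻¹ := by group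
      _ = _ := by rw [hinv]
  exact S.data.ne_one hr.1 ha (X_inf_VV S hG1 Γ hs hr hrj hrσ (S.mem hr.1 a) (mul_mem h1 (inv_mem hw)) h2)

theorem line_diag (S : Sys R e) (hs : SL cs h) (hK : 3 ≤ Nat.card K) {P : Sylow 2 Y} {Q : Subgroup (MulAut Y)}
    {r : I → ℤ} (hr : r ∈ RGD.Pos cs h) {j : ℕ} (hrj : ht r = j + 1) (hrσ : r ∘ σ.symm ≠ r) {Z : Subgroup Y}
    (H : Zc e γ r Z) (hZ : Z ≤ UH cs h X (j + 1))
    (hstar : ∀ y ∈ Q, FixZ P y → y * y = 1 → ∀ a : K, a ≠ 0 → ∀ w ∈ Z,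
      y (e r a * γ (e r a) * w) = e r a * γ (e r a) * w → ∀ b, ∀ w' ∈ Z,
        y (e r b * γ (e r b) * w') = e r b * γ (e r b) * w')
    (hfix : ∀ y ∈ Q, FixZ P y → ∀ x ∈ VV cs h X γ σ j, y x * x⁻¹ ∈ UH cs h X (j + 1)) :
    Ln P Q (UH cs h X (j + 1)) (dl S hr.1 H) where
  sq := by
    rintro _ ⟨a, w, hw, rfl⟩
    rw [H.mulf S hr.1 a a hw, S.data.two, S.data.zero hr.1, map_one, mul_one, one_mul]
    exact hZ (mul_mem (mul_mem (H.c3 a a) hw) hw)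
  pair := by
    obtain ⟨b, hb0, hb1⟩ := exists_ne_zero_one hK
    refine ⟨_, ⟨1, 1, one_mem _, rfl⟩, _, ⟨b, 1, one_mem _, rfl⟩, ?_, ?_, ?_⟩
    · exact not_mem hG1 Γ S hs hr hrj hrσ one_ne_zero (one_mem _)
    · exact not_mem hG1 Γ S hs hr hrj hrσ hb0 (one_mem _)
    · have h1 : (⁅γ (e r 1), e r 1⁆⁻¹ * (1 : Y)⁻¹) ∈ Z := mul_mem (inv_mem (H.c3 _ _)) (inv_mem (one_mem _))
      rw [H.invf S hr.1 1 (one_mem _), H.mulf S hr.1 1 b h1]
      exact not_mem hG1 Γ S hs hr hrj hrσ (add_ne_zero_of S.data.two hb1)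
        (hZ (mul_mem (mul_mem (H.c3 _ _) h1) (one_mem _)))
  star := by
    rintro y hy hyz hy2 _ ⟨a, w, hw, rfl⟩ hxD hyx _ ⟨b, w', hw', rfl⟩
    refine hstar y hy hyz hy2 a ?_ w hw hyx b w' hw'
    rintro rfl
    apply hxD
    rw [S.data.zero hr.1, map_one, mul_one, one_mul]
    exact hZ hw
  fix := by
    rintro _ ⟨a, w, hw, rfl⟩ y hy hyz
    refine hfix y hy hyz _ (mul_mem (Vg_le_VV (Or.inr ⟨r, hr, hrj, hrσ, e r a, S.mem hr.1 a, rfl⟩)) ?_)
    exact UH_le_VV (hZ hw)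

end DL

/-! ### The theorem -/

section Main

variable [Finite W] [Finite Y] [Finite K] {R : RGD cs h 2 T n X} (S : Sys R e)
  (hG1 : RGD.Sup X {x | IsRoot cs h x} = ⊤)

include S hG1

theorem fltA_graph {γ : MulAut Y} {σ : Equiv.Perm I} (Γ : Gr T X e A γ σ) (hs : SL cs h)
    (hdis : ∀ r ∈ RGD.Pos cs h, cpr cs h r (r ∘ σ.symm) = -1 → ∀ i, r i = 0 ∨ (r ∘ σ.symm) i = 0)
    (hstar : StarD cs h X e) (hK : 3 ≤ Nat.card K) {P : Sylow 2 Y} (hP : (P : Subgroup Y) = UU cs h X)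
    {Q : Subgroup (MulAut Y)}
    (hinn : ∀ α ∈ Q, FixZ P α → ∃ u ∈ UU cs h X, α = MulAut.conj u ∨ α = MulAut.conj u * γ) :
    FltA P Q (UR cs h X γ σ) (fun k => {l | l ≤ UR cs h X γ σ k ∧ Ln P Q (UR cs h X γ σ (k + 1)) l}) := by
  have hu0 : ∀ {u : Y}, u ∈ UU cs h X → u ∈ UH cs h X 0 := fun hu => by rw [UH_zero]; exact hu
  -- the action on `UH j`
  have hfixV : ∀ (j : ℕ), ∀ y ∈ Q, FixZ P y → ∀ x ∈ VV cs h X γ σ j, y x * x⁻¹ ∈ UH cs h X (j + 1) := by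
    intro j y hy hyz x hx
    have hxj := VV_spec S hG1 Γ hx
    obtain ⟨u, hu, rfl | rfl⟩ := hinn y hy hyz
    · rw [MulAut.conj_apply, ← commutatorElement_def]
      exact UH_comm S (hu0 hu) hxj.1
    · rw [MulAut.mul_apply, MulAut.conj_apply]
      have h1 : u * γ x * u⁻¹ * x⁻¹ = ⁅u, γ x⁆ * (γ x * x⁻¹) := by rw [commutatorElement_def]; group
      rw [h1]
      exact mul_mem (UH_comm S (hu0 hu) (map_UH R Γ.tau hxj.1)) hxj.2
  -- the lines of the even terms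
  have heven : ∀ (j : ℕ) r, r ∈ RGD.Pos cs h → ht r = j + 1 → r ∘ σ.symm ≠ r →
      Ln P Q (VV cs h X γ σ j) (X r) := by
    intro j r hr hrj hrσ
    refine line_root S hG1 hK hr (fun x hx hx' => ?_) (fun y hy hyz _ x hx hx1 hyx => ?_) (fun y hy hyz x hx => ?_)
    · have h1 := (VV_spec S hG1 Γ hx').2
      refine X_inf_VV S hG1 Γ hs hr hrj hrσ hx (inv_mem h1) ?_
      group
    · obtain ⟨u, hu, rfl | rfl⟩ := hinn y hy hyz
      · exact ⟨u, fun x' _ => MulAut.conj_apply _ _⟩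
      · exfalso
        apply hx1
        rw [MulAut.mul_apply, MulAut.conj_apply] at hyx
        refine X_inf_VV S hG1 Γ hs hr hrj hrσ hx (g := ⁅u, γ x⁆)
          (UH_comm S (hu0 hu) (map_UH R Γ.tau (mem_UH_of hr hrj hx))) ?_
        calc x = u * γ x * u⁻¹ := hyx.symm
          _ = _ := by rw [commutatorElement_def]; group
    · obtain ⟨u, hu, rfl | rfl⟩ := hinn y hy hyz
      · rw [MulAut.conj_apply, ← commutatorElement_def]
        exact UH_le_VV (UH_comm S (hu0 hu) (mem_UH_of hr hrj hx))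
      · rw [MulAut.mul_apply, MulAut.conj_apply]
        have h1 : u * γ x * u⁻¹ * x⁻¹ = ⁅u, γ x⁆ * (γ x * x⁻¹) := by rw [commutatorElement_def]; group
        rw [h1]
        refine mul_mem (UH_le_VV (UH_comm S (hu0 hu) (map_UH R Γ.tau (mem_UH_of hr hrj hx)))) ?_
        obtain ⟨t, rfl⟩ := (S.mem_X r hr.1 x).1 hx
        have h2 : γ (e r t) * (e r t)⁻¹ = (e r t * γ (e r t))⁻¹ := by
          rw [mul_inv_rev, ← map_inv, S.data.inv hr.1]
        rw [h2]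
        exact inv_mem (Vg_le_VV (Or.inr ⟨r, hr, hrj, hrσ, _, hx, rfl⟩))
  -- the root groups fixed by `γ`
  have hodd1 : ∀ (j : ℕ) r, r ∈ RGD.Pos cs h → ht r = j + 1 → r ∘ σ.symm = r →
      Ln P Q (UH cs h X (j + 1)) (X r) := by
    intro j r hr hrj hrσ
    refine line_root S hG1 hK hr (fun x hx hx' => X_inf_UH S hr (by rw [hrj]; push_cast; exact le_rfl) hx hx')
      (fun y hy hyz _ x hx hx1 hyx => ?_) (fun y hy hyz x hx => ?_)
    · obtain ⟨u, hu, rfl | rfl⟩ := hinn y hy hyz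
      · exact ⟨u, fun x' _ => MulAut.conj_apply _ _⟩
      · refine ⟨u, fun x' hx' => ?_⟩
        rw [MulAut.mul_apply, MulAut.conj_apply, Γ.fix_root S hG1 hr.1 hrσ hx']
    · exact hfixV j y hy hyz x (Vg_le_VV (Or.inl ⟨r, hr, hrj, hrσ, hx⟩))
  -- the diagonal lines
  have hodd2 : ∀ (j : ℕ) r, r ∈ RGD.Pos cs h → ht r = j + 1 → r ∘ σ.symm ≠ r → ∀ z ∈ X r,
      ∃ l, l ≤ VV cs h X γ σ j ∧ Ln P Q (UH cs h X (j + 1)) l ∧ z * γ z ∈ l := by
    intro j r hr hrj hrσ z hz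
    obtain ⟨s, hsdef⟩ : ∃ s, s = r ∘ σ.symm := ⟨_, rfl⟩
    have hsP : s ∈ RGD.Pos cs h := by rw [hsdef]; exact pos_comp R Γ.tau hr
    have hhts : ht r = ht s := by rw [hsdef]; exact (ht_comp σ r).symm
    have hrs : r ≠ s := by rw [hsdef]; exact Ne.symm hrσ
    have hrs' : r ≠ -s := by
      rintro h0
      have h1 := ht_pos hr
      have h2 := ht_pos hsP
      have h3 := ht_smul (-1) s
      rw [neg_one_smul, ← h0] at h3
      omega
    obtain ⟨c, hc0, hcγ⟩ := Γ.scal S hG1 hr.1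
    rw [← hsdef] at hcγ
    have hsym := hs r s hr.1 hsP.1
    have hab := hs.abs_le hr.1 hsP.1 hrs hrs'
    have hne1 : cpr cs h r s ≠ 1 := by
      intro h1
      have h2 : IsRoot cs h (r - s) := isRoot_sub hr.1 hsP.1 h1
      have h3 : ht (r - s) = 0 := by
        have h4 : r - s = r + (-1 : ℤ) • s := by rw [neg_one_smul, sub_eq_add_neg]
        rw [h4, ht_add, ht_smul, hhts]
        ring
      rcases h2.pos_or_neg with h4 | h4
      · have := ht_pos (cs := cs) (h := h) (x := r - s) ⟨h2, h4⟩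
        omega
      · have := ht_pos (cs := cs) (h := h) (x := -(r - s)) ⟨h2.neg, neg_nonneg.2 h4⟩
        have h5 := ht_smul (-1) (r - s)
        rw [neg_one_smul] at h5
        omega
    obtain ⟨t₀, rfl⟩ := (S.mem_X r hr.1 z).1 hz
    have hcomm2 : ∀ (u : Y) (hu : u ∈ UU cs h X) (a b : K), a ≠ 0 →
        (cpr cs h r s = -1 → ∀ z ∈ X (r + s), u * z = z * u) →
        u * (e r a * γ (e r a)) = e r a * γ (e r a) * u → u * (e r b * γ (e r b)) = e r b * γ (e r b) * u := by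
      intro u hu a b ha hX hc
      rw [hcγ] at hc ⊢
      exact hstar r s hr hsP hrs hhts a (c * a) ha (mul_ne_zero hc0 ha) u hu hX hc b (c * b) (by ring)
    by_cases hc0' : cpr cs h r s = 0
    · -- orthogonal
      have hZ : Zc e γ r (⊥ : Subgroup Y) := by
        refine ⟨fun w hw a => ?_, fun w hw a => ?_, fun a b => ?_⟩
        · rw [Subgroup.mem_bot.1 hw, one_mul, mul_one]
        · rw [Subgroup.mem_bot.1 hw, one_mul, mul_one]
        · rw [Subgroup.mem_bot, commutatorElement_eq_one_iff_mul_comm, hcγ]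
          exact S.data.comm_of_nonneg hsP.1 hr.1 (by rw [← hsym, hc0']) _ _
      have hγ : ∀ b, γ (e r b * γ (e r b) * 1) = e r b * γ (e r b) * 1 := by
        intro b
        rw [mul_one, map_mul, Γ.sq, hcγ]
        exact S.data.comm_of_nonneg hsP.1 hr.1 (by rw [← hsym, hc0']) _ _
      refine ⟨dl S hr.1 hZ, ?_, line_diag hG1 Γ S hs hK hr hrj hrσ hZ bot_le ?_ (hfixV j),
        ⟨t₀, 1, one_mem _, (mul_one _).symm⟩⟩
      · rintro _ ⟨a, w, hw, rfl⟩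
        rw [Subgroup.mem_bot.1 hw, mul_one]
        exact Vg_le_VV (Or.inr ⟨r, hr, hrj, hrσ, _, S.mem hr.1 a, rfl⟩)
      · intro y hy hyz hy2 a ha w hw hyx b w' hw'
        rw [Subgroup.mem_bot.1 hw] at hyx
        rw [Subgroup.mem_bot.1 hw']
        obtain ⟨u, hu, h1⟩ := hinn y hy hyz
        have h2 : ∀ b, y (e r b * γ (e r b) * 1) = u * (e r b * γ (e r b) * 1) * u⁻¹ := by
          intro b
          rcases h1 with rfl | rfl
          · rw [MulAut.conj_apply]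
          · rw [MulAut.mul_apply, MulAut.conj_apply, hγ]
        rw [h2, mul_inv_eq_iff_eq_mul, mul_one] at hyx
        rw [h2, mul_inv_eq_iff_eq_mul, mul_one]
        exact hcomm2 u hu a b ha (fun h3 => by rw [hc0'] at h3; omega) hyx
    · -- the middle lines
      have hc1 : cpr cs h r s = -1 := by omega
      have hc1' : cpr cs h s r = -1 := by rw [← hsym]; exact hc1
      have hβ : IsRoot cs h (r + s) := isRoot_add hr.1 hsP.1 hc1
      have hβP : r + s ∈ RGD.Pos cs h := ⟨hβ, fun i => by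
        have h1 := hr.2 i
        have h2 := hsP.2 i
        simp only [Pi.zero_apply, Pi.add_apply] at h1 h2 ⊢
        omega⟩
      have hβr : 0 ≤ cpr cs h (r + s) r := by
        rw [cpr_add cs h _ _ hr.1, cpr_self cs h hr.1, hc1']
        norm_num
      have hβs : 0 ≤ cpr cs h (r + s) s := by
        rw [cpr_add cs h _ _ hsP.1, cpr_self cs h hsP.1, hc1]
        norm_num
      have hβσ : (r + s) ∘ σ.symm = r + s := by
        have h1 : s ∘ σ.symm = r := by rw [hsdef]; exact Γ.comp_comp r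
        funext i
        have h2 := congrFun hsdef i
        have h3 := congrFun h1 i
        simp only [Function.comp_apply, Pi.add_apply] at h2 h3 ⊢
        omega
      have hZ : Zc e γ r (X (r + s)) := by
        refine ⟨fun w hw a => ?_, fun w hw a => ?_, fun a b => ?_⟩
        · obtain ⟨t, rfl⟩ := (S.mem_X _ hβ w).1 hw
          exact S.data.comm_of_nonneg hβ hr.1 hβr _ _
        · obtain ⟨t, rfl⟩ := (S.mem_X _ hβ w).1 hw
          rw [hcγ]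
          exact S.data.comm_of_nonneg hβ hsP.1 hβs _ _
        · rw [hcγ, S.data.comm1 s r hsP.1 hr.1 hc1' hc1, add_comm s r]
          exact S.mem hβ _
      have hZle : X (r + s) ≤ UH cs h X (j + 1) := by
        refine RGD.le_Sup (S := {r | r ∈ RGD.Pos cs h ∧ ((j + 1 : ℕ) : ℤ) < ht r}) ⟨hβP, ?_⟩
        rw [ht_add, ← hhts, hrj]
        push_cast
        omega
      refine ⟨dl S hr.1 hZ, ?_, line_diag hG1 Γ S hs hK hr hrj hrσ hZ hZle ?_ (hfixV j),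
        ⟨t₀, 1, one_mem _, (mul_one _).symm⟩⟩
      · rintro _ ⟨a, w, hw, rfl⟩
        exact mul_mem (Vg_le_VV (Or.inr ⟨r, hr, hrj, hrσ, _, S.mem hr.1 a, rfl⟩)) (UH_le_VV (hZle hw))
      · intro y hy hyz hy2 a ha w hw hyx b w' hw'
        obtain ⟨u, hu, rfl | rfl⟩ := hinn y hy hyz
        · -- inner
          have h1 : u * (e r a * γ (e r a) * w) = e r a * γ (e r a) * w * u := by
            rw [MulAut.conj_apply, mul_inv_eq_iff_eq_mul] at hyx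
            exact hyx
          -- the square
          have h2 : u * e (r + s) (c * a * a) = e (r + s) (c * a * a) * u := by
            have h3 : (e r a * γ (e r a) * w) * (e r a * γ (e r a) * w) = e (r + s) (c * a * a) := by
              rw [hZ.mulf S hr.1 a a hw, S.data.two, S.data.zero hr.1, map_one, mul_one, one_mul, hcγ,
                S.data.comm1 s r hsP.1 hr.1 hc1' hc1, add_comm s r]
              obtain ⟨t, rfl⟩ := (S.mem_X _ hβ w).1 hw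
              rw [mul_assoc, S.data.sq hβ, mul_one]
            rw [← h3]
            have h8 : ∀ x : Y, u * x = x * u → u * (x * x) = x * x * u := fun x hx => by
              rw [← mul_assoc, hx, mul_assoc, hx, ← mul_assoc]
            exact h8 _ h1
          have h4 : ∀ z ∈ X (r + s), u * z = z * u := fun z hz =>
            comm_all S hG1 hβ (S.mem hβ _) (S.data.ne_one hβ (mul_ne_zero (mul_ne_zero hc0 ha) ha)) h2 hz
          have h5 : u * (e r a * γ (e r a)) = e r a * γ (e r a) * u := by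
            have h6 := h4 w hw
            have h7 : u * (e r a * γ (e r a)) * w = e r a * γ (e r a) * u * w := by
              calc u * (e r a * γ (e r a)) * w = u * (e r a * γ (e r a) * w) := by group
                _ = e r a * γ (e r a) * (w * u) := by rw [h1]; group
                _ = _ := by rw [← h6]; group
            exact mul_right_cancel h7
          have h6 := hcomm2 u hu a b ha (fun _ => h4) h5
          rw [MulAut.conj_apply, mul_inv_eq_iff_eq_mul]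
          calc u * (e r b * γ (e r b) * w') = (u * (e r b * γ (e r b))) * w' := by group
            _ = e r b * γ (e r b) * (u * w') := by rw [h6]; group
            _ = _ := by rw [h4 w' hw']; group
        · -- polarities
          exfalso
          rw [hsdef] at hc1 hw
          refine Γ.no_mid S hG1 hs hr (hdis r hr hc1) hc1 hu (fun x => ?_) ha hw ?_
          · have h1 := congrArg (fun β : MulAut Y => β x) hy2
            simp only [MulAut.mul_apply, MulAut.conj_apply, MulAut.one_apply] at h1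
            exact h1
          · rw [MulAut.mul_apply, MulAut.conj_apply] at hyx
            exact hyx
  refine ⟨?_, ?_, ?_, ?_, ?_, ?_, ?_, ?_, ?_⟩
  · have h1 := UR_even (cs := cs) (h := h) (X := X) (γ := γ) (σ := σ) 0
    rw [mul_zero] at h1
    rw [h1, UH_zero, hP]
  · obtain ⟨m, hm⟩ := UH_bot (cs := cs) (h := h) (X := X)
    exact ⟨2 * m, by rw [UR_even, hm]⟩
  · intro k
    obtain ⟨j, rfl | rfl⟩ := Nat.even_or_odd' k
    · rw [UR_even, UR_odd]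
      exact fun x hx => (VV_spec S hG1 Γ hx).1
    · rw [UR_odd, UR_next]
      exact fun x hx => UH_le_VV hx
  · intro k x hx
    obtain ⟨j, rfl | rfl⟩ := Nat.even_or_odd' k
    · rw [UR_even] at hx
      rw [UR_odd]
      have h1 := UH_gen S j hx
      refine Subgroup.closure_le _ |>.2 ?_ h1
      rintro y (⟨r, hr, hrj, hy⟩ | hy)
      · by_cases hrσ : r ∘ σ.symm = r
        · exact Subgroup.subset_closure (Or.inr (Vg_le_VV (Or.inl ⟨r, hr, hrj, hrσ, hy⟩)))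
        · refine Subgroup.subset_closure (Or.inl ⟨X r, ⟨?_, ?_⟩, hy⟩)
          · rw [UR_even]
            exact fun z hz => mem_UH_of hr hrj hz
          · exact heven j r hr hrj hrσ
      · exact Subgroup.subset_closure (Or.inr (UH_le_VV hy))
    · rw [UR_odd] at hx
      rw [UR_next]
      refine Subgroup.closure_le _ |>.2 ?_ hx
      rintro y ((⟨r, hr, hrj, hrσ, hy⟩ | ⟨r, hr, hrj, hrσ, z, hz, rfl⟩) | hy)
      · refine Subgroup.subset_closure (Or.inl ⟨X r, ⟨?_, ?_⟩, hy⟩)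
        · rw [UR_odd]
          exact fun z hz => Vg_le_VV (Or.inl ⟨r, hr, hrj, hrσ, hz⟩)
        · exact hodd1 j r hr hrj hrσ
      · obtain ⟨l, hl, hln, hzl⟩ := hodd2 j r hr hrj hrσ z hz
        refine Subgroup.subset_closure (Or.inl ⟨l, ⟨?_, ?_⟩, hzl⟩)
        · rw [UR_odd]
          exact hl
        · exact hln
      · exact Subgroup.subset_closure (Or.inr hy)
  · exact fun k l hl => hl.1
  · exact fun k l hl => hl.2.sq
  · exact fun k l hl => hl.2.pair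
  · exact fun k l hl => hl.2.star
  · exact fun k l hl => hl.2.fix

/-- **(k3) for the simply laced groups.** -/
theorem exists_fltA [Nonempty I] [CharP K 2] (hN : NoCent cs h T X)
    (hconn : ∀ J : Set I, J.Nonempty → J ≠ Set.univ → ∃ a ∈ J, ∃ b, b ∉ J ∧ M a b ≠ 2)
    (hA : ∀ σ : Equiv.Perm I, (∀ i j, M (σ i) (σ j) = M i j) → ∀ i j, A (σ i) (σ j) = A i j)
    (hs : SL cs h) (hD : DTwo M) (hstar : StarD cs h X e) (hK : 3 ≤ Nat.card K) {P : Sylow 2 Y}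
    (hP : (P : Subgroup Y) = UU cs h X) {Q : Subgroup (MulAut Y)} (hQ : GoodA P Q) :
    ∃ U L, FltA P Q U L := by
  rcases cases S hG1 hN hconn hA hP hQ hD with h1 | ⟨γ, σ, Γ, h1⟩
  · exact ⟨_, _, fltA_inner S hG1 hK hP h1⟩
  · refine ⟨_, _, fltA_graph S hG1 Γ hs (fun r hr hc i => ?_) hstar hK hP h1⟩
    have hr' := pos_comp R Γ.tau hr
    exact RootDisj.disj hs hconn Γ.tau.cartan hr.1 hr'.1 hr.2 hr'.2 rfl (Γ.comp_comp r) hc i

end Main


end Cfsg.Agent.KFacts.SysFltA
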