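import Mathlib
import Cfsg.Agent.KFacts.SysFltS
import Cfsg.Agent.KFacts.RootDisj

/-!
# The middle root of `A_{2m}` (ODD, D4, (k3))

`Sys R e`, simply laced. `r, r'` positive roots swapped by the diagram symmetry `σ`, `δ = r + r'` a root.

* `Ideal` : ideals of positive roots; `Ideal.conj`, `comm_le`, `Ideal.inf`, `inf_single`;
* `pol_vac` : an automorphism `φ` fixing `U` with diagram symmetry `σ` and no field part, `φ φ (e r a) = e r a`, which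
  fixes `e r a * e r' b * z` (`z ∈ X δ`) : `a = b = 0`.
-/

set_option autoImplicit false
set_option linter.unusedSectionVars false

namespace Cfsg.Agent.KFacts.SysPol

open CoxeterSystem Cfsg.Agent.ChevalleyStructure.CoxeterGeom Cfsg.Agent.Tits.Roots Cfsg.Agent.Tits.Core
  Cfsg.Agent.Tits.Exchange Cfsg.Agent.Nodes.Reps Cfsg.Agent.Nodes.BNOf Cfsg.Agent.Nodes.StabComb
  Cfsg.Agent.Nodes.Bruhat Cfsg.Agent.Nodes.OppDec Cfsg.Agent.Nodes.LeviDec Cfsg.Agent.Nodes.NormalForm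
  Cfsg.Agent.Nodes.Coroot Cfsg.Agent.Nodes.PosPair Cfsg.Agent.KFacts.RgdPar Cfsg.Agent.KFacts.RgdTI
  Cfsg.Agent.KFacts.RgdOpp Cfsg.Agent.KFacts.RgdAut Cfsg.Agent.KFacts.RgdDiag Cfsg.Agent.KFacts.RgdRigid
  Cfsg.Agent.KFacts.RgdCent Cfsg.Agent.KFacts.RgdKap Cfsg.Agent.KFacts.RgdField Cfsg.Agent.KFacts.RgdTau
  Cfsg.Agent.KFacts.RgdSys Cfsg.Agent.KFacts.RgdOver Cfsg.Agent.KFacts.RgdPure Cfsg.Agent.KFacts.ChevTwo
  Cfsg.Agent.KFacts.SysOut Cfsg.Agent.KFacts.SysLine Cfsg.Agent.KFacts.SysFlt Cfsg.Agent.KFacts.SLRow.Diag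
  Cfsg.Agent.KFacts.SysFree Cfsg.Agent.KFacts.SysFltS Cfsg.Agent.OddHalf.D4.Free Cfsg.Agent.KFacts.RootDisj
open Cfsg.Agent.KFacts.RgdSL (SL)
open scoped commutatorElement

variable {I W Y K : Type*} [Fintype I] [DecidableEq I] [Group W] [Group Y] [Field K] {M : CoxeterMatrix I}
variable {cs : CoxeterSystem M W} {A : I → I → ℤ} {h : IsCartan M A} {e : (I → ℤ) → K → Y}
  {T : Subgroup Y} {n : I → Y} {X : (I → ℤ) → Subgroup Y}

/-- ideals of the positive roots -/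
structure Ideal (cs : CoxeterSystem M W) (h : IsCartan M A) (Q : Set (I → ℤ)) : Prop where
  pos : Q ⊆ RGD.Pos cs h
  add : ∀ x ∈ Q, ∀ y ∈ RGD.Pos cs h, IsRoot cs h (x + y) → x + y ∈ Q

theorem pos_add {x y : I → ℤ} (hx : x ∈ RGD.Pos cs h) (hy : y ∈ RGD.Pos cs h) (hxy : IsRoot cs h (x + y)) :
    x + y ∈ RGD.Pos cs h := ⟨hxy, add_nonneg hx.2 hy.2⟩

theorem ne_neg {x y : I → ℤ} (hx : x ∈ RGD.Pos cs h) (hy : y ∈ RGD.Pos cs h) : x ≠ -y := by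
  rintro rfl
  have h1 := ht_pos hx
  have h2 := ht_pos hy
  have h3 := ht_smul (-1) y
  rw [neg_one_smul] at h3
  omega

section Ideal

variable [Finite W] {R : RGD cs h 2 T n X} (S : Sys R e) (hs : SL cs h)

include hs

theorem Ideal.closed {Q : Set (I → ℤ)} (hQ : Ideal cs h Q) : Nodes.Unique.Closed cs h Q := by
  intro x hx y hy z hz
  by_cases hxy : x = y
  · subst hxy
    rw [Nodes.Unique.btwn_self (hQ.pos hx).1 hz]
    exact hx
  · obtain ⟨-, rfl⟩ := hs.btwn (hQ.pos hx).1 (hQ.pos hy).1 hxy (ne_neg (hQ.pos hx) (hQ.pos hy)) hz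
    exact hQ.add x hx y (hQ.pos hy) hz.1

include S

/-- the commutator of two root elements -/
theorem comm_cases {x y : I → ℤ} (hx : x ∈ RGD.Pos cs h) (hy : y ∈ RGD.Pos cs h) {g v : Y} (hg : g ∈ X x)
    (hv : v ∈ X y) : ⁅g, v⁆ = 1 ∨ (IsRoot cs h (x + y) ∧ ⁅g, v⁆ ∈ X (x + y)) := by
  obtain ⟨t, rfl⟩ := (S.mem_X x hx.1 g).1 hg
  obtain ⟨u, rfl⟩ := (S.mem_X y hy.1 v).1 hv
  by_cases hc : 0 ≤ cpr cs h x y
  · exact Or.inl (commutatorElement_eq_one_iff_mul_comm.2 (S.data.comm_of_nonneg hx.1 hy.1 hc t u))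
  · right
    push Not at hc
    have h1 : cpr cs h x y = -1 := by
      rcases hs.cases hx.1 hy.1 with ⟨-, h2⟩ | ⟨h2, -⟩ | ⟨-, -, h2, -⟩
      · omega
      · exact absurd h2 (ne_neg hx hy)
      · omega
    have h2 : cpr cs h y x = -1 := by rw [← hs x y hx.1 hy.1, h1]
    have h3 := RgdSL.isRoot_add hx.1 hy.1 h1
    refine ⟨h3, ?_⟩
    rw [S.data.comm1 x y hx.1 hy.1 h1 h2]
    exact S.mem h3 _

/-- ideals are normal in `U` -/
theorem Ideal.conj {Q : Set (I → ℤ)} (hQ : Ideal cs h Q) {u v : Y} (hu : u ∈ RGD.Sup X (RGD.Pos cs h))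
    (hv : v ∈ RGD.Sup X Q) : u * v * u⁻¹ ∈ RGD.Sup X Q := by
  have h1 : ∀ y ∈ RGD.Pos cs h, ∀ g ∈ X y, ∀ v ∈ RGD.Sup X Q, g * v * g⁻¹ ∈ RGD.Sup X Q := by
    intro y hy g hg v hv
    have h1 : RGD.Sup X Q ≤ (RGD.Sup X Q).comap (MulAut.conj g).toMonoidHom := by
      refine RGD.Sup_le fun x hx v hv => ?_
      show g * v * g⁻¹ ∈ RGD.Sup X Q
      have h2 : g * v * g⁻¹ = ⁅g, v⁆ * v := by rw [commutatorElement_def]; group
      rw [h2]
      refine mul_mem ?_ (RGD.le_Sup hx hv)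
      rcases comm_cases S hs hy (hQ.pos hx) hg hv with h3 | ⟨h3, h4⟩
      · rw [h3]
        exact one_mem _
      · have h5 := hQ.add x hx y hy (by rwa [add_comm])
        rw [add_comm] at h4
        exact RGD.le_Sup h5 h4
    exact h1 hv
  have h2 : RGD.Sup X (RGD.Pos cs h) ≤ Subgroup.normalizer (RGD.Sup X Q : Set Y) := by
    refine RGD.Sup_le fun y hy g hg => ?_
    rw [Subgroup.mem_normalizer_iff]
    intro w
    refine ⟨h1 y hy g hg w, fun hw => ?_⟩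
    have h3 := h1 y hy g⁻¹ (inv_mem hg) _ hw
    have h4 : g⁻¹ * (g * w * g⁻¹) * g⁻¹⁻¹ = w := by group
    rwa [h4] at h3
  exact (Subgroup.mem_normalizer_iff.1 (h2 hu) v).1 hv

theorem Ideal.conj' {Q : Set (I → ℤ)} (hQ : Ideal cs h Q) {u v : Y} (hu : u ∈ RGD.Sup X (RGD.Pos cs h))
    (hv : v ∈ RGD.Sup X Q) : u⁻¹ * v * u ∈ RGD.Sup X Q := by
  have := hQ.conj S hs (inv_mem hu) hv
  rwa [inv_inv] at this

/-- commutators -/
theorem comm_le {Q₁ Q₂ Q₃ : Set (I → ℤ)} (h1 : Q₁ ⊆ RGD.Pos cs h) (h2 : Q₂ ⊆ RGD.Pos cs h) (h3 : Ideal cs h Q₃)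
    (h12 : ∀ x ∈ Q₁, ∀ y ∈ Q₂, IsRoot cs h (x + y) → x + y ∈ Q₃) {u v : Y} (hu : u ∈ RGD.Sup X Q₁)
    (hv : v ∈ RGD.Sup X Q₂) : ⁅u, v⁆ ∈ RGD.Sup X Q₃ := by
  have hp1 : RGD.Sup X Q₁ ≤ RGD.Sup X (RGD.Pos cs h) := RGD.Sup_mono h1
  have hp2 : RGD.Sup X Q₂ ≤ RGD.Sup X (RGD.Pos cs h) := RGD.Sup_mono h2
  have key : ∀ x ∈ Q₁, ∀ g ∈ X x, ∀ v ∈ RGD.Sup X Q₂, ⁅g, v⁆ ∈ RGD.Sup X Q₃ := by
    intro x hx g hg v hv
    let L : Subgroup Y :=
      { carrier := {v | v ∈ RGD.Sup X Q₂ ∧ ⁅g, v⁆ ∈ RGD.Sup X Q₃}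
        one_mem' := ⟨one_mem _, by rw [commutatorElement_one_right]; exact one_mem _⟩
        mul_mem' := by
          rintro a b ⟨ha, ha'⟩ ⟨hb, hb'⟩
          refine ⟨mul_mem ha hb, ?_⟩
          have h2 : ⁅g, a * b⁆ = ⁅g, a⁆ * (a * ⁅g, b⁆ * a⁻¹) := by
            simp only [commutatorElement_def]; group
          show ⁅g, a * b⁆ ∈ RGD.Sup X Q₃
          rw [h2]
          exact mul_mem ha' (h3.conj S hs (hp2 ha) hb')
        inv_mem' := by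
          rintro a ⟨ha, ha'⟩
          refine ⟨inv_mem ha, ?_⟩
          have h2 : ⁅g, a⁻¹⁆ = a⁻¹ * (⁅g, a⁆)⁻¹ * a⁻¹⁻¹ := by
            simp only [commutatorElement_def]; group
          show ⁅g, a⁻¹⁆ ∈ RGD.Sup X Q₃
          rw [h2]
          exact h3.conj S hs (hp2 (inv_mem ha)) (inv_mem ha') }
    have h4 : RGD.Sup X Q₂ ≤ L := by
      refine RGD.Sup_le fun y hy v hv => ⟨RGD.le_Sup hy hv, ?_⟩
      rcases comm_cases S hs (h1 hx) (h2 hy) hg hv with h5 | ⟨h5, h6⟩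
      · rw [h5]
        exact one_mem _
      · exact RGD.le_Sup (h12 x hx y hy h5) h6
    exact (h4 hv).2
  let L : Subgroup Y :=
    { carrier := {g | g ∈ RGD.Sup X Q₁ ∧ ∀ v ∈ RGD.Sup X Q₂, ⁅g, v⁆ ∈ RGD.Sup X Q₃}
      one_mem' := ⟨one_mem _, fun v _ => by rw [commutatorElement_one_left]; exact one_mem _⟩
      mul_mem' := by
        rintro a b ⟨ha, ha'⟩ ⟨hb, hb'⟩
        refine ⟨mul_mem ha hb, fun v hv => ?_⟩
        have h2 : ⁅a * b, v⁆ = (a * ⁅b, v⁆ * a⁻¹) * ⁅a, v⁆ := by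
          simp only [commutatorElement_def]; group
        rw [h2]
        exact mul_mem (h3.conj S hs (hp1 ha) (hb' v hv)) (ha' v hv)
      inv_mem' := by
        rintro a ⟨ha, ha'⟩
        refine ⟨inv_mem ha, fun v hv => ?_⟩
        have h2 : ⁅a⁻¹, v⁆ = a⁻¹ * (⁅a, v⁆)⁻¹ * a⁻¹⁻¹ := by
          simp only [commutatorElement_def]; group
        rw [h2]
        exact h3.conj S hs (hp1 (inv_mem ha)) (inv_mem (ha' v hv)) }
  have h4 : RGD.Sup X Q₁ ≤ L := RGD.Sup_le fun x hx g hg => ⟨RGD.le_Sup hx hg, key x hx g hg⟩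
  exact (h4 hu).2 v hv

omit S in
theorem Ideal.inf (R : RGD cs h 2 T n X) {Q₁ Q₂ : Set (I → ℤ)} (h1 : Ideal cs h Q₁) (h2 : Ideal cs h Q₂) {z : Y}
    (hz1 : z ∈ RGD.Sup X Q₁) (hz2 : z ∈ RGD.Sup X Q₂) : z ∈ RGD.Sup X (Q₁ ∩ Q₂) := by
  have h3 := Nodes.Unique.inf_eq R h1.pos h2.pos (h1.closed hs) (h2.closed hs)
  rw [← h3]
  exact ⟨hz1, hz2⟩

omit S in
theorem inf_single (R : RGD cs h 2 T n X) {Q : Set (I → ℤ)} (hQ : Ideal cs h Q) {r : I → ℤ} (hr : r ∈ RGD.Pos cs h)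
    (hrQ : r ∉ Q) {z : Y} (hz : z ∈ X r) (hz' : z ∈ RGD.Sup X Q) : z = 1 := by
  have h1 : Nodes.Unique.Closed cs h ({r} : Set (I → ℤ)) := by
    rintro _ rfl _ rfl z hz
    exact Nodes.Unique.btwn_self hr.1 hz
  have h3 := Nodes.Unique.inf_eq R (S := {r}) (Set.singleton_subset_iff.2 hr) hQ.pos h1 (hQ.closed hs)
  have h4 : z ∈ RGD.Sup X {r} ⊓ RGD.Sup X Q := ⟨RGD.le_Sup (Set.mem_singleton r) hz, hz'⟩
  have h5 : ({r} : Set (I → ℤ)) ∩ Q = ∅ := by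
    ext x
    simp only [Set.mem_inter_iff, Set.mem_singleton_iff, Set.mem_empty_iff_false, iff_false]
    rintro ⟨rfl, h6⟩
    exact hrQ h6
  rw [h3, h5, Sup_empty] at h4
  exact Subgroup.mem_bot.1 h4

end Ideal

/-! ### Polarities -/

section Pol

variable [Finite W] {R : RGD cs h 2 T n X} (S : Sys R e) (hs : SL cs h)

/-- the roots not below `δ`, together with the roots above `r` -/
def NI (cs : CoxeterSystem M W) (h : IsCartan M A) (δ r : I → ℤ) : Set (I → ℤ) :=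
  {d | d ∈ RGD.Pos cs h ∧ (¬ d ≤ δ ∨ r ≤ d)}

theorem ideal_NI (δ r : I → ℤ) : Ideal cs h (NI cs h δ r) where
  pos _ hd := hd.1
  add := by
    rintro x ⟨hx, hx1⟩ y hy hxy
    have h1 : x ≤ x + y := le_add_of_nonneg_right hy.2
    refine ⟨pos_add hx hy hxy, ?_⟩
    rcases hx1 with h2 | h2
    · exact Or.inl fun h3 => h2 (h1.trans h3)
    · exact Or.inr (h2.trans h1)

/-- the roots not below `δ` -/
def NO (cs : CoxeterSystem M W) (h : IsCartan M A) (δ : I → ℤ) : Set (I → ℤ) := {d | d ∈ RGD.Pos cs h ∧ ¬ d ≤ δ}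

theorem ideal_NO (δ : I → ℤ) : Ideal cs h (NO cs h δ) where
  pos _ hd := hd.1
  add := by
    rintro x ⟨hx, hx1⟩ y hy hxy
    exact ⟨pos_add hx hy hxy, fun h3 => hx1 ((le_add_of_nonneg_right hy.2).trans h3)⟩

include S hs

/-- **Polarities are vacuous on the middle root.** -/
theorem pol_core {u : Y} (hu : u ∈ RGD.Sup X (RGD.Pos cs h)) {φ : MulAut Y} {σ : Equiv.Perm I}
    (hσp : ∀ d ∈ RGD.Pos cs h, d ∘ σ.symm ∈ RGD.Pos cs h)
    (hφ : ∀ d ∈ RGD.Pos cs h, ∀ y ∈ X d, u * φ y * u⁻¹ ∈ X (d ∘ σ.symm)) {r r' : I → ℤ} (hr : r ∈ RGD.Pos cs h)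
    (hr' : r' ∈ RGD.Pos cs h) (e1 : r ∘ σ.symm = r') (e2 : r' ∘ σ.symm = r) (hc : cpr cs h r r' = -1)
    (hfix : ∀ z ∈ X (r + r'), u * φ z * u⁻¹ = z) (hdis : ∀ i, r i = 0 ∨ r' i = 0) {a b : K} {z : Y}
    (hz : z ∈ X (r + r')) (hx : φ (e r a * e r' b * z) = e r a * e r' b * z) (hx2 : φ (φ (e r a)) = e r a) :
    a = 0 ∧ b = 0 := by
  set δ := r + r' with hδ
  have hδr : IsRoot cs h δ := RgdSL.isRoot_add hr.1 hr'.1 hc
  have hδp : δ ∈ RGD.Pos cs h := pos_add hr hr' hδr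
  have hδσ : δ ∘ σ.symm = δ := by
    have h1 : δ ∘ σ.symm = r ∘ σ.symm + r' ∘ σ.symm := rfl
    rw [h1, e1, e2, add_comm]
  have hp : ∀ {Q : Set (I → ℤ)}, Ideal cs h Q → RGD.Sup X Q ≤ RGD.Sup X (RGD.Pos cs h) := fun hQ =>
    RGD.Sup_mono hQ.pos
  -- images of the ideals
  have himg : ∀ {Q Q' : Set (I → ℤ)}, Ideal cs h Q → Ideal cs h Q' → (∀ d ∈ Q, d ∘ σ.symm ∈ Q') →
      ∀ y ∈ RGD.Sup X Q, φ y ∈ RGD.Sup X Q' := by
    intro Q Q' hQ hQ' h1 y hy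
    have h2 : RGD.Sup X Q ≤ (RGD.Sup X Q').comap φ.toMonoidHom := by
      refine RGD.Sup_le fun d hd y hy => ?_
      show φ y ∈ RGD.Sup X Q'
      have h3 := hQ'.conj' S hs hu (RGD.le_Sup (h1 d hd) (hφ d (hQ.pos hd) y hy))
      have h4 : u⁻¹ * (u * φ y * u⁻¹) * u = φ y := by group
      rwa [h4] at h3
    exact h2 hy
  have hle : ∀ {d c : I → ℤ}, d ≤ c → d ∘ σ.symm ≤ c ∘ σ.symm := fun h1 i => h1 _
  have hle' : ∀ {d : I → ℤ}, d ∘ σ.symm ≤ δ → d ≤ δ := by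
    intro d h1 i
    have h2 := h1 (σ i)
    have h3 := congrFun hδσ (σ i)
    simp only [Function.comp_apply, Equiv.symm_apply_apply] at h2 h3
    rw [← h3] at h2
    simpa using h2
  have iN := ideal_NO (cs := cs) (h := h) δ
  have i1 := ideal_NI (cs := cs) (h := h) δ r
  have i2 := ideal_NI (cs := cs) (h := h) δ r'
  have iD := ideal_NI (cs := cs) (h := h) δ δ
  have gN : ∀ y ∈ RGD.Sup X (NO cs h δ), φ y ∈ RGD.Sup X (NO cs h δ) :=
    himg iN iN fun d hd => ⟨hσp d hd.1, fun h1 => hd.2 (hle' h1)⟩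
  have g1 : ∀ y ∈ RGD.Sup X (NI cs h δ r), φ y ∈ RGD.Sup X (NI cs h δ r') := by
    refine himg i1 i2 fun d hd => ⟨hσp d hd.1, ?_⟩
    rcases hd.2 with h1 | h1
    · exact Or.inl fun h2 => h1 (hle' h2)
    · right
      rw [← e1]
      exact hle h1
  have g2 : ∀ y ∈ RGD.Sup X (NI cs h δ r'), φ y ∈ RGD.Sup X (NI cs h δ r) := by
    refine himg i2 i1 fun d hd => ⟨hσp d hd.1, ?_⟩
    rcases hd.2 with h1 | h1
    · exact Or.inl fun h2 => h1 (hle' h2)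
    · right
      rw [← e2]
      exact hle h1
  have gD : ∀ y ∈ RGD.Sup X (NI cs h δ δ), φ y ∈ RGD.Sup X (NI cs h δ δ) := by
    refine himg iD iD fun d hd => ⟨hσp d hd.1, ?_⟩
    rcases hd.2 with h1 | h1
    · exact Or.inl fun h2 => h1 (hle' h2)
    · right
      rw [← hδσ]
      exact hle h1
  -- inclusions
  have hN1 : RGD.Sup X (NO cs h δ) ≤ RGD.Sup X (NI cs h δ r) := RGD.Sup_mono fun d hd => ⟨hd.1, Or.inl hd.2⟩
  have hND : RGD.Sup X (NO cs h δ) ≤ RGD.Sup X (NI cs h δ δ) := RGD.Sup_mono fun d hd => ⟨hd.1, Or.inl hd.2⟩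
  have hsum : ∀ d, r ≤ d → r' ≤ d → δ ≤ d := by
    intro d h1 h2 i
    have h3 : r i ≤ d i := h1 i
    have h4 : r' i ≤ d i := h2 i
    show r i + r' i ≤ d i
    rcases hdis i with h5 | h5 <;> omega
  have hinf : NI cs h δ r ∩ NI cs h δ r' = NI cs h δ δ := by
    ext d
    constructor
    · rintro ⟨⟨h1, h2⟩, -, h3⟩
      refine ⟨h1, ?_⟩
      rcases h2 with h2 | h2
      · exact Or.inl h2
      rcases h3 with h3 | h3
      · exact Or.inl h3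
      exact Or.inr (hsum d h2 h3)
    · rintro ⟨h1, h2⟩
      rcases h2 with h2 | h2
      · exact ⟨⟨h1, Or.inl h2⟩, h1, Or.inl h2⟩
      · exact ⟨⟨h1, Or.inr ((le_add_of_nonneg_right hr'.2).trans h2)⟩, h1,
          Or.inr ((le_add_of_nonneg_left hr.2).trans h2)⟩
  -- commutators
  have c12 : ∀ {v w : Y}, v ∈ RGD.Sup X (NI cs h δ r) → w ∈ RGD.Sup X (NI cs h δ r') →
      ⁅v, w⁆ ∈ RGD.Sup X (NI cs h δ δ) := by
    intro v w hv hw
    refine comm_le S hs i1.pos i2.pos iD (fun x hx y hy hxy => ?_) hv hw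
    refine ⟨pos_add hx.1 hy.1 hxy, ?_⟩
    rcases hx.2 with h1 | h1
    · exact Or.inl fun h2 => h1 ((le_add_of_nonneg_right hy.1.2).trans h2)
    rcases hy.2 with h2 | h2
    · exact Or.inl fun h3 => h2 ((le_add_of_nonneg_left hx.1.2).trans h3)
    · exact Or.inr (add_le_add h1 h2)
  have cD : ∀ {v w : Y}, v ∈ RGD.Sup X (RGD.Pos cs h) → w ∈ RGD.Sup X (NI cs h δ δ) →
      ⁅v, w⁆ ∈ RGD.Sup X (NO cs h δ) := by
    intro v w hv hw
    refine comm_le S hs (fun _ hx => hx) iD.pos iN (fun x hx y hy hxy => ?_) hv hw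
    refine ⟨pos_add hx hy.1 hxy, fun h3 => ?_⟩
    rcases hy.2 with h2 | h2
    · exact h2 ((le_add_of_nonneg_left hx.2).trans h3)
    · have h4 : x + y ≤ y := h3.trans h2
      have h5 : x ≤ 0 := by
        intro i
        have := h4 i
        simp only [Pi.add_apply, Pi.zero_apply] at this ⊢
        omega
      exact hx.1.ne_zero (le_antisymm h5 hx.2)
  -- `φ w` and `w`
  have hDw : ∀ w ∈ RGD.Sup X (NI cs h δ δ), φ w * w⁻¹ ∈ RGD.Sup X (NO cs h δ) := by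
    let L : Subgroup Y :=
      { carrier := {w | w ∈ RGD.Sup X (NI cs h δ δ) ∧ φ w * w⁻¹ ∈ RGD.Sup X (NO cs h δ)}
        one_mem' := ⟨one_mem _, by rw [map_one, inv_one, mul_one]; exact one_mem _⟩
        mul_mem' := by
          rintro v w ⟨hv, hv'⟩ ⟨hw, hw'⟩
          refine ⟨mul_mem hv hw, ?_⟩
          have h1 : φ (v * w) * (v * w)⁻¹ = (φ v * (φ w * w⁻¹) * (φ v)⁻¹) * (φ v * v⁻¹) := by
            rw [map_mul]; group
          show φ (v * w) * (v * w)⁻¹ ∈ RGD.Sup X (NO cs h δ)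
          rw [h1]
          exact mul_mem (iN.conj S hs (hp iD (gD v hv)) hw') hv'
        inv_mem' := by
          rintro v ⟨hv, hv'⟩
          refine ⟨inv_mem hv, ?_⟩
          have h1 : φ v⁻¹ * v⁻¹⁻¹ = (φ v)⁻¹ * (φ v * v⁻¹)⁻¹ * φ v := by
            rw [map_inv]; group
          show φ v⁻¹ * v⁻¹⁻¹ ∈ RGD.Sup X (NO cs h δ)
          rw [h1]
          exact iN.conj' S hs (hp iD (gD v hv)) (inv_mem hv') }
    have h1 : RGD.Sup X (NI cs h δ δ) ≤ L := by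
      refine RGD.Sup_le fun d hd w hw => ⟨RGD.le_Sup hd hw, ?_⟩
      by_cases h2 : d ≤ δ
      · have h3 : d = δ := by
          rcases hd.2 with h4 | h4
          · exact absurd h2 h4
          · exact le_antisymm h2 h4
        subst h3
        have h4 := hfix w hw
        have h5 : φ w * w⁻¹ = u⁻¹ * (w * u * w⁻¹ * u⁻¹) * u := by
          have : φ w = u⁻¹ * w * u := by
            conv_rhs => rw [← h4]
            group
          rw [this]; group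
        rw [h5]
        have h6 : w * u * w⁻¹ * u⁻¹ = ⁅u, w⁆⁻¹ := by rw [commutatorElement_def]; group
        rw [h6]
        exact iN.conj' S hs hu (inv_mem (cD hu (RGD.le_Sup hd hw)))
      · have h3 : w ∈ RGD.Sup X (NO cs h δ) := RGD.le_Sup (S := NO cs h δ) ⟨hd.1, h2⟩ hw
        exact mul_mem (gN w h3) (inv_mem h3)
    exact fun w hw => (h1 hw).2
  obtain ⟨p, hpd⟩ : ∃ p, p = e r a := ⟨_, rfl⟩
  obtain ⟨q, hqd⟩ : ∃ q, q = e r' b := ⟨_, rfl⟩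
  have hpX : p ∈ X r := by rw [hpd]; exact S.mem hr.1 a
  have hqX : q ∈ X r' := by rw [hqd]; exact S.mem hr'.1 b
  have hp1 : p ∈ RGD.Sup X (NI cs h δ r) := RGD.le_Sup (S := NI cs h δ r) ⟨hr, Or.inr le_rfl⟩ hpX
  have hq2 : q ∈ RGD.Sup X (NI cs h δ r') := RGD.le_Sup (S := NI cs h δ r') ⟨hr', Or.inr le_rfl⟩ hqX
  have hzD : z ∈ RGD.Sup X (NI cs h δ δ) := RGD.le_Sup (S := NI cs h δ δ) ⟨hδp, Or.inr le_rfl⟩ hz
  rw [← hpd, ← hqd, map_mul, map_mul] at hx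
  rw [← hpd] at hx2
  obtain ⟨n₁, hn₁d⟩ : ∃ n₁, n₁ = z * (φ z)⁻¹ := ⟨_, rfl⟩
  have hn₁ : n₁ ∈ RGD.Sup X (NO cs h δ) := by
    have := inv_mem (hDw z hzD)
    have h2 : (φ z * z⁻¹)⁻¹ = z * (φ z)⁻¹ := by group
    rwa [h2, ← hn₁d] at this
  have hxx : φ p * φ q = p * q * n₁ := by
    rw [hn₁d]
    calc φ p * φ q = φ p * φ q * φ z * (φ z)⁻¹ := by group
      _ = _ := by rw [hx]; group
  -- `w`
  obtain ⟨w, hwd⟩ : ∃ w, w = q⁻¹ * φ p := ⟨_, rfl⟩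
  have hw2 : w ∈ RGD.Sup X (NI cs h δ r') := by
    rw [hwd]
    exact mul_mem (inv_mem hq2) (g1 p hp1)
  have hw1 : w ∈ RGD.Sup X (NI cs h δ r) := by
    have h1 : w = (q⁻¹ * p * q) * n₁ * (φ q)⁻¹ := by
      rw [hwd]
      calc q⁻¹ * φ p = q⁻¹ * (φ p * φ q) * (φ q)⁻¹ := by group
        _ = _ := by rw [hxx]; group
    rw [h1]
    exact mul_mem (mul_mem (i1.conj' S hs (hp i2 hq2) hp1) (hN1 hn₁)) (inv_mem (g2 q hq2))
  have hwD : w ∈ RGD.Sup X (NI cs h δ δ) := by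
    rw [← hinf]
    exact Ideal.inf hs R i1 i2 hw1 hw2
  have hφp : φ p = q * w := by rw [hwd]; group
  have hφq : φ q = w⁻¹ * q⁻¹ * p * q * n₁ := by
    calc φ q = (φ p)⁻¹ * (φ p * φ q) := by group
      _ = _ := by rw [hxx, hφp]; group
  rw [hφp, map_mul, hφq] at hx2
  -- `hx2 : w⁻¹ * q⁻¹ * p * q * n₁ * φ w = p`
  have hn₂ := hDw w hwD
  obtain ⟨n₂, hn₂d⟩ : ∃ n₂, n₂ = φ w * w⁻¹ := ⟨_, rfl⟩
  rw [← hn₂d] at hn₂
  have hφw : φ w = n₂ * w := by rw [hn₂d]; group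
  rw [hφw] at hx2
  have hpU : p ∈ RGD.Sup X (RGD.Pos cs h) := hp i1 hp1
  have h1 : ⁅q⁻¹, p⁆ ∈ RGD.Sup X (NO cs h δ) := by
    have h2 : q⁻¹ * p * q = w * p * w⁻¹ * (n₁ * n₂)⁻¹ := by
      have h3 : q⁻¹ * p * q * (n₁ * n₂) = w * p * w⁻¹ := by
        calc q⁻¹ * p * q * (n₁ * n₂) = w * (w⁻¹ * q⁻¹ * p * q * n₁ * (n₂ * w)) * w⁻¹ := by group
          _ = _ := by rw [hx2]
      rw [← h3]; group
    have h4 : ⁅q⁻¹, p⁆ = ⁅p, w⁆⁻¹ * (p * (n₁ * n₂)⁻¹ * p⁻¹) := by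
      rw [commutatorElement_def, inv_inv, h2, commutatorElement_def]
      group
    rw [h4]
    exact mul_mem (inv_mem (cD hpU hwD)) (iN.conj S hs hpU (inv_mem (mul_mem hn₁ hn₂)))
  have h2 : ⁅q⁻¹, p⁆ = e δ (b * a) := by
    have h3 : cpr cs h r' r = -1 := by rw [← hs r r' hr.1 hr'.1, hc]
    rw [hqd, hpd, S.data.inv hr'.1, S.data.comm1 r' r hr'.1 hr.1 h3 hc, hδ, add_comm r' r]
  rw [h2] at h1
  have h3 : b * a = 0 := S.data.inj δ hδr _ (inf_single hs R iN hδp (fun h4 => h4.2 le_rfl) (S.mem hδr _) h1)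
  have hrD : r ∉ NI cs h δ δ := by
    rintro ⟨-, h4 | h4⟩
    · exact h4 (le_add_of_nonneg_right hr'.2)
    · apply hr'.1.ne_zero
      refine le_antisymm (fun i => ?_) hr'.2
      have := h4 i
      simp only [hδ, Pi.add_apply, Pi.zero_apply] at this ⊢
      omega
  have hrD' : r' ∉ NI cs h δ δ := by
    rintro ⟨-, h4 | h4⟩
    · exact h4 (le_add_of_nonneg_left hr.2)
    · apply hr.1.ne_zero
      refine le_antisymm (fun i => ?_) hr.2
      have := h4 i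
      simp only [hδ, Pi.add_apply, Pi.zero_apply] at this ⊢
      omega
  rcases mul_eq_zero.1 h3 with h4 | h4
  · -- `q = 1`
    have hq1 : q = 1 := by rw [hqd, h4, S.data.zero hr'.1]
    rw [hq1, one_mul] at hφp
    have h5 : p ∈ RGD.Sup X (NI cs h δ δ) := by
      have h6 := gD w hwD
      rw [← hφp] at h6
      have h7 : φ (φ p) = p := by
        rw [hφp, hφw]
        rw [hq1] at hx2
        have h8 : w⁻¹ * p * n₁ * (n₂ * w) = p := by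
          calc w⁻¹ * p * n₁ * (n₂ * w) = w⁻¹ * (1 : Y)⁻¹ * p * 1 * n₁ * (n₂ * w) := by group
            _ = p := hx2
        have h9 : φ q = w⁻¹ * p * n₁ := by rw [hφq, hq1]; group
        rw [hq1, map_one] at h9
        calc n₂ * w = 1 * (n₂ * w) := by group
          _ = w⁻¹ * p * n₁ * (n₂ * w) := by rw [← h9]
          _ = p := h8
      rwa [h7] at h6
    have h6 := inf_single hs R iD hr hrD hpX h5
    rw [hpd] at h6
    exact ⟨S.data.inj r hr.1 _ h6, h4⟩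
  · have hp1' : p = 1 := by rw [hpd, h4, S.data.zero hr.1]
    rw [hp1', map_one] at hφp
    have h5 : q ∈ RGD.Sup X (NI cs h δ δ) := by
      have h6 : q = w⁻¹ := by
        rw [eq_inv_iff_mul_eq_one]
        exact hφp.symm
      rw [h6]
      exact inv_mem hwD
    have h6 := inf_single hs R iD hr' hrD' hqX h5
    rw [hqd] at h6
    exact ⟨h4, S.data.inj r' hr'.1 _ h6⟩

end Pol

/-! ### In an overgroup -/

section Over

variable {G : Type*} [Group G] [Finite G] {K₀ S : Subgroup G} [Finite W] [Finite K] [Nonempty I] [CharP K 2]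
  {R : RGD cs h 2 T n X} {S' : Sys R e} (H : Hyp cs h T X) {l : MulAut Y →* Equiv.Perm I × (K ≃+* K)}
  (L : IsOut S' l) {f : Y →* G}

include H L

/-- **Polarities are vacuous on the middle root.** -/
theorem pol_vac (hs : SL cs h) (D : Std cs h X K₀ S f) {y : G} (hy : y ∈ S) {φ : MulAut Y} (hφ : Acts f y φ)
    (hl : (l φ).2 = 1) {r r' : I → ℤ} (hr : r ∈ RGD.Pos cs h) (hr' : r' ∈ RGD.Pos cs h)
    (e1 : r ∘ (l φ).1.symm = r') (e2 : r' ∘ (l φ).1.symm = r) (hc : cpr cs h r r' = -1) (hyy : y * y = 1) {a b : K}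
    {z : Y} (hz : z ∈ X (r + r')) (hx : f (e r a * e r' b * z) * y = y * f (e r a * e r' b * z)) : a = 0 ∧ b = 0 := by
  have : Fact (Nat.Prime 2) := ⟨Nat.prime_two⟩
  have hY : Finite Y := Finite.of_injective f D.inj
  obtain ⟨u, hu, B, hp⟩ := exists_frameU H L (D.fix hy hφ)
  obtain ⟨k, hk⟩ := D.exists_pow hy hφ
  have hM := matrix_of H L φ
  have hA := H.cart _ hM
  have hδ : IsRoot cs h (r + r') := RgdSL.isRoot_add hr.1 hr'.1 hc
  have hδσ : (r + r') ∘ (l φ).1.symm = r + r' := by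
    have h1 : (r + r') ∘ (l φ).1.symm = r ∘ (l φ).1.symm + r' ∘ (l φ).1.symm := rfl
    rw [h1, e1, e2, add_comm]
  obtain ⟨a₀, ha₀, h1⟩ := Tau.pure R (coords S' H.gen) B (hp _ hk) hδ hδσ
  refine pol_core S' hs hu (φ := φ) (σ := (l φ).1) (fun d hd => pos_comp hM hA hd) (fun d hd v hv => ?_) hr hr' e1 e2 hc
    (fun v hv => ?_) (disj hs H.conn hA hr.1 hr'.1 hr.2 hr'.2 e1 e2 hc) hz ?_ ?_
  · obtain ⟨t, rfl⟩ := (S'.mem_X d hd.1 v).1 hv
    obtain ⟨c, hc0, hβ⟩ := Tau.root R (coords S' H.gen) B hd.1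
    have h2 := hβ t
    rw [MulAut.mul_apply, MulAut.conj_apply] at h2
    rw [h2]
    exact S'.mem (pos_comp hM hA hd).1 _
  · obtain ⟨t, rfl⟩ := (S'.mem_X _ hδ v).1 hv
    have h2 := h1 (a₀⁻¹ * t)
    rw [hl, RingAut.one_apply, mul_inv_cancel_left₀ ha₀, MulAut.mul_apply, MulAut.conj_apply] at h2
    exact h2
  · apply D.inj
    rw [hφ, ← hx, mul_inv_cancel_right]
  · apply D.inj
    rw [hφ, hφ]
    calc y * (y * f (e r a) * y⁻¹) * y⁻¹ = (y * y) * f (e r a) * (y * y)⁻¹ := by group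
      _ = _ := by rw [hyy, one_mul, inv_one, mul_one]

end Over

end Cfsg.Agent.KFacts.SysPol
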