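import Mathlib
import Cfsg.Agent.KFacts.SysPol

/-!
# Diagonal lines (ODD, D4, (k3))

`Sys R e`, simply laced. `r, r'` positive roots of the same height.

* `star_diag` : `u ∈ U` commuting with `e r a * e r' b` and `e r' b * e r a`, `a, b ≠ 0`, commutes with
  `e r (t a) * e r' (t b)` and `e r' (t b) * e r (t a)` for all `t`;
* `star_orth` (`⟨r, r'⟩ = 0`), `star_mid` (`⟨r, r'⟩ = -1`).
-/

set_option autoImplicit false
set_option linter.unusedSectionVars false

namespace Cfsg.Agent.KFacts.SysMid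

open CoxeterSystem Cfsg.Agent.ChevalleyStructure.CoxeterGeom Cfsg.Agent.Tits.Roots Cfsg.Agent.Tits.Core
  Cfsg.Agent.Tits.Exchange Cfsg.Agent.Nodes.Reps Cfsg.Agent.Nodes.BNOf Cfsg.Agent.Nodes.StabComb
  Cfsg.Agent.Nodes.Bruhat Cfsg.Agent.Nodes.OppDec Cfsg.Agent.Nodes.LeviDec Cfsg.Agent.Nodes.NormalForm
  Cfsg.Agent.Nodes.Coroot Cfsg.Agent.Nodes.PosPair Cfsg.Agent.KFacts.RgdPar Cfsg.Agent.KFacts.RgdTI
  Cfsg.Agent.KFacts.RgdOpp Cfsg.Agent.KFacts.RgdAut Cfsg.Agent.KFacts.RgdDiag Cfsg.Agent.KFacts.RgdRigid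
  Cfsg.Agent.KFacts.RgdCent Cfsg.Agent.KFacts.RgdKap Cfsg.Agent.KFacts.RgdField Cfsg.Agent.KFacts.RgdTau
  Cfsg.Agent.KFacts.RgdSys Cfsg.Agent.KFacts.RgdOver Cfsg.Agent.KFacts.RgdPure Cfsg.Agent.KFacts.ChevTwo
  Cfsg.Agent.KFacts.SysOut Cfsg.Agent.KFacts.SysLine Cfsg.Agent.KFacts.SysFlt Cfsg.Agent.KFacts.SLRow.Diag
  Cfsg.Agent.KFacts.SysFree Cfsg.Agent.KFacts.SysFltS Cfsg.Agent.OddHalf.D4.Free Cfsg.Agent.KFacts.RootDisj
  Cfsg.Agent.KFacts.SysPol
open Cfsg.Agent.KFacts.RgdSL (SL)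
open scoped commutatorElement

variable {I W Y K : Type*} [Fintype I] [DecidableEq I] [Group W] [Group Y] [Field K] {M : CoxeterMatrix I}
variable {cs : CoxeterSystem M W} {A : I → I → ℤ} {h : IsCartan M A} {e : (I → ℤ) → K → Y}
  {T : Subgroup Y} {n : I → Y} {X : (I → ℤ) → Subgroup Y}

/-- `w` commutes with `p q` and `q p` -/
def Cm (w p q : Y) : Prop := w * (p * q) = p * q * w ∧ w * (q * p) = q * p * w

theorem Cm.symm {w p q : Y} (H : Cm w p q) : Cm w q p := ⟨H.2, H.1⟩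

theorem Cm.mul {w v p q : Y} (H : Cm w p q) (H' : Cm v p q) : Cm (w * v) p q := by
  refine ⟨?_, ?_⟩
  · rw [mul_assoc, H'.1, ← mul_assoc, H.1]; group
  · rw [mul_assoc, H'.2, ← mul_assoc, H.2]; group

theorem Cm.of_mul {w v p q : Y} (H : Cm w p q) (H' : Cm (w * v) p q) : Cm v p q := by
  refine ⟨?_, ?_⟩
  · have h1 : w * (v * (p * q)) = w * (p * q * v) := by
      rw [← mul_assoc, H'.1, ← mul_assoc w (p * q) v, H.1]; group
    exact mul_left_cancel h1
  · have h1 : w * (v * (q * p)) = w * (q * p * v) := by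
      rw [← mul_assoc, H'.2, ← mul_assoc w (q * p) v, H.2]; group
    exact mul_left_cancel h1

theorem Cm.one (p q : Y) : Cm (1 : Y) p q := ⟨by group, by group⟩

theorem Cm.of_comm {w p q : Y} (h1 : w * p = p * w) (h2 : w * q = q * w) : Cm w p q := by
  refine ⟨?_, ?_⟩
  · rw [← mul_assoc, h1, mul_assoc, h2, mul_assoc]
  · rw [← mul_assoc, h2, mul_assoc, h1, mul_assoc]

/-- the commutator of `g g'` and `p q` -/
theorem comm_four {g g' p q k k' : Y} (hgq : g * q = q * g) (hgp' : g' * p = p * g') (hgp : g * p = k * p * g)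
    (hgq' : g' * q = k' * q * g') (h1 : k' * g = g * k') (h2 : k' * p = p * k') :
    g * g' * (p * q) = k * k' * (p * q) * (g * g') := by
  calc g * g' * (p * q) = g * (g' * p) * q := by group
    _ = (g * p) * (g' * q) := by rw [hgp']; group
    _ = k * p * (g * k') * q * g' := by rw [hgp, hgq']; group
    _ = k * (p * k') * (g * q) * g' := by rw [← h1]; group
    _ = _ := by rw [← h2, hgq]; group

theorem cm_four {g g' p q k : Y} (hgq : g * q = q * g) (hgp' : g' * p = p * g') (hgp : g * p = k * p * g)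
    (hgq' : g' * q = k * q * g') (h1 : k * g = g * k) (h2 : k * p = p * k) (h1' : k * g' = g' * k)
    (h2' : k * q = q * k) (hk : k * k = 1) : Cm (g * g') p q := by
  refine ⟨?_, ?_⟩
  · rw [comm_four hgq hgp' hgp hgq' h1 h2, hk, one_mul]
  · calc g * g' * (q * p) = g * (g' * q) * p := by group
      _ = (g * k) * q * (g' * p) := by rw [hgq']; group
      _ = k * (g * q) * p * g' := by rw [← h1, hgp']; group
      _ = k * q * (g * p) * g' := by rw [hgq]; group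
      _ = k * (q * k) * p * g * g' := by rw [hgp]; group
      _ = (k * k) * (q * p) * (g * g') := by rw [← h2']; group
      _ = _ := by rw [hk, one_mul]

/-- roots of height `> i` -/
def HS (cs : CoxeterSystem M W) (h : IsCartan M A) (i : ℕ) : Set (I → ℤ) :=
  {r | r ∈ RGD.Pos cs h ∧ (i : ℤ) < ht r}

theorem ideal_btw {Q : Set (I → ℤ)} {i : ℕ} (h1 : HS cs h (i + 1) ⊆ Q) (h2 : Q ⊆ HS cs h i) : Ideal cs h Q where
  pos _ hx := (h2 hx).1
  add := by
    intro x hx y hy hxy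
    refine h1 ⟨pos_add (h2 hx).1 hy hxy, ?_⟩
    have h3 := (h2 hx).2
    have h4 := ht_pos hy
    rw [ht_add]
    push_cast
    omega

section Step

variable [Finite W] {R : RGD cs h 2 T n X} (S : Sys R e) (hs : SL cs h)

include S hs

/-- splitting off a root -/
theorem exists_dec {Q : Set (I → ℤ)} {d : I → ℤ} (hd : d ∈ RGD.Pos cs h) (hQ : Ideal cs h (Q \ {d})) {u : Y}
    (hu : u ∈ RGD.Sup X Q) : ∃ c : K, ∃ v ∈ RGD.Sup X (Q \ {d}), u = e d c * v := by
  have hXU : X d ≤ RGD.Sup X (RGD.Pos cs h) := RGD.le_Sup hd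
  have hmem : ∀ c, e d c ∈ RGD.Sup X (RGD.Pos cs h) := fun c => hXU (S.mem hd.1 c)
  let L : Subgroup Y :=
    { carrier := {u | ∃ c : K, ∃ v ∈ RGD.Sup X (Q \ {d}), u = e d c * v}
      one_mem' := ⟨0, 1, one_mem _, by rw [S.data.zero hd.1, one_mul]⟩
      mul_mem' := by
        rintro _ _ ⟨c, v, hv, rfl⟩ ⟨c', v', hv', rfl⟩
        refine ⟨c + c', (e d c')⁻¹ * v * e d c' * v', mul_mem (hQ.conj' S hs (hmem c') hv) hv', ?_⟩
        rw [S.data.add d hd.1]
        group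
      inv_mem' := by
        rintro _ ⟨c, v, hv, rfl⟩
        refine ⟨c, e d c * v⁻¹ * (e d c)⁻¹, hQ.conj S hs (hmem c) (inv_mem hv), ?_⟩
        have h1 := S.data.sq hd.1 c
        calc (e d c * v)⁻¹ = v⁻¹ * (e d c)⁻¹ := by group
          _ = (e d c * e d c) * (v⁻¹ * (e d c)⁻¹) := by rw [h1, one_mul]
          _ = _ := by group }
  have h1 : RGD.Sup X Q ≤ L := by
    refine RGD.Sup_le fun x hx v hv => ?_
    by_cases hxd : x = d
    · subst hxd
      obtain ⟨c, rfl⟩ := (S.mem_X x hd.1 v).1 hv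
      exact ⟨c, 1, one_mem _, by rw [mul_one]⟩
    · exact ⟨0, v, RGD.le_Sup (S := Q \ {d}) ⟨hx, hxd⟩ hv, by rw [S.data.zero hd.1, one_mul]⟩
  exact h1 hu

/-- root elements with nonnegative pairing commute -/
theorem comm_e {x y : I → ℤ} (hx : IsRoot cs h x) (hy : IsRoot cs h y) (hc : 0 ≤ cpr cs h x y) (a b : K) :
    e x a * e y b = e y b * e x a := S.data.comm_of_nonneg hx hy hc a b

/-- root elements with pairing `-1` -/
theorem comm_e' {x y : I → ℤ} (hx : IsRoot cs h x) (hy : IsRoot cs h y) (hc : cpr cs h x y = -1) (a b : K) :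
    e x a * e y b = e (x + y) (a * b) * e y b * e x a := by
  have h1 : cpr cs h y x = -1 := by rw [← hs x y hx hy, hc]
  have h2 := S.data.comm1 x y hx hy hc h1 a b
  rw [commutatorElement_def] at h2
  rw [← h2]
  group

/-- **One step of the induction.** -/
theorem step {Q : Set (I → ℤ)} {i : ℕ} (hQ1 : HS cs h (i + 1) ⊆ Q) (hQ2 : Q ⊆ HS cs h i) {d : I → ℤ} (hd : d ∈ Q)
    (hdi : ht d = i + 1) {r r' : I → ℤ} (hr : r ∈ RGD.Pos cs h) (hr' : r' ∈ RGD.Pos cs h) (hrr : r ≠ r')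
    (hht : ht r = ht r') (hc0 : cpr cs h r r' ≤ 0) (hdr : cpr cs h d r = -1) {a b : K} (ha : a ≠ 0) (hb : b ≠ 0) {u : Y}
    (hu : u ∈ RGD.Sup X Q) (hux : u * (e r a * e r' b) = e r a * e r' b * u) :
    ∃ w v Q', u = w * v ∧ v ∈ RGD.Sup X Q' ∧ Q' ⊂ Q ∧ HS cs h (i + 1) ⊆ Q' ∧
      ∀ t, Cm w (e r (t * a)) (e r' (t * b)) := by
  have hdp : d ∈ RGD.Pos cs h := (hQ2 hd).1
  have hρ : IsRoot cs h (d + r) := RgdSL.isRoot_add hdp.1 hr.1 hdr
  obtain ⟨ρ, hρd⟩ : ∃ ρ, ρ = d + r := ⟨_, rfl⟩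
  rw [← hρd] at hρ
  have hρp : ρ ∈ RGD.Pos cs h := by rw [hρd] at hρ ⊢; exact pos_add hdp hr hρ
  have hρh : ht ρ = i + 1 + ht r := by rw [hρd, ht_add, hdi]
  -- the ideal `E`
  obtain ⟨E, hE⟩ : ∃ E : Set (I → ℤ), E = {z | z ∈ RGD.Pos cs h ∧ ht ρ ≤ ht z ∧ z ≠ ρ} := ⟨_, rfl⟩
  have iE : Ideal cs h E := by
    rw [hE]
    refine ⟨fun x hx => hx.1, fun x hx y hy hxy => ⟨pos_add hx.1 hy hxy, ?_, ?_⟩⟩
    · have h1 := hx.2.1
      have h2 := ht_pos hy
      rw [ht_add]; omega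
    · intro h3
      have h1 := hx.2.1
      have h2 := ht_pos hy
      have h4 : ht x + ht y = ht ρ := by rw [← ht_add, h3]
      omega
  have hρE : ∀ c : K, e ρ c ∈ RGD.Sup X E → c = 0 := fun c hc =>
    S.data.inj ρ hρ _ (inf_single hs R iE hρp (by rw [hE]; rintro ⟨-, -, h1⟩; exact h1 rfl) (S.mem hρ c) hc)
  -- splitting off `d`
  have hQd1 : HS cs h (i + 1) ⊆ Q \ {d} := fun x hx => ⟨hQ1 hx, fun h1 => by
    rw [Set.mem_singleton_iff] at h1
    have := hx.2
    rw [h1] at this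
    push_cast at this
    omega⟩
  have hQd2 : Q \ {d} ⊆ HS cs h i := fun x hx => hQ2 hx.1
  have iQd := ideal_btw hQd1 hQd2
  obtain ⟨c, v, hv, rfl⟩ := exists_dec S hs hdp iQd hu
  have hdU : ∀ c, e d c ∈ RGD.Sup X (RGD.Pos cs h) := fun c => RGD.le_Sup hdp (S.mem hdp.1 c)
  have hrU : ∀ c, e r c ∈ RGD.Sup X (RGD.Pos cs h) := fun c => RGD.le_Sup hr (S.mem hr.1 c)
  have hrU' : ∀ c, e r' c ∈ RGD.Sup X (RGD.Pos cs h) := fun c => RGD.le_Sup hr' (S.mem hr'.1 c)
  -- pairings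
  have c1 : cpr cs h ρ d = 1 := by
    rw [hρd, cpr_add cs h _ _ hdp.1, cpr_self cs h hdp.1, hs r d hr.1 hdp.1, hdr]; norm_num
  have c2 : cpr cs h ρ r = 1 := by rw [hρd, cpr_add cs h _ _ hr.1, cpr_self cs h hr.1, hdr]; norm_num
  -- elements without `ρ`-part
  have hlow : ∀ {Q'' : Set (I → ℤ)}, Q'' ⊆ HS cs h i → (∀ y ∈ Q'', y + r ≠ ρ ∧ y + r' ≠ ρ) →
      ∀ v ∈ RGD.Sup X Q'', ⁅v, e r a * e r' b⁆ ∈ RGD.Sup X E := by
    intro Q'' h1 h2 v hv
    have h3 : e r a * e r' b ∈ RGD.Sup X {x | x = r ∨ x = r'} :=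
      mul_mem (RGD.le_Sup (S := {x | x = r ∨ x = r'}) (Or.inl rfl) (S.mem hr.1 a))
        (RGD.le_Sup (S := {x | x = r ∨ x = r'}) (Or.inr rfl) (S.mem hr'.1 b))
    refine comm_le S hs (fun x hx => (h1 hx).1) (fun x hx => ?_) iE (fun x hx y hy hxy => ?_) hv h3
    · rcases hx with rfl | rfl
      · exact hr
      · exact hr'
    · have h4 := (h1 hx).2
      rw [hE]
      rcases hy with rfl | rfl
      · refine ⟨pos_add (h1 hx).1 hr hxy, ?_, (h2 x hx).1⟩
        rw [ht_add, hρh]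
        omega
      · refine ⟨pos_add (h1 hx).1 hr' hxy, ?_, (h2 x hx).2⟩
        rw [ht_add, hρh, hht]
        omega
  -- from the commutation to a commutator of the low part
  have hcl : ∀ {g v : Y}, g ∈ RGD.Sup X (RGD.Pos cs h) → g * v * (e r a * e r' b) = e r a * e r' b * (g * v) →
      ⁅v, e r a * e r' b⁆ ∈ RGD.Sup X E → ⁅g, e r a * e r' b⁆ ∈ RGD.Sup X E := by
    intro g v hg h1 h2
    have h3 : ⁅g, e r a * e r' b⁆ = g * ⁅v, e r a * e r' b⁆⁻¹ * g⁻¹ := by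
      simp only [commutatorElement_def]
      have h4 : e r a * e r' b = (g * v) * (e r a * e r' b) * (g * v)⁻¹ := by rw [h1]; group
      calc g * (e r a * e r' b) * g⁻¹ * (e r a * e r' b)⁻¹ =
          g * (e r a * e r' b) * g⁻¹ * ((g * v) * (e r a * e r' b) * (g * v)⁻¹)⁻¹ := by rw [← h4]
        _ = _ := by group
    rw [h3]
    exact iE.conj S hs hg (inv_mem h2)
  by_cases hd' : ∃ d' ∈ Q, d' + r' = ρ
  · obtain ⟨d', hd'Q, hd'ρ⟩ := hd'
    have hdd : d' ≠ d := by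
      rintro rfl
      apply hrr
      rw [hρd] at hd'ρ
      exact (add_left_cancel hd'ρ).symm
    have hdp' : d' ∈ RGD.Pos cs h := (hQ2 hd'Q).1
    have hd'h : ht d' = i + 1 := by
      have h1 : ht d' + ht r' = ht ρ := by rw [← ht_add, hd'ρ]
      omega
    -- pairings
    have hne : ∀ {x : I → ℤ}, x ∈ RGD.Pos cs h → (∃ y ∈ RGD.Pos cs h, x + y = ρ) → cpr cs h x ρ ≤ 1 := by
      rintro x hx ⟨y, hy, hxy⟩
      rcases hs.cases hx.1 hρ with ⟨h1, -⟩ | ⟨h1, -⟩ | ⟨-, -, -, h2⟩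
      · exfalso
        have h3 := ht_pos hy
        have h4 : ht x + ht y = ht ρ := by rw [← ht_add, hxy]
        rw [h1] at h4
        omega
      · exact absurd h1 (ne_neg hx hρp)
      · exact h2
    have c3 : cpr cs h d' r' = -1 := by
      have h1 : cpr cs h d' ρ + cpr cs h r' ρ = 2 := by
        rw [← cpr_add cs h _ _ hρ, hd'ρ, cpr_self cs h hρ]
      have h2 := hne hdp' ⟨r', hr', hd'ρ⟩
      have h3 := hne hr' ⟨d', hdp', by rw [add_comm, hd'ρ]⟩
      have h4 : cpr cs h ρ r' = 1 := by rw [hs ρ r' hρ hr'.1]; omega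
      rw [← hd'ρ, cpr_add cs h _ _ hr'.1, cpr_self cs h hr'.1] at h4
      omega
    have c4 : cpr cs h ρ d' = 1 := by
      rw [← hd'ρ, cpr_add cs h _ _ hdp'.1, cpr_self cs h hdp'.1, hs r' d' hr'.1 hdp'.1, c3]; norm_num
    have c5 : cpr cs h ρ r' = 1 := by rw [← hd'ρ, cpr_add cs h _ _ hr'.1, cpr_self cs h hr'.1, c3]; norm_num
    have c6 : 0 ≤ cpr cs h d r' := by
      have h1 : cpr cs h d r' + cpr cs h r r' = 1 := by rw [← cpr_add cs h _ _ hr'.1, ← hρd, c5]
      omega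
    have c7 : 0 ≤ cpr cs h d' r := by
      have h1 : cpr cs h d' r + cpr cs h r' r = 1 := by rw [← cpr_add cs h _ _ hr.1, hd'ρ, c2]
      rw [hs r' r hr'.1 hr.1] at h1
      omega
    -- splitting off `d'`
    have hQe1 : HS cs h (i + 1) ⊆ (Q \ {d}) \ {d'} := fun x hx => ⟨hQd1 hx, fun h1 => by
      rw [Set.mem_singleton_iff] at h1
      have := hx.2
      rw [h1] at this
      push_cast at this
      omega⟩
    have hQe2 : (Q \ {d}) \ {d'} ⊆ HS cs h i := fun x hx => hQd2 hx.1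
    have iQe := ideal_btw hQe1 hQe2
    obtain ⟨c', v', hv', rfl⟩ := exists_dec S hs hdp' iQe hv
    have hcomm : ∀ t : K, e d c * e d' c' * (e r (t * a) * e r' (t * b)) =
        e ρ (c * (t * a)) * e ρ (c' * (t * b)) * (e r (t * a) * e r' (t * b)) * (e d c * e d' c') := by
      intro t
      refine comm_four (comm_e S hs hdp.1 hr'.1 c6 _ _) (comm_e S hs hdp'.1 hr.1 c7 _ _) ?_ ?_
        (comm_e S hs hρ hdp.1 (by omega) _ _) (comm_e S hs hρ hr.1 (by omega) _ _)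
      · rw [hρd]; exact comm_e' S hs hdp.1 hr.1 hdr _ _
      · rw [← hd'ρ]; exact comm_e' S hs hdp'.1 hr'.1 c3 _ _
    have hdU' : ∀ c, e d' c ∈ RGD.Sup X (RGD.Pos cs h) := fun c => RGD.le_Sup hdp' (S.mem hdp'.1 c)
    have h1 : ⁅e d c * e d' c', e r a * e r' b⁆ ∈ RGD.Sup X E := by
      refine hcl (v := v') (mul_mem (hdU c) (hdU' c')) ?_ (hlow hQe2 (fun y hy => ⟨fun h1 => ?_, fun h1 => ?_⟩) v' hv')
      · rw [mul_assoc (e d c)]
        exact hux
      · apply hy.1.2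
        rw [Set.mem_singleton_iff]
        rw [hρd] at h1
        exact add_right_cancel h1
      · apply hy.2
        rw [Set.mem_singleton_iff]
        rw [← hd'ρ] at h1
        exact add_right_cancel h1
    have h2 : ⁅e d c * e d' c', e r a * e r' b⁆ = e ρ (c * a + c' * b) := by
      have h3 := hcomm 1
      rw [one_mul, one_mul] at h3
      rw [commutatorElement_def, h3, S.data.add ρ hρ]
      group
    rw [h2] at h1
    have h4 := hρE _ h1
    have h5 : c' * b = c * a := by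
      have h6 := S.data.two (c * a)
      have h7 : c * a + c' * b = c * a + c * a := by rw [h4, h6]
      exact add_left_cancel h7
    refine ⟨e d c * e d' c', v', (Q \ {d}) \ {d'}, by group, hv', ?_, hQe1, fun t => ?_⟩
    · exact ⟨fun x hx => hx.1.1, fun h6 => (h6 hd).1.2 rfl⟩
    · refine cm_four (k := e ρ (c * (t * a))) (comm_e S hs hdp.1 hr'.1 c6 _ _) (comm_e S hs hdp'.1 hr.1 c7 _ _) ?_ ?_
        (comm_e S hs hρ hdp.1 (by omega) _ _) (comm_e S hs hρ hr.1 (by omega) _ _)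
        (comm_e S hs hρ hdp'.1 (by omega) _ _) (comm_e S hs hρ hr'.1 (by omega) _ _) (S.data.sq hρ _)
      · rw [hρd]; exact comm_e' S hs hdp.1 hr.1 hdr _ _
      · have h6 : c * (t * a) = c' * (t * b) := by linear_combination (-t) * h5
        rw [h6, ← hd'ρ]; exact comm_e' S hs hdp'.1 hr'.1 c3 _ _
  · push Not at hd'
    have h1 : ⁅e d c, e r a * e r' b⁆ ∈ RGD.Sup X E := by
      refine hcl (v := v) (hdU c) hux (hlow hQd2 (fun y hy => ⟨fun h1 => ?_, fun h1 => ?_⟩) v hv)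
      · apply hy.2
        rw [Set.mem_singleton_iff]
        rw [hρd] at h1
        exact add_right_cancel h1
      · exact hd' y hy.1 h1
    have h2 : ⁅e d c, e r' b⁆ ∈ RGD.Sup X E := by
      rcases comm_cases S hs hdp hr' (S.mem hdp.1 c) (S.mem hr'.1 b) with h3 | ⟨h3, h4⟩
      · rw [h3]; exact one_mem _
      · refine RGD.le_Sup ?_ h4
        rw [hE]
        refine ⟨pos_add hdp hr' h3, ?_, hd' d hd⟩
        rw [ht_add, hρh, hht, hdi]
    have h3 : ⁅e d c, e r a * e r' b⁆ = e ρ (c * a) * (e r a * ⁅e d c, e r' b⁆ * (e r a)⁻¹) := by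
      have h4 := comm_e' S hs hdp.1 hr.1 hdr c a
      rw [← hρd] at h4
      simp only [commutatorElement_def]
      calc e d c * (e r a * e r' b) * (e d c)⁻¹ * (e r a * e r' b)⁻¹ =
          (e d c * e r a) * e r' b * (e d c)⁻¹ * (e r a * e r' b)⁻¹ := by group
        _ = _ := by rw [h4]; group
    rw [h3] at h1
    have h4 : e ρ (c * a) ∈ RGD.Sup X E := by
      have h5 := mul_mem h1 (inv_mem (iE.conj S hs (hrU a) h2))
      rwa [mul_inv_cancel_right] at h5
    have h5 := hρE _ h4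
    rcases mul_eq_zero.1 h5 with h6 | h6
    · refine ⟨1, v, Q \ {d}, ?_, hv, ⟨fun x hx => hx.1, fun h7 => (h7 hd).2 rfl⟩, hQd1, fun t => Cm.one _ _⟩
      rw [h6, S.data.zero hdp.1]
    · exact absurd h6 ha

/-- **Diagonal lines, general form.** -/
theorem star_diag {r r' : I → ℤ} (hr : r ∈ RGD.Pos cs h) (hr' : r' ∈ RGD.Pos cs h) (hrr : r ≠ r')
    (hht : ht r = ht r') (hc0 : cpr cs h r r' ≤ 0) {a b : K} (ha : a ≠ 0) (hb : b ≠ 0) {u : Y}
    (hu : u ∈ RGD.Sup X (RGD.Pos cs h)) (hux : Cm u (e r a) (e r' b)) (t : K) : Cm u (e r (t * a)) (e r' (t * b)) := by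
  have hfin : (RGD.Pos cs h).Finite := (RGD.finite_roots (cs := cs) (h := h)).subset fun x hx => hx.1
  have key : ∀ n : ℕ, ∀ Q : Set (I → ℤ), Q.ncard ≤ n → (∃ i : ℕ, HS cs h (i + 1) ⊆ Q ∧ Q ⊆ HS cs h i) →
      ∀ u ∈ RGD.Sup X Q, Cm u (e r a) (e r' b) → Cm u (e r (t * a)) (e r' (t * b)) := by
    intro n
    induction n with
    | zero =>
      rintro Q hn ⟨i, hQ1, hQ2⟩ u hu -
      have h1 : Q.Finite := hfin.subset fun x hx => (hQ2 hx).1
      have h2 : Q = ∅ := (Set.ncard_eq_zero h1).1 (Nat.le_zero.1 hn)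
      rw [h2, Sup_empty, Subgroup.mem_bot] at hu
      rw [hu]
      exact Cm.one _ _
    | succ n ih =>
      rintro Q hn ⟨i₀, hQ1₀, hQ2₀⟩ u hu hux
      have hQf : Q.Finite := hfin.subset fun x hx => (hQ2₀ hx).1
      by_cases hQe : Q.Nonempty
      swap
      · rw [Set.not_nonempty_iff_eq_empty] at hQe
        rw [hQe, Sup_empty, Subgroup.mem_bot] at hu
        rw [hu]
        exact Cm.one _ _
      obtain ⟨d, hd, hmin⟩ := Set.exists_min_image Q ht hQf hQe
      have hdp := (hQ2₀ hd).1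
      obtain ⟨i, hi⟩ : ∃ i : ℕ, ht d = i + 1 := ⟨(ht d - 1).toNat, by have := ht_pos hdp; omega⟩
      have hQ2 : Q ⊆ HS cs h i := fun x hx => ⟨(hQ2₀ hx).1, by have := hmin x hx; omega⟩
      have hQ1 : HS cs h (i + 1) ⊆ Q := fun x hx => hQ1₀ ⟨hx.1, by
        have h1 := hx.2
        have h2 := (hQ2₀ hd).2
        push_cast at h1 ⊢
        omega⟩
      -- the conclusion from a step
      have hstep : (∃ w v Q', u = w * v ∧ v ∈ RGD.Sup X Q' ∧ Q' ⊂ Q ∧ HS cs h (i + 1) ⊆ Q' ∧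
          ∀ t, Cm w (e r (t * a)) (e r' (t * b))) → Cm u (e r (t * a)) (e r' (t * b)) := by
        rintro ⟨w, v, Q', rfl, hv, hQ', hQ'1, hw⟩
        have h1 : Q'.ncard < Q.ncard := Set.ncard_lt_ncard hQ' hQf
        have h2 := hw 1
        rw [one_mul, one_mul] at h2
        exact (hw t).mul (ih Q' (by omega) ⟨i, hQ'1, hQ'.1.trans hQ2⟩ v hv (h2.of_mul hux))
      by_cases hc1 : cpr cs h d r = -1
      · exact hstep (step S hs hQ1 hQ2 hd hi hr hr' hrr hht hc0 hc1 ha hb hu hux.1)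
      by_cases hc2 : cpr cs h d r' = -1
      · obtain ⟨w, v, Q', h1, h2, h3, h4, h5⟩ := step S hs hQ1 hQ2 hd hi hr' hr hrr.symm hht.symm
          (by rw [← hs r r' hr.1 hr'.1]; exact hc0) hc2 hb ha hu hux.2
        exact hstep ⟨w, v, Q', h1, h2, h3, h4, fun t => (h5 t).symm⟩
      · have hge : ∀ {x : I → ℤ}, x ∈ RGD.Pos cs h → cpr cs h d x ≠ -1 → 0 ≤ cpr cs h d x := by
          intro x hx h1
          rcases hs.cases hdp.1 hx.1 with ⟨-, h2⟩ | ⟨h2, -⟩ | ⟨-, -, h2, -⟩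
          · omega
          · exact absurd h2 (ne_neg hdp hx)
          · omega
        have hQd1 : HS cs h (i + 1) ⊆ Q \ {d} := fun x hx => ⟨hQ1 hx, fun h1 => by
          rw [Set.mem_singleton_iff] at h1
          have := hx.2
          rw [h1] at this
          push_cast at this
          omega⟩
        obtain ⟨c, v, hv, h1⟩ := exists_dec S hs hdp (ideal_btw hQd1 fun x hx => hQ2 hx.1) hu
        exact hstep ⟨e d c, v, Q \ {d}, h1, hv, ⟨fun x hx => hx.1, fun h7 => (h7 hd).2 rfl⟩, hQd1, fun t =>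
          Cm.of_comm (comm_e S hs hdp.1 hr.1 (hge hr hc1) _ _) (comm_e S hs hdp.1 hr'.1 (hge hr' hc2) _ _)⟩
  refine key _ (RGD.Pos cs h) le_rfl ⟨0, fun x hx => hx.1, fun x hx => ⟨hx, by exact_mod_cast ht_pos hx⟩⟩ u hu hux

/-- **Orthogonal roots.** -/
theorem star_orth {r r' : I → ℤ} (hr : r ∈ RGD.Pos cs h) (hr' : r' ∈ RGD.Pos cs h) (hht : ht r = ht r')
    (hc : cpr cs h r r' = 0) {a b : K} (ha : a ≠ 0) (hb : b ≠ 0) {u : Y} (hu : u ∈ RGD.Sup X (RGD.Pos cs h))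
    (hux : u * (e r a * e r' b) = e r a * e r' b * u) (t : K) :
    u * (e r (t * a) * e r' (t * b)) = e r (t * a) * e r' (t * b) * u := by
  have hrr : r ≠ r' := by
    rintro rfl
    rw [cpr_self cs h hr.1] at hc
    omega
  have h1 : e r' b * e r a = e r a * e r' b := (comm_e S hs hr.1 hr'.1 hc.ge _ _).symm
  exact (star_diag S hs hr hr' hrr hht hc.le ha hb hu ⟨hux, by rw [h1]; exact hux⟩ t).1

/-- **The middle root of `A_{2m}`.** -/
theorem star_mid (hG1 : RGD.Sup X {x | IsRoot cs h x} = ⊤) {r r' : I → ℤ} (hr : r ∈ RGD.Pos cs h)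
    (hr' : r' ∈ RGD.Pos cs h) (hht : ht r = ht r') (hc : cpr cs h r r' = -1) {a b : K} (ha : a ≠ 0) (hb : b ≠ 0) {u : Y}
    (hu : u ∈ RGD.Sup X (RGD.Pos cs h)) {z : Y} (hz : z ∈ X (r + r'))
    (hux : u * (e r a * e r' b * z) = e r a * e r' b * z * u) :
    (∀ z' ∈ X (r + r'), u * z' = z' * u) ∧ ∀ t, Cm u (e r (t * a)) (e r' (t * b)) := by
  have hrr : r ≠ r' := by
    rintro rfl
    rw [cpr_self cs h hr.1] at hc
    omega
  have hc' : cpr cs h r' r = -1 := by rw [← hs r r' hr.1 hr'.1, hc]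
  have hδ : IsRoot cs h (r + r') := RgdSL.isRoot_add hr.1 hr'.1 hc
  obtain ⟨δ, hδd⟩ : ∃ δ, δ = r + r' := ⟨_, rfl⟩
  rw [← hδd] at hz hδ ⊢
  have d1 : cpr cs h δ r = 1 := by rw [hδd, cpr_add cs h _ _ hr.1, cpr_self cs h hr.1, hc']; norm_num
  have d2 : cpr cs h δ r' = 1 := by rw [hδd, cpr_add cs h _ _ hr'.1, cpr_self cs h hr'.1, hc]; norm_num
  obtain ⟨c, rfl⟩ := (S.mem_X δ hδ z).1 hz
  obtain ⟨p, hp⟩ : ∃ p, p = e r a := ⟨_, rfl⟩
  obtain ⟨q, hq⟩ : ∃ q, q = e r' b := ⟨_, rfl⟩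
  obtain ⟨k, hk⟩ : ∃ k, k = e δ (a * b) := ⟨_, rfl⟩
  obtain ⟨w, hw⟩ : ∃ w, w = e δ c := ⟨_, rfl⟩
  rw [← hp, ← hq, ← hw] at hux
  have e1 : p * q = k * q * p := by rw [hp, hq, hk, hδd]; exact comm_e' S hs hr.1 hr'.1 hc _ _
  have e2 : w * p = p * w := by rw [hp, hw]; exact comm_e S hs hδ hr.1 (by omega) _ _
  have e3 : w * q = q * w := by rw [hq, hw]; exact comm_e S hs hδ hr'.1 (by omega) _ _
  have e4 : w * w = 1 := by rw [hw]; exact S.data.sq hδ _
  have e5 : p * p = 1 := by rw [hp]; exact S.data.sq hr.1 _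
  have e6 : q * q = 1 := by rw [hq]; exact S.data.sq hr'.1 _
  have e7 : k * p = p * k := by rw [hp, hk]; exact comm_e S hs hδ hr.1 (by omega) _ _
  have e8 : k * q = q * k := by rw [hq, hk]; exact comm_e S hs hδ hr'.1 (by omega) _ _
  have e9 : k * k = 1 := by rw [hk]; exact S.data.sq hδ _
  -- the square
  have h1 : p * q * w * (p * q * w) = k := by
    calc p * q * w * (p * q * w) = p * q * (w * p) * q * w := by group
      _ = p * q * p * (w * q) * w := by rw [e2]; group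
      _ = p * q * p * q * (w * w) := by rw [e3]; group
      _ = p * q * (p * q) := by rw [e4]; group
      _ = p * q * (k * q * p) := by rw [← e1]
      _ = p * (q * k) * q * p := by group
      _ = (p * k) * (q * q) * p := by rw [← e8]; group
      _ = k * (p * p) := by rw [← e7, e6]; group
      _ = k := by rw [e5, mul_one]
  have h2 : u * k = k * u := by
    rw [← h1]
    calc u * (p * q * w * (p * q * w)) = (u * (p * q * w)) * (p * q * w) := by group
      _ = (p * q * w * u) * (p * q * w) := by rw [hux]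
      _ = p * q * w * (u * (p * q * w)) := by group
      _ = p * q * w * (p * q * w * u) := by rw [hux]
      _ = _ := by group
  have h3 : ∀ z' ∈ X δ, u * z' = z' * u := by
    intro z' hz'
    rw [hk] at h2
    exact comm_all S hG1 hδ (S.mem hδ (a * b)) (S.data.ne_one hδ (mul_ne_zero ha hb)) h2 hz'
  refine ⟨h3, ?_⟩
  have h4 : u * w = w * u := h3 w (by rw [hw]; exact S.mem hδ c)
  have h5 : u * (p * q) = p * q * u := by
    have h6 : u * (p * q) * w = p * q * u * w := by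
      calc u * (p * q) * w = u * (p * q * w) := by group
        _ = p * q * (w * u) := by rw [hux]; group
        _ = _ := by rw [← h4]; group
    exact mul_right_cancel h6
  have h6 : u * (q * p) = q * p * u := by
    have h7 : q * p = k * (p * q) := by
      rw [e1]
      calc q * p = (k * k) * (q * p) := by rw [e9, one_mul]
        _ = _ := by group
    rw [h7]
    calc u * (k * (p * q)) = (u * k) * (p * q) := by group
      _ = k * (u * (p * q)) := by rw [h2]; group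
      _ = _ := by rw [h5]; group
  rw [hp, hq] at h5 h6
  exact star_diag S hs hr hr' hrr hht (by omega) ha hb hu ⟨h5, h6⟩

end Step

end Cfsg.Agent.KFacts.SysMid
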