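import Mathlib
import Cfsg.Agent.KFacts.SysMid

/-!
# (k3) for `Sys` with diagram symmetries (ODD, D4, free pairs)

`Sys R e`, simply laced, `β` the frame representative of a diagram symmetry `σ` of order `≤ 2`, without field part.

* `Vt j = {u ∈ UH j | β u u⁻¹ ∈ UH (j + 1)}`; `Dg r = {x β(x) z | x ∈ X r, z ∈ X (r + σ r)}`;
* the refined filtration `UH j > Vt j > UH (j + 1)` with the lines `X r` (`σ r ≠ r`), resp. `X r` (`σ r = r`), `Dg r`;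
* `exists_fltS` : `FltS` for every good subgroup.
-/

set_option autoImplicit false
set_option linter.unusedSectionVars false

namespace Cfsg.Agent.KFacts.SysFltG

open CoxeterSystem Cfsg.Agent.ChevalleyStructure.CoxeterGeom Cfsg.Agent.Tits.Roots Cfsg.Agent.Tits.Core
  Cfsg.Agent.Tits.Exchange Cfsg.Agent.Nodes.Reps Cfsg.Agent.Nodes.BNOf Cfsg.Agent.Nodes.StabComb
  Cfsg.Agent.Nodes.Bruhat Cfsg.Agent.Nodes.OppDec Cfsg.Agent.Nodes.LeviDec Cfsg.Agent.Nodes.NormalForm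
  Cfsg.Agent.Nodes.Coroot Cfsg.Agent.Nodes.PosPair Cfsg.Agent.KFacts.RgdPar Cfsg.Agent.KFacts.RgdTI
  Cfsg.Agent.KFacts.RgdOpp Cfsg.Agent.KFacts.RgdAut Cfsg.Agent.KFacts.RgdDiag Cfsg.Agent.KFacts.RgdRigid
  Cfsg.Agent.KFacts.RgdCent Cfsg.Agent.KFacts.RgdKap Cfsg.Agent.KFacts.RgdField Cfsg.Agent.KFacts.RgdTau
  Cfsg.Agent.KFacts.RgdSys Cfsg.Agent.KFacts.RgdOver Cfsg.Agent.KFacts.RgdPure Cfsg.Agent.KFacts.ChevTwo
  Cfsg.Agent.KFacts.SysOut Cfsg.Agent.KFacts.SysLine Cfsg.Agent.KFacts.SysFlt Cfsg.Agent.KFacts.SLRow.Diag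
  Cfsg.Agent.KFacts.SysFree Cfsg.Agent.KFacts.SysFltS Cfsg.Agent.OddHalf.D4.Free Cfsg.Agent.KFacts.RootDisj
  Cfsg.Agent.KFacts.SysPol Cfsg.Agent.KFacts.SysMid
open Cfsg.Agent.KFacts.RgdSL (SL)
open scoped commutatorElement

variable {I W Y K : Type*} [Fintype I] [DecidableEq I] [Group W] [Group Y] [Field K] {M : CoxeterMatrix I}
variable {cs : CoxeterSystem M W} {A : I → I → ℤ} {h : IsCartan M A} {e : (I → ℤ) → K → Y}
  {T : Subgroup Y} {n : I → Y} {X : (I → ℤ) → Subgroup Y}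

/-- frame representative of a diagram symmetry of order at most two, without field part -/
structure TB (cs : CoxeterSystem M W) {A : I → I → ℤ} (h : IsCartan M A) (X : (I → ℤ) → Subgroup Y)
    (e : (I → ℤ) → K → Y) (β : MulAut Y) (σ : Equiv.Perm I) : Prop where
  mat : ∀ i j, M (σ i) (σ j) = M i j
  cart : ∀ i j, A (σ i) (σ j) = A i j
  inv : ∀ i, σ (σ i) = i
  root : ∀ d, IsRoot cs h d → ∀ y ∈ X d, β y ∈ X (d ∘ σ.symm)
  sq : ∀ y, β (β y) = y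
  fix : ∀ d, IsRoot cs h d → d ∘ σ.symm = d → ∀ y ∈ X d, β y = y
  lin : ∀ d, IsRoot cs h d → ∃ c : K, c ≠ 0 ∧ ∀ t, β (e d t) = e (d ∘ σ.symm) (c * t)

theorem TB.one : TB cs h X e (1 : MulAut Y) (1 : Equiv.Perm I) where
  mat _ _ := rfl
  cart _ _ := rfl
  inv _ := rfl
  root _ _ _ hy := hy
  sq _ := rfl
  fix _ _ _ _ _ := rfl
  lin _ _ := ⟨1, one_ne_zero, fun t => by rw [one_mul]; rfl⟩

section Basic

variable [Finite W] [Nonempty I] [Finite K] [CharP K 2] {R : RGD cs h 2 T n X} (S : Sys R e) (hs : SL cs h)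
  {β : MulAut Y} {σ : Equiv.Perm I} (B : TB cs h X e β σ)

theorem TB.twice (B : TB cs h X e β σ) (d : I → ℤ) : (d ∘ σ.symm) ∘ σ.symm = d := by
  funext i
  simp only [Function.comp_apply]
  congr 1
  rw [Equiv.symm_apply_eq, Equiv.symm_apply_eq, B.inv]

theorem TB.pos (B : TB cs h X e β σ) {d : I → ℤ} (hd : d ∈ RGD.Pos cs h) : d ∘ σ.symm ∈ RGD.Pos cs h :=
  pos_comp B.mat B.cart hd

theorem TB.map_UH (B : TB cs h X e β σ) {j : ℕ} {y : Y} (hy : y ∈ UH cs h X j) : β y ∈ UH cs h X j := by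
  have h1 : UH cs h X j ≤ (UH cs h X j).comap β.toMonoidHom := by
    refine RGD.Sup_le fun d hd y hy => ?_
    show β y ∈ UH cs h X j
    exact RGD.le_Sup (S := {r | r ∈ RGD.Pos cs h ∧ (j : ℤ) < ht r}) ⟨B.pos hd.1, by rw [ht_comp]; exact hd.2⟩
      (B.root d hd.1.1 y hy)
  exact h1 hy

/-- distinct positive roots of the same height have nonpositive pairing -/
theorem cpr_nonpos (hs : SL cs h) {r r' : I → ℤ} (hr : r ∈ RGD.Pos cs h) (hr' : r' ∈ RGD.Pos cs h) (hrr : r ≠ r')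
    (hht : ht r = ht r') : cpr cs h r r' = 0 ∨ cpr cs h r r' = -1 := by
  rcases hs.cases hr.1 hr'.1 with ⟨h1, -⟩ | ⟨h1, -⟩ | ⟨-, -, h2, h3⟩
  · exact absurd h1 hrr
  · exact absurd h1 (ne_neg hr hr')
  · by_cases h4 : cpr cs h r r' = 1
    · exfalso
      have h5 := RgdSL.isRoot_sub hr.1 hr'.1 h4
      have h6 : ht (r - r') = 0 := by
        have h7 := ht_add (r - r') r'
        rw [sub_add_cancel] at h7
        omega
      rcases h5.pos_or_neg with h8 | h8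
      · have := ht_pos (cs := cs) (h := h) (x := r - r') ⟨h5, h8⟩
        omega
      · have h9 := ht_pos (cs := cs) (h := h) (x := -(r - r')) ⟨h5.neg, neg_nonneg.2 h8⟩
        have h10 := ht_smul (-1) (r - r')
        rw [neg_one_smul] at h10
        omega
    · omega

include S

theorem conj_mem {j : ℕ} {g v : Y} (hg : g ∈ UH cs h X 0) (hv : v ∈ UH cs h X j) : g * v * g⁻¹ ∈ UH cs h X j :=
  UH_conj S hg hv

theorem conj_mem' {j : ℕ} {g v : Y} (hg : g ∈ UH cs h X 0) (hv : v ∈ UH cs h X j) : g⁻¹ * v * g ∈ UH cs h X j := by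
  have := UH_conj S (inv_mem hg) hv
  rwa [inv_inv] at this

theorem comm_mem {j : ℕ} {g v : Y} (hg : g ∈ UH cs h X 0) (hv : v ∈ UH cs h X j) :
    g * v * g⁻¹ * v⁻¹ ∈ UH cs h X (j + 1) := by
  have := UH_comm S hg hv
  rwa [commutatorElement_def] at this

/-- the sections have exponent two -/
theorem sq_UH {j : ℕ} {x : Y} (hx : x ∈ UH cs h X j) : x * x ∈ UH cs h X (j + 1) := by
  let L : Subgroup Y :=
    { carrier := {x | x ∈ UH cs h X j ∧ x * x ∈ UH cs h X (j + 1)}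
      one_mem' := ⟨one_mem _, by rw [mul_one]; exact one_mem _⟩
      mul_mem' := by
        rintro x y ⟨hx, hx'⟩ ⟨hy, hy'⟩
        refine ⟨mul_mem hx hy, ?_⟩
        have h1 : x * y * (x * y) = (x * x) * (x⁻¹ * y * x⁻¹⁻¹ * y⁻¹) * (y * y) := by group
        show x * y * (x * y) ∈ UH cs h X (j + 1)
        rw [h1]
        exact mul_mem (mul_mem hx' (comm_mem S (UH_le (Nat.zero_le j) (inv_mem hx)) hy)) hy'
      inv_mem' := by
        rintro x ⟨hx, hx'⟩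
        refine ⟨inv_mem hx, ?_⟩
        have h1 : x⁻¹ * x⁻¹ = (x * x)⁻¹ := by group
        show x⁻¹ * x⁻¹ ∈ UH cs h X (j + 1)
        rw [h1]
        exact inv_mem hx' }
  have h1 : UH cs h X j ≤ L := by
    refine RGD.Sup_le fun r hr v hv => ?_
    refine ⟨RGD.le_Sup (S := {r | r ∈ RGD.Pos cs h ∧ (j : ℤ) < ht r}) hr hv, ?_⟩
    obtain ⟨a, rfl⟩ := (S.mem_X r hr.1.1 v).1 hv
    rw [S.data.sq hr.1.1]
    exact one_mem _
  exact (h1 hx).2

/-- the intermediate term -/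
def Vt (S : Sys R e) (B : TB cs h X e β σ) (j : ℕ) : Subgroup Y where
  carrier := {u | u ∈ UH cs h X j ∧ β u * u⁻¹ ∈ UH cs h X (j + 1)}
  one_mem' := ⟨one_mem _, by rw [map_one, inv_one, mul_one]; exact one_mem _⟩
  mul_mem' := by
    rintro u v ⟨hu, hu'⟩ ⟨hv, hv'⟩
    refine ⟨mul_mem hu hv, ?_⟩
    have h1 : β (u * v) * (u * v)⁻¹ = (β u * (β v * v⁻¹) * (β u)⁻¹) * (β u * u⁻¹) := by
      rw [map_mul]; group
    show β (u * v) * (u * v)⁻¹ ∈ UH cs h X (j + 1)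
    rw [h1]
    exact mul_mem (conj_mem S (UH_le (Nat.zero_le j) (B.map_UH hu)) hv') hu'
  inv_mem' := by
    rintro u ⟨hu, hu'⟩
    refine ⟨inv_mem hu, ?_⟩
    have h1 : β u⁻¹ * u⁻¹⁻¹ = (β u)⁻¹ * (β u * u⁻¹)⁻¹ * β u := by rw [map_inv]; group
    show β u⁻¹ * u⁻¹⁻¹ ∈ UH cs h X (j + 1)
    rw [h1]
    exact conj_mem' S (UH_le (Nat.zero_le j) (B.map_UH hu)) (inv_mem hu')

theorem mem_Vt {j : ℕ} {u : Y} : u ∈ Vt S B j ↔ u ∈ UH cs h X j ∧ β u * u⁻¹ ∈ UH cs h X (j + 1) := Iff.rfl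

theorem Vt_le (j : ℕ) : Vt S B j ≤ UH cs h X j := fun _ hu => hu.1

theorem le_Vt (j : ℕ) : UH cs h X (j + 1) ≤ Vt S B j := fun _ hu =>
  ⟨UH_le (Nat.le_succ j) hu, mul_mem (B.map_UH hu) (inv_mem hu)⟩

/-- `φ = conj u` or `φ = conj u ∘ β` -/
def Two (cs : CoxeterSystem M W) (h : IsCartan M A) (X : (I → ℤ) → Subgroup Y) (β φ : MulAut Y) : Prop :=
  ∃ u ∈ RGD.Sup X (RGD.Pos cs h), (∀ y, φ y = u * y * u⁻¹) ∨ (∀ y, φ y = u * β y * u⁻¹)

include B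

theorem fix_even {φ : MulAut Y} (hφ : Two cs h X β φ) {j : ℕ} {x : Y} (hx : x ∈ UH cs h X j) :
    φ x * x⁻¹ ∈ Vt S B j := by
  obtain ⟨u, hu, h1 | h1⟩ := hφ
  · rw [← UH_zero] at hu
    rw [h1]
    exact le_Vt S B j (comm_mem S hu hx)
  · rw [← UH_zero] at hu
    have h2 : φ x * x⁻¹ = (u * β x * u⁻¹ * (β x)⁻¹) * (β x * x⁻¹) := by rw [h1]; group
    rw [h2]
    refine mul_mem (le_Vt S B j (comm_mem S hu (B.map_UH hx))) ⟨mul_mem (B.map_UH hx) (inv_mem hx), ?_⟩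
    have h3 : β (β x * x⁻¹) * (β x * x⁻¹)⁻¹ = (x * (β x)⁻¹) * (x * (β x)⁻¹) := by
      rw [map_mul, B.sq, map_inv]; group
    rw [h3]
    exact sq_UH S (mul_mem hx (inv_mem (B.map_UH hx)))

theorem fix_odd {φ : MulAut Y} (hφ : Two cs h X β φ) {j : ℕ} {x : Y} (hx : x ∈ Vt S B j) :
    φ x * x⁻¹ ∈ UH cs h X (j + 1) := by
  obtain ⟨u, hu, h1 | h1⟩ := hφ
  · rw [← UH_zero] at hu
    rw [h1]
    exact comm_mem S hu hx.1
  · rw [← UH_zero] at hu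
    have h2 : φ x * x⁻¹ = (u * β x * u⁻¹ * (β x)⁻¹) * (β x * x⁻¹) := by rw [h1]; group
    rw [h2]
    exact mul_mem (comm_mem S hu (B.map_UH hx.1)) hx.2

/-- `X r ∩ Vt j = 1` for `σ r ≠ r` -/
theorem X_inf_Vt {r : I → ℤ} (hr : r ∈ RGD.Pos cs h) (hrσ : r ∘ σ.symm ≠ r) {j : ℕ} (hj : ht r = j + 1) {x : Y}
    (hx : x ∈ X r) (hx' : x ∈ Vt S B j) : x = 1 := by
  have h1 := mul_mem_UH S (B.pos hr) hr hrσ (by rw [ht_comp, hj]) hj (B.root r hr.1 x hx) (inv_mem hx) hx'.2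
  exact β.injective (by rw [h1, map_one])

/-! ### The diagonal lines -/

omit S B in
/-- `X (r + σ r)`, or `1` -/
def ZX (cs : CoxeterSystem M W) (h : IsCartan M A) (X : (I → ℤ) → Subgroup Y) (σ : Equiv.Perm I) (r : I → ℤ) :
    Subgroup Y := RGD.Sup X {x | x = r + r ∘ σ.symm ∧ IsRoot cs h x}

omit S B in
theorem ZX_cases (r : I → ℤ) : (IsRoot cs h (r + r ∘ σ.symm) ∧ ZX cs h X σ r = X (r + r ∘ σ.symm)) ∨
    (¬ IsRoot cs h (r + r ∘ σ.symm) ∧ ZX cs h X σ r = ⊥) := by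
  by_cases h1 : IsRoot cs h (r + r ∘ σ.symm)
  · refine Or.inl ⟨h1, le_antisymm (RGD.Sup_le ?_) (RGD.le_Sup ⟨rfl, h1⟩)⟩
    rintro x ⟨rfl, -⟩
    exact le_rfl
  · refine Or.inr ⟨h1, ?_⟩
    rw [eq_bot_iff]
    refine RGD.Sup_le ?_
    rintro x ⟨rfl, h2⟩
    exact absurd h2 h1

omit B in
include hs in
/-- `X (r + r')` commutes with `X r` -/
theorem comm_add {r r' : I → ℤ} (hr : r ∈ RGD.Pos cs h) (hr' : r' ∈ RGD.Pos cs h) (hδ : IsRoot cs h (r + r')) {z x : Y}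
    (hz : z ∈ X (r + r')) (hx : x ∈ X r) : z * x = x * z := by
  obtain ⟨c, rfl⟩ := (S.mem_X _ hδ z).1 hz
  obtain ⟨a, rfl⟩ := (S.mem_X _ hr.1 x).1 hx
  refine comm_e S hs hδ hr.1 ?_ _ _
  have h1 : cpr cs h (r + r') r = 2 + cpr cs h r' r := by rw [cpr_add cs h _ _ hr.1, cpr_self cs h hr.1]
  rcases hs.cases hr'.1 hr.1 with ⟨-, h2⟩ | ⟨h2, -⟩ | ⟨-, -, h2, -⟩
  · omega
  · exact absurd h2 (ne_neg hr' hr)
  · omega

include hs in
theorem ZX_comm {r : I → ℤ} (hr : r ∈ RGD.Pos cs h) {z x : Y} (hz : z ∈ ZX cs h X σ r) (hx : x ∈ X r) :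
    z * x = x * z := by
  rcases ZX_cases (cs := cs) (h := h) (X := X) (σ := σ) r with ⟨h1, h2⟩ | ⟨h1, h2⟩
  · rw [h2] at hz
    exact comm_add S hs hr (B.pos hr) h1 hz hx
  · rw [h2, Subgroup.mem_bot] at hz
    rw [hz, one_mul, mul_one]

include hs in
theorem ZX_comm' {r : I → ℤ} (hr : r ∈ RGD.Pos cs h) {z x : Y} (hz : z ∈ ZX cs h X σ r) (hx : x ∈ X (r ∘ σ.symm)) :
    z * x = x * z := by
  rcases ZX_cases (cs := cs) (h := h) (X := X) (σ := σ) r with ⟨h1, h2⟩ | ⟨h1, h2⟩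
  · rw [h2, add_comm] at hz
    rw [add_comm] at h1
    exact comm_add S hs (B.pos hr) hr h1 hz hx
  · rw [h2, Subgroup.mem_bot] at hz
    rw [hz, one_mul, mul_one]

include hs in
theorem ZX_swap {r : I → ℤ} (hr : r ∈ RGD.Pos cs h) {x y : Y} (hx : x ∈ X r) (hy : y ∈ X (r ∘ σ.symm)) :
    ∃ z ∈ ZX cs h X σ r, y * x = x * y * z := by
  refine ⟨y⁻¹ * x⁻¹ * y * x, ?_, by group⟩
  have h3 : y⁻¹ * x⁻¹ * y * x = ⁅y⁻¹, x⁻¹⁆ := by rw [commutatorElement_def]; group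
  rw [h3]
  rcases comm_cases S hs (B.pos hr) hr (inv_mem hy) (inv_mem hx) with h1 | ⟨h1, h2⟩
  · rw [h1]; exact one_mem _
  · rw [add_comm] at h1 h2
    exact RGD.le_Sup (S := {x | x = r + r ∘ σ.symm ∧ IsRoot cs h x}) ⟨rfl, h1⟩ h2

/-- the diagonal line -/
def Dg (S : Sys R e) (hs : SL cs h) (B : TB cs h X e β σ) {r : I → ℤ} (hr : r ∈ RGD.Pos cs h) : Subgroup Y where
  carrier := {y | ∃ x ∈ X r, ∃ z ∈ ZX cs h X σ r, y = x * β x * z}
  one_mem' := ⟨1, one_mem _, 1, one_mem _, by rw [map_one, mul_one, mul_one]⟩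
  mul_mem' := by
    rintro _ _ ⟨x, hx, z, hz, rfl⟩ ⟨x', hx', z', hz', rfl⟩
    obtain ⟨w, hw, h1⟩ := ZX_swap S hs B hr hx' (B.root r hr.1 x hx)
    refine ⟨x * x', mul_mem hx hx', w * z * z', mul_mem (mul_mem hw hz) hz', ?_⟩
    have h2 := ZX_comm S hs B hr hz hx'
    have h3 := ZX_comm' S hs B hr hz (B.root r hr.1 x' hx')
    have h4 := ZX_comm' S hs B hr hw (B.root r hr.1 x' hx')
    calc x * β x * z * (x' * β x' * z') = x * β x * (z * x') * β x' * z' := by group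
      _ = x * (β x * x') * (z * β x') * z' := by rw [h2]; group
      _ = x * (x' * β x * w) * (β x' * z) * z' := by rw [h1, h3]
      _ = x * x' * β x * (w * β x') * z * z' := by group
      _ = _ := by rw [h4, map_mul]; group
  inv_mem' := by
    rintro _ ⟨x, hx, z, hz, rfl⟩
    obtain ⟨w, hw, h1⟩ := ZX_swap S hs B hr (inv_mem hx) (inv_mem (B.root r hr.1 x hx))
    refine ⟨x⁻¹, inv_mem hx, w * z⁻¹, mul_mem hw (inv_mem hz), ?_⟩
    have h2 := ZX_comm S hs B hr (inv_mem hz) (inv_mem hx)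
    have h3 := ZX_comm' S hs B hr (inv_mem hz) (inv_mem (B.root r hr.1 x hx))
    calc (x * β x * z)⁻¹ = z⁻¹ * (β x)⁻¹ * x⁻¹ := by group
      _ = (β x)⁻¹ * (z⁻¹ * x⁻¹) := by rw [h3]; group
      _ = (β x)⁻¹ * x⁻¹ * z⁻¹ := by rw [h2]; group
      _ = _ := by rw [h1, map_inv]; group

theorem mem_Dg {r : I → ℤ} (hr : r ∈ RGD.Pos cs h) {y : Y} :
    y ∈ Dg S hs B hr ↔ ∃ x ∈ X r, ∃ z ∈ ZX cs h X σ r, y = x * β x * z := Iff.rfl

omit B S in
theorem ZX_le {r : I → ℤ} (hr : r ∈ RGD.Pos cs h) (hr' : r ∘ σ.symm ∈ RGD.Pos cs h) {j : ℕ} (hj : ht r = j + 1) :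
    ZX cs h X σ r ≤ UH cs h X (j + 1) := by
  refine RGD.Sup_le ?_
  rintro x ⟨rfl, h2⟩
  refine RGD.le_Sup (S := {r | r ∈ RGD.Pos cs h ∧ ((j + 1 : ℕ) : ℤ) < ht r}) ⟨pos_add hr hr' h2, ?_⟩
  rw [ht_add, ht_comp]
  push_cast
  omega

theorem Dg_le {r : I → ℤ} (hr : r ∈ RGD.Pos cs h) {j : ℕ} (hj : ht r = j + 1) : Dg S hs B hr ≤ Vt S B j := by
  rintro _ ⟨x, hx, z, hz, rfl⟩
  have hxU : x ∈ UH cs h X j := RGD.le_Sup (S := {r | r ∈ RGD.Pos cs h ∧ (j : ℤ) < ht r}) ⟨hr, by omega⟩ hx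
  have hβU := B.map_UH hxU
  refine mul_mem ⟨mul_mem hxU hβU, ?_⟩ (le_Vt S B j (ZX_le hr (B.pos hr) hj hz))
  have h1 : β (x * β x) * (x * β x)⁻¹ = β x * x * (β x)⁻¹ * x⁻¹ := by rw [map_mul, B.sq]; group
  rw [h1]
  exact comm_mem S (UH_le (Nat.zero_le j) hβU) hxU

/-- elements of the diagonal line in `UH (j + 1)` -/
theorem Dg_one {r : I → ℤ} (hr : r ∈ RGD.Pos cs h) (hrσ : r ∘ σ.symm ≠ r) {j : ℕ} (hj : ht r = j + 1) {x y : Y}
    (hx : x ∈ X r) (hy : y ∈ X (r ∘ σ.symm)) (hxy : x * y ∈ UH cs h X (j + 1)) : x = 1 :=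
  mul_mem_UH S hr (B.pos hr) hrσ.symm hj (by rw [ht_comp, hj]) hx hy hxy

/-! ### Generation -/

theorem gen_even (j : ℕ) {u : Y} (hu : u ∈ UH cs h X j) : u ∈ Subgroup.closure
    ({x | ∃ r, r ∈ RGD.Pos cs h ∧ ht r = j + 1 ∧ r ∘ σ.symm ≠ r ∧ x ∈ X r} ∪ (Vt S B j : Set Y)) := by
  have h1 : UH cs h X j ≤ Subgroup.closure
      ({x | ∃ r, r ∈ RGD.Pos cs h ∧ ht r = j + 1 ∧ r ∘ σ.symm ≠ r ∧ x ∈ X r} ∪ (Vt S B j : Set Y)) := by
    refine RGD.Sup_le fun r hr x hx => Subgroup.subset_closure ?_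
    by_cases h1 : ht r = j + 1
    · by_cases h2 : r ∘ σ.symm = r
      · right
        refine ⟨RGD.le_Sup (S := {r | r ∈ RGD.Pos cs h ∧ (j : ℤ) < ht r}) hr hx, ?_⟩
        rw [B.fix r hr.1.1 h2 x hx, mul_inv_cancel]
        exact one_mem _
      · exact Or.inl ⟨r, hr.1, h1, h2, hx⟩
    · refine Or.inr (le_Vt S B j (RGD.le_Sup (S := {r | r ∈ RGD.Pos cs h ∧ ((j + 1 : ℕ) : ℤ) < ht r}) ⟨hr.1, ?_⟩ hx))
      have := hr.2
      push_cast
      omega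
  exact h1 hu

theorem gen_odd (j : ℕ) {u : Y} (hu : u ∈ Vt S B j) : u ∈ Subgroup.closure
    ({x | ∃ r, ∃ hr : r ∈ RGD.Pos cs h, ht r = j + 1 ∧ ((r ∘ σ.symm = r ∧ x ∈ X r) ∨
      (r ∘ σ.symm ≠ r ∧ x ∈ Dg S hs B hr))} ∪ (UH cs h X (j + 1) : Set Y)) := by
  obtain ⟨C, hC⟩ : ∃ C : Subgroup Y, C = Subgroup.closure
    ({x | ∃ r, ∃ hr : r ∈ RGD.Pos cs h, ht r = j + 1 ∧ ((r ∘ σ.symm = r ∧ x ∈ X r) ∨
      (r ∘ σ.symm ≠ r ∧ x ∈ Dg S hs B hr))} ∪ (UH cs h X (j + 1) : Set Y)) := ⟨_, rfl⟩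
  rw [← hC]
  have hCl : ∀ r, ∀ hr : r ∈ RGD.Pos cs h, ht r = j + 1 → ∀ x, ((r ∘ σ.symm = r ∧ x ∈ X r) ∨
      (r ∘ σ.symm ≠ r ∧ x ∈ Dg S hs B hr)) → x ∈ C := fun r hr hj x hx => by
    rw [hC]
    exact Subgroup.subset_closure (Or.inl ⟨r, hr, hj, hx⟩)
  have hCU : UH cs h X (j + 1) ≤ C := fun x hx => by
    rw [hC]
    exact Subgroup.subset_closure (Or.inr hx)
  have hCV : C ≤ Vt S B j := by
    rw [hC, Subgroup.closure_le]
    rintro x (⟨r, hr, hj, ⟨h1, h2⟩ | ⟨h1, h2⟩⟩ | hx)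
    · refine ⟨RGD.le_Sup (S := {r | r ∈ RGD.Pos cs h ∧ (j : ℤ) < ht r}) ⟨hr, by omega⟩ h2, ?_⟩
      rw [B.fix r hr.1 h1 x h2, mul_inv_cancel]
      exact one_mem _
    · exact Dg_le S hs B hr hj h2
    · exact le_Vt S B j hx
  -- a transversal
  obtain ⟨g, hg⟩ := exists_injective_nat (I → ℤ)
  let Q : Set (I → ℤ) := {r | (r ∈ RGD.Pos cs h ∧ ht r = j + 1 ∧ g r < g (r ∘ σ.symm)) ∨ r ∈ HS cs h (j + 1)}
  let Q' : Set (I → ℤ) := {r | (r ∈ RGD.Pos cs h ∧ ht r = j + 1 ∧ g (r ∘ σ.symm) < g r) ∨ r ∈ HS cs h (j + 1)}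
  have hHS : HS cs h (j + 1) ⊆ HS cs h j := fun r hr => ⟨hr.1, by
    have := hr.2
    push_cast at this
    omega⟩
  have iQ : Ideal cs h Q := ideal_btw (i := j) (fun r hr => Or.inr hr) (by
    rintro r (⟨h1, h2, -⟩ | h1)
    · exact ⟨h1, by omega⟩
    · exact hHS h1)
  have iQ' : Ideal cs h Q' := ideal_btw (i := j) (fun r hr => Or.inr hr) (by
    rintro r (⟨h1, h2, -⟩ | h1)
    · exact ⟨h1, by omega⟩
    · exact hHS h1)
  have hint : Q ∩ Q' = HS cs h (j + 1) := by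
    ext r
    constructor
    · rintro ⟨⟨-, -, h1⟩ | h1, ⟨-, -, h2⟩ | h2⟩
      · omega
      · exact h2
      · exact h1
      · exact h1
    · exact fun h1 => ⟨Or.inr h1, Or.inr h1⟩
  have hUQ : UH cs h X (j + 1) ≤ RGD.Sup X Q := RGD.Sup_mono fun r hr => Or.inr hr
  have hUQ' : UH cs h X (j + 1) ≤ RGD.Sup X Q' := RGD.Sup_mono fun r hr => Or.inr hr
  have hC0 : ∀ c ∈ C, c ∈ RGD.Sup X (RGD.Pos cs h) := fun c hc => by
    rw [← UH_zero]
    exact UH_le (Nat.zero_le j) (hCV hc).1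
  -- decomposition
  let L : Subgroup Y :=
    { carrier := {u | ∃ c ∈ C, ∃ v ∈ RGD.Sup X Q', u = c * v}
      one_mem' := ⟨1, one_mem _, 1, one_mem _, by rw [mul_one]⟩
      mul_mem' := by
        rintro _ _ ⟨c, hc, v, hv, rfl⟩ ⟨c', hc', v', hv', rfl⟩
        exact ⟨c * c', mul_mem hc hc', c'⁻¹ * v * c' * v', mul_mem (iQ'.conj' S hs (hC0 c' hc') hv) hv', by group⟩
      inv_mem' := by
        rintro _ ⟨c, hc, v, hv, rfl⟩
        exact ⟨c⁻¹, inv_mem hc, c * v⁻¹ * c⁻¹, iQ'.conj S hs (hC0 c hc) (inv_mem hv), by group⟩ }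
  have hL : UH cs h X j ≤ L := by
    refine RGD.Sup_le fun r hr x hx => ?_
    by_cases h1 : ht r = j + 1
    · by_cases h2 : r ∘ σ.symm = r
      · exact ⟨x, hCl r hr.1 h1 x (Or.inl ⟨h2, hx⟩), 1, one_mem _, by rw [mul_one]⟩
      · have h3 : g r ≠ g (r ∘ σ.symm) := fun h4 => h2 (hg h4).symm
        rcases lt_or_gt_of_ne h3 with h4 | h4
        · have hβ := B.root r hr.1.1 x hx
          refine ⟨x * β x, hCl r hr.1 h1 _ (Or.inr ⟨h2, x, hx, 1, one_mem _, by rw [mul_one]⟩), (β x)⁻¹,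
            inv_mem (RGD.le_Sup (S := Q') (Or.inl ⟨B.pos hr.1, by rw [ht_comp, h1], ?_⟩) hβ), by group⟩
          rw [B.twice]
          exact h4
        · exact ⟨1, one_mem _, x, RGD.le_Sup (S := Q') (Or.inl ⟨hr.1, h1, h4⟩) hx, by rw [one_mul]⟩
    · refine ⟨1, one_mem _, x, RGD.le_Sup (S := Q') (Or.inr ⟨hr.1, ?_⟩) hx, by rw [one_mul]⟩
      have := hr.2
      push_cast
      omega
  obtain ⟨c, hc, v, hv, rfl⟩ := hL hu.1
  have hvV : v ∈ Vt S B j := by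
    have h1 := mul_mem (inv_mem (hCV hc)) hu
    rwa [inv_mul_cancel_left] at h1
  have hβv : β v ∈ RGD.Sup X Q := by
    have h1 : RGD.Sup X Q' ≤ (RGD.Sup X Q).comap β.toMonoidHom := by
      refine RGD.Sup_le fun r hr y hy => ?_
      show β y ∈ RGD.Sup X Q
      rcases hr with ⟨h1, h2, h3⟩ | h1
      · refine RGD.le_Sup (S := Q) (Or.inl ⟨B.pos h1, by rw [ht_comp, h2], ?_⟩) (B.root r h1.1 y hy)
        rw [B.twice]
        exact h3
      · exact hUQ (B.map_UH (RGD.le_Sup (S := HS cs h (j + 1)) h1 hy))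
    exact h1 hv
  have hvQ : v ∈ RGD.Sup X Q := by
    have h1 := mul_mem (inv_mem (hUQ hvV.2)) hβv
    have h2 : (β v * v⁻¹)⁻¹ * β v = v := by group
    rwa [h2] at h1
  have h3 := Ideal.inf hs R iQ iQ' hvQ hv
  rw [hint] at h3
  exact mul_mem hc (hCU h3)

end Basic

/-! ### In an overgroup -/

section Over

variable {G : Type*} [Group G] [Finite G] {K₀ S : Subgroup G} [Finite W] [Finite K] [Nonempty I] [CharP K 2]
  {R : RGD cs h 2 T n X} {S' : Sys R e} (H : Hyp cs h T X) {l : MulAut Y →* Equiv.Perm I × (K ≃+* K)}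
  (L : IsOut S' l) {f : Y →* G}

include H L

/-- elements without field part and diagram part act as elements of `U` -/
theorem inner_U [Finite Y] {φ : MulAut Y} (hφ : Fix φ (RGD.Sup X (RGD.Pos cs h))) (hl : l φ = 1) {k : ℕ}
    (hk : φ ^ 2 ^ k = 1) : ∃ u ∈ RGD.Sup X (RGD.Pos cs h), φ = MulAut.conj u := by
  have : Fact (Nat.Prime 2) := ⟨Nat.prime_two⟩
  obtain ⟨u, hu, B, hp⟩ := exists_frameU H L hφ
  rw [hl] at B
  have h1 := Tau.eq_one R H.gen (coords S' H.gen) B (hp _ hk)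
  refine ⟨u⁻¹, inv_mem hu, ?_⟩
  rw [map_inv]
  exact (inv_eq_of_mul_eq_one_right h1).symm

/-- **The frame representative of the diagram part of `S ∩ cz K₀ S`.** -/
theorem exists_TB (D : Std cs h X K₀ S f) (hM : DTwo M) : ∃ (β : MulAut Y) (σ : Equiv.Perm I), TB cs h X e β σ ∧
    ∀ x ∈ S, x ∈ cz K₀ S → ∀ φ, Acts f x φ → Two cs h X β φ := by
  classical
  have : Fact (Nat.Prime 2) := ⟨Nat.prime_two⟩
  have hY : Finite Y := Finite.of_injective f D.inj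
  by_cases htriv : ∀ x ∈ S, x ∈ cz K₀ S → ∀ φ, Acts f x φ → (l φ).1 = 1
  · refine ⟨1, 1, TB.one, fun x hx hxz φ hφ => ?_⟩
    obtain ⟨k, hk⟩ := D.exists_pow hx hφ
    obtain ⟨u, hu, h1⟩ := inner_U H L (D.fix hx hφ)
      (Prod.ext (htriv x hx hxz φ hφ) (D.field_of_cz H L hxz hφ)) hk
    exact ⟨u, hu, Or.inl fun y => by rw [h1, MulAut.conj_apply]⟩
  push Not at htriv
  obtain ⟨x₀, hx₀, hxz₀, φ₀, hφ₀, hσ₀⟩ := htriv
  have hτ₀ := D.field_of_cz H L hxz₀ hφ₀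
  obtain ⟨k₀, hk₀⟩ := D.exists_pow hx₀ hφ₀
  obtain ⟨u₀, hu₀, B₀, hp₀⟩ := exists_frameU H L (D.fix hx₀ hφ₀)
  have hmat := matrix_of H L φ₀
  have hcart := H.cart _ hmat
  -- the symmetries of `S ∩ cz`
  let P : Subgroup (Equiv.Perm I) :=
    { carrier := {σ | ∃ x ∈ S, x ∈ cz K₀ S ∧ ∃ φ, Acts f x φ ∧ (l φ).1 = σ}
      one_mem' := ⟨1, one_mem _, one_mem _, 1, Acts.one, by rw [map_one]; rfl⟩
      mul_mem' := by
        rintro _ _ ⟨x, hx, hxz, φ, hφ, rfl⟩ ⟨x', hx', hxz', φ', hφ', rfl⟩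
        exact ⟨x * x', mul_mem hx hx', mul_mem hxz hxz', _, hφ.mul hφ', by rw [map_mul]; rfl⟩
      inv_mem' := by
        rintro _ ⟨x, hx, hxz, φ, hφ, rfl⟩
        exact ⟨x⁻¹, inv_mem hx, inv_mem hxz, _, hφ.inv, by rw [map_inv]; rfl⟩ }
  have hP : IsPGroup 2 ↥P := by
    rintro ⟨_, x, hx, hxz, φ, hφ, rfl⟩
    obtain ⟨k, hk⟩ := D.exists_pow hx hφ
    refine ⟨k, Subtype.ext ?_⟩
    show ((l φ).1) ^ 2 ^ k = 1
    rw [← Prod.pow_fst, ← map_pow, hk, map_one]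
    rfl
  have hPM : ∀ σ ∈ P, ∀ i j, M (σ i) (σ j) = M i j := by
    rintro _ ⟨x, hx, hxz, φ, hφ, rfl⟩
    exact matrix_of H L φ
  have hσP : (l φ₀).1 ∈ P := ⟨x₀, hx₀, hxz₀, φ₀, hφ₀, rfl⟩
  have hσσ : (l φ₀).1 * (l φ₀).1 = 1 := by
    by_contra hne
    have h1 := hM P hP hPM _ (mul_mem hσP hσP) _ hσP hne hσ₀
    exact hσ₀ (mul_left_cancel (h1.trans (mul_one _).symm))
  have hββ : (MulAut.conj u₀ * φ₀) * (MulAut.conj u₀ * φ₀) = 1 := by
    have h1 := B₀.mul B₀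
    rw [hσσ, hτ₀, mul_one] at h1
    obtain ⟨k, hk⟩ : ∃ k : ℕ, ((MulAut.conj u₀ * φ₀) * (MulAut.conj u₀ * φ₀)) ^ 2 ^ k = 1 := by
      refine ⟨k₀, ?_⟩
      rw [← pow_two, ← pow_mul, mul_comm, pow_mul, hp₀ _ hk₀, one_pow]
    exact Tau.eq_one R H.gen (coords S' H.gen) h1 hk
  refine ⟨MulAut.conj u₀ * φ₀, (l φ₀).1, ⟨hmat, hcart, fun i => ?_, fun d hd y hy => ?_, fun y => ?_,
    fun d hd hdσ y hy => ?_, fun d hd => ?_⟩, fun x hx hxz φ hφ => ?_⟩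
  · exact congrFun (congrArg DFunLike.coe hσσ) i
  · obtain ⟨t, rfl⟩ := (S'.mem_X d hd y).1 hy
    obtain ⟨c, hc0, hβ⟩ := Tau.root R (coords S' H.gen) B₀ hd
    rw [hβ t]
    exact S'.mem (isRoot_comp hmat hcart hd) _
  · exact congrFun (congrArg DFunLike.coe hββ) y
  · obtain ⟨t, rfl⟩ := (S'.mem_X d hd y).1 hy
    obtain ⟨a₀, ha₀, h1⟩ := Tau.pure R (coords S' H.gen) B₀ (hp₀ _ hk₀) hd hdσ
    have h2 := h1 (a₀⁻¹ * t)
    rw [hτ₀, RingAut.one_apply, mul_inv_cancel_left₀ ha₀] at h2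
    exact h2
  · obtain ⟨c, hc0, hβ⟩ := Tau.root R (coords S' H.gen) B₀ hd
    refine ⟨c, hc0, fun t => ?_⟩
    rw [hβ t, hτ₀, RingAut.one_apply]
  · have hτ := D.field_of_cz H L hxz hφ
    by_cases h1 : (l φ).1 = 1
    · obtain ⟨k, hk⟩ := D.exists_pow hx hφ
      obtain ⟨u, hu, h2⟩ := inner_U H L (D.fix hx hφ) (Prod.ext h1 hτ) hk
      exact ⟨u, hu, Or.inl fun y => by rw [h2, MulAut.conj_apply]⟩
    · have h2 : (l φ).1 = (l φ₀).1 := hM P hP hPM _ ⟨x, hx, hxz, φ, hφ, rfl⟩ _ hσP h1 hσ₀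
      have h3 := hφ.mul hφ₀.inv
      obtain ⟨k, hk⟩ := D.exists_pow (mul_mem hx (inv_mem hx₀)) h3
      have h4 : l (φ * φ₀⁻¹) = 1 := by
        rw [map_mul, map_inv]
        exact Prod.ext (by rw [Prod.fst_mul, Prod.fst_inv, h2, mul_inv_cancel]; rfl)
          (by rw [Prod.snd_mul, Prod.snd_inv, hτ, hτ₀, mul_inv_cancel]; rfl)
      obtain ⟨u, hu, h5⟩ := inner_U H L (D.fix (mul_mem hx (inv_mem hx₀)) h3) h4 hk
      refine ⟨u * u₀⁻¹, mul_mem hu (inv_mem hu₀), Or.inr fun y => ?_⟩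
      have h6 : φ = MulAut.conj u * φ₀ := by rw [← h5, inv_mul_cancel_right]
      rw [h6, MulAut.mul_apply, MulAut.mul_apply, MulAut.conj_apply, MulAut.conj_apply]
      group

/-! ### The lines -/

theorem comm_of_fix (D : Std cs h X K₀ S f) {y : G} {φ : MulAut Y} (hφ : Acts f y φ) {x : Y} (hx : φ x = x) :
    f x * y = y * f x := by
  have h1 := hφ x
  rw [hx] at h1
  calc f x * y = (y * f x * y⁻¹) * y := by rw [← h1]
    _ = y * f x := by group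

theorem fix_of_comm (D : Std cs h X K₀ S f) {y : G} {φ : MulAut Y} (hφ : Acts f y φ) {x : Y}
    (hx : f x * y = y * f x) : φ x = x := by
  apply D.inj
  rw [hφ, ← hx, mul_inv_cancel_right]

theorem exists_two (hq : 3 ≤ Nat.card K) : ∃ b : K, b ≠ 0 ∧ b ≠ 1 := by
  by_contra hcon
  push Not at hcon
  classical
  have := Fintype.ofFinite K
  have h4 : (Finset.univ : Finset K) ⊆ {0, 1} := by
    intro b _
    by_cases hb : b = 0
    · simp [hb]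
    · simp [hcon b hb]
  have h5 := Finset.card_le_card h4
  have h6 : ({0, 1} : Finset K).card ≤ 2 := Finset.card_le_two
  rw [Finset.card_univ, ← Nat.card_eq_fintype_card] at h5
  omega

/-- **The lines `X r`, `σ r ≠ r`.** -/
theorem line_even (hq : 3 ≤ Nat.card K) (D : Std cs h X K₀ S f) {β : MulAut Y} {σ : Equiv.Perm I}
    (B : TB cs h X e β σ) {r : I → ℤ} (hr : r ∈ RGD.Pos cs h) (hrσ : r ∘ σ.symm ≠ r) {j : ℕ} (hj : ht r = j + 1) :
    IsLineF K₀ S ((Vt S' B j).map f) ((X r).map f) where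
  sq := by
    rintro _ ⟨x, hx, rfl⟩
    obtain ⟨a, rfl⟩ := (S'.mem_X r hr.1 x).1 hx
    rw [← map_mul, S'.data.sq hr.1, map_one]
    exact one_mem _
  pair := by
    have hne : ∀ a : K, a ≠ 0 → f (e r a) ∉ (Vt S' B j).map f := by
      rintro a ha ⟨y, hy, he⟩
      have h2 := D.inj he
      subst h2
      exact S'.data.ne_one hr.1 ha (X_inf_Vt S' B hr hrσ hj (S'.mem hr.1 a) hy)
    obtain ⟨b, hb0, hb1⟩ := exists_two H L hq
    refine ⟨_, ⟨_, S'.mem hr.1 1, rfl⟩, _, ⟨_, S'.mem hr.1 b, rfl⟩, hne 1 one_ne_zero, hne b hb0, ?_⟩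
    rw [← map_inv, ← map_mul, S'.data.inv hr.1, ← S'.data.add r hr.1]
    refine hne _ fun h4 => hb1 ?_
    have h5 := S'.data.two b
    exact (add_right_cancel (h4.trans h5.symm)).symm
  star := by
    have hY : Finite Y := Finite.of_injective f D.inj
    rintro y hy hyz - _ ⟨x, hx, rfl⟩ hxD hc _ ⟨v, hv, rfl⟩
    obtain ⟨φ, hφ⟩ := D.exists_acts (D.le hy)
    obtain ⟨a, rfl⟩ := (S'.mem_X r hr.1 x).1 hx
    refine star_plus H L D hy hφ (D.field_of_cz H L hyz hφ) hr (a := a) ?_ hc hv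
    rintro rfl
    apply hxD
    rw [S'.data.zero hr.1, map_one]
    exact one_mem _

/-- **The diagonal lines.** -/
theorem line_Dg (hs : SL cs h) (hq : 3 ≤ Nat.card K) (D : Std cs h X K₀ S f) {β : MulAut Y} {σ : Equiv.Perm I}
    (B : TB cs h X e β σ) (hall : ∀ x ∈ S, x ∈ cz K₀ S → ∀ φ, Acts f x φ → Two cs h X β φ) {r : I → ℤ}
    (hr : r ∈ RGD.Pos cs h) (hrσ : r ∘ σ.symm ≠ r) {j : ℕ} (hj : ht r = j + 1) :
    IsLineF K₀ S ((UH cs h X (j + 1)).map f) ((Dg S' hs B hr).map f) where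
  sq := by
    rintro _ ⟨x, hx, rfl⟩
    rw [← map_mul]
    exact ⟨_, sq_UH S' (Dg_le S' hs B hr hj hx).1, rfl⟩
  pair := by
    have hmem : ∀ x ∈ X r, x * β x ∈ Dg S' hs B hr := fun x hx => ⟨x, hx, 1, one_mem _, by rw [mul_one]⟩
    have hne : ∀ a : K, a ≠ 0 → f (e r a * β (e r a)) ∉ (UH cs h X (j + 1)).map f := by
      rintro a ha ⟨y, hy, he⟩
      have h2 := D.inj he
      rw [h2] at hy
      exact S'.data.ne_one hr.1 ha (Dg_one S' B hr hrσ hj (S'.mem hr.1 a) (B.root r hr.1 _ (S'.mem hr.1 a)) hy)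
    obtain ⟨b, hb0, hb1⟩ := exists_two H L hq
    refine ⟨_, ⟨_, hmem _ (S'.mem hr.1 1), rfl⟩, _, ⟨_, hmem _ (S'.mem hr.1 b), rfl⟩, hne 1 one_ne_zero, hne b hb0, ?_⟩
    rw [← map_inv, ← map_mul]
    rintro ⟨y, hy, he⟩
    have h2 := D.inj he
    rw [h2] at hy
    have hβ1 := B.root r hr.1 _ (S'.mem hr.1 1)
    have hβ0 : β (e r 1) ∈ UH cs h X 0 := by
      rw [UH_zero]
      exact RGD.le_Sup (B.pos hr) hβ1
    have h3 := conj_mem S' hβ0 hy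
    have h4 : β (e r 1) * ((e r 1 * β (e r 1))⁻¹ * (e r b * β (e r b))) * (β (e r 1))⁻¹ =
        ((e r 1)⁻¹ * e r b) * (β (e r b) * (β (e r 1))⁻¹) := by group
    rw [h4] at h3
    have h5 := Dg_one S' B hr hrσ hj (mul_mem (inv_mem (S'.mem hr.1 1)) (S'.mem hr.1 b))
      (mul_mem (B.root r hr.1 _ (S'.mem hr.1 b)) (inv_mem hβ1)) h3
    apply hb1
    exact (S'.data.injective hr.1 (inv_mul_eq_one.1 h5)).symm
  star := by
    have hY : Finite Y := Finite.of_injective f D.inj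
    rintro y hy hyz hyy _ ⟨_, ⟨p, hp, z, hz, rfl⟩, rfl⟩ hxD hc _ ⟨_, ⟨p', hp', z', hz', rfl⟩, rfl⟩
    obtain ⟨φ, hφ⟩ := D.exists_acts (D.le hy)
    have hfx := fix_of_comm H L D hφ hc
    refine comm_of_fix H L D hφ ?_
    obtain ⟨r', hr'd⟩ : ∃ r', r' = r ∘ σ.symm := ⟨_, rfl⟩
    have hr' : r' ∈ RGD.Pos cs h := by rw [hr'd]; exact B.pos hr
    have hht : ht r = ht r' := by rw [hr'd, ht_comp]
    have hrr : r ≠ r' := by rw [hr'd]; exact hrσ.symm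
    obtain ⟨a, rfl⟩ := (S'.mem_X r hr.1 p).1 hp
    obtain ⟨a', rfl⟩ := (S'.mem_X r hr.1 p').1 hp'
    have ha : a ≠ 0 := by
      rintro rfl
      apply hxD
      rw [S'.data.zero hr.1, map_one, one_mul, one_mul]
      exact ⟨z, ZX_le hr (B.pos hr) hj hz, rfl⟩
    obtain ⟨c, hc0, hlin⟩ := B.lin r hr.1
    rw [← hr'd] at hlin
    have hca : c * a ≠ 0 := mul_ne_zero hc0 ha
    obtain ⟨t, hta⟩ : ∃ t, a' = t * a := ⟨a' * a⁻¹, by rw [inv_mul_cancel_right₀ ha]⟩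
    have hca' : c * a' = t * (c * a) := by rw [hta]; ring
    rw [hlin] at hfx
    rw [hlin, hca', hta]
    rcases cpr_nonpos hs hr hr' hrr hht with hc1 | hc1
    · -- orthogonal roots
      have hnr : ¬ IsRoot cs h (r + r') := by
        intro h1
        have h2 : cpr cs h (r + r') r = 2 := by
          rw [cpr_add cs h _ _ hr.1, cpr_self cs h hr.1, hs r' r hr'.1 hr.1, hc1, add_zero]
        have h3 := hs.eq_of_cpr h1 hr.1 h2.ge
        have h4 : ht (r + r') = ht r + ht r' := ht_add r r'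
        rw [h3] at h4
        have h5 := ht_pos hr'
        omega
      have hZ : ZX cs h X σ r = ⊥ := by
        rcases ZX_cases (cs := cs) (h := h) (X := X) (σ := σ) r with ⟨h1, -⟩ | ⟨-, h2⟩
        · rw [← hr'd] at h1
          exact absurd h1 hnr
        · exact h2
      rw [hZ, Subgroup.mem_bot] at hz hz'
      subst hz hz'
      rw [mul_one] at hfx ⊢
      have hβ : ∀ s, β (e r (s * a) * e r' (s * (c * a))) = e r (s * a) * e r' (s * (c * a)) := by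
        intro s
        have h1 : s * (c * a) = c * (s * a) := by ring
        rw [h1, ← hlin, map_mul, B.sq, hlin]
        exact comm_e S' hs hr'.1 hr.1 (by rw [hs r' r hr'.1 hr.1, hc1]) _ _
      obtain ⟨u, hu, h1 | h1⟩ := hall y hy hyz φ hφ
      · rw [h1] at hfx ⊢
        have h2 := star_orth S' hs hr hr' hht hc1 ha hca hu (mul_inv_eq_iff_eq_mul.1 hfx) t
        exact mul_inv_eq_iff_eq_mul.2 h2
      · have h3 := hβ 1
        rw [one_mul, one_mul] at h3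
        rw [h1, h3] at hfx
        have h2 := star_orth S' hs hr hr' hht hc1 ha hca hu (mul_inv_eq_iff_eq_mul.1 hfx) t
        rw [h1, hβ]
        exact mul_inv_eq_iff_eq_mul.2 h2
    · -- the middle root
      have hδ : IsRoot cs h (r + r') := RgdSL.isRoot_add hr.1 hr'.1 hc1
      have hZ : ZX cs h X σ r = X (r + r') := by
        rcases ZX_cases (cs := cs) (h := h) (X := X) (σ := σ) r with ⟨-, h2⟩ | ⟨h1, -⟩
        · rw [h2, hr'd]
        · rw [← hr'd] at h1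
          exact absurd hδ h1
      rw [hZ] at hz hz'
      obtain ⟨u, hu, h1 | h1⟩ := hall y hy hyz φ hφ
      · rw [h1] at hfx ⊢
        obtain ⟨h2, h3⟩ := star_mid S' hs H.gen hr hr' hht hc1 ha hca hu hz (mul_inv_eq_iff_eq_mul.1 hfx)
        apply mul_inv_eq_iff_eq_mul.2
        rw [← mul_assoc, (h3 t).1, mul_assoc _ u, h2 z' hz', ← mul_assoc]
      · exfalso
        have e1 : r ∘ σ.symm = r' := hr'd.symm
        have e2 : r' ∘ σ.symm = r := by rw [hr'd, B.twice]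
        have hδσ : (r + r') ∘ σ.symm = r + r' := by
          have h2 : (r + r') ∘ σ.symm = r ∘ σ.symm + r' ∘ σ.symm := rfl
          rw [h2, e1, e2, add_comm]
        have h4 : ∀ v, u⁻¹ * φ v * u⁻¹⁻¹ = β v := fun v => by rw [h1]; group
        refine ha (pol_core S' hs (inv_mem hu) (φ := φ) (σ := σ) (fun d hd => B.pos hd) (fun d hd v hv => ?_) hr hr' e1 e2
          hc1 (fun v hv => ?_) (disj hs H.conn B.cart hr.1 hr'.1 hr.2 hr'.2 e1 e2 hc1) hz hfx ?_).1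
        · rw [h4]
          exact B.root d hd.1 v hv
        · rw [h4]
          exact B.fix _ hδ hδσ v hv
        · apply D.inj
          rw [hφ, hφ]
          calc y * (y * f (e r a) * y⁻¹) * y⁻¹ = (y * y) * f (e r a) * (y * y)⁻¹ := by group
            _ = _ := by rw [hyy, one_mul, inv_one, mul_one]

end Over

/-! ### The filtration -/

section Flt

/-- the refined filtration -/
def UF [Finite W] [Nonempty I] [Finite K] [CharP K 2] {R : RGD cs h 2 T n X} (S : Sys R e) {β : MulAut Y}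
    {σ : Equiv.Perm I} (B : TB cs h X e β σ) (m : ℕ) : Subgroup Y :=
  if m % 2 = 0 then UH cs h X (m / 2) else Vt S B (m / 2)

/-- the lines -/
def LF {G : Type*} [Group G] [Finite W] [Nonempty I] [Finite K] [CharP K 2] {R : RGD cs h 2 T n X} (S : Sys R e)
    (hs : SL cs h) {β : MulAut Y} {σ : Equiv.Perm I} (B : TB cs h X e β σ) (f : Y →* G) (m : ℕ) : Set (Subgroup G) :=
  {l | ∃ r, ∃ hr : r ∈ RGD.Pos cs h, ht r = ((m / 2 : ℕ) : ℤ) + 1 ∧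
    ((m % 2 = 0 ∧ r ∘ σ.symm ≠ r ∧ l = (X r).map f) ∨ (m % 2 = 1 ∧ r ∘ σ.symm = r ∧ l = (X r).map f) ∨
      (m % 2 = 1 ∧ r ∘ σ.symm ≠ r ∧ l = (Dg S hs B hr).map f))}

theorem gen_helper {G : Type*} [Group G] {f : Y →* G} {A B : Subgroup Y} {s : Set Y} {t : Set G}
    (h1 : ∀ u ∈ A, u ∈ Subgroup.closure (s ∪ (B : Set Y))) (h2 : ∀ x ∈ s, f x ∈ t) {u : G} (hu : u ∈ A.map f) :
    u ∈ Subgroup.closure (t ∪ ((B.map f : Subgroup G) : Set G)) := by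
  obtain ⟨u, hu, rfl⟩ := hu
  have h3 : Subgroup.closure (s ∪ (B : Set Y)) ≤
      (Subgroup.closure (t ∪ ((B.map f : Subgroup G) : Set G))).comap f := by
    rw [Subgroup.closure_le]
    rintro x (hx | hx)
    · exact Subgroup.subset_closure (Or.inl (h2 x hx))
    · exact Subgroup.subset_closure (Or.inr ⟨x, hx, rfl⟩)
  exact h3 (h1 u hu)

variable {G : Type*} [Group G] [Finite G] {K₀ S : Subgroup G} [Finite W] [Finite K] [Nonempty I] [CharP K 2]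
  {R : RGD cs h 2 T n X} {S' : Sys R e} (H : Hyp cs h T X) {l : MulAut Y →* Equiv.Perm I × (K ≃+* K)}
  (L : IsOut S' l) {f : Y →* G}

theorem UF_even {β : MulAut Y} {σ : Equiv.Perm I} (B : TB cs h X e β σ) (j : ℕ) : UF S' B (2 * j) = UH cs h X j := by
  unfold UF
  rw [if_pos (by omega)]
  congr 1
  omega

theorem UF_odd {β : MulAut Y} {σ : Equiv.Perm I} (B : TB cs h X e β σ) (j : ℕ) : UF S' B (2 * j + 1) = Vt S' B j := by
  unfold UF
  rw [if_neg (by omega)]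
  congr 1
  omega

include H L

theorem fltS_of (hs : SL cs h) (hq : 3 ≤ Nat.card K) (D : Std cs h X K₀ S f) {β : MulAut Y} {σ : Equiv.Perm I}
    (B : TB cs h X e β σ) (hall : ∀ x ∈ S, x ∈ cz K₀ S → ∀ φ, Acts f x φ → Two cs h X β φ) :
    FltS K₀ S (fun m => (UF S' B m).map f) (LF S' hs B f) where
  zero := by
    show (UF S' B (2 * 0)).map f = _
    rw [UF_even, UH_zero, D.inf]
  bot := by
    obtain ⟨m, hm⟩ := UH_bot (cs := cs) (h := h) (X := X)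
    refine ⟨2 * m, ?_⟩
    show (UF S' B (2 * m)).map f = ⊥
    rw [UF_even, hm, Subgroup.map_bot]
  le m := by
    show (UF S' B (m + 1)).map f ≤ (UF S' B m).map f
    obtain ⟨j, rfl | rfl⟩ : ∃ j, m = 2 * j ∨ m = 2 * j + 1 := ⟨m / 2, by omega⟩
    · rw [UF_even, UF_odd]
      exact Subgroup.map_mono (Vt_le S' B j)
    · have h1 : 2 * j + 1 + 1 = 2 * (j + 1) := by ring
      rw [h1, UF_even, UF_odd]
      exact Subgroup.map_mono (le_Vt S' B j)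
  gen m u hu := by
    change u ∈ (UF S' B m).map f at hu
    show u ∈ Subgroup.closure (_ ∪ (((UF S' B (m + 1)).map f : Subgroup G) : Set G))
    obtain ⟨j, rfl | rfl⟩ : ∃ j, m = 2 * j ∨ m = 2 * j + 1 := ⟨m / 2, by omega⟩
    · rw [UF_even] at hu
      rw [UF_odd]
      refine gen_helper (fun u hu => gen_even S' B j hu) ?_ hu
      rintro x ⟨r, hr, hrj, hrσ, hx⟩
      exact ⟨_, ⟨r, hr, by rw [hrj]; congr 2; omega, Or.inl ⟨by omega, hrσ, rfl⟩⟩, ⟨x, hx, rfl⟩⟩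
    · have h1 : 2 * j + 1 + 1 = 2 * (j + 1) := by ring
      rw [UF_odd] at hu
      rw [h1, UF_even]
      refine gen_helper (fun u hu => gen_odd S' hs B j hu) ?_ hu
      rintro x ⟨r, hr, hrj, ⟨hrσ, hx⟩ | ⟨hrσ, hx⟩⟩
      · exact ⟨_, ⟨r, hr, by rw [hrj]; congr 2; omega, Or.inr (Or.inl ⟨by omega, hrσ, rfl⟩)⟩, ⟨x, hx, rfl⟩⟩
      · exact ⟨_, ⟨r, hr, by rw [hrj]; congr 2; omega, Or.inr (Or.inr ⟨by omega, hrσ, rfl⟩)⟩, ⟨x, hx, rfl⟩⟩
  line_le m := by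
    show ∀ l ∈ LF S' hs B f m, l ≤ (UF S' B m).map f
    obtain ⟨j, rfl | rfl⟩ : ∃ j, m = 2 * j ∨ m = 2 * j + 1 := ⟨m / 2, by omega⟩
    · rintro _ ⟨r, hr, hrj, ⟨h1, h2, rfl⟩ | ⟨h1, h2, rfl⟩ | ⟨h1, h2, rfl⟩⟩
      · rw [UF_even]
        exact Subgroup.map_mono (RGD.le_Sup (S := {r | r ∈ RGD.Pos cs h ∧ (j : ℤ) < ht r}) ⟨hr, by omega⟩)
      · omega
      · omega
    · have hrj' : ∀ {r : I → ℤ}, ht r = (((2 * j + 1) / 2 : ℕ) : ℤ) + 1 → ht r = (j : ℤ) + 1 := fun h1 => by omega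
      rintro _ ⟨r, hr, hrj, ⟨h1, h2, rfl⟩ | ⟨h1, h2, rfl⟩ | ⟨h1, h2, rfl⟩⟩
      · omega
      · rw [UF_odd]
        refine Subgroup.map_mono fun x hx => ⟨RGD.le_Sup (S := {r | r ∈ RGD.Pos cs h ∧ (j : ℤ) < ht r})
          ⟨hr, by omega⟩ hx, ?_⟩
        rw [B.fix r hr.1 h2 x hx, mul_inv_cancel]
        exact one_mem _
      · rw [UF_odd]
        exact Subgroup.map_mono (Dg_le S' hs B hr (hrj' hrj))
  line m := by
    have hY : Finite Y := Finite.of_injective f D.inj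
    show ∀ l ∈ LF S' hs B f m, IsLineF K₀ S ((UF S' B (m + 1)).map f) l
    obtain ⟨j, rfl | rfl⟩ : ∃ j, m = 2 * j ∨ m = 2 * j + 1 := ⟨m / 2, by omega⟩
    · rintro _ ⟨r, hr, hrj, ⟨h1, h2, rfl⟩ | ⟨h1, h2, rfl⟩ | ⟨h1, h2, rfl⟩⟩
      · rw [UF_odd]
        exact line_even H L hq D B hr h2 (by omega)
      · omega
      · omega
    · have h0 : 2 * j + 1 + 1 = 2 * (j + 1) := by ring
      rintro _ ⟨r, hr, hrj, ⟨h1, h2, rfl⟩ | ⟨h1, h2, rfl⟩ | ⟨h1, h2, rfl⟩⟩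
      · omega
      · rw [h0, UF_even]
        exact line_root H L hq D hr (by omega)
      · rw [h0, UF_even]
        exact line_Dg H L hs hq D B hall hr h2 (by omega)
  fix m l hl x hx y hy hyz := by
    have hY : Finite Y := Finite.of_injective f D.inj
    change l ∈ LF S' hs B f m at hl
    show y * x * y⁻¹ * x⁻¹ ∈ (UF S' B (m + 1)).map f
    obtain ⟨φ, hφ⟩ := D.exists_acts (D.le hy)
    have htwo := hall y hy hyz φ hφ
    -- reduction to `Y`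
    have key : ∀ {V : Subgroup Y} {x : Y}, φ x * x⁻¹ ∈ V → y * f x * y⁻¹ * (f x)⁻¹ ∈ V.map f := fun {V x} h1 =>
      ⟨_, h1, by rw [map_mul, map_inv, hφ]⟩
    obtain ⟨j, rfl | rfl⟩ : ∃ j, m = 2 * j ∨ m = 2 * j + 1 := ⟨m / 2, by omega⟩
    · rw [UF_odd]
      rcases hl with ⟨r, hr, hrj, ⟨h1, h2, rfl⟩ | ⟨h1, h2, rfl⟩ | ⟨h1, h2, rfl⟩⟩
      · obtain ⟨x, hx, rfl⟩ := hx
        exact key (fix_even S' B htwo (RGD.le_Sup (S := {r | r ∈ RGD.Pos cs h ∧ (j : ℤ) < ht r}) ⟨hr, by omega⟩ hx))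
      · omega
      · omega
    · have h0 : 2 * j + 1 + 1 = 2 * (j + 1) := by ring
      have hrj' : ∀ {r : I → ℤ}, ht r = (((2 * j + 1) / 2 : ℕ) : ℤ) + 1 → ht r = (j : ℤ) + 1 := fun h1 => by omega
      rw [h0, UF_even]
      rcases hl with ⟨r, hr, hrj, ⟨h1, h2, rfl⟩ | ⟨h1, h2, rfl⟩ | ⟨h1, h2, rfl⟩⟩
      · omega
      · obtain ⟨x, hx, rfl⟩ := hx
        refine key (fix_odd S' B htwo ⟨RGD.le_Sup (S := {r | r ∈ RGD.Pos cs h ∧ (j : ℤ) < ht r}) ⟨hr, by omega⟩ hx, ?_⟩)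
        rw [B.fix r hr.1 h2 x hx, mul_inv_cancel]
        exact one_mem _
      · obtain ⟨x, hx, rfl⟩ := hx
        exact key (fix_odd S' B htwo (Dg_le S' hs B hr (hrj' hrj) hx))

end Flt

section Final

variable {G : Type*} [Group G] [Finite G] {K₀ S : Subgroup G} [Finite W] [Finite K] [Nonempty I] [CharP K 2]
  {R : RGD cs h 2 T n X}

/-- **(k3)** in the simply laced case. -/
theorem exists_fltS (H : Hyp cs h T X) (S' : Sys R e) (hs : SL cs h) (hM : DTwo M) (hq : 3 ≤ Nat.card K) {f : Y →* G}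
    (hf : Function.Injective f) (hK : f.range = K₀) (hS : Good K₀ S) : ∃ U L, FltS K₀ S U L := by
  have hY : Finite Y := Finite.of_injective f hf
  obtain ⟨f', D, -⟩ := exists_std' H S' hf hK hS
  obtain ⟨l, L⟩ := exists_isOut S' H
  obtain ⟨β, σ, B, hall⟩ := exists_TB H L D hM
  exact ⟨_, _, fltS_of H L hs hq D B hall⟩

end Final

end Cfsg.Agent.KFacts.SysFltG
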