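import Mathlib
import Cfsg.Agent.KFacts.SLRow.Row
import Cfsg.Agent.KFacts.SysFltG

/-!
# (k3) for all simply laced groups (ODD, D4, free pairs)

* `fltS_of_isSLC` : `IsSLC q M K₀`, `q ≥ 3` : `FltS` for all good subgroups (literal form of `RowsSL.K3`).
-/

set_option autoImplicit false
set_option linter.unusedSectionVars false

namespace Cfsg.Agent.KFacts.SysK3

open CoxeterSystem Cfsg.Agent.ChevalleyStructure.CoxeterGeom Cfsg.Agent.Tits.Roots Cfsg.Agent.Tits.Core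
  Cfsg.Agent.Nodes.Reps Cfsg.Agent.Nodes.BNOf Cfsg.Agent.Nodes.RGDLib Cfsg.Agent.KFacts.SLRow.Def
  Cfsg.Agent.KFacts.ChevTwo Cfsg.Agent.KFacts.SLRow.Row Cfsg.Agent.KFacts.SLRow.Diag
  Cfsg.Agent.KFacts.SysFree Cfsg.Agent.OddHalf.D4.Free

/-- **(k3) for the simply laced groups.** -/
theorem fltS_of_isSLC {G : Type*} [Group G] [Finite G] {K₀ : Subgroup G} {q l : ℕ} {M : CoxeterMatrix (Fin l)}
    (hq : 3 ≤ q) (hK : IsSLC q M ↥K₀) {S : Subgroup G} (hS : Good K₀ S) : ∃ U L, FltS K₀ S U L := by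
  obtain ⟨A, h, T, n, X, F, _, _, _, e, hW, rfl, hM, D, S'⟩ := hK
  have hne : Nonempty (Fin l) := Fintype.card_pos_iff.1 (by have := D.three; omega)
  have H : Hyp M.toCoxeterSystem h T X := hyp_of_SL (R := D.rgd) D.gen D.cent (fun J hJ hJc => by
    obtain ⟨a, ha, b, hb, hab⟩ := D.irr J hJ (by
      by_contra hcon
      rw [Set.not_nonempty_iff_eq_empty, Set.compl_empty_iff] at hcon
      exact hJc hcon)
    exact ⟨a, ha, b, hb, hab⟩) D.h4 D.h6
  exact SysFltG.exists_fltS H S' (fun _ _ hx hy => Nodes.SimplyLaced.cpr_symm _ h D.h4 D.h6 hx hy) hM hq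
    K₀.subtype_injective K₀.range_subtype hS

end Cfsg.Agent.KFacts.SysK3
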