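import Mathlib
import Cfsg.Agent.KFacts.SysLine
import Cfsg.Agent.KFacts.SLRow.Row
import Cfsg.Agent.KFacts.F4Pair

/-!
# `LineFacts` for the simply laced groups and `F₄(q)`, `q ≥ 4` even (ODD, D4, (1B))

* `lineFacts_of_isSLC` : `PSL_n`, `PΩ⁺`, `E₆, E₇, E₈`; `lineFacts_F4`.
-/

set_option autoImplicit false
set_option linter.unusedSectionVars false

namespace Cfsg.Agent.KFacts.SysLineInst

open CoxeterSystem Cfsg.Agent.ChevalleyStructure.CoxeterGeom Cfsg.Agent.Tits.Roots Cfsg.Agent.Tits.Core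
  Cfsg.Agent.Nodes.Reps Cfsg.Agent.Nodes.BNOf Cfsg.Agent.Nodes.RGDLib Cfsg.Agent.KFacts.SLRow.Def
  Cfsg.Agent.KFacts.ChevTwo Cfsg.Agent.KFacts.SLRow.Row Cfsg.Agent.KFacts.SysLine Cfsg.Agent.OddHalf.D4.Line
open Cfsg.Lie Cfsg.Agent.ChevalleyStructure Cfsg.Agent.ChevalleyStructure.CoxeterGeomTypes
  Cfsg.Agent.Nodes.RGDChev Cfsg.Agent.Nodes.KindF Cfsg.Agent.KFacts.F4Pair

universe u v

theorem lineFacts_of_isSLC {q l : ℕ} {M : CoxeterMatrix (Fin l)} {K' : Type v} [Group K'] [Finite K']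
    (hK : IsSLC q M K') (hq : 3 ≤ q) : LineFacts K' := by
  obtain ⟨A, h, T, n, X, F, _, _, _, e, hW, rfl, -, D, S⟩ := hK
  exact lineFacts S D.gen hq

theorem lineFacts_F4 (K : Type u) [Field K] [Finite K] [CharP K 2] (hq : 3 ≤ Nat.card K) :
    LineFacts ↥(chevF4.group K) := by
  have hW : Finite CoxeterMatrix.F₄.Group := finite_W isType CoxeterMatrix.F₄.toCoxeterSystem
  exact lineFacts (sysF (K := K) CoxeterMatrix.F₄.toCoxeterSystem) (G1_eq_top isType _) hq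

end Cfsg.Agent.KFacts.SysLineInst
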